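import Mathlib
import Groth.Agent.Lib.helper7.DimSch
import Groth.Prelude.Def_CurvBase
import Groth.Prelude.Def_BlowUp2

universe u
open AlgebraicGeometry CategoryTheory Topology TopologicalSpace

namespace Groth.Agent.Lib.helper26.Haupt

variable {X : Scheme.{u}}

theorem stalk_dim_eq_height {U : X.Opens} (hU : IsAffineOpen U) (x : X) (hx : x ∈ U) :
    ringKrullDim (X.presheaf.stalk x) = (hU.primeIdealOf ⟨x, hx⟩).asIdeal.height := by
  letI := X.presheaf.algebra_section_stalk (U := U) ⟨x, hx⟩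
  haveI := hU.isLocalization_stalk ⟨x, hx⟩
  exact IsLocalization.AtPrime.ringKrullDim_eq_height (hU.primeIdealOf ⟨x, hx⟩).asIdeal _

/-- membership of the support in terms of the prime ideal on an affine chart. -/
theorem mem_support_iff_le (D : X.IdealSheafData) (U : X.affineOpens) (x : X) (hx : x ∈ U.1) :
    x ∈ D.support ↔ D.ideal U ≤ (U.2.primeIdealOf ⟨x, hx⟩).asIdeal := by
  rw [Scheme.IdealSheafData.mem_support_iff_of_mem hx]
  have h1 : x = U.2.fromSpec (U.2.primeIdealOf ⟨x, hx⟩) := (U.2.fromSpec_primeIdealOf ⟨x, hx⟩).symm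
  have h2 : x ∈ X.zeroLocus (U := U.1) (D.ideal U : Set Γ(X, U.1)) ↔
      x ∈ U.2.fromSpec '' PrimeSpectrum.zeroLocus (D.ideal U : Set Γ(X, U.1)) := by
    rw [IsAffineOpen.fromSpec_image_zeroLocus]
    exact ⟨fun h => ⟨h, hx⟩, fun h => h.1⟩
  rw [h2]
  constructor
  · rintro ⟨q, hq, hqx⟩
    have : q = U.2.primeIdealOf ⟨x, hx⟩ := by
      apply U.2.fromSpec.isOpenEmbedding.injective
      rw [hqx]; exact h1
    rw [← this]
    exact (PrimeSpectrum.mem_zeroLocus _ _).mp hq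
  · intro h
    exact ⟨U.2.primeIdealOf ⟨x, hx⟩, (PrimeSpectrum.mem_zeroLocus _ _).mpr h, h1.symm⟩

/-- the prime of a generic point of the support is minimal over the ideal. -/
theorem primeIdealOf_mem_minimalPrimes (D : X.IdealSheafData) (U : X.affineOpens) (ξ : X)
    (hξU : ξ ∈ U.1) (hξ : ξ ∈ (D.support : Set X))
    (hgen : ∀ y ∈ (D.support : Set X), y ⤳ ξ → y = ξ) :
    (U.2.primeIdealOf ⟨ξ, hξU⟩).asIdeal ∈ (D.ideal U).minimalPrimes := by
  refine ⟨⟨inferInstance, (mem_support_iff_le D U ξ hξU).mp hξ⟩, ?_⟩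
  rintro q ⟨hqp, hqD⟩ hle
  obtain ⟨y, hy⟩ := helper7.DimSch.exists_primeIdealOf_eq U.2 ⟨q, hqp⟩
  have hyD : (y : X) ∈ D.support := by
    rw [mem_support_iff_le D U y y.2, show (⟨(y : X), y.2⟩ : U.1) = y from rfl, hy]
    exact hqD
  have hsp : (y : X) ⤳ ξ := by
    rw [← helper7.DimSch.primeIdealOf_le_iff U.2 y ⟨ξ, hξU⟩, hy]
    exact hle
  have hyξ : (y : X) = ξ := hgen _ hyD hsp
  have : y = ⟨ξ, hξU⟩ := Subtype.ext hyξ
  rw [← this, hy]

theorem dim_stalk_le_one_of_generic_locPrincipal [IsLocallyNoetherian X]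
    (D : X.IdealSheafData) (hD : Curv2.IsLocPrincipal D) (ξ : X)
    (hξ : ξ ∈ (D.support : Set X)) (hgen : ∀ y ∈ (D.support : Set X), y ⤳ ξ → y = ξ) :
    ringKrullDim (X.presheaf.stalk ξ) ≤ 1 := by
  obtain ⟨U, hξU, f, hf⟩ := hD ξ hξ
  haveI : IsNoetherianRing Γ(X, U.1) := IsLocallyNoetherian.component_noetherian U
  rw [stalk_dim_eq_height U.2 ξ hξU]
  have hmin := primeIdealOf_mem_minimalPrimes D U ξ hξU hξ hgen
  have : (D.ideal U).IsPrincipal := ⟨⟨f, by rw [hf, Ideal.submodule_span_eq]⟩⟩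
  have := Ideal.height_le_one_of_isPrincipal_of_mem_minimalPrimes (D.ideal U) _ hmin
  exact_mod_cast this

theorem dim_stalk_eq_one_of_generic_effCartier [IsLocallyNoetherian X]
    (D : X.IdealSheafData) (hD : BlowUp.IsEffCartierIdeal D) (ξ : X)
    (hξ : ξ ∈ (D.support : Set X)) (hgen : ∀ y ∈ (D.support : Set X), y ⤳ ξ → y = ξ) :
    ringKrullDim (X.presheaf.stalk ξ) = 1 := by
  obtain ⟨U, hξU, f, hfnzd, hf⟩ := hD ξ
  haveI : IsNoetherianRing Γ(X, U.1) := IsLocallyNoetherian.component_noetherian U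
  rw [stalk_dim_eq_height U.2 ξ hξU]
  have hmin := primeIdealOf_mem_minimalPrimes D U ξ hξU hξ hgen
  have : (D.ideal U).IsPrincipal := ⟨⟨f, by rw [hf, Ideal.submodule_span_eq]⟩⟩
  have h1 := Ideal.height_le_one_of_isPrincipal_of_mem_minimalPrimes (D.ideal U) _ hmin
  set p := (U.2.primeIdealOf ⟨ξ, hξU⟩).asIdeal with hp
  have hfp : f ∈ p := hmin.1.2 (by rw [hf]; exact Ideal.subset_span rfl)
  have h2 : 1 ≤ p.height := by
    by_contra hlt
    have h0 : p.height = 0 := by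
      rw [not_le] at hlt
      exact Order.lt_one_iff.mp hlt
    rw [Ideal.height_eq_zero_iff] at h0
    -- elements of minimal primes are zero divisors
    exact notMem_nonZeroDivisors_of_mem_mem_minimalPrimes hfp h0 hfnzd
  have : p.height = 1 := le_antisymm h1 h2
  rw [this]; rfl

end Groth.Agent.Lib.helper26.Haupt
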