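import Mathlib
import Groth.Agent.Lib.helper26.Haupt
import Groth.Agent.Lib.helper7.DimSch2

universe u
open AlgebraicGeometry CategoryTheory Topology TopologicalSpace

namespace Groth.Agent.Lib.helper26.CartCompl

open Groth.Agent.Lib.helper26.Haupt Groth.Agent.Lib.helper7

variable {S : Scheme.{u}}

/-- on a chart where the ideal is principal, the complement of the support is the basic open. -/
theorem compl_inf_eq_basicOpen (𝓘 : S.IdealSheafData) (U : S.affineOpens) (f : Γ(S, U.1))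
    (hf : 𝓘.ideal U = Ideal.span {f}) : 𝓘.support.compl ⊓ U.1 = S.basicOpen f := by
  ext y
  constructor
  · rintro ⟨hy1, hy2⟩
    rw [SetLike.mem_coe, DimSch.mem_basicOpen_iff U.2 y hy2 f]
    intro hfy
    apply hy1
    change y ∈ 𝓘.support
    rw [mem_support_iff_le 𝓘 U y hy2, hf, Ideal.span_le]
    exact Set.singleton_subset_iff.mpr hfy
  · intro hy
    have hy2 : y ∈ U.1 := S.basicOpen_le f hy
    refine ⟨?_, hy2⟩
    intro hy1
    have hy1' : y ∈ 𝓘.support := hy1
    rw [mem_support_iff_le 𝓘 U y hy2, hf, Ideal.span_le] at hy1'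
    rw [SetLike.mem_coe, DimSch.mem_basicOpen_iff U.2 y hy2 f] at hy
    exact hy (Set.singleton_subset_iff.mp hy1')

theorem isAffineOpen_preimage_of_inf (V : S.Opens) (U : S.Opens) (h : IsAffineOpen (V ⊓ U)) :
    IsAffineOpen (V.ι ⁻¹ᵁ U) := by
  have h1 : IsAffineOpen (V.ι ⁻¹ᵁ (V ⊓ U)) :=
    h.preimage_of_isOpenImmersion V.ι (by rw [Scheme.Opens.opensRange_ι]; exact inf_le_left)
  have h2 : V.ι ⁻¹ᵁ (V ⊓ U) = V.ι ⁻¹ᵁ U := by
    ext y
    change y.1 ∈ V ⊓ U ↔ y.1 ∈ U
    exact ⟨fun h => h.2, fun h => ⟨y.2, h⟩⟩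
  rwa [h2] at h1

theorem isAffineHom_compl_of_locPrincipal (𝓘 : S.IdealSheafData) (h : Curv2.IsLocPrincipal 𝓘) :
    IsAffineHom (Scheme.Opens.ι 𝓘.support.compl) := by
  apply isAffineHom_of_forall_exists_isAffineOpen
  intro x
  by_cases hx : x ∈ 𝓘.support
  · obtain ⟨U, hxU, f, hf⟩ := h x hx
    refine ⟨U.1, hxU, U.2, ?_⟩
    apply isAffineOpen_preimage_of_inf
    rw [compl_inf_eq_basicOpen 𝓘 U f hf]
    exact U.2.basicOpen f
  · have hx' : x ∈ 𝓘.support.compl := hx
    obtain ⟨_, ⟨U, hU, rfl⟩, hxU, hUV⟩ := S.isBasis_affineOpens.exists_subset_of_mem_open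
      hx' 𝓘.support.compl.isOpen
    refine ⟨U, hxU, hU, ?_⟩
    apply isAffineOpen_preimage_of_inf
    have : 𝓘.support.compl ⊓ U = U := inf_eq_right.mpr hUV
    rw [this]
    exact hU

theorem isLocPrincipal_of_effCartier (𝓘 : S.IdealSheafData) (h : BlowUp.IsEffCartierIdeal 𝓘) :
    Curv2.IsLocPrincipal 𝓘 := by
  intro x _
  obtain ⟨U, hxU, f, -, hf⟩ := h x
  exact ⟨U, hxU, f, hf⟩

theorem dominant_compl_of_effCartier (𝓘 : S.IdealSheafData) (h : BlowUp.IsEffCartierIdeal 𝓘) :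
    IsSchemeTheoreticallyDominant (Scheme.Opens.ι 𝓘.support.compl) := by
  haveI := isAffineHom_compl_of_locPrincipal 𝓘 (isLocPrincipal_of_effCartier 𝓘 h)
  rw [isSchemeTheoreticallyDominant_iff]
  choose U hxU f hfnzd hf using h
  refine Scheme.IdealSheafData.ext_of_iSup_eq_top U ?_ ?_
  · exact top_le_iff.mp (fun x _ => by simpa using ⟨x, hxU x⟩)
  · intro x
    rw [Scheme.Hom.ker_apply, Scheme.IdealSheafData.ideal_bot]
    change RingHom.ker _ = ⊥
    rw [eq_bot_iff]
    intro s hs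
    rw [RingHom.mem_ker] at hs
    rw [Scheme.Opens.ι_app] at hs
    -- the target is the section ring over the basic open
    have hopen : (Scheme.Opens.ι (X := S) 𝓘.support.compl) ''ᵁ
        ((Scheme.Opens.ι (X := S) 𝓘.support.compl) ⁻¹ᵁ (U x).1) = S.basicOpen (f x) := by
      rw [← compl_inf_eq_basicOpen 𝓘 (U x) (f x) (hf x), Scheme.Hom.image_preimage_eq_opensRange_inf,
        Scheme.Opens.opensRange_ι]
    have h12 : S.basicOpen (f x) ≤ (Scheme.Opens.ι (X := S) 𝓘.support.compl) ''ᵁ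
        ((Scheme.Opens.ι (X := S) 𝓘.support.compl) ⁻¹ᵁ (U x).1) := hopen.ge
    have hs2 : (S.presheaf.map (homOfLE (S.basicOpen_le (f x))).op).hom s = 0 := by
      have hcomp : S.presheaf.map (homOfLE (S.basicOpen_le (f x))).op =
          S.presheaf.map (homOfLE (x := (Scheme.Opens.ι (X := S) 𝓘.support.compl) ''ᵁ
            ((Scheme.Opens.ι (X := S) 𝓘.support.compl) ⁻¹ᵁ (U x).1))
            (Set.image_preimage_subset _ _)).op ≫ S.presheaf.map (homOfLE h12).op := by
        rw [← Functor.map_comp]; rfl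
      rw [hcomp, CommRingCat.hom_comp, RingHom.comp_apply]
      exact (congrArg (S.presheaf.map (homOfLE h12).op).hom hs).trans (map_zero _)
    haveI := (U x).2.isLocalization_basicOpen (f x)
    have hs3 : algebraMap Γ(S, (U x).1) Γ(S, S.basicOpen (f x)) s = 0 := hs2
    rw [IsLocalization.map_eq_zero_iff (Submonoid.powers (f x))] at hs3
    obtain ⟨⟨m, n, rfl⟩, hm⟩ := hs3
    have hnzd : (f x) ^ n ∈ nonZeroDivisors Γ(S, (U x).1) := pow_mem (hfnzd x) n
    have : s = 0 := by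
      have hm' : (f x) ^ n * s = 0 := hm
      exact (mul_right_mem_nonZeroDivisors_eq_zero_iff hnzd).mp (by rwa [mul_comm] at hm')
    rw [this]; exact Ideal.zero_mem _

end Groth.Agent.Lib.helper26.CartCompl
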