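import Mathlib

set_option autoImplicit false
universe u

namespace Groth.Agent.Lib.helper26.NormalLocus

variable {R : Type u} [CommRing R] [IsDomain R]

/-- concrete criterion: a localization of a domain is integrally closed iff every element of the
fraction field integral over `R` has a denominator in `M`. -/
lemma isIntegrallyClosed_localization_iff (M : Submonoid R) (hM : M ≤ nonZeroDivisors R) :
    IsIntegrallyClosed (Localization M) ↔
      ∀ x : FractionRing R, IsIntegral R x →
        ∃ m ∈ M, ∃ a : R, algebraMap R (FractionRing R) m * x = algebraMap R (FractionRing R) a := by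
  haveI : IsDomain (Localization M) := IsLocalization.isDomain_localization hM
  letI alg : Algebra (Localization M) (FractionRing R) :=
    (IsLocalization.lift (M := M) (S := Localization M) (g := algebraMap R (FractionRing R))
      (fun y => IsLocalization.map_units (FractionRing R) (⟨y, hM y.2⟩ : nonZeroDivisors R))).toAlgebra
  haveI : IsScalarTower R (Localization M) (FractionRing R) :=
    IsScalarTower.of_algebraMap_eq (fun x => (IsLocalization.lift_eq _ x).symm)
  haveI : IsFractionRing (Localization M) (FractionRing R) :=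
    IsFractionRing.isFractionRing_of_isDomain_of_isLocalization M (Localization M) (FractionRing R)
  rw [isIntegrallyClosed_iff (FractionRing R)]
  constructor
  · intro h x hx
    obtain ⟨w, hw⟩ := h (hx.tower_top)
    obtain ⟨⟨a, m⟩, hwm⟩ := IsLocalization.surj M w
    refine ⟨m, m.2, a, ?_⟩
    have := congrArg (algebraMap (Localization M) (FractionRing R)) hwm
    rw [map_mul, hw, ← IsScalarTower.algebraMap_apply, ← IsScalarTower.algebraMap_apply] at this
    rw [mul_comm]
    exact this
  · intro h x hx
    obtain ⟨m, hm⟩ := IsIntegral.exists_multiple_integral_of_isLocalization M x hx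
    obtain ⟨m', hm', a, ha⟩ := h _ hm
    refine ⟨IsLocalization.mk' (Localization M) a (⟨m' * m, mul_mem hm' m.2⟩ : M), ?_⟩
    have hunit : algebraMap R (FractionRing R) (m' * (m : R)) ≠ 0 := by
      intro h0
      have := (IsFractionRing.injective R (FractionRing R)) (h0.trans (map_zero _).symm)
      exact nonZeroDivisors.ne_zero (hM (mul_mem hm' m.2)) this
    apply mul_right_cancel₀ hunit
    have h1 : algebraMap (Localization M) (FractionRing R)
        (IsLocalization.mk' (Localization M) a (⟨m' * m, mul_mem hm' m.2⟩ : M)) *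
        algebraMap R (FractionRing R) (m' * (m : R)) = algebraMap R (FractionRing R) a := by
      rw [IsScalarTower.algebraMap_apply R (Localization M) (FractionRing R) (m' * (m : R)),
        ← map_mul]
      have := IsLocalization.mk'_spec (Localization M) a (⟨m' * m, mul_mem hm' m.2⟩ : M)
      rw [this, ← IsScalarTower.algebraMap_apply]
    rw [h1, ← ha, Submonoid.smul_def, Algebra.smul_def, map_mul]
    ring

/-- the condition on a prime ideal -/
def IC (p : Ideal R) : Prop :=
  ∀ x : FractionRing R, IsIntegral R x →
    ∃ s : R, s ∉ p ∧ ∃ a : R, algebraMap R (FractionRing R) s * x = algebraMap R (FractionRing R) a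

lemma isIntegrallyClosed_atPrime_iff (p : Ideal R) [hp : p.IsPrime] :
    IsIntegrallyClosed (Localization.AtPrime p) ↔ IC p := by
  have hM : p.primeCompl ≤ nonZeroDivisors R := by
    intro s hs
    exact mem_nonZeroDivisors_of_ne_zero (fun h => hs (h ▸ p.zero_mem))
  exact isIntegrallyClosed_localization_iff p.primeCompl hM

lemma IC.mono {p q : Ideal R} (hqp : q ≤ p) (h : IC p) : IC q := by
  intro x hx
  obtain ⟨s, hs, a, ha⟩ := h x hx
  exact ⟨s, fun hsq => hs (hqp hsq), a, ha⟩


/-- Lemma A: the case `f x ∈ R`. -/
lemma exists_denominator_of_mul_mem [IsNoetherianRing R] (f : R) (hf : f ≠ 0) (p : Ideal R)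
    [p.IsPrime]
    (hp : ∀ q ∈ associatedPrimes R (R ⧸ Ideal.span {f}), q ≤ p → IC q)
    (x : FractionRing R) (hx : IsIntegral R x) (b : R)
    (hb : algebraMap R (FractionRing R) f * x = algebraMap R (FractionRing R) b) :
    ∃ s : R, s ∉ p ∧ ∃ a : R, algebraMap R (FractionRing R) s * x = algebraMap R (FractionRing R) a := by
  have hfK : algebraMap R (FractionRing R) f ≠ 0 := by
    intro h0
    exact hf ((IsFractionRing.injective R (FractionRing R)) (h0.trans (map_zero _).symm))
  -- the linear map `r ↦ r b mod f`
  let g : R →ₗ[R] R ⧸ Ideal.span {f} :=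
    (Submodule.mkQ (Ideal.span {f})).comp (LinearMap.toSpanSingleton R R b)
  have hgker : ∀ r : R, r ∈ LinearMap.ker g ↔
      ∃ a : R, algebraMap R (FractionRing R) r * x = algebraMap R (FractionRing R) a := by
    intro r
    rw [LinearMap.mem_ker]
    change Submodule.Quotient.mk (r • b) = 0 ↔ _
    rw [Submodule.Quotient.mk_eq_zero, smul_eq_mul, Ideal.mem_span_singleton']
    constructor
    · rintro ⟨c, hc⟩
      refine ⟨c, ?_⟩
      apply mul_left_cancel₀ hfK
      have : algebraMap R (FractionRing R) (c * f) = algebraMap R (FractionRing R) (r * b) := by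
        rw [hc]
      rw [map_mul, map_mul, ← hb] at this
      rw [mul_comm (algebraMap R (FractionRing R) f) (algebraMap R (FractionRing R) c), this]
      ring
    · rintro ⟨a, ha⟩
      refine ⟨a, ?_⟩
      apply IsFractionRing.injective R (FractionRing R)
      rw [map_mul, map_mul, ← hb, ← ha]
      ring
  by_contra hcon
  push Not at hcon
  have hIp : (LinearMap.ker g : Ideal R) ≤ p := by
    intro r hr
    by_contra hrp
    obtain ⟨a, ha⟩ := (hgker r).1 hr
    exact hcon r hrp a ha
  obtain ⟨q, hqmin, hqp⟩ := Ideal.exists_minimalPrimes_le hIp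
  have hqass : q ∈ associatedPrimes R (R ⧸ (LinearMap.ker g : Ideal R)) := by
    apply Module.associatedPrimes.minimalPrimes_annihilator_subset_associatedPrimes
    rw [Ideal.annihilator_quotient]
    exact hqmin
  have hinj : Function.Injective ((LinearMap.ker g).liftQ g le_rfl) := by
    rw [← LinearMap.ker_eq_bot]
    exact Submodule.ker_liftQ_eq_bot' _ g rfl
  have hqf := associatedPrimes.subset_of_injective hinj hqass
  obtain ⟨s, hs, a, ha⟩ := hp q hqf hqp x hx
  exact hs (hqmin.1.2 ((hgker s).2 ⟨a, ha⟩))

/-- induction on the power of `f`. -/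
lemma exists_denominator_of_pow_mul_mem [IsNoetherianRing R] (f : R) (hf : f ≠ 0) (p : Ideal R)
    [hpp : p.IsPrime]
    (hp : ∀ q ∈ associatedPrimes R (R ⧸ Ideal.span {f}), q ≤ p → IC q) (n : ℕ) :
    ∀ (x : FractionRing R), IsIntegral R x → (∃ b : R,
      algebraMap R (FractionRing R) (f ^ n) * x = algebraMap R (FractionRing R) b) →
    ∃ s : R, s ∉ p ∧ ∃ a : R, algebraMap R (FractionRing R) s * x = algebraMap R (FractionRing R) a := by
  induction n with
  | zero =>
    rintro x hx ⟨b, hb⟩
    refine ⟨1, fun h => hpp.ne_top ((Ideal.eq_top_iff_one _).2 h), b, ?_⟩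
    rw [pow_zero] at hb
    exact hb
  | succ n ih =>
    rintro x hx ⟨b, hb⟩
    -- `z = f^n x`
    have hz : IsIntegral R (algebraMap R (FractionRing R) (f ^ n) * x) :=
      (isIntegral_algebraMap).mul hx
    obtain ⟨s, hs, a, ha⟩ := exists_denominator_of_mul_mem f hf p hp _ hz b (by
      rw [← mul_assoc, ← map_mul, ← pow_succ']
      exact hb)
    have hsx : IsIntegral R (algebraMap R (FractionRing R) s * x) :=
      (isIntegral_algebraMap).mul hx
    obtain ⟨s', hs', a', ha'⟩ := ih _ hsx ⟨a, by rw [← ha]; ring⟩
    refine ⟨s' * s, fun h => ?_, a', ?_⟩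
    · rcases hpp.mem_or_mem h with h | h
      · exact hs' h
      · exact hs h
    · rw [map_mul, mul_assoc]
      exact ha'

theorem isOpen_normal_locus (R : Type u) [CommRing R] [IsDomain R] [IsNoetherianRing R] (f : R)
    (hf : f ≠ 0) (hn : IsIntegrallyClosed (Localization.Away f)) :
    IsOpen {p : PrimeSpectrum R | IsIntegrallyClosed (Localization.AtPrime p.asIdeal)} := by
  have hfin : (associatedPrimes R (R ⧸ Ideal.span {f})).Finite := associatedPrimes.finite R _
  have hset : {p : PrimeSpectrum R | IsIntegrallyClosed (Localization.AtPrime p.asIdeal)} =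
      ⋂ q ∈ {q | q ∈ associatedPrimes R (R ⧸ Ideal.span {f}) ∧ ¬ IC q},
        (PrimeSpectrum.zeroLocus (q : Set R))ᶜ := by
    ext p
    simp only [Set.mem_ofPred_eq, Set.mem_iInter, Set.mem_compl_iff, PrimeSpectrum.mem_zeroLocus,
      SetLike.coe_subset_coe, and_imp]
    rw [isIntegrallyClosed_atPrime_iff]
    constructor
    · intro h q _ hq hqp
      exact hq (h.mono hqp)
    · intro h x hx
      have hf' := (isIntegrallyClosed_localization_iff (Submonoid.powers f)
        (powers_le_nonZeroDivisors_of_noZeroDivisors hf)).1 hn x hx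
      obtain ⟨_, ⟨n, rfl⟩, b, hb⟩ := hf'
      refine exists_denominator_of_pow_mul_mem f hf p.asIdeal (fun q hq hqp => ?_) n x hx ⟨b, hb⟩
      by_contra hnot
      exact h q hq hnot hqp
  rw [hset]
  apply Set.Finite.isOpen_biInter (hfin.subset (fun q hq => hq.1))
  intro q _
  exact (PrimeSpectrum.isClosed_zeroLocus _).isOpen_compl

end Groth.Agent.Lib.helper26.NormalLocus
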