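import Mathlib
import Groth.Prelude.Def_Found

universe u
open Ideal

namespace Groth.Agent.Lib.helper26.CatHt

theorem exists_max_saturated_series {α : Type*} [PartialOrder α] (x y : α) (hxy : x ≤ y) (n : ℕ)
    (hn : ∀ s : LTSeries α, s.head = x → s.last = y → s.length ≤ n) :
    ∃ s : LTSeries α, s.head = x ∧ s.last = y ∧
      (∀ i : Fin s.length, s i.castSucc ⋖ s i.succ) ∧
      ∀ t : LTSeries α, t.head = x → t.last = y → t.length ≤ s.length := by
  classical
  let I := Set.Icc x y
  let top : I := ⟨y, hxy, le_rfl⟩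
  let bot : I := ⟨x, le_rfl, hxy⟩
  have hbot : ∀ z : I, bot ≤ z := fun z => z.2.1
  have hval : StrictMono (Subtype.val : I → α) := fun a b h => h
  have hbound : ∀ u : LTSeries I, u.last = top → u.length ≤ n := by
    intro u hu
    by_cases hh : u.head = bot
    · have := hn (u.map Subtype.val hval) (by simp [hh, bot]) (by simp [hu, top])
      simpa using this
    · have hlt : bot < u.head := lt_of_le_of_ne (hbot _) (Ne.symm hh)
      have := hn (LTSeries.map (u.cons bot hlt) Subtype.val hval) (by simp [bot]) (by simp [hu, top])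
      simp at this; omega
  have hfin : Order.height top ≤ n :=
    Order.height_le (fun p hp => by exact_mod_cast hbound p hp)
  obtain ⟨m, hm⟩ : ∃ m : ℕ, Order.height top = m :=
    ⟨_, (ENat.natCast_toNat (ne_top_of_le_ne_top (ENat.natCast_ne_top n) hfin)).symm⟩
  obtain ⟨u, hu1, hu2⟩ := Order.exists_series_of_height_eq_coe top hm
  have hlen : (u.length : ℕ∞) = Order.height u.last := by rw [hu1, hm, hu2]
  have hidx := Order.height_eq_index_of_length_eq_height_last hlen
  have hhead : u.head = bot := by
    by_contra hh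
    have hlt : bot < u.head := lt_of_le_of_ne (hbot _) (Ne.symm hh)
    have h1 := Order.height_add_one_le hlt
    have h0 : Order.height u.head = 0 := by
      have := hidx 0
      rw [show ((0 : Fin (u.length + 1)) : ℕ) = 0 from rfl, Nat.cast_zero] at this
      exact this
    rw [h0] at h1; simp at h1
  refine ⟨u.map Subtype.val hval, by simp [hhead, bot], by simp [hu1, top], ?_, ?_⟩
  · intro (i : Fin u.length)
    refine ⟨hval (u.step i), fun z hz1 hz2 => ?_⟩
    have hz1' : (u (Fin.castSucc i) : α) < z := hz1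
    have hz2' : z < (u (Fin.succ i) : α) := hz2
    have hzI : z ∈ I := ⟨(u (Fin.castSucc i)).2.1.trans hz1'.le, hz2'.le.trans (u (Fin.succ i)).2.2⟩
    have h1 := Order.height_add_one_le (show u (Fin.castSucc i) < (⟨z, hzI⟩ : I) from hz1')
    have h2 := Order.height_add_one_le (show (⟨z, hzI⟩ : I) < u (Fin.succ i) from hz2')
    rw [hidx] at h1 h2
    have h3 : ((i.castSucc : Fin (u.length + 1)) : ℕ) = (i : ℕ) := rfl
    have h4 : ((i.succ : Fin (u.length + 1)) : ℕ) = (i : ℕ) + 1 := rfl
    rw [h3] at h1
    rw [h4] at h2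
    have h5 : ((i : ℕ) : ℕ∞) + 1 + 1 ≤ ((i : ℕ) + 1 : ℕ) := le_trans (by gcongr) h2
    have h6 : ((i : ℕ) : ℕ∞) + 1 + 1 = ((i + 2 : ℕ) : ℕ∞) := by push_cast; ring
    rw [h6] at h5
    have := ENat.coe_le_coe.mp h5
    omega
  · intro t ht1 ht2
    let t' : LTSeries I := LTSeries.mk t.length
      (fun i => ⟨t i, by rw [← ht1]; exact t.head_le i, by rw [← ht2]; exact t.monotone (Fin.le_last i)⟩)
      (fun i j hij => t.strictMono hij)
    have h1 := Order.length_le_height (p := t') (x := top) (t'.last).2.2
    rw [hm] at h1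
    have h2 : t'.length = t.length := rfl
    rw [h2] at h1
    have := ENat.coe_le_coe.mp h1
    simpa [hu2] using this

theorem height_comap_le_of_isCatenary {D S : Type u} [CommRing D] [IsDomain D] [CommRing S]
    (hcat : CAlg.IsCatenary D) (φ : D →+* S) (hφ : Function.Surjective φ)
    [hP : (RingHom.ker φ).IsPrime] (q : Ideal S) [q.IsPrime] :
    (q.comap φ).height ≤ (RingHom.ker φ).height + q.height := by
  let b0 : PrimeSpectrum D := ⟨⊥, Ideal.isPrime_bot⟩
  let P : PrimeSpectrum D := ⟨RingHom.ker φ, hP⟩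
  let Q : PrimeSpectrum D := ⟨q.comap φ, inferInstance⟩
  have hb0 : ∀ z : PrimeSpectrum D, b0 ≤ z := fun z => (bot_le : (⊥ : Ideal D) ≤ z.asIdeal)
  have hPQ : P ≤ Q := by
    change RingHom.ker φ ≤ q.comap φ
    rw [RingHom.ker_eq_comap_bot]
    exact Ideal.comap_mono bot_le
  obtain ⟨n1, hn1⟩ := hcat.1 b0 P (hb0 P)
  obtain ⟨n2, hn2⟩ := hcat.1 P Q hPQ
  obtain ⟨n3, hn3⟩ := hcat.1 b0 Q (hb0 Q)
  obtain ⟨s1, h11, h12, h13, h14⟩ := exists_max_saturated_series b0 P (hb0 P) n1 hn1
  obtain ⟨s2, h21, h22, h23, h24⟩ := exists_max_saturated_series P Q hPQ n2 hn2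
  obtain ⟨s3, h31, h32, h33, h34⟩ := exists_max_saturated_series b0 Q (hb0 Q) n3 hn3
  let s12 : LTSeries (PrimeSpectrum D) := RelSeries.smash s1 s2 (h12.trans h21.symm)
  have hsat : ∀ i : Fin s12.length, s12 i.castSucc ⋖ s12 i.succ := by
    intro i
    refine Fin.addCases (fun j => ?_) (fun j => ?_) i
    · change RelSeries.smash s1 s2 _ (Fin.castAdd s2.length j).castSucc ⋖
        RelSeries.smash s1 s2 _ (Fin.castAdd s2.length j).succ
      rw [RelSeries.smash_castAdd, RelSeries.smash_succ_castAdd]; exact h13 j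
    · change RelSeries.smash s1 s2 _ (Fin.natAdd s1.length j).castSucc ⋖
        RelSeries.smash s1 s2 _ (Fin.natAdd s1.length j).succ
      rw [RelSeries.smash_natAdd, RelSeries.smash_succ_natAdd]; exact h23 j
  have heq : s12.length = s3.length :=
    hcat.2 s12 s3 (by simp [s12, h11, h31]) (by simp [s12, h22, h32]) hsat h33
  have hQ : (q.comap φ).height ≤ s3.length := by
    rw [show (q.comap φ).height = Order.height Q from PrimeSpectrum.height_eq_orderHeight Q]
    refine Order.height_le fun p hp => ?_
    by_cases hh : p.head = b0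
    · exact_mod_cast h34 p hh hp
    · have hlt : b0 < p.head := lt_of_le_of_ne (hb0 _) (Ne.symm hh)
      have := h34 (p.cons b0 hlt) (by simp) (by simp [hp])
      simp at this
      exact_mod_cast (by omega : p.length ≤ s3.length)
  have h1 : (s1.length : ℕ∞) ≤ (RingHom.ker φ).height := by
    rw [show (RingHom.ker φ).height = Order.height P from PrimeSpectrum.height_eq_orderHeight P,
      ← h12]
    exact Order.length_le_height_last
  have h2 : (s2.length : ℕ∞) ≤ q.height := by
    have hker : ∀ i, RingHom.ker φ ≤ (s2 i).asIdeal := fun i => by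
      have := s2.head_le i; rw [h21] at this; exact this
    have hcm : ∀ i, ((s2 i).asIdeal.map φ).comap φ = (s2 i).asIdeal := fun i => by
      rw [Ideal.comap_map_of_surjective φ hφ, ← RingHom.ker_eq_comap_bot]
      exact sup_eq_left.mpr (hker i)
    let t : LTSeries (PrimeSpectrum S) := LTSeries.mk s2.length
      (fun i => ⟨(s2 i).asIdeal.map φ, Ideal.map_isPrime_of_surjective hφ (hker i)⟩)
      (fun i j hij => by
        have hlt := s2.strictMono hij
        refine lt_of_le_of_ne (Ideal.map_mono (show (s2 i).asIdeal ≤ (s2 j).asIdeal from hlt.le)) ?_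
        intro h
        have h' : ((s2 i).asIdeal.map φ) = ((s2 j).asIdeal.map φ) :=
          congrArg PrimeSpectrum.asIdeal h
        have h'' := congrArg (Ideal.comap φ) h'
        rw [hcm, hcm] at h''
        exact hlt.ne (PrimeSpectrum.ext h''))
    have hlast : t.last = ⟨q, inferInstance⟩ := by
      apply PrimeSpectrum.ext
      change (s2.last).asIdeal.map φ = q
      rw [h22]
      exact Ideal.map_comap_of_surjective φ hφ q
    have := Order.length_le_height_last (p := t)
    rw [hlast, ← PrimeSpectrum.height_eq_orderHeight] at this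
    exact this
  calc (q.comap φ).height ≤ s3.length := hQ
    _ = ((s1.length + s2.length : ℕ) : ℕ∞) := by rw [← heq]; rfl
    _ ≤ _ := by push_cast; exact add_le_add h1 h2

end Groth.Agent.Lib.helper26.CatHt
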