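import Mathlib
import Groth.Prelude.Def_Found
import Groth.Prelude.Def_W4stktopologysheavesDim
import Groth.Agent.Lib.helper26.CatHt
import Groth.Agent.Lib.helper14.Catenary

universe u v
open TopologicalSpace

namespace Groth.Agent.Lib.helper26.CatOrd

/-- catenary partial orders: bounded chains between comparable elements, and saturated chains
with the same end points have the same length. -/
def IsCatOrd (P : Type*) [Preorder P] : Prop :=
  (∀ p q : P, p ≤ q → ∃ n : ℕ, ∀ s : LTSeries P, s.head = p → s.last = q → s.length ≤ n) ∧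
  ∀ s t : LTSeries P, s.head = t.head → s.last = t.last →
    (∀ i : Fin s.length, s (Fin.castSucc i) ⋖ s (Fin.succ i)) →
    (∀ i : Fin t.length, t (Fin.castSucc i) ⋖ t (Fin.succ i)) → s.length = t.length

theorem isCatenary_iff (R : Type u) [CommRing R] :
    CAlg.IsCatenary R ↔ IsCatOrd (PrimeSpectrum R) := Iff.rfl

/-- reverse a chain along a strictly antitone map. -/
def antiMap {A B : Type*} [Preorder A] [Preorder B] (p : LTSeries A) (g : A → B)
    (hg : StrictAnti g) : LTSeries B :=
  LTSeries.mk p.length (fun i => g (p i.rev)) (fun i j hij => hg (p.strictMono (Fin.rev_lt_rev.mpr hij)))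

@[simp] theorem antiMap_length {A B : Type*} [Preorder A] [Preorder B] (p : LTSeries A) (g : A → B)
    (hg : StrictAnti g) : (antiMap p g hg).length = p.length := rfl

theorem antiMap_head {A B : Type*} [Preorder A] [Preorder B] (p : LTSeries A) (g : A → B)
    (hg : StrictAnti g) : (antiMap p g hg).head = g p.last := by
  change g (p (Fin.rev 0)) = g p.last
  rw [Fin.rev_zero]
  rfl

theorem antiMap_last {A B : Type*} [Preorder A] [Preorder B] (p : LTSeries A) (g : A → B)
    (hg : StrictAnti g) : (antiMap p g hg).last = g p.head := by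
  change g (p (Fin.rev (Fin.last _))) = g p.head
  rw [Fin.rev_last]
  rfl

theorem antiMap_castSucc {A B : Type*} [Preorder A] [Preorder B] (p : LTSeries A) (g : A → B)
    (hg : StrictAnti g) (i : Fin p.length) :
    (antiMap p g hg) (Fin.castSucc i) = g (p (Fin.succ i.rev)) := by
  change g (p (Fin.rev (Fin.castSucc i))) = _
  rw [Fin.rev_castSucc]

theorem antiMap_succ {A B : Type*} [Preorder A] [Preorder B] (p : LTSeries A) (g : A → B)
    (hg : StrictAnti g) (i : Fin p.length) :
    (antiMap p g hg) (Fin.succ i) = g (p (Fin.castSucc i.rev)) := by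
  change g (p (Fin.rev (Fin.succ i))) = _
  rw [Fin.rev_succ]

/-- catenarity transfers along an order-reversing bijection. -/
theorem isCatOrd_of_antiEquiv {A B : Type*} [PartialOrder A] [PartialOrder B] (e : A ≃ B)
    (he : ∀ a a' : A, e a ≤ e a' ↔ a' ≤ a) (hA : IsCatOrd A) : IsCatOrd B := by
  have hes : ∀ b b' : B, e.symm b ≤ e.symm b' ↔ b' ≤ b := by
    intro b b'
    rw [← he, e.apply_symm_apply, e.apply_symm_apply]
  have hlt : ∀ b b' : B, e.symm b < e.symm b' ↔ b' < b := by
    intro b b'
    rw [lt_iff_le_not_ge, lt_iff_le_not_ge, hes, hes]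
  have hanti : StrictAnti e.symm := fun b b' h => (hlt b' b).mpr h
  have hcov : ∀ b b' : B, b ⋖ b' → e.symm b' ⋖ e.symm b := by
    intro b b' h
    refine ⟨hanti h.lt, ?_⟩
    intro c h1 h2
    have h1' : e.symm b' < e.symm (e c) := by rwa [e.symm_apply_apply]
    have h2' : e.symm (e c) < e.symm b := by rwa [e.symm_apply_apply]
    exact h.2 ((hlt _ _).mp h2') ((hlt _ _).mp h1')
  refine ⟨?_, ?_⟩
  · intro p q hpq
    obtain ⟨n, hn⟩ := hA.1 (e.symm q) (e.symm p) ((hes q p).mpr hpq)
    refine ⟨n, fun s hs hl => ?_⟩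
    have := hn (antiMap s e.symm hanti) (by rw [antiMap_head, hl]) (by rw [antiMap_last, hs])
    simpa using this
  · intro s t hst hst' hs ht
    have := hA.2 (antiMap s e.symm hanti) (antiMap t e.symm hanti)
      (by rw [antiMap_head, antiMap_head, hst'])
      (by rw [antiMap_last, antiMap_last, hst])
      (fun i => by
        rw [antiMap_castSucc, antiMap_succ]
        exact hcov _ _ (hs (Fin.rev (i : Fin s.length))))
      (fun i => by
        rw [antiMap_castSucc, antiMap_succ]
        exact hcov _ _ (ht (Fin.rev (i : Fin t.length))))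
    simpa using this

theorem isCatOrd_orderDual {A : Type*} [PartialOrder A] (hA : IsCatOrd A) : IsCatOrd Aᵒᵈ :=
  isCatOrd_of_antiEquiv OrderDual.toDual (fun _ _ => OrderDual.toDual_le_toDual) hA

theorem isCatOrd_of_orderDual {A : Type*} [PartialOrder A] (hA : IsCatOrd Aᵒᵈ) : IsCatOrd A :=
  isCatOrd_of_antiEquiv (A := Aᵒᵈ) OrderDual.ofDual (fun _ _ => OrderDual.ofDual_le_ofDual) hA

/-- catenarity descends along an order embedding with order-convex image. -/
theorem isCatOrd_of_embedding {P Q : Type*} [PartialOrder P] [PartialOrder Q]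
    (f : Q → P) (hf : ∀ a b, f a ≤ f b ↔ a ≤ b)
    (hconv : ∀ a b (y : P), f a < y → y < f b → ∃ c, f c = y)
    (hP : IsCatOrd P) : IsCatOrd Q := by
  have hlt : ∀ a b, f a < f b ↔ a < b := by
    intro a b
    rw [lt_iff_le_not_ge, lt_iff_le_not_ge, hf, hf]
  have hmono : StrictMono f := fun a b h => (hlt a b).mpr h
  have hcov : ∀ a b, a ⋖ b → f a ⋖ f b := by
    intro a b hab
    refine ⟨hmono hab.lt, ?_⟩
    intro y h1 h2
    obtain ⟨c, rfl⟩ := hconv a b y h1 h2
    exact hab.2 ((hlt _ _).mp h1) ((hlt _ _).mp h2)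
  refine ⟨?_, ?_⟩
  · intro p q hpq
    obtain ⟨n, hn⟩ := hP.1 (f p) (f q) ((hf p q).mpr hpq)
    refine ⟨n, fun s hs hl => ?_⟩
    have := hn (s.map f hmono) (by rw [LTSeries.head_map, hs]) (by rw [LTSeries.last_map, hl])
    simpa using this
  · intro s t hst hst' hs ht
    have := hP.2 (s.map f hmono) (t.map f hmono)
      (by rw [LTSeries.head_map, LTSeries.head_map, hst])
      (by rw [LTSeries.last_map, LTSeries.last_map, hst'])
      (fun i => hcov _ _ (hs i)) (fun i => hcov _ _ (ht i))
    simpa using this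

/-- catenarity can be checked on a family of order embeddings with convex images covering all
comparable pairs. -/
theorem isCatOrd_of_local_embeddings {P : Type u} [PartialOrder P]
    (H : ∀ p p' : P, p ≤ p' → ∃ (Q : Type v) (_ : PartialOrder Q) (f : Q → P),
      (∀ a b, f a ≤ f b ↔ a ≤ b) ∧ (∀ a b (y : P), f a ≤ y → y ≤ f b → ∃ c, f c = y) ∧
      (∃ a, f a = p) ∧ (∃ b, f b = p') ∧ IsCatOrd Q) : IsCatOrd P := by
  refine ⟨?_, ?_⟩
  · intro p q hpq
    obtain ⟨Q, _, f, hf, hconv, ⟨a, ha⟩, ⟨b, hb⟩, hQ⟩ := H p q hpq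
    have hlt : ∀ a b, f a < f b ↔ a < b := by
      intro a b
      rw [lt_iff_le_not_ge, lt_iff_le_not_ge, hf, hf]
    have hmono : StrictMono f := fun a b h => (hlt a b).mpr h
    have hinj : Function.Injective f := fun a b hab =>
      le_antisymm ((hf a b).mp hab.le) ((hf b a).mp hab.ge)
    obtain ⟨n, hn⟩ := hQ.1 a b ((hf _ _).mp (by rw [ha, hb]; exact hpq))
    refine ⟨n, fun s hs hl => ?_⟩
    obtain ⟨s', rfl⟩ := Groth.Agent.H14.exists_ltSeries_map_eq f hmono (fun a b => (hlt a b).mp) s
      (fun i => hconv a b _ (by rw [ha, ← hs]; exact s.head_le i)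
        (by rw [hb, ← hl]; exact s.strictMono.monotone (Fin.le_last i)))
    have := hn s' (hinj (by rw [ha]; exact hs)) (hinj (by rw [hb]; exact hl))
    simpa using this
  · intro s t hst hst' hs ht
    have hle : s.head ≤ s.last := s.head_le _
    obtain ⟨Q, _, f, hf, hconv, ⟨a, ha⟩, ⟨b, hb⟩, hQ⟩ := H s.head s.last hle
    have hlt : ∀ a b, f a < f b ↔ a < b := by
      intro a b
      rw [lt_iff_le_not_ge, lt_iff_le_not_ge, hf, hf]
    have hmono : StrictMono f := fun a b h => (hlt a b).mpr h
    have hinj : Function.Injective f := fun a b hab =>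
      le_antisymm ((hf a b).mp hab.le) ((hf b a).mp hab.ge)
    obtain ⟨s', rfl⟩ := Groth.Agent.H14.exists_ltSeries_map_eq f hmono (fun a b => (hlt a b).mp) s
      (fun i => hconv a b _ (by rw [ha]; exact s.head_le i)
        (by rw [hb]; exact s.strictMono.monotone (Fin.le_last i)))
    obtain ⟨t', rfl⟩ := Groth.Agent.H14.exists_ltSeries_map_eq f hmono (fun a b => (hlt a b).mp) t
      (fun i => hconv a b _ (by rw [ha, hst]; exact t.head_le i)
        (by rw [hb, hst']; exact t.strictMono.monotone (Fin.le_last i)))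
    have hcov : ∀ a b, f a ⋖ f b → a ⋖ b := by
      intro a b hab
      refine ⟨(hlt _ _).mp hab.lt, ?_⟩
      intro c h1 h2
      exact hab.2 (hmono h1) (hmono h2)
    have := hQ.2 s' t' (hinj hst) (hinj hst') (fun i => hcov _ _ (hs i)) (fun i => hcov _ _ (ht i))
    simpa using this

/-- the catenary-space condition of the prelude is catenarity of the poset of irreducible closed
subsets. -/
theorem isCatenarySpace_iff (X : Type u) [TopologicalSpace X] :
    PtTop.IsCatenarySpace X ↔ IsCatOrd (IrreducibleCloseds X) := by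
  constructor
  · intro h
    refine ⟨?_, ?_⟩
    · intro p q hpq
      obtain ⟨hfin, -⟩ := h p q hpq
      refine ⟨(PtTop.codim p (q : Set X)).toNat, fun s hs hl => ?_⟩
      have h1 : (s.length : ℕ∞) ≤ PtTop.codim p (q : Set X) := by
        unfold PtTop.codim
        exact le_iSup₂_of_le s ⟨hs, by rw [hl]⟩ le_rfl
      rw [← ENat.coe_toNat hfin] at h1
      exact_mod_cast h1
    · intro s t hst hst' hs ht
      have hle : s.head ≤ s.last := s.head_le _
      obtain ⟨-, hsat⟩ := h s.head s.last hle
      have e1 := hsat s rfl rfl hs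
      have e2 := hsat t hst.symm hst'.symm ht
      have : (s.length : ℕ∞) = t.length := e1.trans e2.symm
      exact_mod_cast this
  · intro h T T' hTT'
    obtain ⟨n, hn⟩ := h.1 T T' hTT'
    obtain ⟨m, hm1, hm2, hm3, hm4⟩ := CatHt.exists_max_saturated_series T T' hTT' n hn
    have hcodim : PtTop.codim T (T' : Set X) = (m.length : ℕ∞) := by
      apply le_antisymm
      · unfold PtTop.codim
        refine iSup₂_le fun t ht => ?_
        obtain ⟨ht1, ht2⟩ := ht
        have ht2' : t.last ≤ T' := ht2
        rcases eq_or_lt_of_le ht2' with heq | hlt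
        · exact_mod_cast hm4 t ht1 heq
        · have := hm4 (t.snoc T' hlt) (by simp [ht1]) (by simp)
          simp at this
          have h2 : t.length ≤ m.length := by omega
          exact_mod_cast h2
      · unfold PtTop.codim
        exact le_iSup₂_of_le m ⟨hm1, by rw [hm2]⟩ le_rfl
    refine ⟨by rw [hcodim]; exact ENat.coe_ne_top _, fun s hs hl hsat => ?_⟩
    rw [hcodim]
    have := h.2 s m (by rw [hs, hm1]) (by rw [hl, hm2]) hsat hm3
    exact_mod_cast this

end Groth.Agent.Lib.helper26.CatOrd
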