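import Mathlib
import Groth.Agent.Lib.helper26.DimIneq
import Groth.Agent.Lib.helper7.DimFT2

universe u
open Ideal Cardinal

namespace Groth.Agent.Lib.helper26.DimIneq

theorem isAlgebraic_of_mul_eq {D L : Type*} [CommRing D] [CommRing L] [Algebra D L]
    (z : L) (d n : D) (hd : algebraMap D L d ≠ 0) (h : z * algebraMap D L d = algebraMap D L n) :
    IsAlgebraic D z := by
  refine ⟨Polynomial.C d * Polynomial.X - Polynomial.C n, ?_, ?_⟩
  · intro h0
    have := congrArg (fun g => g.coeff 1) h0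
    simp at this
    exact hd (by rw [this, map_zero])
  · simp only [map_sub, map_mul, Polynomial.aeval_C, Polynomial.aeval_X]
    rw [mul_comm, h, sub_self]

theorem trdeg_eq_of_resData {A B k l : Type u} [CommRing A] [CommRing B] [Algebra A B]
    [CommRing k] [IsDomain k] [CommRing l] [IsDomain l] [Algebra k l] [FaithfulSMul k l]
    (p : Ideal A) (q : Ideal B) [q.IsPrime] [q.LiesOver p]
    (a : A →+* k) (b : B →+* l) (ha : RingHom.ker a = p) (hb : RingHom.ker b = q)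
    (hc : ∀ x, algebraMap k l (a x) = b (algebraMap A B x))
    (haa : ∀ z : k, ∃ x y, a y ≠ 0 ∧ z * a y = a x)
    (hbb : ∀ z : l, ∃ x y, b y ≠ 0 ∧ z * b y = b x) :
    Algebra.trdeg k l = Algebra.trdeg (A ⧸ p) (B ⧸ q) := by
  haveI : p.IsPrime := Ideal.isPrime_of_liesOver q p
  let a' : A ⧸ p →+* k := Ideal.Quotient.lift p a (fun x hx => by rw [← ha] at hx; exact hx)
  let b' : B ⧸ q →+* l := Ideal.Quotient.lift q b (fun x hx => by rw [← hb] at hx; exact hx)
  have ha' : Function.Injective a' := by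
    rw [injective_iff_map_eq_zero]
    intro x hx
    obtain ⟨x, rfl⟩ := Ideal.Quotient.mk_surjective x
    rw [Ideal.Quotient.eq_zero_iff_mem, ← ha]
    exact hx
  have hb' : Function.Injective b' := by
    rw [injective_iff_map_eq_zero]
    intro x hx
    obtain ⟨x, rfl⟩ := Ideal.Quotient.mk_surjective x
    rw [Ideal.Quotient.eq_zero_iff_mem, ← hb]
    exact hx
  letI : Algebra (A ⧸ p) k := a'.toAlgebra
  letI : Algebra (B ⧸ q) l := b'.toAlgebra
  letI : Algebra (A ⧸ p) l := (b'.comp (algebraMap (A ⧸ p) (B ⧸ q))).toAlgebra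
  haveI : IsScalarTower (A ⧸ p) (B ⧸ q) l := IsScalarTower.of_algebraMap_eq' rfl
  haveI : IsScalarTower (A ⧸ p) k l := IsScalarTower.of_algebraMap_eq (by
    rintro ⟨x⟩; exact (hc x).symm)
  haveI : FaithfulSMul (A ⧸ p) k := (faithfulSMul_iff_algebraMap_injective _ _).mpr ha'
  haveI : FaithfulSMul (B ⧸ q) l := (faithfulSMul_iff_algebraMap_injective _ _).mpr hb'
  haveI : Algebra.IsAlgebraic (A ⧸ p) k := by
    refine ⟨fun z => ?_⟩
    obtain ⟨x, y, hy, hxy⟩ := haa z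
    exact isAlgebraic_of_mul_eq z (Ideal.Quotient.mk p y) (Ideal.Quotient.mk p x) hy hxy
  haveI : Algebra.IsAlgebraic (B ⧸ q) l := by
    refine ⟨fun z => ?_⟩
    obtain ⟨x, y, hy, hxy⟩ := hbb z
    exact isAlgebraic_of_mul_eq z (Ideal.Quotient.mk q y) (Ideal.Quotient.mk q x) hy hxy
  have h1 := trdeg_add_eq (A ⧸ p) (B ⧸ q) (A := l)
  have h2 := trdeg_add_eq (A ⧸ p) k (A := l)
  have h3 : Algebra.trdeg (B ⧸ q) l = 0 := trdeg_eq_zero
  have h4 : Algebra.trdeg (A ⧸ p) k = 0 := trdeg_eq_zero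
  rw [h3, add_zero] at h1
  rw [h4, zero_add] at h2
  rw [h1, h2]

theorem dim_ineq_quot {A B : Type u} [CommRing A] [IsNoetherianRing A] [CommRing B] [Algebra A B]
    [Algebra.FiniteType A B]
    (q₀ q : Ideal B) [q₀.IsPrime] [q.IsPrime] (h : q₀ ≤ q) (p₀ p : Ideal A) [p₀.IsPrime]
    [p.IsPrime] [q₀.LiesOver p₀] [q.LiesOver p] :
    ((q.map (Ideal.Quotient.mk q₀)).height : Cardinal.{u}) + Algebra.trdeg (A ⧸ p) (B ⧸ q) ≤
      ((p.map (Ideal.Quotient.mk p₀)).height : Cardinal.{u}) +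
        Algebra.trdeg (A ⧸ p₀) (B ⧸ q₀) := by
  have hp : p₀ ≤ p := by
    rw [q₀.over_def p₀, q.over_def p]; exact Ideal.comap_mono h
  set pb := p.map (Ideal.Quotient.mk p₀) with hpb
  set qb := q.map (Ideal.Quotient.mk q₀) with hqb
  haveI : pb.IsPrime := Ideal.isPrime_map_quotientMk_of_isPrime hp
  haveI : qb.IsPrime := Ideal.isPrime_map_quotientMk_of_isPrime h
  haveI : qb.LiesOver pb := ⟨by
    ext x
    obtain ⟨x, rfl⟩ := Ideal.Quotient.mk_surjective x
    rw [Ideal.under_def, Ideal.mem_comap, Ideal.Quotient.algebraMap_mk_of_liesOver,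
      Ideal.mem_quotient_iff_mem hp, Ideal.mem_quotient_iff_mem h, q.over_def p]
    rfl⟩
  haveI : Algebra.FiniteType (A ⧸ p₀) (B ⧸ q₀) :=
    Algebra.FiniteType.of_restrictScalars_finiteType A (A ⧸ p₀) (B ⧸ q₀)
  have key := dimension_inequality (A ⧸ p₀) (B ⧸ q₀) pb qb
  have e : Algebra.trdeg (A ⧸ p) (B ⧸ q) = Algebra.trdeg ((A ⧸ p₀) ⧸ pb) ((B ⧸ q₀) ⧸ qb) := by
    refine trdeg_eq_of_resData pb qb (Ideal.Quotient.factor hp) (Ideal.Quotient.factor h)
      (Ideal.Quotient.factor_ker hp) (Ideal.Quotient.factor_ker h) ?_ ?_ ?_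
    · rintro ⟨x⟩; rfl
    · intro z
      obtain ⟨x, rfl⟩ := Ideal.Quotient.mk_surjective z
      exact ⟨Ideal.Quotient.mk p₀ x, 1, by simp, by simp⟩
    · intro z
      obtain ⟨x, rfl⟩ := Ideal.Quotient.mk_surjective z
      exact ⟨Ideal.Quotient.mk q₀ x, 1, by simp, by simp⟩
  rw [e]; exact key

theorem height_add_trdeg_le {A B : Type u} [CommRing A] [IsNoetherianRing A] [CommRing B]
    [Algebra A B] [Algebra.FiniteType A B]
    (q : Ideal B) [q.IsPrime] (p : Ideal A) [p.IsPrime] [q.LiesOver p] (E : Cardinal.{u})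
    (hE : ∀ q₀ ∈ minimalPrimes B, q₀ ≤ q → Algebra.trdeg (A ⧸ q₀.under A) (B ⧸ q₀) ≤ E) :
    (q.height : Cardinal.{u}) + Algebra.trdeg (A ⧸ p) (B ⧸ q) ≤ (p.height : Cardinal.{u}) + E := by
  haveI : IsNoetherianRing B := Algebra.FiniteType.isNoetherianRing A B
  obtain ⟨q₀, hq₀, hle, hht⟩ := helper7.DimFT.exists_minimalPrimes_height_le q
  haveI : q₀.IsPrime := Ideal.minimalPrimes_isPrime hq₀
  have key := dim_ineq_quot q₀ q hle (q₀.under A) p
  have hp : q₀.under A ≤ p := by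
    rw [q.over_def p]; exact Ideal.comap_mono hle
  have h1 := helper7.DimFT.height_map_quotient_le (q₀.under A) p hp
  calc (q.height : Cardinal.{u}) + Algebra.trdeg (A ⧸ p) (B ⧸ q)
      ≤ ((q.map (Ideal.Quotient.mk q₀)).height : Cardinal.{u}) + Algebra.trdeg (A ⧸ p) (B ⧸ q) :=
        add_le_add (Cardinal.ofENat_le_ofENat_of_le hht) le_rfl
    _ ≤ _ := key
    _ ≤ (p.height : Cardinal.{u}) + E :=
        add_le_add (Cardinal.ofENat_le_ofENat_of_le h1) (hE q₀ hq₀ hle)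

end Groth.Agent.Lib.helper26.DimIneq
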