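import Mathlib
import Groth.Agent.Lib.helper26.DimIneq2
import Groth.Agent.Lib.helper7.DimSch3

universe u
open AlgebraicGeometry CategoryTheory Ideal Cardinal

namespace Groth.Agent.Lib.helper26.DimIneq

theorem ker_evaluation' {X : Scheme.{u}} {U : X.Opens} (hU : IsAffineOpen U) (x : X) (hx : x ∈ U) :
    RingHom.ker (X.evaluation U x hx).hom = (hU.primeIdealOf ⟨x, hx⟩).asIdeal := by
  rw [hU.primeIdealOf_eq_map_closedPoint]
  ext s
  simp only [RingHom.mem_ker]
  change _ ↔ (X.presheaf.germ U x hx).hom s ∈ IsLocalRing.maximalIdeal _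
  rw [← IsLocalRing.residue_eq_zero_iff]
  rfl

theorem exists_evaluation_frac {X : Scheme.{u}} {U : X.Opens} (hU : IsAffineOpen U) (x : X)
    (hx : x ∈ U) (z : X.residueField x) :
    ∃ a s : Γ(X, U), (X.evaluation U x hx).hom s ≠ 0 ∧
      z * (X.evaluation U x hx).hom s = (X.evaluation U x hx).hom a := by
  obtain ⟨t, rfl⟩ := X.residue_surjective x z
  letI := X.presheaf.algebra_section_stalk ⟨x, hx⟩
  haveI := hU.isLocalization_stalk ⟨x, hx⟩
  obtain ⟨a, s, rfl⟩ := IsLocalization.exists_mk'_eq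
    (hU.primeIdealOf ⟨x, hx⟩).asIdeal.primeCompl t
  refine ⟨a, s, ?_, ?_⟩
  · intro h0
    have : (s : Γ(X, U)) ∈ RingHom.ker (X.evaluation U x hx).hom := h0
    rw [ker_evaluation' hU x hx] at this
    exact s.2 this
  · have h2 : IsLocalization.mk' (X.presheaf.stalk x) a s *
        algebraMap Γ(X, U) (X.presheaf.stalk x) (s : Γ(X, U)) =
        algebraMap Γ(X, U) (X.presheaf.stalk x) a := IsLocalization.mk'_spec _ a s
    have h3 := congrArg (X.residue x).hom h2
    rw [map_mul] at h3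
    exact h3

theorem evaluation_appLE {X S : Scheme.{u}} (f : X ⟶ S) (V : S.Opens) (U : X.Opens)
    (e : U ≤ f ⁻¹ᵁ V) (x : X) (hx : x ∈ U) (t : Γ(S, V)) :
    (f.residueFieldMap x).hom ((S.evaluation V (f x) (e hx)).hom t) =
      (X.evaluation U x hx).hom ((f.appLE V U e).hom t) := by
  have h1 := Scheme.evaluation_naturality_apply f x (e hx) t
  refine h1.trans ?_
  rw [Scheme.Hom.appLE]
  simp only [CommRingCat.hom_comp, RingHom.coe_comp, Function.comp_apply, Scheme.evaluation]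
  congr 1
  exact (TopCat.Presheaf.germ_res_apply X.presheaf (homOfLE e) x hx _).symm

theorem trdeg_residueField_eq {X S : Scheme.{u}} (f : X ⟶ S) {V : S.Opens} (hV : IsAffineOpen V)
    {U : X.Opens} (hU : IsAffineOpen U) (e : U ≤ f ⁻¹ᵁ V) (x : X) (hx : x ∈ U) :
    letI : Algebra Γ(S, V) Γ(X, U) := (f.appLE V U e).hom.toAlgebra
    ∀ (p : Ideal Γ(S, V)) [(hU.primeIdealOf ⟨x, hx⟩).asIdeal.LiesOver p],
    @Algebra.trdeg (S.residueField (f x)) (X.residueField x) _ _
      (f.residueFieldMap x).hom.toAlgebra =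
      Algebra.trdeg (Γ(S, V) ⧸ p) (Γ(X, U) ⧸ (hU.primeIdealOf ⟨x, hx⟩).asIdeal) := by
  letI : Algebra Γ(S, V) Γ(X, U) := (f.appLE V U e).hom.toAlgebra
  intro p _
  letI : Algebra (S.residueField (f x)) (X.residueField x) := (f.residueFieldMap x).hom.toAlgebra
  have hp : p = (hV.primeIdealOf ⟨f x, e hx⟩).asIdeal := by
    rw [(hU.primeIdealOf ⟨x, hx⟩).asIdeal.over_def p, Ideal.under_def]
    exact congrArg PrimeSpectrum.asIdeal
      (IsAffineOpen.comap_primeIdealOf_appLE (f := f) V hV U hU e hx)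
  refine trdeg_eq_of_resData p (hU.primeIdealOf ⟨x, hx⟩).asIdeal
    (S.evaluation V (f x) (e hx)).hom (X.evaluation U x hx).hom ?_ (ker_evaluation' hU x hx)
    ?_ (exists_evaluation_frac hV (f x) (e hx)) (exists_evaluation_frac hU x hx)
  · rw [hp]; exact ker_evaluation' hV (f x) (e hx)
  · intro t
    exact evaluation_appLE f V U e x hx t

theorem stalk_dim_ineq {X S : Scheme.{u}} [IsLocallyNoetherian S] (f : X ⟶ S)
    [LocallyOfFiniteType f] (x : X) (E : ℕ)
    (hE : ∀ ξ : X, closure {ξ} ∈ irreducibleComponents ↥X → ξ ⤳ x →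
      @Algebra.trdeg (S.residueField (f ξ)) (X.residueField ξ) _ _
        (f.residueFieldMap ξ).hom.toAlgebra ≤ E) :
    ∃ (hq hp : ℕ∞), ringKrullDim (X.presheaf.stalk x) = hq ∧
      ringKrullDim (S.presheaf.stalk (f x)) = hp ∧
      (hq : Cardinal.{u}) + @Algebra.trdeg (S.residueField (f x)) (X.residueField x) _ _
        (f.residueFieldMap x).hom.toAlgebra ≤ (hp : Cardinal.{u}) + E := by
  obtain ⟨_, ⟨V, hV, rfl⟩, hsV, -⟩ := S.isBasis_affineOpens.exists_subset_of_mem_open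
    (Set.mem_univ (f x)) isOpen_univ
  obtain ⟨_, ⟨U, hU, rfl⟩, hxU, hUV⟩ := X.isBasis_affineOpens.exists_subset_of_mem_open
    (show x ∈ ((f ⁻¹ᵁ V : X.Opens) : Set X) from hsV) (f ⁻¹ᵁ V).isOpen
  have e : U ≤ f ⁻¹ᵁ V := hUV
  have hV' : IsAffineOpen V := hV
  have hU' : IsAffineOpen U := hU
  letI : Algebra Γ(S, V) Γ(X, U) := (f.appLE V U e).hom.toAlgebra
  haveI : IsNoetherianRing Γ(S, V) := IsLocallyNoetherian.component_noetherian ⟨V, hV⟩
  haveI : Algebra.FiniteType Γ(S, V) Γ(X, U) := f.finiteType_appLE hV' hU' e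
  set q := (hU'.primeIdealOf ⟨x, hxU⟩).asIdeal with hq
  set p := (hV'.primeIdealOf ⟨f x, e hxU⟩).asIdeal with hp
  haveI : q.LiesOver p := ⟨by
    rw [Ideal.under_def]
    exact (congrArg PrimeSpectrum.asIdeal
      (IsAffineOpen.comap_primeIdealOf_appLE (f := f) V hV' U hU' e hxU)).symm⟩
  refine ⟨q.height, p.height,
    helper7.DimSch.ringKrullDim_stalk_eq_height hU' x hxU,
    helper7.DimSch.ringKrullDim_stalk_eq_height hV' (f x) (e hxU), ?_⟩
  rw [trdeg_residueField_eq f hV' hU' e x hxU p]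
  refine height_add_trdeg_le q p (E : Cardinal.{u}) ?_
  intro q₀ hq₀ hle
  haveI : q₀.IsPrime := Ideal.minimalPrimes_isPrime hq₀
  obtain ⟨ξ, hξ⟩ := helper7.DimSch.exists_primeIdealOf_eq hU' ⟨q₀, inferInstance⟩
  have hq₀' : q₀ = (hU'.primeIdealOf ξ).asIdeal := by rw [hξ]
  subst hq₀'
  have hsp : (ξ : X) ⤳ x :=
    (helper7.DimSch.primeIdealOf_le_iff hU' ξ ⟨x, hxU⟩).mp hle
  have hgen : closure {(ξ : X)} ∈ irreducibleComponents X :=
    (helper7.DimSch.closure_mem_irreducibleComponents_iff _).mpr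
      ((helper7.DimSch.primeIdealOf_mem_minimalPrimes_iff hU' ξ).mp hq₀)
  have h1 := hE ξ hgen hsp
  rw [trdeg_residueField_eq f hV' hU' e ξ ξ.2 ((hU'.primeIdealOf ξ).asIdeal.under Γ(S, V))] at h1
  exact h1

end Groth.Agent.Lib.helper26.DimIneq
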