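import Mathlib
import Groth.Agent.Lib.helper26.DimIneqSch

universe u
open AlgebraicGeometry CategoryTheory Ideal Cardinal TensorProduct

namespace Groth.Agent.Lib.helper26.DimIneq

attribute [local instance] Algebra.TensorProduct.rightAlgebra in
theorem exists_prime_under_bot_height_eq {A B : Type u} [CommRing A] [IsDomain A] [CommRing B]
    [IsDomain B] [Algebra A B] [FaithfulSMul A B] [Algebra.FiniteType A B] (n : ℕ)
    (hn : Algebra.trdeg A B = n) :
    ∃ q : Ideal B, q.IsPrime ∧ q.under A = ⊥ ∧ q.height = n := by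
  let K := FractionRing A
  let T := K ⊗[A] B
  let M := nonZeroDivisors A
  have hM : Algebra.algebraMapSubmonoid B M ≤ nonZeroDivisors B :=
    map_le_nonZeroDivisors_of_injective _ (FaithfulSMul.algebraMap_injective A B) le_rfl
  haveI : IsLocalization (Algebra.algebraMapSubmonoid B M) T := IsLocalization.tensorRight K M
  haveI : IsDomain T := IsLocalization.isDomain_of_le_nonZeroDivisors T hM
  haveI : FaithfulSMul B T :=
    (faithfulSMul_iff_algebraMap_injective B T).mpr (IsLocalization.injective T hM)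
  haveI : Algebra.IsAlgebraic A K := IsLocalization.isAlgebraic K M
  haveI : Algebra.IsAlgebraic B T :=
    IsLocalization.isAlgebraic T (Algebra.algebraMapSubmonoid B M)
  have h1 := trdeg_add_eq A K (A := T)
  have h2 := trdeg_add_eq A B (A := T)
  have h3 : Algebra.trdeg A K = 0 := trdeg_eq_zero
  have h4 : Algebra.trdeg B T = 0 := trdeg_eq_zero
  rw [h3, zero_add] at h1
  rw [h4, add_zero] at h2
  have hT : Algebra.trdeg K T = n := by rw [h1, ← h2, hn]
  obtain ⟨n', hn1, hn2⟩ := helper7.DimFT.exists_trdeg_eq_ringKrullDim (k := K) T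
  have hnn : n' = n := by
    have : (n' : Cardinal.{u}) = n := by rw [← hn1, hT]
    exact_mod_cast this
  subst hnn
  obtain ⟨m, hm⟩ := Ideal.exists_maximal T
  have h5 := helper7.DimFT.height_of_isMaximal (k := K) T m
  refine ⟨m.under B, inferInstance, ?_, ?_⟩
  · rw [eq_bot_iff]
    intro a ha
    rw [Ideal.mem_bot]
    by_contra h0
    have ha' : algebraMap B T (algebraMap A B a) ∈ m := ha
    have hu : IsUnit (algebraMap B T (algebraMap A B a)) :=
      IsLocalization.map_units T (⟨algebraMap A B a,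
        ⟨a, mem_nonZeroDivisors_of_ne_zero h0, rfl⟩⟩ : Algebra.algebraMapSubmonoid B M)
    exact hm.ne_top (Ideal.eq_top_of_isUnit_mem _ ha' hu)
  · rw [IsLocalization.height_under (Algebra.algebraMapSubmonoid B M) m]
    rw [hn2] at h5
    exact_mod_cast h5

theorem height_le_of_isClosedMap {X Y : Scheme.{u}} (f : X ⟶ Y) (hf : IsClosedMap f.base) :
    ∀ x : X, Order.height (f x) ≤ Order.height x := by
  have key : ∀ n : ℕ, ∀ x : X, (n : ℕ∞) ≤ Order.height (f x) → (n : ℕ∞) ≤ Order.height x := by
    intro n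
    induction n with
    | zero => intro x _; simp
    | succ n ih =>
      intro x hx
      obtain ⟨p, hp, hlen⟩ := Order.exists_series_of_le_height (f x) hx
      have hlen' : p.length ≠ 0 := by omega
      let y' := p.eraseLast.last
      have hy' : y' < f x := by
        rw [← hp]
        exact p.eraseLast_last_rel_last hlen'
      have hhy' : (n : ℕ∞) ≤ Order.height y' := by
        have := Order.length_le_height_last (p := p.eraseLast)
        simp only [RelSeries.eraseLast_length] at this
        have h2 : p.length - 1 = n := by omega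
        rw [h2] at this
        exact this
      have hmem : y' ∈ f.base '' closure {x} := by
        have hcl : IsClosed (f.base '' closure {x}) := hf _ isClosed_closure
        have h1 : f x ∈ f.base '' closure {x} := ⟨x, subset_closure rfl, rfl⟩
        have h2 : closure {f x} ⊆ f.base '' closure {x} :=
          hcl.closure_subset_iff.mpr (Set.singleton_subset_iff.mpr h1)
        apply h2
        rw [← specializes_iff_mem_closure]
        exact hy'.le
      obtain ⟨x', hx', hfx'⟩ := hmem
      have hle : x' ≤ x := specializes_iff_mem_closure.mpr hx'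
      have hlt : x' < x := by
        refine lt_of_le_not_ge hle ?_
        intro hge
        have : f x ≤ f x' := (Specializes.map (f := f.base) hge f.continuous)
        rw [show f x' = y' from hfx'] at this
        exact (not_le_of_gt hy') this
      have h3 := ih x' (by rw [show f x' = y' from hfx']; exact hhy')
      have h4 := Order.height_add_one_le hlt
      calc ((n + 1 : ℕ) : ℕ∞) = (n : ℕ∞) + 1 := by push_cast; rfl
        _ ≤ Order.height x' + 1 := by gcongr
        _ ≤ Order.height x := h4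
  intro x
  exact ENat.forall_natCast_le_iff_le.mp (fun n hn => key n x hn)

theorem primeIdealOf_genericPoint_eq_bot {X : Scheme.{u}} [IsIntegral X] {U : X.Opens}
    (hU : IsAffineOpen U) (hξ : genericPoint X ∈ U) [IsDomain Γ(X, U)] :
    (hU.primeIdealOf ⟨genericPoint X, hξ⟩).asIdeal = ⊥ := by
  have h1 : (hU.primeIdealOf ⟨genericPoint X, hξ⟩).asIdeal ∈ minimalPrimes Γ(X, U) := by
    rw [helper7.DimSch.primeIdealOf_mem_minimalPrimes_iff hU ⟨genericPoint X, hξ⟩]
    intro z hz
    exact (hz.antisymm (genericPoint_specializes z)).eq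
  rw [IsDomain.minimalPrimes_eq_singleton_bot] at h1
  exact h1

theorem map_genericPoint {X Y : Scheme.{u}} [IrreducibleSpace X] [IrreducibleSpace Y]
    (f : X ⟶ Y) [IsDominant f] : f (genericPoint X) = genericPoint Y := by
  have h1 : IsGenericPoint (f (genericPoint X)) (closure (f.base '' Set.univ)) :=
    (genericPoint_spec X).image f.continuous
  rw [Set.image_univ, f.denseRange.closure_range] at h1
  exact h1.eq (genericPoint_spec Y)

theorem exists_point_over_generic {X Y : Scheme.{u}} [IsIntegral X] [IsIntegral Y]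
    (f : X ⟶ Y) [IsDominant f] [LocallyOfFiniteType f] (n : ℕ)
    (hn : @Algebra.trdeg (Y.residueField (f (genericPoint X))) (X.residueField (genericPoint X))
      _ _ (f.residueFieldMap (genericPoint X)).hom.toAlgebra = n) :
    ∃ x : X, f x = genericPoint Y ∧ Order.coheight x = n := by
  have hfξ : f (genericPoint X) = genericPoint Y := map_genericPoint f
  obtain ⟨_, ⟨V, hV, rfl⟩, hηV, -⟩ := Y.isBasis_affineOpens.exists_subset_of_mem_open
    (Set.mem_univ (genericPoint Y)) isOpen_univ
  obtain ⟨_, ⟨U, hU, rfl⟩, hξU, hUV⟩ := X.isBasis_affineOpens.exists_subset_of_mem_open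
    (show genericPoint X ∈ ((f ⁻¹ᵁ V : X.Opens) : Set X) from (by
      change f (genericPoint X) ∈ V; rw [hfξ]; exact hηV)) (f ⁻¹ᵁ V).isOpen
  have e : U ≤ f ⁻¹ᵁ V := hUV
  have hV' : IsAffineOpen V := hV
  have hU' : IsAffineOpen U := hU
  haveI : Nonempty U := ⟨⟨genericPoint X, hξU⟩⟩
  haveI : Nonempty V := ⟨⟨genericPoint Y, hηV⟩⟩
  letI : Algebra Γ(Y, V) Γ(X, U) := (f.appLE V U e).hom.toAlgebra
  haveI : Algebra.FiniteType Γ(Y, V) Γ(X, U) := f.finiteType_appLE hV' hU' e
  have hqξ := primeIdealOf_genericPoint_eq_bot hU' hξU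
  have hpη := primeIdealOf_genericPoint_eq_bot hV' hηV
  have hcomap : ∀ (x : X) (hx : x ∈ U), (hU'.primeIdealOf ⟨x, hx⟩).asIdeal.under Γ(Y, V) =
      (hV'.primeIdealOf ⟨f x, e hx⟩).asIdeal := fun x hx =>
    congrArg PrimeSpectrum.asIdeal
      (IsAffineOpen.comap_primeIdealOf_appLE (f := f) V hV' U hU' e hx)
  have hker : RingHom.ker (algebraMap Γ(Y, V) Γ(X, U)) = ⊥ := by
    have h1 := hcomap (genericPoint X) hξU
    rw [hqξ] at h1
    have h2 : (hV'.primeIdealOf ⟨f (genericPoint X), e hξU⟩).asIdeal = ⊥ := by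
      rw [← hpη]; congr 2; exact Subtype.ext hfξ
    rw [h2] at h1
    exact h1
  have hinj : Function.Injective (algebraMap Γ(Y, V) Γ(X, U)) :=
    (RingHom.injective_iff_ker_eq_bot _).mpr hker
  haveI : FaithfulSMul Γ(Y, V) Γ(X, U) := (faithfulSMul_iff_algebraMap_injective _ _).mpr hinj
  haveI : (hU'.primeIdealOf ⟨genericPoint X, hξU⟩).asIdeal.LiesOver (⊥ : Ideal Γ(Y, V)) := ⟨by
    rw [hqξ]; exact hker.symm⟩
  have h1 := trdeg_residueField_eq f hV' hU' e (genericPoint X) hξU ⊥
  have h2 : Algebra.trdeg Γ(Y, V) Γ(X, U) = Algebra.trdeg (Γ(Y, V) ⧸ (⊥ : Ideal Γ(Y, V)))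
      (Γ(X, U) ⧸ (hU'.primeIdealOf ⟨genericPoint X, hξU⟩).asIdeal) :=
    trdeg_eq_of_resData ⊥ (hU'.primeIdealOf ⟨genericPoint X, hξU⟩).asIdeal
      (RingHom.id _) (RingHom.id _)
      ((RingHom.injective_iff_ker_eq_bot _).mp Function.injective_id)
      (by rw [hqξ]; exact (RingHom.injective_iff_ker_eq_bot _).mp Function.injective_id)
      (fun x => rfl) (fun z => ⟨z, 1, by simp, by simp⟩) (fun z => ⟨z, 1, by simp, by simp⟩)
  have hAB : Algebra.trdeg Γ(Y, V) Γ(X, U) = n := by rw [h2, ← h1]; exact hn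
  obtain ⟨q, hqp, hq0, hqh⟩ := exists_prime_under_bot_height_eq n hAB
  obtain ⟨x, hx⟩ := helper7.DimSch.exists_primeIdealOf_eq hU' ⟨q, hqp⟩
  refine ⟨x, ?_, ?_⟩
  · have h3 := hcomap x x.2
    have h4 : hV'.primeIdealOf ⟨f x, e x.2⟩ = hV'.primeIdealOf ⟨genericPoint Y, hηV⟩ := by
      apply PrimeSpectrum.ext
      rw [← h3, hpη]
      have : (hU'.primeIdealOf ⟨x, x.2⟩) = ⟨q, hqp⟩ := hx
      rw [this]
      exact hq0
    exact congrArg Subtype.val (helper7.DimSch.primeIdealOf_injective hV' h4)
  · have h5 := ringKrullDim_stalk_eq_coheight (x : X)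
    have h6 := helper7.DimSch.ringKrullDim_stalk_eq_height hU' x x.2
    have : (hU'.primeIdealOf ⟨x, x.2⟩) = ⟨q, hqp⟩ := hx
    rw [this] at h6
    change ringKrullDim _ = ((q.height : ℕ∞) : WithBot ℕ∞) at h6
    rw [hqh, h5] at h6
    exact_mod_cast h6

end Groth.Agent.Lib.helper26.DimIneq
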