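import Mathlib
import Groth.Agent.Lib.helper26.DimIneq
import Groth.Agent.Lib.helper26.CatHt

universe u
open Polynomial Ideal Cardinal

namespace Groth.Agent.Lib.helper26.DimIneq

theorem isUniversallyCatenary_of_finiteType {R R' : Type u} [CommRing R] [CommRing R']
    [Algebra R R'] [Algebra.FiniteType R R'] (h : CAlg.IsUniversallyCatenary R) :
    CAlg.IsUniversallyCatenary R' := by
  haveI := h.1
  refine ⟨Algebra.FiniteType.isNoetherianRing R R', fun T _ _ hT => ?_⟩
  letI : Algebra R T := ((algebraMap R' T).comp (algebraMap R R')).toAlgebra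
  haveI : IsScalarTower R R' T := IsScalarTower.of_algebraMap_eq' rfl
  exact h.2 T (Algebra.FiniteType.trans ‹Algebra.FiniteType R R'› hT)

section one
variable {R : Type u} [CommRing R] [IsDomain R] [IsNoetherianRing R]
  {S : Type u} [CommRing S] [IsDomain S] [Algebra R S] [FaithfulSMul R S]

theorem eq_of_adjoin_singleton (hcat : CAlg.IsCatenary R[X]) (t : S)
    (ht : Algebra.adjoin R {t} = ⊤)
    (p : Ideal R) [p.IsPrime] (q : Ideal S) [q.IsPrime] [q.LiesOver p] :
    (q.height : Cardinal.{u}) + Algebra.trdeg (R ⧸ p) (S ⧸ q) =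
      (p.height : Cardinal.{u}) + Algebra.trdeg R S := by
  classical
  let φ : R[X] →ₐ[R] S := Polynomial.aeval t
  have hφ : Function.Surjective φ := by
    rw [← AlgHom.range_eq_top, ← Algebra.adjoin_singleton_eq_range_aeval]; exact ht
  let Q : Ideal R[X] := q.comap φ
  haveI : Q.IsPrime := Ideal.comap_isPrime φ q
  haveI : Q.LiesOver p := Ideal.LiesOver.of_eq_comap p φ rfl
  have hSnoeth : IsNoetherianRing S := isNoetherianRing_of_surjective R[X] S φ.toRingHom hφ
  let t' : S ⧸ q := Ideal.Quotient.mk q t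
  let ψ : (R ⧸ p)[X] →ₐ[R ⧸ p] (S ⧸ q) := Polynomial.aeval t'
  have hψφ : ∀ f : R[X], ψ (f.map (Ideal.Quotient.mk p)) = Ideal.Quotient.mk q (φ f) := by
    intro f
    have h1 : ψ (f.map (Ideal.Quotient.mk p)) = Polynomial.aeval t' f :=
      Polynomial.aeval_map_algebraMap (R ⧸ p) t' f
    rw [h1]
    have h2 : Polynomial.aeval t' f = (Ideal.Quotient.mkₐ R q) (Polynomial.aeval t f) :=
      Polynomial.aeval_algHom_apply (Ideal.Quotient.mkₐ R q) t f
    rw [h2]; rfl
  have hψ : Function.Surjective ψ := by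
    intro y
    obtain ⟨s, rfl⟩ := Ideal.Quotient.mk_surjective y
    obtain ⟨f, rfl⟩ := hφ s
    exact ⟨_, hψφ f⟩
  have hA1 : Algebra.trdeg (R ⧸ p) (S ⧸ q) ≤ 1 := by
    have := lift_trdeg_le_of_surjective ψ hψ
    simpa using this
  have hle : p.map C ≤ Q := by
    rw [Ideal.map_le_iff_le_comap]
    intro a ha
    rw [Ideal.LiesOver.over (P := Q) (p := p)] at ha
    simpa [Ideal.under_def, Polynomial.algebraMap_eq] using ha
  have hA3 : Q ≠ p.map C → Algebra.trdeg (R ⧸ p) (S ⧸ q) = 0 := by
    intro hne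
    obtain ⟨f, hfQ, hfp⟩ : ∃ f ∈ Q, f ∉ p.map C := by
      by_contra h; push Not at h; exact hne (le_antisymm h hle)
    have hf0 : f.map (Ideal.Quotient.mk p) ≠ 0 := by
      intro h0; apply hfp; rw [Ideal.mem_map_C_iff]; intro n
      have := congrArg (fun g => g.coeff n) h0
      simpa [Ideal.Quotient.eq_zero_iff_mem] using this
    have halg : IsAlgebraic (R ⧸ p) t' :=
      ⟨_, hf0, by
        rw [show Polynomial.aeval t' _ = ψ _ from rfl, hψφ]
        exact Ideal.Quotient.eq_zero_iff_mem.mpr hfQ⟩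
    have : Algebra.IsAlgebraic (R ⧸ p) (S ⧸ q) := by
      refine ⟨fun y => ?_⟩
      obtain ⟨g, rfl⟩ := hψ y
      rw [← Subalgebra.mem_algebraicClosure]
      have h1 : t' ∈ Subalgebra.algebraicClosure (R ⧸ p) (S ⧸ q) :=
        (Subalgebra.mem_algebraicClosure _ _).mpr halg
      exact Algebra.adjoin_singleton_le h1 (Polynomial.aeval_mem_adjoin_singleton _ t')
    exact trdeg_eq_zero
  have hA4 : Q = p.map C → (1 : Cardinal.{u}) ≤ Algebra.trdeg (R ⧸ p) (S ⧸ q) := by
    intro hQ
    have hinj : Function.Injective ψ := by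
      rw [injective_iff_map_eq_zero]
      intro g hg
      obtain ⟨f, rfl⟩ := Polynomial.map_surjective _ Ideal.Quotient.mk_surjective g
      rw [hψφ, Ideal.Quotient.eq_zero_iff_mem] at hg
      have hfQ : f ∈ Q := hg
      rw [hQ, Ideal.mem_map_C_iff] at hfQ
      ext n
      rw [Polynomial.coeff_map, Polynomial.coeff_zero]
      exact Ideal.Quotient.eq_zero_iff_mem.mpr (hfQ n)
    have htr : Transcendental (R ⧸ p) t' := transcendental_iff_injective.mpr hinj
    have := (algebraicIndependent_unique_type_iff (ι := PUnit.{u+1}) (x := fun _ => t')).mpr htr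
    simpa using this.cardinalMk_le_trdeg
  have hE1 : (Q.height : Cardinal.{u}) + Algebra.trdeg (R ⧸ p) (S ⧸ q) =
      (p.height : Cardinal.{u}) + 1 := by
    by_cases hQ : Q = p.map C
    · have : Q.height = p.height := by rw [hQ]; exact helper7.PolyHt.height_map_C R p
      rw [this, le_antisymm hA1 (hA4 hQ)]
    · have : Q.height = p.height + 1 := helper7.PolyHt.height_eq_add_one R p Q hQ
      rw [this, hA3 hQ, add_zero, Cardinal.ofENat_add]
      simp
  have hS1 : Algebra.trdeg R S ≤ 1 := by
    have := lift_trdeg_le_of_surjective φ hφ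
    simpa using this
  by_cases hker : RingHom.ker (φ : R[X] →+* S) = ⊥
  · have hinj : Function.Injective φ := (RingHom.injective_iff_ker_eq_bot _).mpr hker
    let e : R[X] ≃+* S := RingEquiv.ofBijective (φ : R[X] →+* S) ⟨hinj, hφ⟩
    have hqQ : q.height = Q.height := (e.height_comap q).symm
    have h1 : (1 : Cardinal.{u}) ≤ Algebra.trdeg R S := by
      have htr : Transcendental R t := transcendental_iff_injective.mpr hinj
      have := (algebraicIndependent_unique_type_iff (ι := PUnit.{u+1}) (x := fun _ => t)).mpr htr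
      simpa using this.cardinalMk_le_trdeg
    rw [hqQ, hE1, le_antisymm hS1 h1]
  · have h2 : q.height + 1 ≤ Q.height :=
      height_add_one_le_comap (φ : R[X] →+* S) hφ hker q
    haveI hPprime : (RingHom.ker (φ : R[X] →+* S)).IsPrime := RingHom.ker_isPrime _
    have hPC : (RingHom.ker (φ : R[X] →+* S)).comap (C : R →+* R[X]) = ⊥ := by
      rw [eq_bot_iff]
      intro a ha
      rw [Ideal.mem_comap, RingHom.mem_ker] at ha
      have h0 : algebraMap R S a = 0 := by
        have : (φ : R[X] →+* S) (C a) = algebraMap R S a := by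
          change Polynomial.aeval t (C a) = _
          rw [Polynomial.aeval_C]
        rw [← this]; exact ha
      rw [Ideal.mem_bot]
      exact FaithfulSMul.algebraMap_injective R S (by rw [h0, map_zero])
    have hP1 : (RingHom.ker (φ : R[X] →+* S)).height = 1 :=
      helper7.PolyHt.height_eq_one_of_comap_C_eq_bot _ hker hPC
    have h3 : Q.height ≤ (RingHom.ker (φ : R[X] →+* S)).height + q.height :=
      CatHt.height_comap_le_of_isCatenary hcat (φ : R[X] →+* S) hφ q
    rw [hP1] at h3
    have hQq : Q.height = q.height + 1 := le_antisymm (by rw [add_comm]; exact h3) h2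
    have hS0 : Algebra.trdeg R S = 0 := by
      obtain ⟨f, hfP, hf0⟩ := Submodule.exists_mem_ne_zero_of_ne_bot hker
      have halg : IsAlgebraic R t := ⟨f, hf0, hfP⟩
      have : Algebra.IsAlgebraic R S := by
        refine ⟨fun y => ?_⟩
        obtain ⟨g, rfl⟩ := hφ y
        rw [← Subalgebra.mem_algebraicClosure]
        have h1 : t ∈ Subalgebra.algebraicClosure R S :=
          (Subalgebra.mem_algebraicClosure _ _).mpr halg
        exact Algebra.adjoin_singleton_le h1 (Polynomial.aeval_mem_adjoin_singleton _ t)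
      exact trdeg_eq_zero
    rw [hQq, Cardinal.ofENat_add] at hE1
    rw [hS0, add_zero]
    have h4 : ((q.height : Cardinal.{u}) + Algebra.trdeg (R ⧸ p) (S ⧸ q)) + 1 =
        (p.height : Cardinal.{u}) + 1 := by
      rw [← hE1]; simp; ring
    apply le_antisymm
    · exact (Cardinal.add_le_add_iff_of_lt_aleph0 (γ := 1) Cardinal.one_lt_aleph0).mp h4.le
    · exact (Cardinal.add_le_add_iff_of_lt_aleph0 (γ := 1) Cardinal.one_lt_aleph0).mp h4.ge

end one

theorem eq_trans {R R' S : Type u} [CommRing R] [IsDomain R] [CommRing R'] [IsDomain R']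
    [CommRing S] [IsDomain S]
    [Algebra R R'] [Algebra R' S] [Algebra R S] [IsScalarTower R R' S] [FaithfulSMul R R']
    [FaithfulSMul R' S]
    (p : Ideal R) [p.IsPrime] (p' : Ideal R') [p'.IsPrime] (q : Ideal S) [q.IsPrime]
    [p'.LiesOver p] [q.LiesOver p'] [q.LiesOver p]
    (h1 : (p'.height : Cardinal.{u}) + Algebra.trdeg (R ⧸ p) (R' ⧸ p') =
      (p.height : Cardinal.{u}) + Algebra.trdeg R R')
    (h2 : (q.height : Cardinal.{u}) + Algebra.trdeg (R' ⧸ p') (S ⧸ q) =
      (p'.height : Cardinal.{u}) + Algebra.trdeg R' S) :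
    (q.height : Cardinal.{u}) + Algebra.trdeg (R ⧸ p) (S ⧸ q) =
      (p.height : Cardinal.{u}) + Algebra.trdeg R S := by
  have : IsScalarTower (R ⧸ p) (R' ⧸ p') (S ⧸ q) := IsScalarTower.of_algebraMap_eq <| by
    rintro ⟨x⟩
    change Ideal.Quotient.mk q (algebraMap R S x) =
      Ideal.Quotient.mk q (algebraMap R' S (algebraMap R R' x))
    rw [IsScalarTower.algebraMap_apply R R' S]
  have e1 : Algebra.trdeg R R' + Algebra.trdeg R' S = Algebra.trdeg R S :=
    trdeg_add_eq R R'
  have e2 : Algebra.trdeg (R ⧸ p) (R' ⧸ p') + Algebra.trdeg (R' ⧸ p') (S ⧸ q) =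
      Algebra.trdeg (R ⧸ p) (S ⧸ q) :=
    trdeg_add_eq (R ⧸ p) (R' ⧸ p')
  rw [← e1, ← e2]
  calc (q.height : Cardinal.{u}) +
        (Algebra.trdeg (R ⧸ p) (R' ⧸ p') + Algebra.trdeg (R' ⧸ p') (S ⧸ q))
      = ((q.height : Cardinal.{u}) + Algebra.trdeg (R' ⧸ p') (S ⧸ q)) +
          Algebra.trdeg (R ⧸ p) (R' ⧸ p') := by ring
    _ = ((p'.height : Cardinal.{u}) + Algebra.trdeg R' S) + Algebra.trdeg (R ⧸ p) (R' ⧸ p') := by
        rw [h2]
    _ = ((p'.height : Cardinal.{u}) + Algebra.trdeg (R ⧸ p) (R' ⧸ p')) + Algebra.trdeg R' S := by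
        ring
    _ = ((p.height : Cardinal.{u}) + Algebra.trdeg R R') + Algebra.trdeg R' S := by rw [h1]
    _ = _ := by ring

theorem eq_of_adjoin_finset (n : ℕ) : ∀ (R : Type u) [CommRing R] [IsDomain R]
    (_ : CAlg.IsUniversallyCatenary R) (S : Type u) [CommRing S] [IsDomain S] [Algebra R S]
    [FaithfulSMul R S]
    (s : Finset S), s.card = n → Algebra.adjoin R (s : Set S) = ⊤ →
    ∀ (p : Ideal R) [p.IsPrime] (q : Ideal S) [q.IsPrime] [q.LiesOver p],
    (q.height : Cardinal.{u}) + Algebra.trdeg (R ⧸ p) (S ⧸ q) =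
      (p.height : Cardinal.{u}) + Algebra.trdeg R S := by
  classical
  induction n with
  | zero =>
    intro R _ _ hR S _ _ _ _ s hs hadj p _ q _ _
    haveI := hR.1
    rw [Finset.card_eq_zero] at hs
    subst hs
    refine eq_of_adjoin_singleton (hR.2 R[X] inferInstance) (0 : S) ?_ p q
    rw [eq_top_iff, ← hadj]
    exact Algebra.adjoin_mono (by simp)
  | succ n ih =>
    intro R _ _ hR S _ _ _ _ s hs hadj p _ q _ _
    haveI := hR.1
    obtain ⟨t, s', hts', rfl, hcard⟩ := Finset.card_eq_succ.mp hs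
    let R' : Subalgebra R S := Algebra.adjoin R {t}
    have : Algebra.FiniteType R R' :=
      (Subalgebra.fg_iff_finiteType R').mp ⟨{t}, by simp [R']⟩
    have hR' : CAlg.IsUniversallyCatenary R' := isUniversallyCatenary_of_finiteType hR
    have : IsNoetherianRing R' := hR'.1
    have : FaithfulSMul R' S :=
      (faithfulSMul_iff_algebraMap_injective R' S).mpr Subtype.val_injective
    have : FaithfulSMul R R' :=
      (faithfulSMul_iff_algebraMap_injective R R').mpr (fun a b h =>
        FaithfulSMul.algebraMap_injective R S (by simpa using congrArg Subtype.val h))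
    have hadj' : Algebra.adjoin R' (s' : Set S) = ⊤ := by
      apply Subalgebra.restrictScalars_injective R
      rw [Subalgebra.restrictScalars_top, ← hadj, Finset.coe_insert, Set.insert_eq,
        Algebra.adjoin_union_eq_adjoin_adjoin]
    let p' : Ideal R' := q.under R'
    let t' : R' := ⟨t, Algebra.subset_adjoin (Set.mem_singleton t)⟩
    have ht' : Algebra.adjoin R {t'} = ⊤ := by
      have := Algebra.adjoin_adjoin_coe_preimage (R := R) (s := ({t} : Set S))
      convert this using 2
      ext x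
      simp [t', Subtype.ext_iff]
    exact eq_trans p p' q (eq_of_adjoin_singleton (hR.2 R[X] inferInstance) t' ht' p p')
      (ih R' hR' S s' hcard hadj' p' q)

theorem dimension_formula (R : Type u) [CommRing R] [IsDomain R]
    (hR : CAlg.IsUniversallyCatenary R) (S : Type u) [CommRing S] [IsDomain S] [Algebra R S]
    [FaithfulSMul R S] [Algebra.FiniteType R S] (p : Ideal R) [p.IsPrime] (q : Ideal S) [q.IsPrime]
    [q.LiesOver p] :
    (q.height : Cardinal.{u}) + Algebra.trdeg (R ⧸ p) (S ⧸ q) =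
      (p.height : Cardinal.{u}) + Algebra.trdeg R S := by
  obtain ⟨s, hs⟩ := (Algebra.FiniteType.out : (⊤ : Subalgebra R S).FG)
  exact eq_of_adjoin_finset s.card R hR S s rfl hs p q

end Groth.Agent.Lib.helper26.DimIneq
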