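import Mathlib
import Groth.Agent.S0552
import Groth.Agent.S9126

universe u
open TensorProduct

namespace Groth.Agent.Lib.helper26.UCLocal

attribute [local instance] Algebra.TensorProduct.rightAlgebra in
theorem isUniversallyCatenary_of_localization_maximal (R : Type u) [CommRing R]
    [IsNoetherianRing R]
    (h : ∀ (m : Ideal R) [m.IsMaximal], CAlg.IsUniversallyCatenary (Localization.AtPrime m)) :
    CAlg.IsUniversallyCatenary R := by
  refine ⟨inferInstance, fun T _ _ hT => ?_⟩
  apply Groth.Agent.S0552.isCatenary_of_lower_embeddings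
  intro Q
  obtain ⟨m, hm, hQm⟩ := Ideal.exists_le_maximal (Q.asIdeal.comap (algebraMap R T))
    (Ideal.comap_ne_top _ Q.2.ne_top)
  let Rm := Localization.AtPrime m
  let B := Rm ⊗[R] T
  let M := Algebra.algebraMapSubmonoid T m.primeCompl
  haveI : IsLocalization M B := IsLocalization.tensorRight Rm m.primeCompl
  haveI : Algebra.FiniteType Rm B := inferInstance
  have hB : CAlg.IsCatenary B := (h m).2 B inferInstance
  refine ⟨B, inferInstance, PrimeSpectrum.comap (algebraMap T B), ?_, ?_, hB⟩
  · intro a b
    constructor
    · intro hab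
      have h1 : a.asIdeal.comap (algebraMap T B) ≤ b.asIdeal.comap (algebraMap T B) := hab
      have h2 := Ideal.map_mono (f := algebraMap T B) h1
      rw [IsLocalization.map_comap M, IsLocalization.map_comap M] at h2
      exact h2
    · intro hab
      exact Ideal.comap_mono hab
  · intro y hy
    have hy' : y ∈ Set.range (PrimeSpectrum.comap (algebraMap T B)) := by
      rw [PrimeSpectrum.localization_comap_range B M]
      show Disjoint (M : Set T) y.asIdeal
      rw [Set.disjoint_left]
      rintro _ ⟨r, hr, rfl⟩ hxy
      exact hr (hQm (hy hxy))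
    exact hy'

theorem isUniversallyCatenary_of_ringEquiv {R R' : Type u} [CommRing R] [CommRing R']
    (e : R ≃+* R') (h : CAlg.IsUniversallyCatenary R) : CAlg.IsUniversallyCatenary R' := by
  haveI := h.1
  refine ⟨isNoetherianRing_of_ringEquiv R e, fun T _ _ hT => ?_⟩
  letI : Algebra R T := ((algebraMap R' T).comp (e : R →+* R')).toAlgebra
  refine h.2 T ?_
  obtain ⟨s, hs⟩ := hT.out
  refine ⟨⟨s, ?_⟩⟩
  rw [eq_top_iff]
  intro x hxtop
  clear hxtop
  have hx : x ∈ Algebra.adjoin R' (s : Set T) := by rw [hs]; trivial
  induction hx using Algebra.adjoin_induction with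
  | mem x hx => exact Algebra.subset_adjoin hx
  | algebraMap r =>
    have : algebraMap R' T r = algebraMap R T (e.symm r) := by
      change _ = algebraMap R' T (e (e.symm r)); rw [e.apply_symm_apply]
    rw [this]; exact Subalgebra.algebraMap_mem _ _
  | add x y _ _ hx hy => exact Subalgebra.add_mem _ hx hy
  | mul x y _ _ hx hy => exact Subalgebra.mul_mem _ hx hy

end Groth.Agent.Lib.helper26.UCLocal
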