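import Mathlib
import Groth.Agent.Lib.helper26.DimEq
import Groth.Agent.Lib.helper26.DimFormEq
import Groth.Agent.Lib.helper26.UCLocal

universe u
open AlgebraicGeometry CategoryTheory Ideal Cardinal

namespace Groth.Agent.Lib.helper26.DimIneq

/-- Step A: affine opens of a locally Noetherian scheme with universally catenary stalks have
universally catenary rings of sections. -/
theorem isUniversallyCatenary_of_stalks {Y : Scheme.{u}} [IsLocallyNoetherian Y]
    (hY : ∀ y : Y, CAlg.IsUniversallyCatenary (Y.presheaf.stalk y)) {V : Y.Opens}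
    (hV : IsAffineOpen V) : CAlg.IsUniversallyCatenary Γ(Y, V) := by
  haveI : IsNoetherianRing Γ(Y, V) := IsLocallyNoetherian.component_noetherian ⟨V, hV⟩
  apply UCLocal.isUniversallyCatenary_of_localization_maximal
  intro m hm
  obtain ⟨y, hy⟩ := helper7.DimSch.exists_primeIdealOf_eq hV ⟨m, hm.isPrime⟩
  letI := Y.presheaf.algebra_section_stalk y
  haveI := hV.isLocalization_stalk y
  have hm' : m = (hV.primeIdealOf y).asIdeal := by rw [hy]
  subst hm'
  exact UCLocal.isUniversallyCatenary_of_ringEquiv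
    (IsLocalization.algEquiv (hV.primeIdealOf y).asIdeal.primeCompl (Y.presheaf.stalk y)
      (Localization.AtPrime (hV.primeIdealOf y).asIdeal)).toRingEquiv (hY y)

/-- Step B: dimension formula with quotients. -/
theorem dim_eq_quot {A B : Type u} [CommRing A] (hA : CAlg.IsUniversallyCatenary A) [CommRing B]
    [Algebra A B] [Algebra.FiniteType A B]
    (q₀ q : Ideal B) [q₀.IsPrime] [q.IsPrime] (h : q₀ ≤ q) (p₀ p : Ideal A) [p₀.IsPrime]
    [p.IsPrime] [q₀.LiesOver p₀] [q.LiesOver p] :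
    ((q.map (Ideal.Quotient.mk q₀)).height : Cardinal.{u}) + Algebra.trdeg (A ⧸ p) (B ⧸ q) =
      ((p.map (Ideal.Quotient.mk p₀)).height : Cardinal.{u}) +
        Algebra.trdeg (A ⧸ p₀) (B ⧸ q₀) := by
  haveI := hA.1
  have hp : p₀ ≤ p := by
    rw [q₀.over_def p₀, q.over_def p]; exact Ideal.comap_mono h
  set pb := p.map (Ideal.Quotient.mk p₀) with hpb
  set qb := q.map (Ideal.Quotient.mk q₀) with hqb
  haveI : pb.IsPrime := Ideal.isPrime_map_quotientMk_of_isPrime hp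
  haveI : qb.IsPrime := Ideal.isPrime_map_quotientMk_of_isPrime h
  haveI : qb.LiesOver pb := ⟨by
    ext x
    obtain ⟨x, rfl⟩ := Ideal.Quotient.mk_surjective x
    rw [Ideal.under_def, Ideal.mem_comap, Ideal.Quotient.algebraMap_mk_of_liesOver,
      Ideal.mem_quotient_iff_mem hp, Ideal.mem_quotient_iff_mem h, q.over_def p]
    rfl⟩
  haveI : Algebra.FiniteType (A ⧸ p₀) (B ⧸ q₀) :=
    Algebra.FiniteType.of_restrictScalars_finiteType A (A ⧸ p₀) (B ⧸ q₀)
  have hA' : CAlg.IsUniversallyCatenary (A ⧸ p₀) := isUniversallyCatenary_of_finiteType hA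
  have key := dimension_formula (A ⧸ p₀) hA' (B ⧸ q₀) pb qb
  have e : Algebra.trdeg (A ⧸ p) (B ⧸ q) = Algebra.trdeg ((A ⧸ p₀) ⧸ pb) ((B ⧸ q₀) ⧸ qb) := by
    refine trdeg_eq_of_resData pb qb (Ideal.Quotient.factor hp) (Ideal.Quotient.factor h)
      (Ideal.Quotient.factor_ker hp) (Ideal.Quotient.factor_ker h) ?_ ?_ ?_
    · rintro ⟨x⟩; rfl
    · intro z
      obtain ⟨x, rfl⟩ := Ideal.Quotient.mk_surjective z
      exact ⟨Ideal.Quotient.mk p₀ x, 1, by simp, by simp⟩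
    · intro z
      obtain ⟨x, rfl⟩ := Ideal.Quotient.mk_surjective z
      exact ⟨Ideal.Quotient.mk q₀ x, 1, by simp, by simp⟩
  rw [e]; exact key

theorem chart_formula {X Y : Scheme.{u}} [IsLocallyNoetherian Y]
    (hY : ∀ y : Y, CAlg.IsUniversallyCatenary (Y.presheaf.stalk y)) (f : X ⟶ Y)
    [LocallyOfFiniteType f]
    {V : Y.Opens} (hV : IsAffineOpen V) {U : X.Opens} (hU : IsAffineOpen U) (e : U ≤ f ⁻¹ᵁ V)
    (x ξ : X) (hx : x ∈ U) (hξ : ξ ∈ U) (hsp : ξ ⤳ x) :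
    (((hU.primeIdealOf ⟨x, hx⟩).asIdeal.map
        (Ideal.Quotient.mk (hU.primeIdealOf ⟨ξ, hξ⟩).asIdeal)).height : Cardinal.{u}) +
      @Algebra.trdeg (Y.residueField (f x)) (X.residueField x) _ _
        (f.residueFieldMap x).hom.toAlgebra =
    (((hV.primeIdealOf ⟨f x, e hx⟩).asIdeal.map
        (Ideal.Quotient.mk (hV.primeIdealOf ⟨f ξ, e hξ⟩).asIdeal)).height : Cardinal.{u}) +
      @Algebra.trdeg (Y.residueField (f ξ)) (X.residueField ξ) _ _
        (f.residueFieldMap ξ).hom.toAlgebra := by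
  letI : Algebra Γ(Y, V) Γ(X, U) := (f.appLE V U e).hom.toAlgebra
  haveI : Algebra.FiniteType Γ(Y, V) Γ(X, U) := f.finiteType_appLE hV hU e
  have hA := isUniversallyCatenary_of_stalks hY hV
  have hcomap : ∀ (z : X) (hz : z ∈ U), (hU.primeIdealOf ⟨z, hz⟩).asIdeal.under Γ(Y, V) =
      (hV.primeIdealOf ⟨f z, e hz⟩).asIdeal := fun z hz =>
    congrArg PrimeSpectrum.asIdeal
      (IsAffineOpen.comap_primeIdealOf_appLE (f := f) V hV U hU e hz)
  haveI : (hU.primeIdealOf ⟨x, hx⟩).asIdeal.LiesOver (hV.primeIdealOf ⟨f x, e hx⟩).asIdeal :=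
    ⟨(hcomap x hx).symm⟩
  haveI : (hU.primeIdealOf ⟨ξ, hξ⟩).asIdeal.LiesOver (hV.primeIdealOf ⟨f ξ, e hξ⟩).asIdeal :=
    ⟨(hcomap ξ hξ).symm⟩
  have hle : (hU.primeIdealOf ⟨ξ, hξ⟩).asIdeal ≤ (hU.primeIdealOf ⟨x, hx⟩).asIdeal :=
    (helper7.DimSch.primeIdealOf_le_iff hU ⟨ξ, hξ⟩ ⟨x, hx⟩).mpr hsp
  rw [trdeg_residueField_eq f hV hU e x hx (hV.primeIdealOf ⟨f x, e hx⟩).asIdeal,
    trdeg_residueField_eq f hV hU e ξ hξ (hV.primeIdealOf ⟨f ξ, e hξ⟩).asIdeal]
  exact dim_eq_quot hA _ _ hle _ _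

/-- In an irreducible scheme, on an affine chart with Noetherian ring of sections, the height of
a prime modulo the prime of the generic point is its height. -/
theorem height_map_quotient_genericPoint {Z : Scheme.{u}} [IrreducibleSpace Z] {U : Z.Opens}
    (hU : IsAffineOpen U) [IsNoetherianRing Γ(Z, U)] (z : Z) (hz : z ∈ U)
    (hζ : genericPoint Z ∈ U) :
    ((hU.primeIdealOf ⟨z, hz⟩).asIdeal.map
      (Ideal.Quotient.mk (hU.primeIdealOf ⟨genericPoint Z, hζ⟩).asIdeal)).height =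
      (hU.primeIdealOf ⟨z, hz⟩).asIdeal.height := by
  have hle : (hU.primeIdealOf ⟨genericPoint Z, hζ⟩).asIdeal ≤ (hU.primeIdealOf ⟨z, hz⟩).asIdeal :=
    (helper7.DimSch.primeIdealOf_le_iff hU ⟨genericPoint Z, hζ⟩ ⟨z, hz⟩).mpr
      (genericPoint_specializes z)
  apply le_antisymm (helper7.DimFT.height_map_quotient_le _ _ hle)
  obtain ⟨q₀, hmin, hle', hht⟩ :=
    helper7.DimFT.exists_minimalPrimes_height_le (hU.primeIdealOf ⟨z, hz⟩).asIdeal
  haveI : q₀.IsPrime := hmin.1.1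
  obtain ⟨ξ', hξ'⟩ := helper7.DimSch.exists_primeIdealOf_eq hU ⟨q₀, inferInstance⟩
  have hq₀ : q₀ = (hU.primeIdealOf ξ').asIdeal := by rw [hξ']
  subst hq₀
  have h1 := (helper7.DimSch.primeIdealOf_mem_minimalPrimes_iff hU ξ').mp hmin
  have h2 : genericPoint Z = ξ' := h1 _ (genericPoint_specializes _)
  have h3 : ξ' = ⟨genericPoint Z, hζ⟩ := Subtype.ext h2.symm
  rw [h3] at hht
  exact hht

theorem stalk_dim_eq_of_irreducible {X Y : Scheme.{u}} [IsLocallyNoetherian Y]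
    (hY : ∀ y : Y, CAlg.IsUniversallyCatenary (Y.presheaf.stalk y))
    [IrreducibleSpace X] [IrreducibleSpace Y] (f : X ⟶ Y) [LocallyOfFiniteType f] [IsDominant f]
    (x : X) :
    ∃ (hq hp : ℕ∞), ringKrullDim (X.presheaf.stalk x) = hq ∧
      ringKrullDim (Y.presheaf.stalk (f x)) = hp ∧
      (hq : Cardinal.{u}) + @Algebra.trdeg (Y.residueField (f x)) (X.residueField x) _ _
        (f.residueFieldMap x).hom.toAlgebra = (hp : Cardinal.{u}) +
        @Algebra.trdeg (Y.residueField (f (genericPoint X))) (X.residueField (genericPoint X)) _ _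
        (f.residueFieldMap (genericPoint X)).hom.toAlgebra := by
  obtain ⟨_, ⟨V, hV, rfl⟩, hsV, -⟩ := Y.isBasis_affineOpens.exists_subset_of_mem_open
    (Set.mem_univ (f x)) isOpen_univ
  obtain ⟨_, ⟨U, hU, rfl⟩, hxU, hUV⟩ := X.isBasis_affineOpens.exists_subset_of_mem_open
    (show x ∈ ((f ⁻¹ᵁ V : X.Opens) : Set X) from hsV) (f ⁻¹ᵁ V).isOpen
  have e : U ≤ f ⁻¹ᵁ V := hUV
  have hV' : IsAffineOpen V := hV
  have hU' : IsAffineOpen U := hU
  have hξU : genericPoint X ∈ U :=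
    ((genericPoint_spec X).mem_open_set_iff U.isOpen).mpr ⟨x, trivial, hxU⟩
  letI : Algebra Γ(Y, V) Γ(X, U) := (f.appLE V U e).hom.toAlgebra
  haveI : IsNoetherianRing Γ(Y, V) := IsLocallyNoetherian.component_noetherian ⟨V, hV⟩
  haveI : Algebra.FiniteType Γ(Y, V) Γ(X, U) := f.finiteType_appLE hV' hU' e
  haveI : IsNoetherianRing Γ(X, U) := Algebra.FiniteType.isNoetherianRing Γ(Y, V) Γ(X, U)
  have key := chart_formula hY f hV' hU' e x (genericPoint X) hxU hξU (genericPoint_specializes x)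
  have hfξ : f (genericPoint X) = genericPoint Y := map_genericPoint f
  have hηV : genericPoint Y ∈ V := hfξ ▸ e hξU
  have h1 := height_map_quotient_genericPoint hU' x hxU hξU
  have h2 := height_map_quotient_genericPoint hV' (f x) (e hxU) hηV
  have h3 : (⟨f (genericPoint X), e hξU⟩ : V) = ⟨genericPoint Y, hηV⟩ := Subtype.ext hfξ
  rw [h3, h2, h1] at key
  exact ⟨_, _, helper7.DimSch.ringKrullDim_stalk_eq_height hU' x hxU,
    helper7.DimSch.ringKrullDim_stalk_eq_height hV' (f x) (e hxU), key⟩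

end Groth.Agent.Lib.helper26.DimIneq
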