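import Mathlib
import Groth.Agent.Lib.helper26.CatHt

universe u
open Ideal

namespace Groth.Agent.Lib.helper26.CatHt

/-- general inequality: `ht (ker φ) + ht q ≤ ht (φ⁻¹ q)` for surjective `φ` with prime kernel. -/
theorem height_ker_add_le_height_comap {D E : Type*} [CommRing D] [CommRing E] (φ : D →+* E)
    (hφ : Function.Surjective φ) [hK : (RingHom.ker φ).IsPrime] (q : Ideal E) [q.IsPrime] :
    (RingHom.ker φ).height + q.height ≤ (q.comap φ).height := by
  let K : PrimeSpectrum D := ⟨RingHom.ker φ, hK⟩
  let qE : PrimeSpectrum E := ⟨q, inferInstance⟩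
  let Q : PrimeSpectrum D := ⟨q.comap φ, inferInstance⟩
  rw [show (RingHom.ker φ).height = Order.height K from PrimeSpectrum.height_eq_orderHeight K,
    show q.height = Order.height qE from PrimeSpectrum.height_eq_orderHeight qE,
    show (q.comap φ).height = Order.height Q from PrimeSpectrum.height_eq_orderHeight Q,
    Order.height_eq_iSup_last_eq K, Order.height_eq_iSup_last_eq qE, iSup_subtype', iSup_subtype']
  haveI : Nonempty {p : LTSeries (PrimeSpectrum D) // p.last = K} :=
    ⟨⟨RelSeries.singleton _ K, rfl⟩⟩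
  haveI : Nonempty {p : LTSeries (PrimeSpectrum E) // p.last = qE} :=
    ⟨⟨RelSeries.singleton _ qE, rfl⟩⟩
  refine ENat.iSup_add_iSup_le ?_
  rintro ⟨s₁, h₁⟩ ⟨s₂, h₂⟩
  let s₂' : LTSeries (PrimeSpectrum D) :=
    s₂.map (PrimeSpectrum.comap φ) (RingHom.strictMono_comap_of_surjective hφ)
  have hlast : s₂'.last = Q := by
    simp only [s₂', LTSeries.last_map, h₂]; rfl
  have hKle : K ≤ s₂'.head := by
    simp only [s₂', LTSeries.head_map]
    change RingHom.ker φ ≤ (s₂.head).asIdeal.comap φ
    rw [RingHom.ker_eq_comap_bot]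
    exact Ideal.comap_mono bot_le
  by_cases hh : s₂'.head = K
  · have := Order.length_le_height_last (p := RelSeries.smash s₁ s₂' (h₁.trans hh.symm))
    rw [RelSeries.last_smash, hlast] at this
    have hl : s₂'.length = s₂.length := rfl
    simpa [hl] using this
  · have hlt : s₁.last < s₂'.head := by rw [h₁]; exact lt_of_le_of_ne hKle (Ne.symm hh)
    have := Order.length_le_height_last (p := RelSeries.append s₁ s₂' hlt)
    rw [RelSeries.last_append, hlast] at this
    refine le_trans ?_ this
    simp only [RelSeries.append_length, s₂', LTSeries.map_length]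
    push_cast
    exact le_self_add

/-- In a catenary domain, heights are additive along quotients. -/
theorem height_comap_eq_of_isCatenary {D S : Type u} [CommRing D] [IsDomain D] [CommRing S]
    (hcat : CAlg.IsCatenary D) (φ : D →+* S) (hφ : Function.Surjective φ)
    [hP : (RingHom.ker φ).IsPrime] (q : Ideal S) [q.IsPrime] :
    (q.comap φ).height = (RingHom.ker φ).height + q.height :=
  le_antisymm (height_comap_le_of_isCatenary hcat φ hφ q) (height_ker_add_le_height_comap φ hφ q)

/-- Additivity of relative heights for primes `P₀' ≤ P₀ ≤ P` in a ring all of whose domain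
quotients are catenary. -/
theorem height_map_quotient_add {A : Type u} [CommRing A] (P₀' P₀ P : Ideal A) [P₀'.IsPrime]
    [P₀.IsPrime] [P.IsPrime] (h1 : P₀' ≤ P₀) (h2 : P₀ ≤ P) (hcat : CAlg.IsCatenary (A ⧸ P₀')) :
    (P.map (Ideal.Quotient.mk P₀')).height =
      (P₀.map (Ideal.Quotient.mk P₀')).height + (P.map (Ideal.Quotient.mk P₀)).height := by
  haveI : (RingHom.ker (Ideal.Quotient.factor h1)).IsPrime := by
    rw [Ideal.Quotient.factor_ker h1]
    exact Ideal.isPrime_map_quotientMk_of_isPrime h1
  haveI : (P.map (Ideal.Quotient.mk P₀)).IsPrime := Ideal.isPrime_map_quotientMk_of_isPrime h2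
  have key := height_comap_eq_of_isCatenary hcat (Ideal.Quotient.factor h1)
    (Ideal.Quotient.factor_surjective h1) (P.map (Ideal.Quotient.mk P₀))
  rw [Ideal.Quotient.factor_ker h1] at key
  rw [← key]
  congr 1
  ext x
  obtain ⟨a, rfl⟩ := Ideal.Quotient.mk_surjective x
  rw [Ideal.mem_comap, Ideal.Quotient.factor_mk, Ideal.mem_quotient_iff_mem h2,
    Ideal.mem_quotient_iff_mem (h1.trans h2)]

end Groth.Agent.Lib.helper26.CatHt
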