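import Mathlib
import Groth.Agent.Lib.helper26.DimFormSch

universe u
open AlgebraicGeometry CategoryTheory Ideal Cardinal

namespace Groth.Agent.Lib.helper26.DimIneq

/-- Step D (ring version): above any prime `q₁` over `p` there is a prime `q` over `p` with
algebraic residue extension. -/
theorem exists_prime_over_trdeg_zero {A B : Type u} [CommRing A] [IsNoetherianRing A]
    [CommRing B] [Algebra A B] [Algebra.FiniteType A B]
    (q₁ : Ideal B) [q₁.IsPrime] (p : Ideal A) [p.IsPrime] [q₁.LiesOver p] :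
    ∃ (q : Ideal B) (_ : q.IsPrime) (_ : q.LiesOver p), q₁ ≤ q ∧
      Algebra.trdeg (A ⧸ p) (B ⧸ q) = 0 := by
  haveI : Algebra.FiniteType (A ⧸ p) (B ⧸ q₁) :=
    Algebra.FiniteType.of_restrictScalars_finiteType A (A ⧸ p) (B ⧸ q₁)
  obtain ⟨n, hn⟩ := Cardinal.lt_aleph0.mp (trdeg_lt_aleph0_of_finiteType (R := A ⧸ p) (S := B ⧸ q₁))
  obtain ⟨qb, hqb, hqb0, hqbh⟩ := exists_prime_under_bot_height_eq n hn
  haveI : qb.LiesOver (⊥ : Ideal (A ⧸ p)) := ⟨hqb0.symm⟩
  have key := dimension_inequality (A ⧸ p) (B ⧸ q₁) ⊥ qb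
  rw [hqbh, hn, Ideal.height_bot] at key
  have ht0 : Algebra.trdeg ((A ⧸ p) ⧸ (⊥ : Ideal (A ⧸ p))) ((B ⧸ q₁) ⧸ qb) = 0 := by
    have h1 : Algebra.trdeg ((A ⧸ p) ⧸ (⊥ : Ideal (A ⧸ p))) ((B ⧸ q₁) ⧸ qb) + (n : Cardinal.{u}) ≤
        0 + (n : Cardinal.{u}) := by
      rw [add_comm]; simpa using key
    exact le_antisymm ((Cardinal.add_le_add_iff_of_lt_aleph0 (Cardinal.nat_lt_aleph0 n)).mp h1)
      (zero_le)
  let q : Ideal B := qb.comap (Ideal.Quotient.mk q₁)
  haveI hqprime : q.IsPrime := Ideal.comap_isPrime _ _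
  have hq₁q : q₁ ≤ q := by
    intro b hb
    change Ideal.Quotient.mk q₁ b ∈ qb
    rw [Ideal.Quotient.eq_zero_iff_mem.mpr hb]
    exact qb.zero_mem
  haveI hqp : q.LiesOver p := ⟨by
    ext a
    rw [Ideal.under_def, Ideal.mem_comap]
    change a ∈ p ↔ Ideal.Quotient.mk q₁ (algebraMap A B a) ∈ qb
    have h1 : Ideal.Quotient.mk q₁ (algebraMap A B a) =
        algebraMap (A ⧸ p) (B ⧸ q₁) (Ideal.Quotient.mk p a) := rfl
    rw [h1, ← Ideal.mem_comap, ← Ideal.under_def, hqb0, Ideal.mem_bot,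
      Ideal.Quotient.eq_zero_iff_mem]⟩
  refine ⟨q, hqprime, hqp, hq₁q, ?_⟩
  have hmap : q.map (Ideal.Quotient.mk q₁) = qb :=
    Ideal.map_comap_of_surjective _ Ideal.Quotient.mk_surjective qb
  have e := trdeg_eq_of_resData (A := A ⧸ p) (B := B ⧸ q₁) (k := A ⧸ p) (l := B ⧸ q) ⊥ qb
    (RingHom.id _) (Ideal.Quotient.factor hq₁q)
    ((RingHom.injective_iff_ker_eq_bot _).mp Function.injective_id)
    ((Ideal.Quotient.factor_ker hq₁q).trans hmap)
    (by rintro ⟨x⟩; rfl) (fun z => ⟨z, 1, by simp, by simp⟩)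
    (fun z => by
      obtain ⟨x, rfl⟩ := Ideal.Quotient.mk_surjective z
      exact ⟨Ideal.Quotient.mk q₁ x, 1, by simp, by simp⟩)
  rw [e, ht0]

/-- Step D (scheme version). -/
theorem exists_specialization_trdeg_zero {X Y : Scheme.{u}} [IsLocallyNoetherian Y] (f : X ⟶ Y)
    [LocallyOfFiniteType f] (x₁ : X) :
    ∃ x : X, x₁ ⤳ x ∧ f x = f x₁ ∧
      @Algebra.trdeg (Y.residueField (f x)) (X.residueField x) _ _
        (f.residueFieldMap x).hom.toAlgebra = 0 := by
  obtain ⟨_, ⟨V, hV, rfl⟩, hsV, -⟩ := Y.isBasis_affineOpens.exists_subset_of_mem_open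
    (Set.mem_univ (f x₁)) isOpen_univ
  obtain ⟨_, ⟨U, hU, rfl⟩, hxU, hUV⟩ := X.isBasis_affineOpens.exists_subset_of_mem_open
    (show x₁ ∈ ((f ⁻¹ᵁ V : X.Opens) : Set X) from hsV) (f ⁻¹ᵁ V).isOpen
  have e : U ≤ f ⁻¹ᵁ V := hUV
  have hV' : IsAffineOpen V := hV
  have hU' : IsAffineOpen U := hU
  letI : Algebra Γ(Y, V) Γ(X, U) := (f.appLE V U e).hom.toAlgebra
  haveI : IsNoetherianRing Γ(Y, V) := IsLocallyNoetherian.component_noetherian ⟨V, hV⟩
  haveI : Algebra.FiniteType Γ(Y, V) Γ(X, U) := f.finiteType_appLE hV' hU' e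
  have hcomap : ∀ (z : X) (hz : z ∈ U), (hU'.primeIdealOf ⟨z, hz⟩).asIdeal.under Γ(Y, V) =
      (hV'.primeIdealOf ⟨f z, e hz⟩).asIdeal := fun z hz =>
    congrArg PrimeSpectrum.asIdeal
      (IsAffineOpen.comap_primeIdealOf_appLE (f := f) V hV' U hU' e hz)
  haveI : (hU'.primeIdealOf ⟨x₁, hxU⟩).asIdeal.LiesOver
      (hV'.primeIdealOf ⟨f x₁, e hxU⟩).asIdeal := ⟨(hcomap x₁ hxU).symm⟩
  obtain ⟨q, hqprime, hqp, hle, htr⟩ := exists_prime_over_trdeg_zero
    (hU'.primeIdealOf ⟨x₁, hxU⟩).asIdeal (hV'.primeIdealOf ⟨f x₁, e hxU⟩).asIdeal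
  obtain ⟨x, hx⟩ := helper7.DimSch.exists_primeIdealOf_eq hU' ⟨q, hqprime⟩
  have hq : q = (hU'.primeIdealOf x).asIdeal := by rw [hx]
  subst hq
  have hfx : f x = f x₁ := by
    have h1 := hcomap x x.2
    have h2 : (hU'.primeIdealOf x).asIdeal.under Γ(Y, V) =
        (hV'.primeIdealOf ⟨f x₁, e hxU⟩).asIdeal := (hqp.over).symm
    have h4 : hV'.primeIdealOf ⟨f x, e x.2⟩ = hV'.primeIdealOf ⟨f x₁, e hxU⟩ := by
      apply PrimeSpectrum.ext
      rw [← h1]; exact h2
    exact congrArg Subtype.val (helper7.DimSch.primeIdealOf_injective hV' h4)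
  refine ⟨x, (helper7.DimSch.primeIdealOf_le_iff hU' ⟨x₁, hxU⟩ x).mp hle, hfx, ?_⟩
  rw [trdeg_residueField_eq f hV' hU' e x x.2 (hV'.primeIdealOf ⟨f x₁, e hxU⟩).asIdeal]
  exact htr

/-- Step E: a point over the generic point with large local dimension (irreducible version). -/
theorem exists_point_over_generic' {X Y : Scheme.{u}} [IrreducibleSpace X] [IrreducibleSpace Y]
    (f : X ⟶ Y) [IsDominant f] [LocallyOfFiniteType f] :
    ∃ n : ℕ, @Algebra.trdeg (Y.residueField (f (genericPoint X)))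
      (X.residueField (genericPoint X)) _ _
      (f.residueFieldMap (genericPoint X)).hom.toAlgebra = n ∧
      ∃ x : X, f x = genericPoint Y ∧ (n : ℕ∞) ≤ Order.coheight x := by
  have hfξ : f (genericPoint X) = genericPoint Y := map_genericPoint f
  obtain ⟨_, ⟨V, hV, rfl⟩, hηV, -⟩ := Y.isBasis_affineOpens.exists_subset_of_mem_open
    (Set.mem_univ (genericPoint Y)) isOpen_univ
  obtain ⟨_, ⟨U, hU, rfl⟩, hξU, hUV⟩ := X.isBasis_affineOpens.exists_subset_of_mem_open
    (show genericPoint X ∈ ((f ⁻¹ᵁ V : X.Opens) : Set X) from (by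
      change f (genericPoint X) ∈ V; rw [hfξ]; exact hηV)) (f ⁻¹ᵁ V).isOpen
  have e : U ≤ f ⁻¹ᵁ V := hUV
  have hV' : IsAffineOpen V := hV
  have hU' : IsAffineOpen U := hU
  letI : Algebra Γ(Y, V) Γ(X, U) := (f.appLE V U e).hom.toAlgebra
  haveI : Algebra.FiniteType Γ(Y, V) Γ(X, U) := f.finiteType_appLE hV' hU' e
  have hcomap : ∀ (z : X) (hz : z ∈ U), (hU'.primeIdealOf ⟨z, hz⟩).asIdeal.under Γ(Y, V) =
      (hV'.primeIdealOf ⟨f z, e hz⟩).asIdeal := fun z hz =>
    congrArg PrimeSpectrum.asIdeal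
      (IsAffineOpen.comap_primeIdealOf_appLE (f := f) V hV' U hU' e hz)
  set q₀ := (hU'.primeIdealOf ⟨genericPoint X, hξU⟩).asIdeal with hq₀
  set p₀ := (hV'.primeIdealOf ⟨f (genericPoint X), e hξU⟩).asIdeal with hp₀
  haveI : q₀.LiesOver p₀ := ⟨(hcomap _ hξU).symm⟩
  haveI : Algebra.FiniteType (Γ(Y, V) ⧸ p₀) (Γ(X, U) ⧸ q₀) :=
    Algebra.FiniteType.of_restrictScalars_finiteType Γ(Y, V) _ _
  obtain ⟨n, hn⟩ := Cardinal.lt_aleph0.mp
    (trdeg_lt_aleph0_of_finiteType (R := Γ(Y, V) ⧸ p₀) (S := Γ(X, U) ⧸ q₀))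
  refine ⟨n, ?_, ?_⟩
  · rw [trdeg_residueField_eq f hV' hU' e _ hξU p₀]; exact hn
  obtain ⟨qb, hqb, hqb0, hqbh⟩ := exists_prime_under_bot_height_eq n hn
  let q : Ideal Γ(X, U) := qb.comap (Ideal.Quotient.mk q₀)
  haveI hqprime : q.IsPrime := Ideal.comap_isPrime _ _
  have hq₀q : q₀ ≤ q := by
    intro b hb
    change Ideal.Quotient.mk q₀ b ∈ qb
    rw [Ideal.Quotient.eq_zero_iff_mem.mpr hb]
    exact qb.zero_mem
  have hqp : q.under Γ(Y, V) = p₀ := by
    ext a
    rw [Ideal.under_def, Ideal.mem_comap]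
    change Ideal.Quotient.mk q₀ (algebraMap Γ(Y, V) Γ(X, U) a) ∈ qb ↔ a ∈ p₀
    have h1 : Ideal.Quotient.mk q₀ (algebraMap Γ(Y, V) Γ(X, U) a) =
        algebraMap (Γ(Y, V) ⧸ p₀) (Γ(X, U) ⧸ q₀) (Ideal.Quotient.mk p₀ a) := rfl
    rw [h1, ← Ideal.mem_comap, ← Ideal.under_def, hqb0, Ideal.mem_bot,
      Ideal.Quotient.eq_zero_iff_mem]
  obtain ⟨x, hx⟩ := helper7.DimSch.exists_primeIdealOf_eq hU' ⟨q, hqprime⟩
  have hxq : (hU'.primeIdealOf x).asIdeal = q := by rw [hx]
  refine ⟨x, ?_, ?_⟩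
  · have h1 := hcomap x x.2
    rw [hxq, hqp] at h1
    have h4 : hV'.primeIdealOf ⟨f x, e x.2⟩ = hV'.primeIdealOf ⟨f (genericPoint X), e hξU⟩ := by
      apply PrimeSpectrum.ext
      rw [← h1]
    rw [← hfξ]
    exact congrArg Subtype.val (helper7.DimSch.primeIdealOf_injective hV' h4)
  · have h5 := ringKrullDim_stalk_eq_coheight (x : X)
    have h6 := helper7.DimSch.ringKrullDim_stalk_eq_height hU' x x.2
    rw [hxq, h5] at h6
    have hmap : q.map (Ideal.Quotient.mk q₀) = qb :=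
      Ideal.map_comap_of_surjective _ Ideal.Quotient.mk_surjective qb
    have h7 := helper7.DimFT.height_map_quotient_le q₀ q hq₀q
    rw [hmap, hqbh] at h7
    have h8 : ((Order.coheight (x : X) : ℕ∞) : WithBot ℕ∞) = ((q.height : ℕ∞) : WithBot ℕ∞) := h6
    have h9 : Order.coheight (x : X) = q.height := WithBot.coe_injective h8
    rw [h9]; exact h7

theorem coheight_genericPoint {Y : Scheme.{u}} [IrreducibleSpace Y] :
    Order.coheight (genericPoint Y) = 0 := by
  rw [Order.coheight_eq_zero]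
  intro b _
  exact Scheme.le_iff_specializes.mpr (genericPoint_specializes b)

theorem coheight_fiberι {X Y : Scheme.{u}} [IrreducibleSpace Y] (f : X ⟶ Y)
    (a : f.fiber (genericPoint Y)) :
    Order.coheight a = Order.coheight (f.fiberι (genericPoint Y) a) := by
  have hemb := (f.fiberι (genericPoint Y)).isEmbedding
  have hsp : ∀ a b : f.fiber (genericPoint Y),
      f.fiberι (genericPoint Y) a ⤳ f.fiberι (genericPoint Y) b ↔ a ⤳ b :=
    fun a b => hemb.isInducing.specializes_iff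
  refine Order.coheight_eq_of_strictMono (f.fiberι (genericPoint Y)) ?_ ?_ a
  · intro a b hab
    rw [lt_iff_le_not_ge] at hab ⊢
    exact ⟨Scheme.le_iff_specializes.mpr ((hsp _ _).mpr (Scheme.le_iff_specializes.mp hab.1)),
      fun h => hab.2 (Scheme.le_iff_specializes.mpr
        ((hsp _ _).mp (Scheme.le_iff_specializes.mp h)))⟩
  · intro a b hab
    have h1 : b ⤳ f.fiberι (genericPoint Y) a := Scheme.le_iff_specializes.mp hab.le
    have h2 : f b ⤳ f (f.fiberι (genericPoint Y) a) := h1.map f.continuous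
    have h3 : f (f.fiberι (genericPoint Y) a) = genericPoint Y := by
      have : f.fiberι (genericPoint Y) a ∈ Set.range (f.fiberι (genericPoint Y)) := ⟨a, rfl⟩
      rw [f.range_fiberι] at this
      exact this
    rw [h3] at h2
    have h4 : f b = genericPoint Y := (h2.antisymm (genericPoint_specializes _)).eq
    have h5 : b ∈ Set.range (f.fiberι (genericPoint Y)) := by
      rw [f.range_fiberι]; exact h4
    obtain ⟨a', rfl⟩ := h5
    refine ⟨a', ?_, rfl⟩
    rw [lt_iff_le_not_ge] at hab ⊢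
    exact ⟨Scheme.le_iff_specializes.mpr ((hsp _ _).mp (Scheme.le_iff_specializes.mp hab.1)),
      fun h => hab.2 (Scheme.le_iff_specializes.mpr
        ((hsp _ _).mpr (Scheme.le_iff_specializes.mp h)))⟩

theorem topologicalKrullDim_generic_fiber {X Y : Scheme.{u}} [IsLocallyNoetherian Y]
    [IrreducibleSpace X] [IrreducibleSpace Y] (f : X ⟶ Y) [IsDominant f] [LocallyOfFiniteType f] :
    ∃ n : ℕ, @Algebra.trdeg (Y.residueField (f (genericPoint X)))
      (X.residueField (genericPoint X)) _ _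
      (f.residueFieldMap (genericPoint X)).hom.toAlgebra = n ∧
      topologicalKrullDim (f.fiber (genericPoint Y)) = n := by
  obtain ⟨n, hn, x, hx1, hx2⟩ := exists_point_over_generic' f
  refine ⟨n, hn, ?_⟩
  rw [helper7.DimBC.topologicalKrullDim_eq_krullDim, Order.krullDim_eq_iSup_coheight]
  apply le_antisymm
  · refine iSup_le fun a => ?_
    rw [coheight_fiberι f a]
    set z := f.fiberι (genericPoint Y) a with hz
    have hfz : f z = genericPoint Y := by
      have : z ∈ Set.range (f.fiberι (genericPoint Y)) := ⟨a, rfl⟩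
      rw [f.range_fiberι] at this
      exact this
    obtain ⟨hq, hp, e1, e2, h⟩ := stalk_dim_ineq f z n (fun ξ hξ _ => by
      have : ξ = genericPoint X := by
        rw [irreducibleComponents_eq_singleton] at hξ
        exact (show IsGenericPoint ξ Set.univ from hξ).eq (genericPoint_spec X)
      subst this
      exact hn.le)
    rw [ringKrullDim_stalk_eq_coheight] at e1 e2
    have hp0 : hp = 0 := by
      rw [hfz, coheight_genericPoint] at e2
      exact (WithBot.coe_injective e2).symm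
    rw [hp0] at h
    have h2 : hq ≤ (n : ℕ∞) := by
      rw [← Cardinal.ofENat_le_ofENat.{u}]
      have h3 : (hq : Cardinal.{u}) ≤ ((0 : ℕ∞) : Cardinal.{u}) + n :=
        le_trans (le_add_right le_rfl) h
      simpa using h3
    rw [e1]
    exact_mod_cast h2
  · have hx : x ∈ Set.range (f.fiberι (genericPoint Y)) := by
      rw [f.range_fiberι]; exact hx1
    obtain ⟨a, rfl⟩ := hx
    refine le_trans ?_ (le_iSup (fun a => ((Order.coheight a : ℕ∞) : WithBot ℕ∞)) a)
    rw [coheight_fiberι f a]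
    exact_mod_cast hx2

theorem iSup_coheight_eq {X Y : Scheme.{u}} [IsLocallyNoetherian Y]
    (hY : ∀ y : Y, CAlg.IsUniversallyCatenary (Y.presheaf.stalk y))
    [IrreducibleSpace X] [IrreducibleSpace Y] (f : X ⟶ Y) [IsDominant f] [LocallyOfFiniteType f] :
    ∃ n : ℕ, topologicalKrullDim (f.fiber (genericPoint Y)) = n ∧
      (⨆ x : X, Order.coheight x) = (⨆ x : X, Order.coheight (f x)) + (n : ℕ∞) := by
  obtain ⟨n, hn, hfib⟩ := topologicalKrullDim_generic_fiber f
  refine ⟨n, hfib, ?_⟩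
  have hform : ∀ x : X, (Order.coheight x : Cardinal.{u}) +
      @Algebra.trdeg (Y.residueField (f x)) (X.residueField x) _ _
        (f.residueFieldMap x).hom.toAlgebra = (Order.coheight (f x) : Cardinal.{u}) + n := by
    intro x
    obtain ⟨hq, hp, e1, e2, h⟩ := stalk_dim_eq_of_irreducible hY f x
    rw [ringKrullDim_stalk_eq_coheight] at e1 e2
    rw [← WithBot.coe_injective e1, ← WithBot.coe_injective e2, hn] at h
    exact h
  have h1 : ∀ x : X, Order.coheight x ≤ Order.coheight (f x) + (n : ℕ∞) := by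
    intro x
    rw [← Cardinal.ofENat_le_ofENat.{u}]
    have h3 : (Order.coheight x : Cardinal.{u}) ≤ (Order.coheight (f x) : Cardinal.{u}) + n :=
      le_trans (le_add_right le_rfl) (hform x).le
    simpa [Cardinal.ofENat_add] using h3
  have h2 : ∀ x₁ : X, ∃ x : X, Order.coheight x = Order.coheight (f x₁) + (n : ℕ∞) := by
    intro x₁
    obtain ⟨x, -, hfx, ht⟩ := exists_specialization_trdeg_zero f x₁
    refine ⟨x, ?_⟩
    have h3 := hform x
    rw [ht, add_zero, hfx] at h3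
    apply Cardinal.ofENat_injective.{u}
    simpa [Cardinal.ofENat_add] using h3
  apply le_antisymm
  · exact iSup_le fun x => (h1 x).trans (add_le_add (le_iSup (fun x => Order.coheight (f x)) x)
      le_rfl)
  · rw [ENat.iSup_add]
    refine iSup_le fun x₁ => ?_
    obtain ⟨x, hx⟩ := h2 x₁
    rw [← hx]
    exact le_iSup (fun x : X => Order.coheight x) x

end Groth.Agent.Lib.helper26.DimIneq
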