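import Mathlib
import Groth.Agent.Lib.helper26.DimFormSch2
import Groth.Agent.Lib.helper26.CatHt2
import Groth.Agent.Lib.helper7.LFTNoeth

universe u
open AlgebraicGeometry CategoryTheory Ideal Cardinal Topology

namespace Groth.Agent.Lib.helper26.DimJac

open Groth.Agent.Lib.helper26.DimIneq

/-- relative dimension between points `σ ⤳ s`. -/
noncomputable def cdim (S : Scheme.{u}) (σ s : S) : WithBot ℕ∞ :=
  topologicalKrullDim ↥{t : S | σ ⤳ t ∧ t ⤳ s}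

theorem cdim_eq_height {S : Scheme.{u}} {V : S.Opens} (hV : IsAffineOpen V) (σ s : S)
    (hσ : σ ∈ V) (hs : s ∈ V) (hsp : σ ⤳ s) :
    cdim S σ s = (((hV.primeIdealOf ⟨s, hs⟩).asIdeal.map
      (Ideal.Quotient.mk (hV.primeIdealOf ⟨σ, hσ⟩).asIdeal)).height : WithBot ℕ∞) := by
  set P₀ := (hV.primeIdealOf ⟨σ, hσ⟩).asIdeal with hP₀
  set P := (hV.primeIdealOf ⟨s, hs⟩).asIdeal with hP
  have hle : P₀ ≤ P := (helper7.DimSch.primeIdealOf_le_iff hV ⟨σ, hσ⟩ ⟨s, hs⟩).mpr hsp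
  set Pb := P.map (Ideal.Quotient.mk P₀) with hPb
  haveI : Pb.IsPrime := Ideal.isPrime_map_quotientMk_of_isPrime hle
  let R' := Localization.AtPrime Pb
  have h1 : ringKrullDim R' = Pb.height := IsLocalization.AtPrime.ringKrullDim_eq_height Pb R'
  rw [← h1, ← PrimeSpectrum.topologicalKrullDim_eq_ringKrullDim R']
  let ψ₁ : PrimeSpectrum R' → PrimeSpectrum (Γ(S, V) ⧸ P₀) :=
    PrimeSpectrum.comap (algebraMap (Γ(S, V) ⧸ P₀) R')
  let ψ₂ : PrimeSpectrum (Γ(S, V) ⧸ P₀) → PrimeSpectrum Γ(S, V) :=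
    PrimeSpectrum.comap (Ideal.Quotient.mk P₀)
  let ψ₃ : PrimeSpectrum Γ(S, V) → S := fun y => hV.fromSpec (y : Spec Γ(S, V))
  have e1 : IsEmbedding ψ₁ := PrimeSpectrum.localization_comap_isEmbedding R' Pb.primeCompl
  have e2 : IsEmbedding ψ₂ :=
    (PrimeSpectrum.isClosedEmbedding_comap_of_surjective _ _
      Ideal.Quotient.mk_surjective).isEmbedding
  have e3 : IsEmbedding ψ₃ := hV.fromSpec.isOpenEmbedding.isEmbedding
  have hemb : IsEmbedding (ψ₃ ∘ ψ₂ ∘ ψ₁) := e3.comp (e2.comp e1)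
  have hψ₃ : ∀ (t : S) (ht : t ∈ V), ψ₃ (hV.primeIdealOf ⟨t, ht⟩) = t :=
    fun t ht => hV.fromSpec_primeIdealOf ⟨t, ht⟩
  have hrange₁ : ∀ Q₁ : PrimeSpectrum (Γ(S, V) ⧸ P₀), Q₁ ∈ Set.range ψ₁ ↔ Q₁.asIdeal ≤ Pb := by
    intro Q₁
    rw [PrimeSpectrum.localization_comap_range R' Pb.primeCompl]
    constructor
    · intro hd x hx
      by_contra hxP
      exact Set.disjoint_left.mp hd hxP hx
    · intro hle'
      rw [Set.mem_setOf_eq, Set.disjoint_left]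
      intro x hx hxQ
      exact hx (hle' hxQ)
  have hrange : Set.range (ψ₃ ∘ ψ₂ ∘ ψ₁) = {t : S | σ ⤳ t ∧ t ⤳ s} := by
    ext t
    constructor
    · rintro ⟨Q, rfl⟩
      have hQ₁ : (ψ₁ Q).asIdeal ≤ Pb := (hrange₁ _).mp ⟨Q, rfl⟩
      have hQ₂a : P₀ ≤ (ψ₂ (ψ₁ Q)).asIdeal := by
        intro x hx
        change Ideal.Quotient.mk P₀ x ∈ (ψ₁ Q).asIdeal
        rw [Ideal.Quotient.eq_zero_iff_mem.mpr hx]
        exact Ideal.zero_mem _
      have hQ₂b : (ψ₂ (ψ₁ Q)).asIdeal ≤ P := by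
        intro x hx
        have : Ideal.Quotient.mk P₀ x ∈ Pb := hQ₁ hx
        rwa [hPb, Ideal.mem_quotient_iff_mem hle] at this
      have htV : ψ₃ (ψ₂ (ψ₁ Q)) ∈ V := by
        have : ψ₃ (ψ₂ (ψ₁ Q)) ∈ Set.range hV.fromSpec := ⟨_, rfl⟩
        rw [hV.range_fromSpec] at this
        exact this
      have hprime : hV.primeIdealOf ⟨ψ₃ (ψ₂ (ψ₁ Q)), htV⟩ = ψ₂ (ψ₁ Q) :=
        e3.injective (hψ₃ _ htV)
      refine ⟨?_, ?_⟩
      · refine (helper7.DimSch.primeIdealOf_le_iff hV ⟨σ, hσ⟩ ⟨_, htV⟩).mp ?_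
        rw [hprime]; exact hQ₂a
      · refine (helper7.DimSch.primeIdealOf_le_iff hV ⟨_, htV⟩ ⟨s, hs⟩).mp ?_
        rw [hprime]; exact hQ₂b
    · rintro ⟨h1, h2⟩
      have htV : t ∈ V := h2.mem_open V.isOpen hs
      have hQ₂a : P₀ ≤ (hV.primeIdealOf ⟨t, htV⟩).asIdeal :=
        (helper7.DimSch.primeIdealOf_le_iff hV ⟨σ, hσ⟩ ⟨t, htV⟩).mpr h1
      have hQ₂b : (hV.primeIdealOf ⟨t, htV⟩).asIdeal ≤ P :=
        (helper7.DimSch.primeIdealOf_le_iff hV ⟨t, htV⟩ ⟨s, hs⟩).mpr h2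
      have hmem : hV.primeIdealOf ⟨t, htV⟩ ∈ Set.range ψ₂ := by
        rw [_root_.range_comap_of_surjective _ _ Ideal.Quotient.mk_surjective,
          Ideal.mk_ker]
        exact hQ₂a
      obtain ⟨Q₁, hQ₁⟩ := hmem
      have hQ₁le : Q₁.asIdeal ≤ Pb := by
        intro x hx
        obtain ⟨a, rfl⟩ := Ideal.Quotient.mk_surjective x
        have ha : a ∈ (ψ₂ Q₁).asIdeal := hx
        rw [hQ₁] at ha
        exact Ideal.mem_map_of_mem _ (hQ₂b ha)
      obtain ⟨Q, hQ⟩ := (hrange₁ Q₁).mpr hQ₁le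
      refine ⟨Q, ?_⟩
      change ψ₃ (ψ₂ (ψ₁ Q)) = t
      rw [hQ, hQ₁]
      exact hψ₃ t htV
  unfold cdim
  exact (IsHomeomorph.topologicalKrullDim_eq _
    (hemb.toHomeomorph.trans (Homeomorph.setCongr hrange)).isHomeomorph).symm

/-- K1: additivity of `cdim` along `σ' ⤳ σ ⤳ s` on a locally Noetherian scheme with universally
catenary stalks. -/
theorem cdim_add {S : Scheme.{u}} [IsLocallyNoetherian S]
    (hS : ∀ s : S, CAlg.IsUniversallyCatenary (S.presheaf.stalk s)) (σ' σ s : S)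
    (h1 : σ' ⤳ σ) (h2 : σ ⤳ s) :
    ∃ a b c : ℕ∞, cdim S σ' s = a ∧ cdim S σ' σ = b ∧ cdim S σ s = c ∧ a = b + c ∧ b ≠ ⊤ := by
  obtain ⟨_, ⟨V, hV, rfl⟩, hsV, -⟩ := S.isBasis_affineOpens.exists_subset_of_mem_open
    (Set.mem_univ s) isOpen_univ
  have hV' : IsAffineOpen V := hV
  have hσV : σ ∈ V := h2.mem_open V.isOpen hsV
  have hσ'V : σ' ∈ V := h1.mem_open V.isOpen hσV
  have hA := isUniversallyCatenary_of_stalks hS hV'
  haveI : IsNoetherianRing Γ(S, V) := hA.1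
  set P₀' := (hV'.primeIdealOf ⟨σ', hσ'V⟩).asIdeal
  set P₀ := (hV'.primeIdealOf ⟨σ, hσV⟩).asIdeal
  set P := (hV'.primeIdealOf ⟨s, hsV⟩).asIdeal
  have hle1 : P₀' ≤ P₀ := (helper7.DimSch.primeIdealOf_le_iff hV' ⟨σ', hσ'V⟩ ⟨σ, hσV⟩).mpr h1
  have hle2 : P₀ ≤ P := (helper7.DimSch.primeIdealOf_le_iff hV' ⟨σ, hσV⟩ ⟨s, hsV⟩).mpr h2
  have hcat : CAlg.IsCatenary (Γ(S, V) ⧸ P₀') := hA.2 _ inferInstance
  have key := CatHt.height_map_quotient_add P₀' P₀ P hle1 hle2 hcat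
  haveI : (P₀.map (Ideal.Quotient.mk P₀')).IsPrime :=
    Ideal.isPrime_map_quotientMk_of_isPrime hle1
  refine ⟨_, _, _, cdim_eq_height hV' σ' s hσ'V hsV (h1.trans h2),
    cdim_eq_height hV' σ' σ hσ'V hσV h1, cdim_eq_height hV' σ s hσV hsV h2, key, ?_⟩
  exact Ideal.height_ne_top_of_isPrime

/-- finiteness of the transcendence degree of residue fields for lft morphisms. -/
theorem trdeg_residueField_lt_aleph0 {X Y : Scheme.{u}} (f : X ⟶ Y) [LocallyOfFiniteType f]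
    (x : X) : @Algebra.trdeg (Y.residueField (f x)) (X.residueField x) _ _
      (f.residueFieldMap x).hom.toAlgebra < ℵ₀ := by
  obtain ⟨_, ⟨V, hV, rfl⟩, hsV, -⟩ := Y.isBasis_affineOpens.exists_subset_of_mem_open
    (Set.mem_univ (f x)) isOpen_univ
  obtain ⟨_, ⟨U, hU, rfl⟩, hxU, hUV⟩ := X.isBasis_affineOpens.exists_subset_of_mem_open
    (show x ∈ ((f ⁻¹ᵁ V : X.Opens) : Set X) from hsV) (f ⁻¹ᵁ V).isOpen
  have e : U ≤ f ⁻¹ᵁ V := hUV
  have hV' : IsAffineOpen V := hV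
  have hU' : IsAffineOpen U := hU
  letI : Algebra Γ(Y, V) Γ(X, U) := (f.appLE V U e).hom.toAlgebra
  haveI : Algebra.FiniteType Γ(Y, V) Γ(X, U) := f.finiteType_appLE hV' hU' e
  haveI : (hU'.primeIdealOf ⟨x, hxU⟩).asIdeal.LiesOver (hV'.primeIdealOf ⟨f x, e hxU⟩).asIdeal :=
    ⟨(congrArg PrimeSpectrum.asIdeal
      (IsAffineOpen.comap_primeIdealOf_appLE (f := f) V hV' U hU' e hxU)).symm⟩
  rw [trdeg_residueField_eq f hV' hU' e x hxU (hV'.primeIdealOf ⟨f x, e hxU⟩).asIdeal]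
  haveI : Algebra.FiniteType (Γ(Y, V) ⧸ (hV'.primeIdealOf ⟨f x, e hxU⟩).asIdeal)
      (Γ(X, U) ⧸ (hU'.primeIdealOf ⟨x, hxU⟩).asIdeal) :=
    Algebra.FiniteType.of_restrictScalars_finiteType Γ(Y, V) _ _
  exact trdeg_lt_aleph0_of_finiteType

/-- K2: local dimension at closed points. -/
theorem coheight_closed_eq {Z S : Scheme.{u}} [IsLocallyNoetherian S]
    (hS : ∀ s : S, CAlg.IsUniversallyCatenary (S.presheaf.stalk s)) [IrreducibleSpace Z]
    (g : Z ⟶ S) [LocallyOfFiniteType g] (ζ : Z) (hζ : ζ = genericPoint Z) (n : ℕ)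
    (hn : @Algebra.trdeg (S.residueField (g ζ)) (Z.residueField ζ) _ _
      (g.residueFieldMap ζ).hom.toAlgebra = n) (z : Z) (hz : IsClosed ({z} : Set Z)) :
    ((Order.coheight z : ℕ∞) : WithBot ℕ∞) = cdim S (g ζ) (g z) + n := by
  subst hζ
  obtain ⟨z', hzz', -, ht⟩ := exists_specialization_trdeg_zero g z
  have hz' : z' = z := by
    have : z' ∈ closure ({z} : Set Z) := hzz'.mem_closure
    rw [hz.closure_eq] at this
    exact this
  subst hz'
  obtain ⟨_, ⟨V, hV, rfl⟩, hsV, -⟩ := S.isBasis_affineOpens.exists_subset_of_mem_open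
    (Set.mem_univ (g z')) isOpen_univ
  obtain ⟨_, ⟨U, hU, rfl⟩, hxU, hUV⟩ := Z.isBasis_affineOpens.exists_subset_of_mem_open
    (show z' ∈ ((g ⁻¹ᵁ V : Z.Opens) : Set Z) from hsV) (g ⁻¹ᵁ V).isOpen
  have e : U ≤ g ⁻¹ᵁ V := hUV
  have hV' : IsAffineOpen V := hV
  have hU' : IsAffineOpen U := hU
  have hξU : genericPoint Z ∈ U :=
    ((genericPoint_spec Z).mem_open_set_iff U.isOpen).mpr ⟨z', trivial, hxU⟩
  letI : Algebra Γ(S, V) Γ(Z, U) := (g.appLE V U e).hom.toAlgebra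
  haveI : IsNoetherianRing Γ(S, V) := IsLocallyNoetherian.component_noetherian ⟨V, hV⟩
  haveI : Algebra.FiniteType Γ(S, V) Γ(Z, U) := g.finiteType_appLE hV' hU' e
  haveI : IsNoetherianRing Γ(Z, U) := Algebra.FiniteType.isNoetherianRing Γ(S, V) Γ(Z, U)
  have key := chart_formula hS g hV' hU' e z' (genericPoint Z) hxU hξU
    (genericPoint_specializes z')
  rw [ht, add_zero, hn, height_map_quotient_genericPoint hU' z' hxU hξU] at key
  have h5 := ringKrullDim_stalk_eq_coheight z'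
  have h6 := helper7.DimSch.ringKrullDim_stalk_eq_height hU' z' hxU
  rw [h5] at h6
  have h7 : Order.coheight z' = (hU'.primeIdealOf ⟨z', hxU⟩).asIdeal.height :=
    WithBot.coe_injective h6
  rw [cdim_eq_height hV' (g (genericPoint Z)) (g z') (e hξU) (e hxU)
    ((genericPoint_specializes z').map g.continuous), h7]
  have h8 : (hU'.primeIdealOf ⟨z', hxU⟩).asIdeal.height =
      ((hV'.primeIdealOf ⟨g z', e hxU⟩).asIdeal.map (Ideal.Quotient.mk
        (hV'.primeIdealOf ⟨g (genericPoint Z), e hξU⟩).asIdeal)).height + (n : ℕ∞) := by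
    apply Cardinal.ofENat_injective.{u}
    simpa [Cardinal.ofENat_add] using key
  rw [h8]
  norm_cast

/-- K3: the dimension of a Jacobson scheme is the supremum of local dimensions at closed points. -/
theorem topologicalKrullDim_le_of_closed {Z : Scheme.{u}} [JacobsonSpace Z] (M : WithBot ℕ∞)
    (h : ∀ z : Z, IsClosed ({z} : Set Z) → ((Order.coheight z : ℕ∞) : WithBot ℕ∞) ≤ M) :
    topologicalKrullDim Z ≤ M := by
  rw [helper7.DimBC.topologicalKrullDim_eq_krullDim, Order.krullDim_eq_iSup_coheight]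
  refine iSup_le fun z => ?_
  obtain ⟨z', hz', hcl⟩ := nonempty_inter_closedPoints (X := Z) (Z := closure {z})
    ⟨z, subset_closure rfl⟩ isClosed_closure.isLocallyClosed
  have hle : z' ≤ z := Scheme.le_iff_specializes.mpr (specializes_iff_mem_closure.mpr hz')
  exact le_trans (by exact_mod_cast Order.coheight_anti hle) (h z' hcl)

end Groth.Agent.Lib.helper26.DimJac
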