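import Mathlib
import Groth.Agent.Lib.helper26.DimJac

universe u
open AlgebraicGeometry CategoryTheory Ideal Cardinal Topology

namespace Groth.Agent.Lib.helper26.DimJac

open Groth.Agent.Lib.helper26.DimIneq

/-- K1': on an equidimensional-at-closed-points base, `cdim σ s` does not depend on the closed
point `s`. -/
theorem cdim_closed_eq {S : Scheme.{u}} [IsLocallyNoetherian S]
    (hS : ∀ s : S, CAlg.IsUniversallyCatenary (S.presheaf.stalk s))
    (h3 : ∀ S' ∈ irreducibleComponents (S : Type u), ∀ s ∈ S', IsClosed ({s} : Set S) →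
      topologicalKrullDim (↥S' : Type u) = topologicalKrullDim ↥{t : S | t ∈ S' ∧ t ⤳ s})
    (σ s₁ s₂ : S) (h1 : σ ⤳ s₁) (h2 : σ ⤳ s₂) (hc1 : IsClosed ({s₁} : Set S))
    (hc2 : IsClosed ({s₂} : Set S)) :
    cdim S σ s₁ = cdim S σ s₂ := by
  obtain ⟨S', hS', hsub⟩ := exists_mem_irreducibleComponents_subset_of_isIrreducible
    (closure ({σ} : Set S)) isIrreducible_singleton.closure
  have hcl : IsClosed S' := isClosed_of_mem_irreducibleComponents S' hS'
  obtain ⟨σ', hσ'⟩ := QuasiSober.sober hS'.1 hcl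
  have hmem : ∀ t : S, t ∈ S' ↔ σ' ⤳ t := by
    intro t
    rw [specializes_iff_mem_closure, hσ'.def]
  have hσS' : σ ∈ S' := hsub (subset_closure rfl)
  have hσ'σ : σ' ⤳ σ := (hmem σ).mp hσS'
  have hset : ∀ s : S, {t : S | t ∈ S' ∧ t ⤳ s} = {t : S | σ' ⤳ t ∧ t ⤳ s} := by
    intro s
    ext t
    simp only [Set.mem_setOf_eq, hmem]
  have e1 := h3 S' hS' s₁ ((hmem s₁).mpr (hσ'σ.trans h1)) hc1
  have e2 := h3 S' hS' s₂ ((hmem s₂).mpr (hσ'σ.trans h2)) hc2
  rw [hset] at e1 e2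
  have e3 : cdim S σ' s₁ = cdim S σ' s₂ := e1.symm.trans e2
  obtain ⟨a₁, b₁, c₁, ha₁, hb₁, hc₁, hadd₁, hne₁⟩ := cdim_add hS σ' σ s₁ hσ'σ h1
  obtain ⟨a₂, b₂, c₂, ha₂, hb₂, hc₂, hadd₂, hne₂⟩ := cdim_add hS σ' σ s₂ hσ'σ h2
  rw [ha₁, ha₂] at e3
  rw [hb₁] at hb₂
  have hb : b₁ = b₂ := by exact_mod_cast hb₂
  have ha : a₁ = a₂ := by exact_mod_cast e3
  subst hb
  rw [hc₁, hc₂]
  have : c₁ = c₂ := by
    apply ENat.add_right_injective_of_ne_top hne₁
    change b₁ + c₁ = b₁ + c₂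
    rw [← hadd₁, ← hadd₂, ha]
  rw [this]

/-- the dimension of an irreducible scheme locally of finite type over an equidimensional Jacobson
base with universally catenary local rings. -/
theorem dim_eq_of_jacobson {Z S : Scheme.{u}} [IsLocallyNoetherian S] [JacobsonSpace S]
    (hS : ∀ s : S, CAlg.IsUniversallyCatenary (S.presheaf.stalk s))
    (h3 : ∀ S' ∈ irreducibleComponents (S : Type u), ∀ s ∈ S', IsClosed ({s} : Set S) →
      topologicalKrullDim (↥S' : Type u) = topologicalKrullDim ↥{t : S | t ∈ S' ∧ t ⤳ s})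
    [IrreducibleSpace Z] (g : Z ⟶ S) [LocallyOfFiniteType g] (ζ : Z) (hζ : ζ = genericPoint Z)
    (n : ℕ)
    (hn : @Algebra.trdeg (S.residueField (g ζ)) (Z.residueField ζ) _ _
      (g.residueFieldMap ζ).hom.toAlgebra = n)
    (s₀ : S) (hs₀ : IsClosed ({s₀} : Set S)) (hσ : g ζ ⤳ s₀) :
    topologicalKrullDim Z = cdim S (g ζ) s₀ + n := by
  haveI : JacobsonSpace Z := LocallyOfFiniteType.jacobsonSpace g
  have hall : ∀ z : Z, IsClosed ({z} : Set Z) →
      ((Order.coheight z : ℕ∞) : WithBot ℕ∞) = cdim S (g ζ) s₀ + n := by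
    intro z hz
    rw [coheight_closed_eq hS g ζ hζ n hn z hz]
    congr 1
    have hgz : IsClosed ({g z} : Set S) :=
      Scheme.Hom.closePoints_subset_preimage_closedPoints g hz
    have hsp : g ζ ⤳ g z := by
      rw [hζ]
      exact (genericPoint_specializes z).map g.continuous
    exact cdim_closed_eq hS h3 (g ζ) (g z) s₀ hsp hσ hgz hs₀
  apply le_antisymm
  · exact topologicalKrullDim_le_of_closed _ fun z hz => (hall z hz).le
  · obtain ⟨z, -, hz⟩ := nonempty_inter_closedPoints (X := Z) (Z := Set.univ)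
      ⟨ζ, trivial⟩ isClosed_univ.isLocallyClosed
    rw [← hall z hz, helper7.DimBC.topologicalKrullDim_eq_krullDim]
    exact Order.coheight_le_krullDim z

end Groth.Agent.Lib.helper26.DimJac
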