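import Mathlib
import Groth.Agent.Lib.helper26.DimJac2

universe u
open AlgebraicGeometry CategoryTheory Ideal Cardinal Topology

namespace Groth.Agent.Lib.helper26.DimJac

open Groth.Agent.Lib.helper26.DimIneq

/-- additivity of transcendence degrees of residue fields along a composition. -/
theorem trdeg_residueField_comp {X Y S : Scheme.{u}} (f : X ⟶ Y) (q : Y ⟶ S) (x : X) :
    @Algebra.trdeg (S.residueField ((f ≫ q) x)) (X.residueField x) _ _
      ((f ≫ q).residueFieldMap x).hom.toAlgebra =
    @Algebra.trdeg (S.residueField (q (f x))) (Y.residueField (f x)) _ _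
      (q.residueFieldMap (f x)).hom.toAlgebra +
    @Algebra.trdeg (Y.residueField (f x)) (X.residueField x) _ _
      (f.residueFieldMap x).hom.toAlgebra := by
  letI a1 : Algebra (S.residueField (q (f x))) (Y.residueField (f x)) :=
    (q.residueFieldMap (f x)).hom.toAlgebra
  letI a2 : Algebra (Y.residueField (f x)) (X.residueField x) :=
    (f.residueFieldMap x).hom.toAlgebra
  letI a3 : Algebra (S.residueField (q (f x))) (X.residueField x) :=
    ((f ≫ q).residueFieldMap x).hom.toAlgebra
  haveI : IsScalarTower (S.residueField (q (f x))) (Y.residueField (f x)) (X.residueField x) := by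
    refine IsScalarTower.of_algebraMap_eq' ?_
    change ((f ≫ q).residueFieldMap x).hom = _
    rw [Scheme.residueFieldMap_comp]
    rfl
  have := _root_.trdeg_add_eq (S.residueField (q (f x))) (Y.residueField (f x))
    (A := X.residueField x)
  exact this.symm

/-- EGA IV 10.6.1-type dimension formula over a Jacobson, equidimensional, universally catenary
base. -/
theorem dim_eq_add_fiber {X Y S : Scheme.{u}} [IsLocallyNoetherian S] [JacobsonSpace S]
    (hS : ∀ s : S, CAlg.IsUniversallyCatenary (S.presheaf.stalk s))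
    (h3 : ∀ S' ∈ irreducibleComponents (S : Type u), ∀ s ∈ S', IsClosed ({s} : Set S) →
      topologicalKrullDim (↥S' : Type u) = topologicalKrullDim ↥{t : S | t ∈ S' ∧ t ⤳ s})
    (q : Y ⟶ S) [LocallyOfFiniteType q] (f : X ⟶ Y) [LocallyOfFiniteType (f ≫ q)]
    [IrreducibleSpace X] [IrreducibleSpace Y] [IsDominant f] :
    topologicalKrullDim (X : Type u) =
      topologicalKrullDim (Y : Type u) + topologicalKrullDim ↥(f.fiber (genericPoint Y)) := by
  haveI : LocallyOfFiniteType f := locallyOfFiniteType_of_comp f q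
  haveI : IsLocallyNoetherian Y := helper7.LFTNoeth.isLocallyNoetherian_of_locallyOfFiniteType q
  obtain ⟨ne, hne, hfib⟩ := topologicalKrullDim_generic_fiber f
  have hfξ : f (genericPoint X) = genericPoint Y := map_genericPoint f
  obtain ⟨nY, hnY⟩ := Cardinal.lt_aleph0.mp (trdeg_residueField_lt_aleph0 q (f (genericPoint X)))
  have hnX : @Algebra.trdeg (S.residueField ((f ≫ q) (genericPoint X)))
      (X.residueField (genericPoint X)) _ _
      ((f ≫ q).residueFieldMap (genericPoint X)).hom.toAlgebra = ((nY + ne : ℕ) : Cardinal.{u}) := by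
    rw [trdeg_residueField_comp f q (genericPoint X), hnY, hne]
    push_cast
    rfl
  haveI : JacobsonSpace X := LocallyOfFiniteType.jacobsonSpace (f ≫ q)
  obtain ⟨x₀, -, hx₀⟩ := nonempty_inter_closedPoints (X := X) (Z := Set.univ)
    ⟨genericPoint X, trivial⟩ isClosed_univ.isLocallyClosed
  have hs₀ : IsClosed ({(f ≫ q) x₀} : Set S) :=
    Scheme.Hom.closePoints_subset_preimage_closedPoints (f ≫ q) hx₀
  have hsp : (f ≫ q) (genericPoint X) ⤳ (f ≫ q) x₀ :=
    (genericPoint_specializes x₀).map (f ≫ q).continuous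
  have hX := dim_eq_of_jacobson hS h3 (f ≫ q) (genericPoint X) rfl (nY + ne) hnX
    ((f ≫ q) x₀) hs₀ hsp
  have hY := dim_eq_of_jacobson hS h3 q (f (genericPoint X)) hfξ nY hnY
    ((f ≫ q) x₀) hs₀ hsp
  rw [hX, hY, hfib]
  have : (f ≫ q) (genericPoint X) = q (f (genericPoint X)) := rfl
  rw [this]
  push_cast
  rw [add_assoc]

end Groth.Agent.Lib.helper26.DimJac
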