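import Mathlib
import Groth.Agent.Lib.helper26.DimJac3

universe u
open AlgebraicGeometry CategoryTheory Ideal Cardinal Topology TopologicalSpace

namespace Groth.Agent.Lib.helper26.DimJac

open Groth.Agent.Lib.helper26.DimIneq

/-- A maximal point (generic point of an irreducible component) of a locally Noetherian scheme lies
in every dense open subset. -/
theorem mem_of_dense_open {X : Scheme.{u}} [IsLocallyNoetherian X] (σ : X)
    (hσ : ∀ η : X, η ⤳ σ → η = σ) (U : Set X) (hU : IsOpen U) (hd : Dense U) : σ ∈ U := by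
  obtain ⟨_, ⟨V, hV, rfl⟩, hσV, -⟩ := X.isBasis_affineOpens.exists_subset_of_mem_open
    (Set.mem_univ σ) isOpen_univ
  have hV' : IsAffineOpen V := hV
  haveI : IsNoetherianRing Γ(X, V) := IsLocallyNoetherian.component_noetherian ⟨V, hV⟩
  haveI : NoetherianSpace ↥(V : Set X) := noetherianSpace_of_isAffineOpen V hV'
  haveI : QuasiSober ↥(V : Set X) := inferInstanceAs (QuasiSober (V : Scheme.{u}))
  haveI : T0Space ↥(V : Set X) := inferInstanceAs (T0Space (V : Scheme.{u}))
  have hZ : closure ({⟨σ, hσV⟩} : Set ↥(V : Set X)) ∈ irreducibleComponents ↥(V : Set X) := by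
    rw [helper7.DimSch.closure_mem_irreducibleComponents_iff]
    intro η hη
    exact Subtype.ext (hσ η.1 ((subtype_specializes_iff η ⟨σ, hσV⟩).mp hη))
  obtain ⟨o, ho, hne, hsub⟩ :=
    NoetherianSpace.exists_isOpen_nonempty_subset_irreducibleComponent _ hZ
  have ho' : IsOpen (Subtype.val '' o : Set X) := V.isOpen.isOpenMap_subtype_val o ho
  obtain ⟨t, ht1, ht2⟩ := hd.inter_open_nonempty _ ho' (hne.image _)
  obtain ⟨t', ht', rfl⟩ := ht1
  have h1 : (⟨σ, hσV⟩ : ↥(V : Set X)) ⤳ t' := specializes_iff_mem_closure.mpr (hsub ht')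
  have h2 : σ ⤳ (t' : X) := (subtype_specializes_iff _ _).mp h1
  exact h2.mem_open hU ht2

/-- at a closed point, the local dimension is bounded by the dimension of some irreducible
component through the point (equidimensional-at-closed-points hypothesis). -/
theorem exists_component_coheight_le {X : Scheme.{u}} [IsLocallyNoetherian X]
    (h3 : ∀ X' ∈ irreducibleComponents (X : Type u), ∀ x ∈ X', IsClosed ({x} : Set X) →
      topologicalKrullDim (↥X' : Type u) = topologicalKrullDim ↥{t : X | t ∈ X' ∧ t ⤳ x})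
    (x : X) (hx : IsClosed ({x} : Set X)) :
    ∃ σ : X, (∀ η : X, η ⤳ σ → η = σ) ∧ σ ⤳ x ∧
      closure ({σ} : Set X) ∈ irreducibleComponents (X : Type u) ∧
      ((Order.coheight x : ℕ∞) : WithBot ℕ∞) ≤ topologicalKrullDim ↥(closure ({σ} : Set X)) := by
  obtain ⟨_, ⟨V, hV, rfl⟩, hxV, -⟩ := X.isBasis_affineOpens.exists_subset_of_mem_open
    (Set.mem_univ x) isOpen_univ
  have hV' : IsAffineOpen V := hV
  haveI : IsNoetherianRing Γ(X, V) := IsLocallyNoetherian.component_noetherian ⟨V, hV⟩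
  obtain ⟨P₀, hP₀, hle, hht⟩ :=
    helper7.DimFT.exists_minimalPrimes_height_le (hV'.primeIdealOf ⟨x, hxV⟩).asIdeal
  haveI : P₀.IsPrime := hP₀.1.1
  obtain ⟨σ, hσ⟩ := helper7.DimSch.exists_primeIdealOf_eq hV' ⟨P₀, inferInstance⟩
  have hσmax : ∀ η : X, η ⤳ (σ : X) → η = σ := by
    rw [← helper7.DimSch.primeIdealOf_mem_minimalPrimes_iff hV' σ, hσ]
    exact hP₀
  have hsp : (σ : X) ⤳ x := by
    have := (helper7.DimSch.primeIdealOf_le_iff hV' σ ⟨x, hxV⟩).mp (by rw [hσ]; exact hle)
    exact this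
  have hcomp : closure ({(σ : X)} : Set X) ∈ irreducibleComponents (X : Type u) :=
    (helper7.DimSch.closure_mem_irreducibleComponents_iff (σ : X)).mpr hσmax
  refine ⟨σ, hσmax, hsp, hcomp, ?_⟩
  have hxmem : x ∈ closure ({(σ : X)} : Set X) := hsp.mem_closure
  rw [h3 _ hcomp x hxmem hx]
  have hset : {t : X | t ∈ closure ({(σ : X)} : Set X) ∧ t ⤳ x} = {t : X | (σ : X) ⤳ t ∧ t ⤳ x} := by
    ext t
    simp only [Set.mem_setOf_eq, specializes_iff_mem_closure]
  rw [hset]
  change _ ≤ cdim X σ x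
  rw [cdim_eq_height hV' σ x σ.2 hxV hsp]
  have h5 := ringKrullDim_stalk_eq_coheight x
  have h6 := helper7.DimSch.ringKrullDim_stalk_eq_height hV' x hxV
  rw [h5] at h6
  have h7 : Order.coheight x = (hV'.primeIdealOf ⟨x, hxV⟩).asIdeal.height :=
    WithBot.coe_injective h6
  rw [h7]
  have : (hV'.primeIdealOf ⟨(σ : X), σ.2⟩).asIdeal = P₀ := by
    have : (⟨(σ : X), σ.2⟩ : V) = σ := rfl
    rw [this, hσ]
  rw [this]
  exact_mod_cast hht

/-- S4881: a dense open subset of an equidimensional Jacobson locally Noetherian scheme with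
universally catenary local rings has the same dimension. -/
theorem dim_dense_open_eq (X : Scheme.{u}) [IsLocallyNoetherian X] [JacobsonSpace X]
    (h3 : ∀ X' ∈ irreducibleComponents (X : Type u), ∀ x ∈ X', IsClosed ({x} : Set X) →
      topologicalKrullDim (↥X' : Type u) = topologicalKrullDim ↥{t : X | t ∈ X' ∧ t ⤳ x})
    (U : Set X) (hU : IsOpen U) (hd : Dense U) :
    topologicalKrullDim ↥U = topologicalKrullDim X := by
  apply le_antisymm (topologicalKrullDim_subspace_le X U)
  apply topologicalKrullDim_le_of_closed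
  intro x hx
  obtain ⟨σ, hσmax, hsp, hcomp, hle⟩ := exists_component_coheight_le h3 x hx
  refine hle.trans ?_
  have hσU : σ ∈ U := mem_of_dense_open σ hσmax U hU hd
  obtain ⟨x₁, ⟨hx₁a, hx₁b⟩, hx₁c⟩ := nonempty_inter_closedPoints (X := X)
    (Z := closure ({σ} : Set X) ∩ U) ⟨σ, subset_closure rfl, hσU⟩
    (isClosed_closure.isLocallyClosed.inter hU.isLocallyClosed)
  rw [h3 _ hcomp x₁ hx₁a hx₁c]
  have hsub : {t : X | t ∈ closure ({σ} : Set X) ∧ t ⤳ x₁} ⊆ U :=
    fun t ht => ht.2.mem_open hU hx₁b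
  exact (IsEmbedding.inclusion hsub).isInducing.topologicalKrullDim_le

end Groth.Agent.Lib.helper26.DimJac
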