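import Mathlib
import Groth.Agent.Lib.helper26.DimJac4

universe u
open AlgebraicGeometry CategoryTheory Topology TopologicalSpace

namespace Groth.Agent.Lib.helper26.DimPts

/-- a subset stable under generization of a quasi-sober space is quasi-sober. -/
theorem quasiSober_of_stableUnderGeneralization {X : Type*} [TopologicalSpace X] [QuasiSober X]
    (G : Set X) (hG : StableUnderGeneralization G) : QuasiSober ↥G where
  sober := by
    intro S hS hSc
    have hS' : IsIrreducible (closure (Subtype.val '' S : Set X)) :=
      (hS.image Subtype.val continuous_subtype_val.continuousOn).closure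
    obtain ⟨η, hη⟩ := QuasiSober.sober hS' isClosed_closure
    obtain ⟨t, ht⟩ := hS.nonempty
    have h1 : η ⤳ (t : X) := hη.specializes (subset_closure ⟨t, ht, rfl⟩)
    have hηG : η ∈ G := hG h1 t.2
    have hSeq : S = Subtype.val ⁻¹' closure (Subtype.val '' S : Set X) := by
      rw [← IsInducing.subtypeVal.closure_eq_preimage_closure_image, hSc.closure_eq]
    refine ⟨⟨η, hηG⟩, ?_⟩
    change closure {(⟨η, hηG⟩ : ↥G)} = S
    rw [IsInducing.subtypeVal.closure_eq_preimage_closure_image, Set.image_singleton, hη.def]
    exact hSeq.symm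

variable {X : Scheme.{u}}

/-- the dimension of a quasi-sober subspace of a scheme is the Krull dimension of its points under
specialization. -/
theorem topologicalKrullDim_eq_krullDim_subtype (T : Set X) [QuasiSober ↥T] :
    topologicalKrullDim ↥T = Order.krullDim ↥T := by
  let e₀ := @irreducibleSetEquivPoints ↥T _ _ _
  let e : IrreducibleCloseds ↥T ≃o ↥T :=
    { toEquiv := e₀.toEquiv
      map_rel_iff' := by
        intro a b
        have h := e₀.map_rel_iff (a := a) (b := b)
        rw [← h]
        change ((e₀ a : ↥T) : X) ≤ ((e₀ b : ↥T) : X) ↔ (e₀ b) ⤳ (e₀ a)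
        rw [Scheme.le_iff_specializes, subtype_specializes_iff] }
  exact Order.krullDim_eq_of_orderIso e

theorem length_le_krullDim_subtype (T : Set X) (p : LTSeries X) (h : ∀ i, p i ∈ T) :
    (p.length : WithBot ℕ∞) ≤ Order.krullDim ↥T := by
  let q : LTSeries ↥T :=
    { length := p.length
      toFun := fun i => ⟨p i, h i⟩
      step := fun i => p.step i }
  exact Order.LTSeries.length_le_krullDim q

theorem krullDim_subtype_le (T : Set X) (M : WithBot ℕ∞)
    (h : ∀ p : LTSeries X, (∀ i, p i ∈ T) → (p.length : WithBot ℕ∞) ≤ M) :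
    Order.krullDim ↥T ≤ M := by
  unfold Order.krullDim
  refine iSup_le fun q => ?_
  have := h (q.map Subtype.val (fun a b hab => hab)) (fun i => (q i).2)
  simpa using this

theorem quasiSober_closed_sub (Y : Set X) (hY : IsClosed Y) : QuasiSober ↥Y :=
  hY.isClosedEmbedding_subtypeVal.quasiSober

theorem quasiSober_generizations (x : X) : QuasiSober ↥{t : X | t ⤳ x} :=
  quasiSober_of_stableUnderGeneralization _ fun _ _ h1 h2 => h1.trans h2

theorem quasiSober_Icc (σ s : X) : QuasiSober ↥{t : X | σ ⤳ t ∧ t ⤳ s} := by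
  haveI := quasiSober_generizations s
  have h := QuasiSober.inter_of_isClosed_of_quasiSober_left (V := closure ({σ} : Set X))
    {t : X | t ⤳ s} isClosed_closure
  have heq : ({t : X | t ⤳ s} ∩ closure ({σ} : Set X)) = {t : X | σ ⤳ t ∧ t ⤳ s} := by
    ext t
    simp only [Set.mem_inter_iff, Set.mem_setOf_eq, specializes_iff_mem_closure]
    tauto
  rw [heq] at h
  exact h

theorem quasiSober_closed_generizations (Y : Set X) (hY : IsClosed Y) (x : X) :
    QuasiSober ↥{t : X | t ∈ Y ∧ t ⤳ x} := by
  haveI := quasiSober_generizations x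
  have h := QuasiSober.inter_of_isClosed_of_quasiSober_left (V := Y)
    {t : X | t ⤳ x} hY
  have heq : ({t : X | t ⤳ x} ∩ Y) = {t : X | t ∈ Y ∧ t ⤳ x} := by
    ext t
    simp only [Set.mem_inter_iff, Set.mem_setOf_eq]
    tauto
  rw [heq] at h
  exact h

theorem quasiSober_open_inter_closed (U Y : Set X) (hU : IsOpen U) (hY : IsClosed Y) :
    QuasiSober ↥(U ∩ Y) := by
  haveI : QuasiSober ↥U := hU.isOpenEmbedding_subtypeVal.quasiSober
  exact QuasiSober.inter_of_isClosed_of_quasiSober_left U hY

end Groth.Agent.Lib.helper26.DimPts
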