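import Mathlib
import Groth.Agent.Lib.helper26.DimPts

universe u
open AlgebraicGeometry CategoryTheory Topology TopologicalSpace

namespace Groth.Agent.Lib.helper26.DimPts

open Groth.Agent.Lib.helper26.DimJac

/-- the dimension of the closure of a point. -/
noncomputable def δ {X : Scheme.{u}} (η : X) : WithBot ℕ∞ :=
  topologicalKrullDim ↥(closure ({η} : Set X))

theorem delta_mono {X : Scheme.{u}} {η t : X} (h : η ⤳ t) : δ t ≤ δ η := by
  have hsub : closure ({t} : Set X) ⊆ closure ({η} : Set X) :=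
    closure_minimal (Set.singleton_subset_iff.mpr h.mem_closure) isClosed_closure
  exact (IsEmbedding.inclusion hsub).isInducing.topologicalKrullDim_le

/-- a quasi-sober subspace all of whose points have closure of dimension `≤ M` has dimension
`≤ M`. -/
theorem dim_le_of_delta_le {X : Scheme.{u}} (T : Set X) [QuasiSober ↥T] (M : WithBot ℕ∞)
    (h : ∀ t ∈ T, δ t ≤ M) : topologicalKrullDim ↥T ≤ M := by
  rw [topologicalKrullDim_eq_krullDim_subtype]
  apply krullDim_subtype_le
  intro p hp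
  refine le_trans ?_ (h p.last (hp _))
  haveI : QuasiSober ↥(closure ({p.last} : Set X)) := quasiSober_closed_sub _ isClosed_closure
  unfold δ
  rw [topologicalKrullDim_eq_krullDim_subtype]
  apply length_le_krullDim_subtype
  intro i
  have : p i ≤ p.last := p.monotone (Fin.le_last i)
  exact (Scheme.le_iff_specializes.mp this).mem_closure

/-- the dimension of a subset of the subspace `↥Y` with a generic point. -/
theorem dim_component {X : Scheme.{u}} (Y : Set X) (hY : IsClosed Y) (C : Set ↥Y) (η : ↥Y)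
    (hη : IsGenericPoint η C) : topologicalKrullDim ↥C = δ (η : X) := by
  have hC : C = Subtype.val ⁻¹' closure ({(η : X)} : Set X) := by
    rw [← hη.def, IsInducing.subtypeVal.closure_eq_preimage_closure_image, Set.image_singleton]
  have hsub : closure ({(η : X)} : Set X) ⊆ Y :=
    closure_minimal (Set.singleton_subset_iff.mpr η.2) hY
  have himg : Subtype.val '' C = closure ({(η : X)} : Set X) := by
    rw [hC, Subtype.image_preimage_coe, Set.inter_eq_right.mpr hsub]
  unfold δ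
  exact IsHomeomorph.topologicalKrullDim_eq _
    ((IsEmbedding.subtypeVal.homeomorphImage C).trans (Homeomorph.setCongr himg)).isHomeomorph

/-- the dimension of an open subset of the subspace `↥Y`. -/
theorem dim_preimage_open {X : Scheme.{u}} (Y U : Set X) :
    topologicalKrullDim ↥(Subtype.val ⁻¹' U : Set ↥Y) = topologicalKrullDim ↥(U ∩ Y) := by
  have himg : Subtype.val '' (Subtype.val ⁻¹' U : Set ↥Y) = U ∩ Y := by
    rw [Subtype.image_preimage_coe, Set.inter_comm]
  exact IsHomeomorph.topologicalKrullDim_eq _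
    ((IsEmbedding.subtypeVal.homeomorphImage _).trans (Homeomorph.setCongr himg)).isHomeomorph

/-- local finiteness of irreducible components of a closed subset of a locally Noetherian
scheme, in the form: near `x`, every point of `Y` lies on a component of `Y` through `x`. -/
theorem exists_open_subset_components {X : Scheme.{u}} [IsLocallyNoetherian X] (Y : Set X)
    (x : X) (hx : x ∈ Y) :
    ∃ U : Set X, IsOpen U ∧ x ∈ U ∧ ∀ (t : X) (ht : t ∈ Y), t ∈ U →
      ∃ C ∈ irreducibleComponents ↥Y, (⟨x, hx⟩ : ↥Y) ∈ C ∧ (⟨t, ht⟩ : ↥Y) ∈ C := by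
  obtain ⟨_, ⟨V, hV, rfl⟩, hxV, -⟩ := X.isBasis_affineOpens.exists_subset_of_mem_open
    (Set.mem_univ x) isOpen_univ
  have hV' : IsAffineOpen V := hV
  haveI : IsNoetherianRing Γ(X, V) := IsLocallyNoetherian.component_noetherian ⟨V, hV⟩
  haveI : NoetherianSpace ↥(V : Set X) := noetherianSpace_of_isAffineOpen V hV'
  haveI : NoetherianSpace ↥((V : Set X) ∩ Y) := NoetherianSpace.inter_of_left (V : Set X) Y
  set T : Set X := (V : Set X) ∩ Y with hT
  have hfin : (irreducibleComponents ↥T).Finite := NoetherianSpace.finite_irreducibleComponents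
  let bad : Set (Set ↥T) := {D | D ∈ irreducibleComponents ↥T ∧ (⟨x, hxV, hx⟩ : ↥T) ∉ D}
  have hbadfin : bad.Finite := hfin.subset fun D hD => hD.1
  let K : Set X := ⋃ D ∈ bad, closure (Subtype.val '' D)
  have hK : IsClosed K := hbadfin.isClosed_biUnion fun D _ => isClosed_closure
  have hmemD : ∀ D ∈ irreducibleComponents ↥T, ∀ (t : X) (ht : t ∈ T),
      t ∈ closure (Subtype.val '' D : Set X) → (⟨t, ht⟩ : ↥T) ∈ D := by
    intro D hD t ht htc
    have hDc : IsClosed D := isClosed_of_mem_irreducibleComponents D hD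
    have : D = Subtype.val ⁻¹' closure (Subtype.val '' D : Set X) := by
      rw [← IsInducing.subtypeVal.closure_eq_preimage_closure_image, hDc.closure_eq]
    rw [this]
    exact htc
  refine ⟨(V : Set X) ∩ Kᶜ, V.isOpen.inter hK.isOpen_compl, ⟨hxV, ?_⟩, ?_⟩
  · intro hxK
    simp only [K, Set.mem_iUnion] at hxK
    obtain ⟨D, hDbad, hxD⟩ := hxK
    exact hDbad.2 (hmemD D hDbad.1 x ⟨hxV, hx⟩ hxD)
  · rintro t ht ⟨htV, htK⟩
    have htT : t ∈ T := ⟨htV, ht⟩
    obtain ⟨D, hD, htD⟩ := exists_mem_irreducibleComponents_subset_of_isIrreducible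
      ({(⟨t, htT⟩ : ↥T)}) isIrreducible_singleton
    have htD' : (⟨t, htT⟩ : ↥T) ∈ D := htD rfl
    have hxD : (⟨x, hxV, hx⟩ : ↥T) ∈ D := by
      by_contra hcon
      apply htK
      simp only [K, Set.mem_iUnion]
      exact ⟨D, ⟨hD, hcon⟩, subset_closure ⟨⟨t, htT⟩, htD', rfl⟩⟩
    let f : ↥T → ↥Y := Set.inclusion Set.inter_subset_right
    have hf : Continuous f := continuous_inclusion _
    have hirr : IsIrreducible (f '' D) := hD.1.image f hf.continuousOn
    obtain ⟨C, hC, hsub⟩ := exists_mem_irreducibleComponents_subset_of_isIrreducible _ hirr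
    exact ⟨C, hC, hsub ⟨_, hxD, rfl⟩, hsub ⟨_, htD', rfl⟩⟩

section

variable {X : Scheme.{u}} [IsLocallyNoetherian X] [JacobsonSpace X]
    (h2 : ∀ x : X, CAlg.IsUniversallyCatenary (X.presheaf.stalk x))
    (h3 : ∀ X' ∈ irreducibleComponents (X : Type u), ∀ x ∈ X', IsClosed ({x} : Set X) →
      topologicalKrullDim (↥X' : Type u) = topologicalKrullDim ↥{t : X | t ∈ X' ∧ t ⤳ x})

include h2 h3

theorem delta_eq_cdim (η s : X) (hs : IsClosed ({s} : Set X)) (h : η ⤳ s) :
    δ η = cdim X η s := by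
  apply le_antisymm
  · haveI : QuasiSober ↥(closure ({η} : Set X)) := quasiSober_closed_sub _ isClosed_closure
    unfold δ
    rw [topologicalKrullDim_eq_krullDim_subtype]
    apply krullDim_subtype_le
    intro p hp
    obtain ⟨s', hs'a, hs'c⟩ := nonempty_inter_closedPoints (X := X)
      (Z := closure ({p.head} : Set X)) ⟨p.head, subset_closure rfl⟩
      isClosed_closure.isLocallyClosed
    have hhs' : p.head ⤳ s' := specializes_iff_mem_closure.mpr hs'a
    have hηs' : η ⤳ s' := (specializes_iff_mem_closure.mpr (hp 0)).trans hhs'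
    rw [← cdim_closed_eq h2 h3 η s' s hηs' h hs'c hs]
    haveI := quasiSober_Icc η s'
    unfold cdim
    rw [topologicalKrullDim_eq_krullDim_subtype]
    apply length_le_krullDim_subtype
    intro i
    refine ⟨specializes_iff_mem_closure.mpr (hp i), ?_⟩
    have : p.head ≤ p i := p.monotone (Fin.zero_le i)
    exact (Scheme.le_iff_specializes.mp this).trans hhs'
  · have hsub : {t : X | η ⤳ t ∧ t ⤳ s} ⊆ closure ({η} : Set X) :=
      fun t ht => ht.1.mem_closure
    exact (IsEmbedding.inclusion hsub).isInducing.topologicalKrullDim_le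

theorem delta_add (η x : X) (h : η ⤳ x) :
    ∃ a b c : ℕ∞, δ η = a ∧ cdim X η x = b ∧ δ x = c ∧ a = b + c ∧ b ≠ ⊤ := by
  obtain ⟨s, hsa, hsc⟩ := nonempty_inter_closedPoints (X := X)
    (Z := closure ({x} : Set X)) ⟨x, subset_closure rfl⟩ isClosed_closure.isLocallyClosed
  have hxs : x ⤳ s := specializes_iff_mem_closure.mpr hsa
  obtain ⟨a, b, c, ha, hb, hc, habc, hb'⟩ := cdim_add h2 η x s h hxs
  refine ⟨a, b, c, ?_, hb, ?_, habc, hb'⟩
  · rw [delta_eq_cdim h2 h3 η s hsc (h.trans hxs), ha]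
  · rw [delta_eq_cdim h2 h3 x s hsc hxs, hc]

theorem delta_le_dim (U Y : Set X) (hU : IsOpen U) (hY : IsClosed Y) (η : X) (hη : η ∈ U ∩ Y) :
    δ η ≤ topologicalKrullDim ↥(U ∩ Y) := by
  obtain ⟨s, ⟨hsa, hsU⟩, hsc⟩ := nonempty_inter_closedPoints (X := X)
    (Z := closure ({η} : Set X) ∩ U) ⟨η, subset_closure rfl, hη.1⟩
    (isClosed_closure.isLocallyClosed.inter hU.isLocallyClosed)
  have hηs : η ⤳ s := specializes_iff_mem_closure.mpr hsa
  rw [delta_eq_cdim h2 h3 η s hsc hηs]
  have hsub : {t : X | η ⤳ t ∧ t ⤳ s} ⊆ U ∩ Y :=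
    fun t ht => ⟨ht.2.mem_open hU hsU, ht.1.mem_closed hY hη.2⟩
  exact (IsEmbedding.inclusion hsub).isInducing.topologicalKrullDim_le

/-- the key comparison: near `x`, dimension of `U ∩ Y` is computed by components through `x`. -/
theorem dim_inter_le (Y : Set X) (hY : IsClosed Y) (x : X) (hx : x ∈ Y) (U : Set X)
    (hU : IsOpen U)
    (hP : ∀ (t : X) (ht : t ∈ Y), t ∈ U →
      ∃ C ∈ irreducibleComponents ↥Y, (⟨x, hx⟩ : ↥Y) ∈ C ∧ (⟨t, ht⟩ : ↥Y) ∈ C)
    (M : WithBot ℕ∞)
    (hM : ∀ (η : X) (hηY : η ∈ Y), η ⤳ x →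
      closure ({(⟨η, hηY⟩ : ↥Y)}) ∈ irreducibleComponents ↥Y → δ η ≤ M) :
    topologicalKrullDim ↥(U ∩ Y) ≤ M := by
  haveI : QuasiSober ↥Y := quasiSober_closed_sub Y hY
  haveI : QuasiSober ↥(U ∩ Y) := quasiSober_open_inter_closed U Y hU hY
  apply dim_le_of_delta_le
  rintro t ⟨htU, htY⟩
  obtain ⟨C, hC, hxC, htC⟩ := hP t htY htU
  obtain ⟨η, hη⟩ := QuasiSober.sober hC.1 (isClosed_of_mem_irreducibleComponents C hC)
  have h1 : (η : X) ⤳ x := (subtype_specializes_iff η ⟨x, hx⟩).mp (hη.specializes hxC)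
  have h2 : (η : X) ⤳ t := (subtype_specializes_iff η ⟨t, htY⟩).mp (hη.specializes htC)
  refine (delta_mono h2).trans (hM η η.2 h1 ?_)
  have : (⟨(η : X), η.2⟩ : ↥Y) = η := rfl
  rw [this, hη.def]
  exact hC

theorem localDim_closed (Y : Set X) (hY : IsClosed Y) (x : X) (hx : x ∈ Y) :
    FlatMor.localDim ↥Y ⟨x, hx⟩ =
        topologicalKrullDim ↥(closure ({x} : Set X)) +
          topologicalKrullDim ↥{t : X | t ∈ Y ∧ t ⤳ x} ∧
      FlatMor.localDim ↥Y ⟨x, hx⟩ =
        ⨆ C ∈ {C : Set ↥Y | C ∈ irreducibleComponents ↥Y ∧ (⟨x, hx⟩ : ↥Y) ∈ C},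
          topologicalKrullDim ↥C ∧
      ∀ U : Set X, IsOpen U → x ∈ U →
        (∀ C ∈ irreducibleComponents ↥Y, (⟨x, hx⟩ : ↥Y) ∉ C →
          Disjoint (Subtype.val ⁻¹' U) C) →
        topologicalKrullDim ↥(U ∩ Y) = FlatMor.localDim ↥Y ⟨x, hx⟩ := by
  haveI : QuasiSober ↥Y := quasiSober_closed_sub Y hY
  -- the local dimension is computed by any open with property P
  have hL : ∀ U : Set X, IsOpen U → x ∈ U →
      (∀ (t : X) (ht : t ∈ Y), t ∈ U →
        ∃ C ∈ irreducibleComponents ↥Y, (⟨x, hx⟩ : ↥Y) ∈ C ∧ (⟨t, ht⟩ : ↥Y) ∈ C) →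
      topologicalKrullDim ↥(U ∩ Y) = FlatMor.localDim ↥Y ⟨x, hx⟩ := by
    intro U hU hxU hP
    unfold FlatMor.localDim
    apply le_antisymm
    · refine le_iInf fun W' => ?_
      obtain ⟨W, hW, hWeq⟩ := isOpen_induced_iff.mp W'.1.2
      have hxW : x ∈ W := by
        have : (⟨x, hx⟩ : ↥Y) ∈ Subtype.val ⁻¹' W := by rw [hWeq]; exact W'.2
        exact this
      have hdim : topologicalKrullDim ↥(W'.1 : Set ↥Y) = topologicalKrullDim ↥(W ∩ Y) := by
        rw [← dim_preimage_open Y W, hWeq]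
        rfl
      rw [hdim]
      apply dim_inter_le h2 h3 Y hY x hx U hU hP
      intro η hηY hηx _
      exact delta_le_dim h2 h3 W Y hW hY η ⟨hηx.mem_open hW hxW, hηY⟩
    · let W' : {W' : Opens ↥Y // (⟨x, hx⟩ : ↥Y) ∈ W'} :=
        ⟨⟨Subtype.val ⁻¹' U, hU.preimage continuous_subtype_val⟩, hxU⟩
      refine (iInf_le _ W').trans ?_
      exact (dim_preimage_open Y U).le
  -- good opens have property P
  have hgood : ∀ U : Set X,
      (∀ C ∈ irreducibleComponents ↥Y, (⟨x, hx⟩ : ↥Y) ∉ C →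
          Disjoint (Subtype.val ⁻¹' U) C) →
      (∀ (t : X) (ht : t ∈ Y), t ∈ U →
        ∃ C ∈ irreducibleComponents ↥Y, (⟨x, hx⟩ : ↥Y) ∈ C ∧ (⟨t, ht⟩ : ↥Y) ∈ C) := by
    intro U hdis t ht htU
    obtain ⟨C, hC, htC⟩ := exists_mem_irreducibleComponents_subset_of_isIrreducible
      ({(⟨t, ht⟩ : ↥Y)}) isIrreducible_singleton
    refine ⟨C, hC, ?_, htC rfl⟩
    by_contra hcon
    exact Set.disjoint_left.mp (hdis C hC hcon) (show (⟨t, ht⟩ : ↥Y) ∈ Subtype.val ⁻¹' U from htU)
      (htC rfl)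
  obtain ⟨U₀, hU₀, hxU₀, hP₀⟩ := exists_open_subset_components Y x hx
  have hL₀ := hL U₀ hU₀ hxU₀ hP₀
  refine ⟨?_, ?_, fun U hU hxU hdis => hL U hU hxU (hgood U hdis)⟩
  · -- (a)
    rw [← hL₀]
    obtain ⟨a, -, -, ha, -, -, -, -⟩ := delta_add h2 h3 x x specializes_rfl
    change _ = δ x + _
    set S : Set X := {t : X | t ∈ Y ∧ t ⤳ x} with hS
    haveI : QuasiSober ↥S := quasiSober_closed_generizations Y hY x
    haveI : Nonempty ↥S := ⟨⟨x, hx, specializes_rfl⟩⟩
    have hd : topologicalKrullDim ↥S = ((⨆ p : LTSeries ↥S, (p.length : ℕ∞) : ℕ∞) : WithBot ℕ∞) := by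
      rw [topologicalKrullDim_eq_krullDim_subtype, Order.krullDim_eq_iSup_length]
    rw [hd, ha]
    apply le_antisymm
    · apply dim_inter_le h2 h3 Y hY x hx U₀ hU₀ hP₀
      intro η hηY hηx _
      obtain ⟨a', b, c, ha', hb, hc, habc, -⟩ := delta_add h2 h3 η x hηx
      rw [ha] at hc
      have hca : a = c := by exact_mod_cast hc
      have hbd : b ≤ ⨆ p : LTSeries ↥S, (p.length : ℕ∞) := by
        have hsub : {t : X | η ⤳ t ∧ t ⤳ x} ⊆ S := fun t ht => ⟨ht.1.mem_closed hY hηY, ht.2⟩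
        have := (IsEmbedding.inclusion hsub).isInducing.topologicalKrullDim_le
        rw [hd] at this
        change cdim X η x ≤ _ at this
        rw [hb] at this
        exact_mod_cast this
      rw [ha', habc, ← hca]
      have : b + a ≤ a + ⨆ p : LTSeries ↥S, (p.length : ℕ∞) := by
        rw [add_comm]; exact add_le_add le_rfl hbd
      exact_mod_cast this
    · have hD₀ : (a : WithBot ℕ∞) ≤ topologicalKrullDim ↥(U₀ ∩ Y) := by
        rw [← ha]
        exact delta_le_dim h2 h3 U₀ Y hU₀ hY x ⟨hxU₀, hx⟩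
      obtain ⟨D, hD⟩ : ∃ D : ℕ∞, topologicalKrullDim ↥(U₀ ∩ Y) = D := by
        refine ⟨(topologicalKrullDim ↥(U₀ ∩ Y)).unbot ?_, (WithBot.coe_unbot _ _).symm⟩
        intro hbot
        rw [hbot] at hD₀
        exact absurd hD₀ (by simp)
      rw [hD]
      have : a + ⨆ p : LTSeries ↥S, (p.length : ℕ∞) ≤ D := by
        rw [add_comm, ENat.iSup_add]
        refine iSup_le fun p => ?_
        set t : X := (p.last : X) with ht
        have htY : t ∈ Y := p.last.2.1
        have htx : t ⤳ x := p.last.2.2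
        obtain ⟨a', b, c, ha', hb, hc, habc, -⟩ := delta_add h2 h3 t x htx
        rw [ha] at hc
        have hca : a = c := by exact_mod_cast hc
        have hlen : (p.length : ℕ∞) ≤ b := by
          haveI := quasiSober_Icc t x
          have h1 : ((p.length : ℕ∞) : WithBot ℕ∞) ≤ cdim X t x := by
            unfold cdim
            rw [topologicalKrullDim_eq_krullDim_subtype]
            have := length_le_krullDim_subtype {s : X | t ⤳ s ∧ s ⤳ x}
              (p.map Subtype.val (fun _ _ hab => hab)) (fun i => by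
                refine ⟨?_, (p i).2.2⟩
                have hle : p i ≤ p.last := p.monotone (Fin.le_last i)
                exact Scheme.le_iff_specializes.mp hle)
            simpa using this
          rw [hb] at h1
          exact_mod_cast h1
        have h3' : (a' : WithBot ℕ∞) ≤ D := by
          rw [← ha', ← hD]
          exact delta_le_dim h2 h3 U₀ Y hU₀ hY t ⟨htx.mem_open hU₀ hxU₀, htY⟩
        have h4 : a' ≤ D := by exact_mod_cast h3'
        calc (p.length : ℕ∞) + a ≤ b + c := by rw [hca]; exact add_le_add hlen le_rfl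
          _ = a' := habc.symm
          _ ≤ D := h4
      exact_mod_cast this
  · -- (b)
    rw [← hL₀]
    apply le_antisymm
    · apply dim_inter_le h2 h3 Y hY x hx U₀ hU₀ hP₀
      intro η hηY hηx hcomp
      have hxC : (⟨x, hx⟩ : ↥Y) ∈ closure ({(⟨η, hηY⟩ : ↥Y)}) :=
        ((subtype_specializes_iff (⟨η, hηY⟩ : ↥Y) ⟨x, hx⟩).mpr hηx).mem_closure
      rw [← dim_component Y hY (closure ({(⟨η, hηY⟩ : ↥Y)})) ⟨η, hηY⟩ isGenericPoint_closure]
      exact le_iSup₂_of_le (closure ({(⟨η, hηY⟩ : ↥Y)})) ⟨hcomp, hxC⟩ le_rfl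
    · refine iSup₂_le fun C hC => ?_
      obtain ⟨η, hη⟩ := QuasiSober.sober hC.1.1 (isClosed_of_mem_irreducibleComponents C hC.1)
      rw [dim_component Y hY C η hη]
      have h1 : (η : X) ⤳ x := (subtype_specializes_iff η ⟨x, hx⟩).mp (hη.specializes hC.2)
      exact delta_le_dim h2 h3 U₀ Y hU₀ hY η ⟨h1.mem_open hU₀ hxU₀, η.2⟩

end

end Groth.Agent.Lib.helper26.DimPts
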