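import Mathlib
import Groth.Prelude.Def_Cyc
import Groth.Agent.Lib.helper26.DimLoc

universe u
open AlgebraicGeometry CategoryTheory Topology TopologicalSpace

namespace Groth.Agent.Lib.helper26.DimPts

open Groth.Agent.Lib.helper26.DimJac

/-- the quotient of the local ring at `z` by the prime of a generization `ξ` has dimension
`cdim ξ z`. -/
theorem ringKrullDim_locQuot (X : Scheme.{u}) (z ξ : X) (h : ξ ⤳ z) :
    ringKrullDim (Cyc.LocQuot z ξ h) = cdim X ξ z := by
  set R := X.presheaf.stalk z with hR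
  set 𝔭 : Ideal R := RingHom.ker (Cyc.specMap z ξ h) with h𝔭
  haveI : 𝔭.IsPrime := RingHom.ker_isPrime _
  change ringKrullDim (R ⧸ 𝔭) = _
  rw [← PrimeSpectrum.topologicalKrullDim_eq_ringKrullDim (R ⧸ 𝔭)]
  let ψ₂ : PrimeSpectrum (R ⧸ 𝔭) → PrimeSpectrum R := PrimeSpectrum.comap (Ideal.Quotient.mk 𝔭)
  let ψ₃ : PrimeSpectrum R → X := fun y => X.fromSpecStalk z (y : Spec R)
  have e2 : IsEmbedding ψ₂ :=
    (PrimeSpectrum.isClosedEmbedding_comap_of_surjective _ _
      Ideal.Quotient.mk_surjective).isEmbedding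
  have e3 : IsEmbedding ψ₃ := (X.fromSpecStalk z).isEmbedding
  have hemb : IsEmbedding (ψ₃ ∘ ψ₂) := e3.comp e2
  have hrange₃ : Set.range ψ₃ = {t : X | t ⤳ z} := Scheme.range_fromSpecStalk
  -- the point of `𝔭`
  have hpt : ψ₃ ⟨𝔭, inferInstance⟩ = ξ := by
    have h1 := Scheme.fromSpecStalk_closedPoint (X := X) (x := ξ)
    rw [← Scheme.SpecMap_stalkSpecializes_fromSpecStalk h] at h1
    have h2 : (Spec.map (X.presheaf.stalkSpecializes h))
        (IsLocalRing.closedPoint (X.presheaf.stalk ξ)) = (⟨𝔭, inferInstance⟩ : PrimeSpectrum R) := by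
      apply PrimeSpectrum.ext
      change Ideal.comap (X.presheaf.stalkSpecializes h).hom
        (IsLocalRing.maximalIdeal (X.presheaf.stalk ξ)) = 𝔭
      rw [h𝔭, Cyc.specMap, ← IsLocalRing.ker_residue, RingHom.comap_ker]
      rfl
    rw [← h2]
    exact h1
  have hspec : ∀ Q : PrimeSpectrum R, 𝔭 ≤ Q.asIdeal ↔ ξ ⤳ ψ₃ Q := by
    intro Q
    rw [← hpt, e3.isInducing.specializes_iff, ← PrimeSpectrum.le_iff_specializes]
    rfl
  have hrange : Set.range (ψ₃ ∘ ψ₂) = {t : X | ξ ⤳ t ∧ t ⤳ z} := by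
    ext t
    constructor
    · rintro ⟨Q, rfl⟩
      refine ⟨(hspec _).mp ?_, ?_⟩
      · intro a ha
        change Ideal.Quotient.mk 𝔭 a ∈ Q.asIdeal
        rw [Ideal.Quotient.eq_zero_iff_mem.mpr ha]
        exact Ideal.zero_mem _
      · have : ψ₃ (ψ₂ Q) ∈ Set.range ψ₃ := ⟨_, rfl⟩
        rw [hrange₃] at this
        exact this
    · rintro ⟨h1, h2⟩
      have : t ∈ Set.range ψ₃ := by rw [hrange₃]; exact h2
      obtain ⟨Q, rfl⟩ := this
      have hle : 𝔭 ≤ Q.asIdeal := (hspec Q).mpr h1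
      have hmem : Q ∈ Set.range ψ₂ := by
        rw [_root_.range_comap_of_surjective _ _ Ideal.Quotient.mk_surjective, Ideal.mk_ker]
        exact hle
      obtain ⟨Q', rfl⟩ := hmem
      exact ⟨Q', rfl⟩
  unfold cdim
  exact IsHomeomorph.topologicalKrullDim_eq _
    (hemb.toHomeomorph.trans (Homeomorph.setCongr hrange)).isHomeomorph

section dimfun

variable {X : Scheme.{u}} {δ : X → ℤ}

theorem dimFun_lt (hδ : Cyc.IsDimFun X δ) {a b : X} (h : a < b) : δ a < δ b := by
  have h1 : b ⤳ a := Scheme.le_iff_specializes.mp h.le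
  have hne : b ≠ a := by
    rintro rfl
    exact lt_irrefl _ h
  exact (hδ b a h1 hne).1

theorem dimFun_le (hδ : Cyc.IsDimFun X δ) {a b : X} (h : b ⤳ a) : δ a ≤ δ b := by
  by_cases hab : b = a
  · rw [hab]
  · exact (hδ b a h hab).1.le

theorem int_ltSeries_length_le (q : LTSeries ℤ) : (q.length : ℤ) ≤ q.last - q.head := by
  have key : ∀ (k : ℕ) (hk : k < q.length + 1), q 0 + k ≤ q ⟨k, hk⟩ := by
    intro k
    induction k with
    | zero => intro hk; simp
    | succ k ih =>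
      intro hk
      have h1 : q ⟨k, by omega⟩ < q ⟨k + 1, hk⟩ := q.step ⟨k, by omega⟩
      have h2 := ih (by omega)
      push_cast
      omega
  have := key q.length (by omega)
  have h5 : q ⟨q.length, by omega⟩ = q.last := rfl
  have h6 : q 0 = q.head := rfl
  rw [h5, h6] at this
  omega

theorem dimFun_length_le (hδ : Cyc.IsDimFun X δ) (p : LTSeries X) :
    (p.length : ℤ) ≤ δ p.last - δ p.head := by
  have := int_ltSeries_length_le (p.map δ (fun a b hab => dimFun_lt hδ hab))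
  simpa using this

theorem dimFun_exists_chain (hδ : Cyc.IsDimFun X δ) :
    ∀ (n : ℕ) (ξ z : X), ξ ⤳ z → δ ξ - δ z = n →
      ∃ p : LTSeries X, p.length = n ∧ p.last = ξ ∧ p.head = z := by
  intro n
  induction n with
  | zero =>
    intro ξ z h hn
    have : ξ = z := by
      by_contra hne
      have := (hδ ξ z h hne).1
      simp at hn
      omega
    subst this
    exact ⟨RelSeries.singleton _ ξ, rfl, rfl, rfl⟩
  | succ n ih =>
    intro ξ z h hn
    have hne : ξ ≠ z := by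
      rintro rfl
      simp at hn
      omega
    let P : ℤ → Prop := fun k => ∃ t : X, ξ ⤳ t ∧ t ⤳ z ∧ t ≠ ξ ∧ δ t = k
    have hbdd : ∃ b : ℤ, ∀ k : ℤ, P k → k ≤ b := by
      refine ⟨δ ξ, ?_⟩
      rintro k ⟨t, h1, -, h3, rfl⟩
      exact (hδ ξ t h1 (Ne.symm h3)).1.le
    have hinh : ∃ k : ℤ, P k := ⟨δ z, z, h, specializes_rfl, Ne.symm hne, rfl⟩
    obtain ⟨m, ⟨t, ht1, ht2, ht3, rfl⟩, hmax⟩ := Int.exists_greatest_of_bdd hbdd hinh
    have himm : ∀ w : X, ξ ⤳ w → w ⤳ t → w = ξ ∨ w = t := by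
      intro w hw1 hw2
      by_contra hcon
      push Not at hcon
      have h1 : δ w ≤ δ t := hmax (δ w) ⟨w, hw1, hw2.trans ht2, hcon.1, rfl⟩
      have h2 := (hδ w t hw2 hcon.2).1
      omega
    have hstep : δ ξ = δ t + 1 := (hδ ξ t ht1 (Ne.symm ht3)).2 himm
    obtain ⟨q, hq1, hq2, hq3⟩ := ih t z ht2 (by push_cast at hn; omega)
    have hlt : q.last < ξ := by
      rw [hq2]
      refine lt_iff_le_not_ge.mpr ⟨Scheme.le_iff_specializes.mpr ht1, fun hge => ?_⟩
      exact ht3 ((Scheme.le_iff_specializes.mp hge).antisymm ht1).eq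
    exact ⟨q.snoc ξ hlt, by simp [hq1], by simp, by simp [hq3]⟩

theorem dimFun_cdim (hδ : Cyc.IsDimFun X δ) (ξ z : X) (h : ξ ⤳ z) :
    cdim X ξ z = (((δ ξ - δ z).toNat : ℕ) : WithBot ℕ∞) := by
  haveI := quasiSober_Icc ξ z
  have hnn : 0 ≤ δ ξ - δ z := by have := dimFun_le hδ h; omega
  unfold cdim
  rw [topologicalKrullDim_eq_krullDim_subtype]
  apply le_antisymm
  · apply krullDim_subtype_le
    intro p hp
    have h1 := dimFun_length_le hδ p
    have h2 : δ p.last ≤ δ ξ := dimFun_le hδ (hp _).1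
    have h3 : δ z ≤ δ p.head := dimFun_le hδ (hp _).2
    have h4 : p.length ≤ (δ ξ - δ z).toNat := by omega
    exact_mod_cast h4
  · obtain ⟨p, hp1, hp2, hp3⟩ := dimFun_exists_chain hδ (δ ξ - δ z).toNat ξ z h (by omega)
    have := length_le_krullDim_subtype {t : X | ξ ⤳ t ∧ t ⤳ z} p (fun i => by
      refine ⟨?_, ?_⟩
      · have hle : p i ≤ p.last := p.monotone (Fin.le_last i)
        rw [hp2] at hle
        exact Scheme.le_iff_specializes.mp hle
      · have hle : p.head ≤ p i := p.monotone (Fin.zero_le i)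
        rw [hp3] at hle
        exact Scheme.le_iff_specializes.mp hle)
    rw [hp1] at this
    exact this

theorem dimFun_jacobson [JacobsonSpace X] (hδ : Cyc.IsDimFun X δ)
    (h0 : ∀ x : X, IsClosed ({x} : Set X) → δ x = 0) (ξ : X) :
    (topologicalKrullDim ↥(closure ({ξ} : Set X)) = ((δ ξ).toNat : WithBot ℕ∞) ∧ 0 ≤ δ ξ) ∧
      ∀ (z : X) (h : ξ ⤳ z), IsClosed ({z} : Set X) →
        ringKrullDim (Cyc.LocQuot z ξ h) = ((δ ξ).toNat : WithBot ℕ∞) := by
  have hnonneg : ∀ t : X, 0 ≤ δ t := by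
    intro t
    obtain ⟨s, hsa, hsc⟩ := nonempty_inter_closedPoints (X := X)
      (Z := closure ({t} : Set X)) ⟨t, subset_closure rfl⟩ isClosed_closure.isLocallyClosed
    have := dimFun_le hδ (specializes_iff_mem_closure.mpr hsa)
    rw [h0 s hsc] at this
    exact this
  have hcl : ∀ (z : X) (h : ξ ⤳ z), IsClosed ({z} : Set X) →
      cdim X ξ z = ((δ ξ).toNat : WithBot ℕ∞) := by
    intro z h hz
    rw [dimFun_cdim hδ ξ z h, h0 z hz, sub_zero]
  refine ⟨⟨?_, hnonneg ξ⟩, fun z h hz => ?_⟩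
  · apply le_antisymm
    · haveI : QuasiSober ↥(closure ({ξ} : Set X)) := quasiSober_closed_sub _ isClosed_closure
      rw [topologicalKrullDim_eq_krullDim_subtype]
      apply krullDim_subtype_le
      intro p hp
      have h1 := dimFun_length_le hδ p
      have h2 : δ p.last ≤ δ ξ := dimFun_le hδ (specializes_iff_mem_closure.mpr (hp _))
      have h3 := hnonneg p.head
      have h4 : p.length ≤ (δ ξ).toNat := by omega
      exact_mod_cast h4
    · obtain ⟨s, hsa, hsc⟩ := nonempty_inter_closedPoints (X := X)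
        (Z := closure ({ξ} : Set X)) ⟨ξ, subset_closure rfl⟩ isClosed_closure.isLocallyClosed
      have hξs : ξ ⤳ s := specializes_iff_mem_closure.mpr hsa
      rw [← hcl s hξs hsc]
      have hsub : {t : X | ξ ⤳ t ∧ t ⤳ s} ⊆ closure ({ξ} : Set X) :=
        fun t ht => ht.1.mem_closure
      exact (IsEmbedding.inclusion hsub).isInducing.topologicalKrullDim_le
  · rw [ringKrullDim_locQuot, hcl z h hz]

end dimfun

end Groth.Agent.Lib.helper26.DimPts
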