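import Mathlib
import Groth.Prelude.Def_Cyc
import Groth.Agent.Lib.helper26.DimFun

universe u
open AlgebraicGeometry CategoryTheory Topology TopologicalSpace

namespace Groth.Agent.Lib.helper26.DimPts

open Groth.Agent.Lib.helper26.DimJac Groth.Agent.Lib.helper26.DimIneq

/-- chart-free dimension formula along a specialization. -/
theorem cdim_formula {X Y : Scheme.{u}} [IsLocallyNoetherian Y]
    (hY : ∀ y : Y, CAlg.IsUniversallyCatenary (Y.presheaf.stalk y)) (f : X ⟶ Y)
    [LocallyOfFiniteType f] (x ξ : X) (hsp : ξ ⤳ x) :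
    ∃ a b : ℕ∞, cdim X ξ x = a ∧ cdim Y (f ξ) (f x) = b ∧
      (a : Cardinal.{u}) + @Algebra.trdeg (Y.residueField (f x)) (X.residueField x) _ _
        (f.residueFieldMap x).hom.toAlgebra =
      (b : Cardinal.{u}) + @Algebra.trdeg (Y.residueField (f ξ)) (X.residueField ξ) _ _
        (f.residueFieldMap ξ).hom.toAlgebra := by
  obtain ⟨_, ⟨V, hV, rfl⟩, hsV, -⟩ := Y.isBasis_affineOpens.exists_subset_of_mem_open
    (Set.mem_univ (f x)) isOpen_univ
  obtain ⟨_, ⟨U, hU, rfl⟩, hxU, hUV⟩ := X.isBasis_affineOpens.exists_subset_of_mem_open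
    (show x ∈ ((f ⁻¹ᵁ V : X.Opens) : Set X) from hsV) (f ⁻¹ᵁ V).isOpen
  have e : U ≤ f ⁻¹ᵁ V := hUV
  have hV' : IsAffineOpen V := hV
  have hU' : IsAffineOpen U := hU
  have hξU : ξ ∈ U := hsp.mem_open U.isOpen hxU
  refine ⟨_, _, cdim_eq_height hU' ξ x hξU hxU hsp,
    cdim_eq_height hV' (f ξ) (f x) (e hξU) (e hxU) (hsp.map f.continuous), ?_⟩
  exact chart_formula hY f hV' hU' e x ξ hxU hξU hsp

theorem one_le_cdim {X : Scheme.{u}} (ξ x : X) (hsp : ξ ⤳ x) (hne : ξ ≠ x) :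
    (1 : WithBot ℕ∞) ≤ cdim X ξ x := by
  haveI := quasiSober_Icc ξ x
  unfold cdim
  rw [topologicalKrullDim_eq_krullDim_subtype]
  have hlt : x < ξ := by
    refine lt_iff_le_not_ge.mpr ⟨Scheme.le_iff_specializes.mpr hsp, fun hge => ?_⟩
    exact hne ((Scheme.le_iff_specializes.mp hge).antisymm hsp).eq.symm
  let p : LTSeries X := (RelSeries.singleton _ x).snoc ξ hlt
  have := length_le_krullDim_subtype {t : X | ξ ⤳ t ∧ t ⤳ x} p (fun i => by
    refine ⟨?_, ?_⟩
    · have hle : p i ≤ p.last := p.monotone (Fin.le_last i)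
      have hl : p.last = ξ := by simp [p]
      rw [hl] at hle
      exact Scheme.le_iff_specializes.mp hle
    · have hle : p.head ≤ p i := p.monotone (Fin.zero_le i)
      have hl : p.head = x := by simp [p]
      rw [hl] at hle
      exact Scheme.le_iff_specializes.mp hle)
  have hlen : p.length = 1 := by simp [p]
  rw [hlen] at this
  exact_mod_cast this

theorem cdim_le_one_of_immediate {X : Scheme.{u}} (ξ x : X) (hsp : ξ ⤳ x)
    (himm : ∀ z : X, ξ ⤳ z → z ⤳ x → z = ξ ∨ z = x) :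
    cdim X ξ x ≤ (1 : WithBot ℕ∞) := by
  haveI := quasiSober_Icc ξ x
  unfold cdim
  rw [topologicalKrullDim_eq_krullDim_subtype]
  apply krullDim_subtype_le
  intro p hp
  by_contra hcon
  have h2 : 2 ≤ p.length := by
    by_contra h
    apply hcon
    have : p.length ≤ 1 := by omega
    exact_mod_cast this
  have h01 : p ⟨0, by omega⟩ < p ⟨1, by omega⟩ := p.strictMono (by simp [Fin.lt_def])
  have h12 : p ⟨1, by omega⟩ < p ⟨2, by omega⟩ := p.strictMono (by simp [Fin.lt_def])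
  have hxξ : x ≤ ξ := Scheme.le_iff_specializes.mpr hsp
  have m0 := himm _ (hp ⟨0, by omega⟩).1 (hp ⟨0, by omega⟩).2
  have m1 := himm _ (hp ⟨1, by omega⟩).1 (hp ⟨1, by omega⟩).2
  have m2 := himm _ (hp ⟨2, by omega⟩).1 (hp ⟨2, by omega⟩).2
  rcases m0 with m0 | m0 <;> rcases m1 with m1 | m1 <;> rcases m2 with m2 | m2 <;>
    rw [m0, m1] at h01 <;> rw [m1, m2] at h12
  all_goals first
    | exact lt_irrefl _ h01
    | exact lt_irrefl _ h12
    | exact lt_irrefl _ (h01.trans_le hxξ)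
    | exact lt_irrefl _ (h12.trans_le hxξ)

/-- S9684: the induced function of a dimension function along a morphism locally of finite type
is a dimension function. -/
theorem isDimFun_of_deltaCompat {X S : Scheme.{u}} (f : X ⟶ S) [LocallyOfFiniteType f]
    (δ : S → ℤ) (hS : Cyc.IsSetup S δ) (δX : X → ℤ) (hδ : Cyc.DeltaCompat f δX δ) :
    Cyc.IsDimFun X δX := by
  haveI := hS.1
  have key : ∀ ξ x : X, ξ ⤳ x → ∃ m : ℕ, cdim X ξ x = ((m : ℕ) : WithBot ℕ∞) ∧
      (m : ℤ) = δX ξ - δX x := by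
    intro ξ x hsp
    obtain ⟨a, b, ha, hb, hab⟩ := cdim_formula hS.2.1 f x ξ hsp
    obtain ⟨nx, hnx, hδx⟩ := hδ x
    obtain ⟨nξ, hnξ, hδξ⟩ := hδ ξ
    have hnx' : @Algebra.trdeg (S.residueField (f x)) (X.residueField x) _ _
        (f.residueFieldMap x).hom.toAlgebra = nx := hnx
    have hnξ' : @Algebra.trdeg (S.residueField (f ξ)) (X.residueField ξ) _ _
        (f.residueFieldMap ξ).hom.toAlgebra = nξ := hnξ
    rw [hnx', hnξ'] at hab
    have hb' := dimFun_cdim hS.2.2 (f ξ) (f x) (hsp.map f.continuous)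
    have hnn : δ (f x) ≤ δ (f ξ) := dimFun_le hS.2.2 (hsp.map f.continuous)
    set k : ℕ := (δ (f ξ) - δ (f x)).toNat with hk
    rw [hb] at hb'
    have hbk : b = (k : ℕ∞) := by exact_mod_cast hb'
    rw [hbk] at hab
    have h8 : a + (nx : ℕ∞) = (k : ℕ∞) + (nξ : ℕ∞) := by
      apply Cardinal.ofENat_injective.{u}
      simpa [Cardinal.ofENat_add] using hab
    have hatop : a ≠ ⊤ := by
      intro h
      rw [h] at h8
      simp only [top_add] at h8
      have h10 : ((k : ℕ∞) + (nξ : ℕ∞)) = ((k + nξ : ℕ) : ℕ∞) := by push_cast; rfl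
      rw [h10] at h8
      exact ENat.coe_ne_top _ h8.symm
    lift a to ℕ using hatop
    have h9 : a + nx = k + nξ := by exact_mod_cast h8
    refine ⟨a, ha, ?_⟩
    have hkz : (k : ℤ) = δ (f ξ) - δ (f x) := by rw [hk]; omega
    rw [hδx, hδξ]
    omega
  intro ξ x hsp hne
  obtain ⟨m, hm1, hm2⟩ := key ξ x hsp
  refine ⟨?_, fun himm => ?_⟩
  · have h1 := one_le_cdim ξ x hsp hne
    rw [hm1] at h1
    have : 1 ≤ m := by exact_mod_cast h1
    omega
  · have h1 := one_le_cdim ξ x hsp hne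
    have h2 := cdim_le_one_of_immediate ξ x hsp himm
    rw [hm1] at h1 h2
    have h1' : 1 ≤ m := by exact_mod_cast h1
    have h2' : m ≤ 1 := by exact_mod_cast h2
    omega

end Groth.Agent.Lib.helper26.DimPts
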