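import Mathlib
import Groth.Prelude.Def_W4c5adicflatcomplDec

/-!
# I-adically convergent sums of decaying families
-/

namespace Groth.Agent.Lib.helper26.AdicSum

open W4c5adicflatcompl

variable {A : Type*} [CommRing A] (I : Ideal A) {Z : Type*} {M : Type*}
  [AddCommGroup M] [Module A M]

/-- the filtration -/
abbrev F (n : ℕ) : Submodule A M := (I ^ n • ⊤ : Submodule A M)

theorem F_anti {m n : ℕ} (h : m ≤ n) : (F I n : Submodule A M) ≤ F I m :=
  Submodule.pow_smul_top_le I M h

variable {I}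

/-- the finite set where `x z ∉ I^n M` -/
noncomputable def supp (x : Z → M) (hx : x ∈ decaying I Z M) (n : ℕ) : Finset Z :=
  (hx n).toFinset

theorem mem_supp {x : Z → M} (hx : x ∈ decaying I Z M) (n : ℕ) (z : Z) :
    z ∈ supp x hx n ↔ x z ∉ (F I n : Submodule A M) := by
  simp [supp]

theorem supp_mono {x : Z → M} (hx : x ∈ decaying I Z M) {m n : ℕ} (h : m ≤ n) :
    supp x hx m ⊆ supp x hx n := by
  intro z hz
  rw [mem_supp] at hz ⊢
  exact fun h' => hz (F_anti I h h')

theorem sum_sdiff_mem {x : Z → M} (hx : x ∈ decaying I Z M) (n : ℕ) (S : Finset Z)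
    (hS : supp x hx n ⊆ S) :
    ∑ z ∈ S, x z - ∑ z ∈ supp x hx n, x z ∈ (F I n : Submodule A M) := by
  classical
  rw [← Finset.sum_sdiff hS, add_sub_cancel_right]
  apply Submodule.sum_mem
  intro z hz
  rw [Finset.mem_sdiff, mem_supp, not_not] at hz
  exact hz.2

theorem exists_adicSum [IsPrecomplete I M] (x : Z → M) (hx : x ∈ decaying I Z M) :
    ∃ L : M, ∀ n, ∑ z ∈ supp x hx n, x z ≡ L [SMOD (I ^ n • ⊤ : Submodule A M)] := by
  apply IsPrecomplete.prec ‹_›
  intro m n hmn
  rw [SModEq.sub_mem]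
  have := sum_sdiff_mem hx m (supp x hx n) (supp_mono hx hmn)
  rw [← neg_sub]
  exact Submodule.neg_mem _ this

/-- the adic sum -/
noncomputable def adicSum [IsPrecomplete I M] (x : Z → M) (hx : x ∈ decaying I Z M) : M :=
  (exists_adicSum x hx).choose

theorem adicSum_spec [IsPrecomplete I M] (x : Z → M) (hx : x ∈ decaying I Z M) (n : ℕ)
    (S : Finset Z) (hS : supp x hx n ⊆ S) :
    adicSum x hx - ∑ z ∈ S, x z ∈ (F I n : Submodule A M) := by
  have h1 := (exists_adicSum x hx).choose_spec n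
  rw [SModEq.sub_mem] at h1
  have h2 := sum_sdiff_mem hx n S hS
  have : adicSum x hx - ∑ z ∈ S, x z =
      -(∑ z ∈ supp x hx n, x z - adicSum x hx) - (∑ z ∈ S, x z - ∑ z ∈ supp x hx n, x z) := by
    abel
  rw [this]
  exact Submodule.sub_mem _ (Submodule.neg_mem _ h1) h2

theorem subset_of_forall {x : Z → M} (hx : x ∈ decaying I Z M) (n : ℕ) (S : Finset Z)
    (hS : ∀ z, z ∉ S → x z ∈ (F I n : Submodule A M)) : supp x hx n ⊆ S := by
  intro z hz
  rw [mem_supp] at hz
  by_contra h
  exact hz (hS z h)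

/-- uniqueness -/
theorem adicSum_eq [IsAdicComplete I M] (x : Z → M) (hx : x ∈ decaying I Z M) (L : M)
    (hL : ∀ n : ℕ, ∃ S : Finset Z, (∀ z, z ∉ S → x z ∈ (F I n : Submodule A M)) ∧
      L - ∑ z ∈ S, x z ∈ (F I n : Submodule A M)) : adicSum x hx = L := by
  rw [IsHausdorff.eq_iff_smodEq (I := I)]
  intro n
  rw [SModEq.sub_mem]
  obtain ⟨S, hS1, hS2⟩ := hL n
  have h1 := adicSum_spec x hx n S (subset_of_forall hx n S hS1)
  have : adicSum x hx - L = (adicSum x hx - ∑ z ∈ S, x z) - (L - ∑ z ∈ S, x z) := by abel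
  rw [this]
  exact Submodule.sub_mem _ h1 hS2

theorem adicSum_add [IsAdicComplete I M] (x y : Z → M) (hx : x ∈ decaying I Z M)
    (hy : y ∈ decaying I Z M) :
    adicSum (x + y) ((decaying I Z M).add_mem hx hy) = adicSum x hx + adicSum y hy := by
  classical
  apply adicSum_eq
  intro n
  refine ⟨supp x hx n ∪ supp y hy n, ?_, ?_⟩
  · intro z hz
    rw [Finset.mem_union, not_or, mem_supp, mem_supp, not_not, not_not] at hz
    exact Submodule.add_mem _ hz.1 hz.2
  · have h1 := adicSum_spec x hx n _ (Finset.subset_union_left (s₂ := supp y hy n))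
    have h2 := adicSum_spec y hy n _ (Finset.subset_union_right (s₁ := supp x hx n))
    simp only [Pi.add_apply, Finset.sum_add_distrib]
    have : adicSum x hx + adicSum y hy -
        (∑ z ∈ supp x hx n ∪ supp y hy n, x z + ∑ z ∈ supp x hx n ∪ supp y hy n, y z) =
        (adicSum x hx - ∑ z ∈ supp x hx n ∪ supp y hy n, x z) +
        (adicSum y hy - ∑ z ∈ supp x hx n ∪ supp y hy n, y z) := by abel
    rw [this]
    exact Submodule.add_mem _ h1 h2

theorem adicSum_smul [IsAdicComplete I M] (a : A) (x : Z → M) (hx : x ∈ decaying I Z M) :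
    adicSum (a • x) ((decaying I Z M).smul_mem a hx) = a • adicSum x hx := by
  apply adicSum_eq
  intro n
  refine ⟨supp x hx n, ?_, ?_⟩
  · intro z hz
    rw [mem_supp, not_not] at hz
    exact Submodule.smul_mem _ a hz
  · have h1 := adicSum_spec x hx n _ (Finset.Subset.refl _)
    simp only [Pi.smul_apply, ← Finset.smul_sum, ← smul_sub]
    exact Submodule.smul_mem _ a h1

/-- the adic sum as a linear map -/
noncomputable def adicSumₗ [IsAdicComplete I M] : decaying I Z M →ₗ[A] M where
  toFun x := adicSum x.1 x.2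
  map_add' x y := adicSum_add x.1 y.1 x.2 y.2
  map_smul' a x := adicSum_smul a x.1 x.2

theorem adicSumₗ_apply [IsAdicComplete I M] (x : decaying I Z M) :
    adicSumₗ (I := I) x = adicSum x.1 x.2 := rfl

/-- `I^n • ⊤ = I^n` in `A` -/
theorem mem_F_self_iff (n : ℕ) (a : A) : a ∈ (F I n : Submodule A A) ↔ a ∈ I ^ n := by
  simp [F, smul_eq_mul, Ideal.mul_top]

theorem smul_mem_F {n : ℕ} {a : A} (ha : a ∈ I ^ n) (m : M) : a • m ∈ (F I n : Submodule A M) :=
  Submodule.smul_mem_smul ha trivial

/-- multiplication of a decaying scalar family with any family -/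
theorem smul_mem_decaying {g : Z → A} (hg : g ∈ decaying I Z A) (f : Z → M) :
    (fun z => g z • f z) ∈ decaying I Z M := by
  intro n
  refine (hg n).subset ?_
  intro z hz hgz
  apply hz
  exact smul_mem_F ((mem_F_self_iff n _).mp hgz) _

/-- the linear map `g ↦ (z ↦ g z • f z)` -/
noncomputable def smulFamily (f : Z → M) : decaying I Z A →ₗ[A] decaying I Z M where
  toFun g := ⟨fun z => g.1 z • f z, smul_mem_decaying g.2 f⟩
  map_add' g h := by
    ext z
    simp [add_smul]
  map_smul' a g := by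
    ext z
    simp [mul_smul]

end Groth.Agent.Lib.helper26.AdicSum
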