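import Mathlib
import Groth.Agent.Lib.helper26.AdicSum

/-!
# Artin–Rees consequences for decaying functions
-/

namespace Groth.Agent.Lib.helper26.AdicSum

open W4c5adicflatcompl

variable {A : Type*} [CommRing A] {I : Ideal A} {Z : Type*} {M : Type*}
  [AddCommGroup M] [Module A M]

/-- membership in `I^n • ⊤` of a submodule, seen in the ambient module -/
theorem mem_F_sub_iff (N : Submodule A M) (n : ℕ) (x : N) :
    x ∈ (F I n : Submodule A N) ↔ (x : M) ∈ (I ^ n • N : Submodule A M) := by
  have h : (I ^ n • N : Submodule A M) = (F I n : Submodule A N).map N.subtype := by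
    rw [F, Submodule.map_smul'', Submodule.map_subtype_top]
  rw [h]
  constructor
  · intro hx
    exact Submodule.mem_map_of_mem hx
  · rintro ⟨y, hy, hxy⟩
    have : y = x := Subtype.ext hxy
    rwa [← this]

theorem coe_mem_F_of_mem (N : Submodule A M) (n : ℕ) (x : N)
    (hx : x ∈ (F I n : Submodule A N)) : (x : M) ∈ (F I n : Submodule A M) := by
  rw [mem_F_sub_iff] at hx
  exact Submodule.smul_mono le_rfl le_top hx

/-- Artin–Rees for decaying functions -/
theorem decaying_sub_iff [IsNoetherianRing A] [Module.Finite A M] (N : Submodule A M)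
    (f : Z → N) : f ∈ decaying I Z N ↔ (fun z => (f z : M)) ∈ decaying I Z M := by
  constructor
  · intro hf n
    refine (hf n).subset ?_
    intro z hz hfz
    exact hz (coe_mem_F_of_mem N n (f z) hfz)
  · intro hf n
    obtain ⟨k, hk⟩ := Ideal.exists_pow_inf_eq_pow_smul I N
    refine (hf (n + k)).subset ?_
    intro z hz hfz
    apply hz
    rw [mem_F_sub_iff]
    have h1 : (f z : M) ∈ (I ^ (n + k) • ⊤ ⊓ N : Submodule A M) := ⟨hfz, (f z).2⟩
    rw [hk (n + k) (by omega), Nat.add_sub_cancel] at h1
    exact Submodule.smul_mono le_rfl inf_le_right h1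

/-- image of `I^n • ⊤` under a surjection -/
theorem F_map_of_surjective {M'' : Type*} [AddCommGroup M''] [Module A M''] (φ : M →ₗ[A] M'')
    (hφ : Function.Surjective φ) (n : ℕ) :
    (F I n : Submodule A M).map φ = (F I n : Submodule A M'') := by
  rw [F, Submodule.map_smul'', Submodule.map_top, LinearMap.range_eq_top.mpr hφ]

/-- Krull: a finitely generated module over a Noetherian `I`-adically complete ring is Hausdorff -/
theorem isHausdorff_of_finite [IsNoetherianRing A] [IsAdicComplete I A] [Module.Finite A M] :
    IsHausdorff I M := by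
  constructor
  intro x hx
  have hJ : I ≤ Ideal.jacobson ⊥ := IsAdicComplete.le_jacobson_bot I
  have h := Ideal.iInf_pow_smul_eq_bot_of_le_jacobson (M := M) I hJ
  have : x ∈ (⨅ i : ℕ, I ^ i • ⊤ : Submodule A M) := by
    rw [Submodule.mem_iInf]
    intro n
    have := hx n
    rwa [SModEq.sub_mem, sub_zero] at this
  rw [h] at this
  exact (Submodule.mem_bot A).mp this

/-- lifting decaying functions along a surjection from a finite module -/
theorem exists_decaying_lift [IsNoetherianRing A] [IsAdicComplete I A] [Module.Finite A M]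
    {M'' : Type*} [AddCommGroup M''] [Module A M''] (φ : M →ₗ[A] M'')
    (hφ : Function.Surjective φ) (g : Z → M'') (hg : g ∈ decaying I Z M'') :
    ∃ f : Z → M, f ∈ decaying I Z M ∧ ∀ z, φ (f z) = g z := by
  classical
  have : Module.Finite A M'' := Module.Finite.of_surjective φ hφ
  have : IsHausdorff I M'' := isHausdorff_of_finite
  -- for each z choose a good preimage
  have key : ∀ z, ∃ y : M, φ y = g z ∧ ∀ n, g z ∈ (F I n : Submodule A M'') →
      y ∈ (F I n : Submodule A M) := by
    intro z
    by_cases h0 : g z = 0
    · exact ⟨0, by simp [h0], fun n _ => Submodule.zero_mem _⟩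
    · -- there is a largest n with g z ∈ F n
      have hex : ∃ n, g z ∉ (F I n : Submodule A M'') := by
        by_contra hcon
        push Not at hcon
        apply h0
        apply IsHausdorff.haus ‹IsHausdorff I M''›
        intro n
        rw [SModEq.sub_mem, sub_zero]
        exact hcon n
      let n₀ := Nat.find hex
      have hn₀ : g z ∉ (F I n₀ : Submodule A M'') := Nat.find_spec hex
      have hn₀pos : n₀ ≠ 0 := by
        intro h
        apply hn₀
        rw [h]
        simp [F]
      obtain ⟨p, hp⟩ := Nat.exists_eq_succ_of_ne_zero hn₀pos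
      have hp_mem : g z ∈ (F I p : Submodule A M'') := by
        have := Nat.find_min hex (m := p) (by omega)
        rwa [not_not] at this
      rw [← F_map_of_surjective φ hφ p] at hp_mem
      obtain ⟨y, hy, hyz⟩ := hp_mem
      refine ⟨y, hyz, fun n hn => ?_⟩
      have hnp : n ≤ p := by
        by_contra hlt
        push Not at hlt
        have : n₀ ≤ n := by omega
        exact hn₀ (F_anti I this hn)
      exact F_anti I hnp hy
  choose f hf1 hf2 using key
  refine ⟨f, ?_, hf1⟩
  intro n
  refine (hg n).subset ?_
  intro z hz hgz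
  exact hz (hf2 z n hgz)

end Groth.Agent.Lib.helper26.AdicSum
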