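import Mathlib
import Groth.Agent.Lib.helper26.AdicAR

/-!
# The module of decaying functions: `I^n • decaying`, completeness
-/

namespace Groth.Agent.Lib.helper26.AdicSum

open W4c5adicflatcompl

variable {A : Type*} [CommRing A] {I : Ideal A} {Z : Type*} {P : Type*}
  [AddCommGroup P] [Module A P]

/-- easy direction: elements of `I^n • decaying` have values in `I^n P` -/
theorem apply_mem_F_of_mem (n : ℕ) (f : decaying I Z P)
    (hf : f ∈ (F I n : Submodule A (decaying I Z P))) (z : Z) :
    (f : Z → P) z ∈ (F I n : Submodule A P) := by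
  refine Submodule.smul_induction_on hf ?_ ?_
  · intro a ha h _
    exact smul_mem_F ha _
  · intro x y hx hy
    exact Submodule.add_mem _ hx hy

/-- writing elements of `I^(n+k) P` through generators of `I^n` -/
theorem exists_coeffs {r : ℕ} (c : Fin r → A) (n : ℕ) (hc : Ideal.span (Set.range c) = I ^ n)
    (k : ℕ) (x : P) (hx : x ∈ (F I (n + k) : Submodule A P)) :
    ∃ b : Fin r → P, (∀ j, b j ∈ (F I k : Submodule A P)) ∧ x = ∑ j, c j • b j := by
  have h1 : (F I (n + k) : Submodule A P) = I ^ n • (F I k : Submodule A P) := by
    rw [F, F, pow_add, Submodule.mul_smul]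
  rw [h1] at hx
  refine Submodule.smul_induction_on hx ?_ ?_
  · intro a ha q hq
    rw [← hc] at ha
    obtain ⟨s, rfl⟩ := Ideal.mem_span_range_iff_exists_fun.mp ha
    refine ⟨fun j => s j • q, fun j => Submodule.smul_mem _ _ hq, ?_⟩
    rw [Finset.sum_smul]
    apply Finset.sum_congr rfl
    intro j _
    rw [smul_smul, mul_comm]
  · rintro x y ⟨b₁, hb₁, rfl⟩ ⟨b₂, hb₂, rfl⟩
    refine ⟨b₁ + b₂, fun j => Submodule.add_mem _ (hb₁ j) (hb₂ j), ?_⟩
    simp [smul_add, Finset.sum_add_distrib]

/-- hard direction: a decaying function with values in `I^n P` lies in `I^n • decaying` -/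
theorem mem_F_of_apply_mem [IsNoetherianRing A] [IsHausdorff I P] (n : ℕ) (f : decaying I Z P)
    (hf : ∀ z, (f : Z → P) z ∈ (F I n : Submodule A P)) :
    f ∈ (F I n : Submodule A (decaying I Z P)) := by
  classical
  obtain ⟨s, hs⟩ : (I ^ n).FG := IsNoetherian.noetherian _
  -- enumerate generators
  let r := s.card
  let c : Fin r → A := fun j => (s.equivFin.symm j : A)
  have hc : Ideal.span (Set.range c) = I ^ n := by
    rw [← hs]
    congr 1
    ext a
    constructor
    · rintro ⟨j, rfl⟩
      exact (s.equivFin.symm j).2
    · intro ha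
      exact ⟨s.equivFin ⟨a, ha⟩, by simp [c]⟩
  -- choose coefficients with the best possible level
  have key : ∀ z, ∃ b : Fin r → P, (f : Z → P) z = ∑ j, c j • b j ∧
      ∀ k, (f : Z → P) z ∈ (F I (n + k) : Submodule A P) → ∀ j, b j ∈ (F I k : Submodule A P) := by
    intro z
    by_cases h0 : (f : Z → P) z = 0
    · exact ⟨0, by simp [h0], fun k _ j => Submodule.zero_mem _⟩
    · have hex : ∃ k, (f : Z → P) z ∉ (F I (n + k) : Submodule A P) := by
        by_contra hcon
        push Not at hcon
        apply h0
        apply IsHausdorff.haus ‹IsHausdorff I P›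
        intro m
        rw [SModEq.sub_mem, sub_zero]
        exact F_anti I (Nat.le_add_left m n) (hcon m)
      let k₀ := Nat.find hex
      have hk₀ : (f : Z → P) z ∉ (F I (n + k₀) : Submodule A P) := Nat.find_spec hex
      have hk₀pos : k₀ ≠ 0 := by
        intro h
        apply hk₀
        rw [h, add_zero]
        exact hf z
      obtain ⟨p, hp⟩ := Nat.exists_eq_succ_of_ne_zero hk₀pos
      have hp_mem : (f : Z → P) z ∈ (F I (n + p) : Submodule A P) := by
        have := Nat.find_min hex (m := p) (by omega)
        rwa [not_not] at this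
      obtain ⟨b, hb1, hb2⟩ := exists_coeffs c n hc p _ hp_mem
      refine ⟨b, hb2, fun k hk j => ?_⟩
      have hkp : k ≤ p := by
        by_contra hlt
        push Not at hlt
        have : n + k₀ ≤ n + k := by omega
        exact hk₀ (F_anti I this hk)
      exact F_anti I hkp (hb1 j)
  choose b hb1 hb2 using key
  -- the coordinate functions are decaying
  have hdec : ∀ j, (fun z => b z j) ∈ decaying I Z P := by
    intro j k
    refine (f.2 (n + k)).subset ?_
    intro z hz hfz
    exact hz (hb2 z k hfz j)
  have hsum : f = ∑ j, c j • (⟨fun z => b z j, hdec j⟩ : decaying I Z P) := by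
    apply Subtype.ext
    funext z
    rw [hb1 z]
    simp
  rw [hsum]
  apply Submodule.sum_mem
  intro j _
  have hcj : c j ∈ I ^ n := by
    rw [← hc]
    exact Ideal.subset_span ⟨j, rfl⟩
  exact Submodule.smul_mem_smul hcj Submodule.mem_top

theorem mem_F_iff_apply_mem [IsNoetherianRing A] [IsHausdorff I P] (n : ℕ) (f : decaying I Z P) :
    f ∈ (F I n : Submodule A (decaying I Z P)) ↔ ∀ z, (f : Z → P) z ∈ (F I n : Submodule A P) :=
  ⟨fun h z => apply_mem_F_of_mem n f h z, mem_F_of_apply_mem n f⟩

/-- completeness of the module of decaying functions -/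
theorem isAdicComplete_decaying [IsNoetherianRing A] [IsAdicComplete I P] :
    IsAdicComplete I (decaying I Z P) := by
  have hH : IsHausdorff I (decaying I Z P) := by
    constructor
    intro f hf
    apply Subtype.ext
    funext z
    apply IsHausdorff.haus (inferInstance : IsHausdorff I P)
    intro n
    have := hf n
    rw [SModEq.sub_mem, sub_zero] at this ⊢
    exact apply_mem_F_of_mem n f this z
  have hP : IsPrecomplete I (decaying I Z P) := by
    constructor
    intro f hf
    -- pointwise limits
    have hpt : ∀ z, ∃ L : P, ∀ n, ((f n : decaying I Z P) : Z → P) z ≡ L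
        [SMOD (I ^ n • ⊤ : Submodule A P)] := by
      intro z
      apply IsPrecomplete.prec (inferInstance : IsPrecomplete I P)
      intro m n hmn
      have := hf hmn
      rw [SModEq.sub_mem] at this ⊢
      have h2 := apply_mem_F_of_mem m _ this z
      simpa using h2
    choose L hL using hpt
    have hLdec : L ∈ decaying I Z P := by
      intro n
      refine ((f n).2 n).subset ?_
      intro z hz hfz
      apply hz
      have := hL z n
      rw [SModEq.sub_mem] at this
      have h3 : L z = ((f n : decaying I Z P) : Z → P) z - (((f n : decaying I Z P) : Z → P) z - L z) := by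
        abel
      rw [h3]
      exact Submodule.sub_mem _ hfz this
    refine ⟨⟨L, hLdec⟩, fun n => ?_⟩
    rw [SModEq.sub_mem]
    apply mem_F_of_apply_mem
    intro z
    have := hL z n
    rw [SModEq.sub_mem] at this
    simpa using this
  exact { toIsHausdorff := hH, toIsPrecomplete := hP }

end Groth.Agent.Lib.helper26.AdicSum
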