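import Mathlib
import Groth.Agent.Lib.helper26.AdicDec

/-!
# `M ⊗ decaying(Z, A) ≃ decaying(Z, M)` for finite `M`; flatness of `decaying(Z, A)`
-/

namespace Groth.Agent.Lib.helper26.AdicSum

open W4c5adicflatcompl TensorProduct

variable {A : Type*} [CommRing A] {I : Ideal A} {Z : Type*}

/-- linear maps preserve the filtration -/
theorem map_mem_F {P Q : Type*} [AddCommGroup P] [Module A P] [AddCommGroup Q] [Module A Q]
    (ℓ : P →ₗ[A] Q) (n : ℕ) (x : P) (hx : x ∈ (F I n : Submodule A P)) :
    ℓ x ∈ (F I n : Submodule A Q) := by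
  have : (F I n : Submodule A P).map ℓ ≤ (F I n : Submodule A Q) := by
    rw [F, Submodule.map_smul'']
    exact Submodule.smul_mono le_rfl le_top
  exact this (Submodule.mem_map_of_mem hx)

theorem comp_mem_decaying {P Q : Type*} [AddCommGroup P] [Module A P] [AddCommGroup Q] [Module A Q]
    (ℓ : P →ₗ[A] Q) (f : Z → P) (hf : f ∈ decaying I Z P) : (fun z => ℓ (f z)) ∈ decaying I Z Q := by
  intro n
  refine (hf n).subset ?_
  intro z hz hfz
  exact hz (map_mem_F ℓ n _ hfz)

/-- coordinates of a decaying function into `A^r` -/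
theorem coord_decaying {r : ℕ} (h : Z → (Fin r → A)) (hh : h ∈ decaying I Z (Fin r → A)) (j : Fin r) :
    (fun z => h z j) ∈ decaying I Z A :=
  comp_mem_decaying (LinearMap.proj j) h hh

/-- a tuple of decaying functions is decaying into `A^r` -/
theorem tuple_decaying {r : ℕ} (d : Fin r → decaying I Z A) :
    (fun z j => (d j : Z → A) z) ∈ decaying I Z (Fin r → A) := by
  classical
  intro n
  have hfin : (⋃ j : Fin r, {z | (d j : Z → A) z ∉ (F I n : Submodule A A)}).Finite :=
    Set.finite_iUnion (fun j => (d j).2 n)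
  refine hfin.subset ?_
  intro z hz
  rw [Set.mem_iUnion]
  by_contra hcon
  push Not at hcon
  apply hz
  have hx : (fun j => (d j : Z → A) z) = ∑ j, (d j : Z → A) z • (Pi.single j (1 : A) : Fin r → A) := by
    funext i
    simp [Finset.sum_apply, Pi.single_apply]
  show (fun j => (d j : Z → A) z) ∈ (F I n : Submodule A (Fin r → A))
  rw [hx]
  apply Submodule.sum_mem
  intro j _
  have := hcon j
  simp only [Set.mem_ofPred_eq, not_not] at this
  exact smul_mem_F ((mem_F_self_iff n _).mp this) _

variable (I Z) in
/-- the comparison map -/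
noncomputable def Φ (M : Type*) [AddCommGroup M] [Module A M] :
    M ⊗[A] (decaying I Z A) →ₗ[A] (Z → M) :=
  (TensorProduct.piScalarRightHom A A M Z) ∘ₗ ((decaying I Z A).subtype.lTensor M)

theorem Φ_tmul (M : Type*) [AddCommGroup M] [Module A M] (m : M) (d : decaying I Z A) :
    Φ I Z M (m ⊗ₜ d) = fun z => (d : Z → A) z • m := by
  simp [Φ]

section finite

variable {M : Type*} [AddCommGroup M] [Module A M]

theorem exists_rep {r : ℕ} (s : Fin r → M) (hs : Submodule.span A (Set.range s) = ⊤)
    (t : M ⊗[A] (decaying I Z A)) : ∃ d : Fin r → decaying I Z A, t = ∑ j, s j ⊗ₜ[A] d j := by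
  induction t using TensorProduct.induction_on with
  | zero => exact ⟨0, by simp⟩
  | tmul m d =>
    have hm : m ∈ Submodule.span A (Set.range s) := by rw [hs]; trivial
    obtain ⟨a, rfl⟩ := (Submodule.mem_span_range_iff_exists_fun A).mp hm
    refine ⟨fun j => a j • d, ?_⟩
    rw [TensorProduct.sum_tmul]
    apply Finset.sum_congr rfl
    intro j _
    rw [TensorProduct.smul_tmul]
  | add x y hx hy =>
    obtain ⟨d₁, rfl⟩ := hx
    obtain ⟨d₂, rfl⟩ := hy
    refine ⟨d₁ + d₂, ?_⟩
    simp [TensorProduct.tmul_add, Finset.sum_add_distrib]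

theorem Φ_range_le (M : Type*) [AddCommGroup M] [Module A M] :
    LinearMap.range (Φ I Z M) ≤ decaying I Z M := by
  rintro _ ⟨t, rfl⟩
  induction t using TensorProduct.induction_on with
  | zero => rw [map_zero]; exact Submodule.zero_mem _
  | tmul m d => rw [Φ_tmul]; exact smul_mem_decaying d.2 (fun _ => m)
  | add x y hx hy => rw [map_add]; exact Submodule.add_mem _ hx hy

variable [IsNoetherianRing A] [IsAdicComplete I A] [Module.Finite A M]

theorem Φ_range : LinearMap.range (Φ I Z M) = decaying I Z M := by
  apply le_antisymm (Φ_range_le M)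
  intro g hg
  obtain ⟨r, s, hs⟩ := Module.Finite.exists_fin (R := A) (M := M)
  let φ : (Fin r → A) →ₗ[A] M := Fintype.linearCombination A s
  have hφ : Function.Surjective φ := by
    rw [← LinearMap.range_eq_top, Fintype.range_linearCombination, hs]
  obtain ⟨h, hh, hhg⟩ := exists_decaying_lift (I := I) φ hφ g hg
  refine ⟨∑ j, s j ⊗ₜ[A] (⟨fun z => h z j, coord_decaying h hh j⟩ : decaying I Z A), ?_⟩
  rw [map_sum]
  funext z
  simp only [Φ_tmul, Finset.sum_apply]
  rw [← hhg z]
  simp [φ, Fintype.linearCombination_apply]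

theorem Φ_injective : Function.Injective (Φ I Z M) := by
  classical
  rw [injective_iff_map_eq_zero]
  intro t ht
  obtain ⟨r, s, hs⟩ := Module.Finite.exists_fin (R := A) (M := M)
  let φ : (Fin r → A) →ₗ[A] M := Fintype.linearCombination A s
  obtain ⟨d, rfl⟩ := exists_rep s hs t
  -- the relations
  let K : Submodule A (Fin r → A) := LinearMap.ker φ
  have hrel : ∀ z, (fun j => (d j : Z → A) z) ∈ K := by
    intro z
    rw [LinearMap.mem_ker]
    have := congrFun ht z
    simp only [map_sum, Φ_tmul, Finset.sum_apply, Pi.zero_apply] at this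
    simpa [φ, Fintype.linearCombination_apply] using this
  let g' : Z → K := fun z => ⟨fun j => (d j : Z → A) z, hrel z⟩
  have hg' : g' ∈ decaying I Z K := by
    rw [decaying_sub_iff]
    exact tuple_decaying d
  obtain ⟨q, κ, hκ⟩ := Module.Finite.exists_fin (R := A) (M := K)
  let ψ : (Fin q → A) →ₗ[A] K := Fintype.linearCombination A κ
  have hψ : Function.Surjective ψ := by
    rw [← LinearMap.range_eq_top, Fintype.range_linearCombination, hκ]
  obtain ⟨e, he, heg⟩ := exists_decaying_lift (I := I) ψ hψ g' hg'
  let E : Fin q → decaying I Z A := fun l => ⟨fun z => e z l, coord_decaying e he l⟩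
  have hd : ∀ j, d j = ∑ l, ((κ l : Fin r → A) j) • E l := by
    intro j
    apply Subtype.ext
    funext z
    have h1 := congrArg (fun k : K => (k : Fin r → A) j) (heg z)
    simp only [ψ, Fintype.linearCombination_apply, g'] at h1
    rw [← h1]
    simp [E, Finset.sum_apply, mul_comm]
  have hκφ : ∀ l, ∑ j, ((κ l : Fin r → A) j) • s j = 0 := by
    intro l
    have h0 : φ (κ l : Fin r → A) = 0 := LinearMap.mem_ker.mp (κ l).2
    rw [Fintype.linearCombination_apply] at h0
    exact h0
  calc ∑ j, s j ⊗ₜ[A] d j = ∑ j, ∑ l, s j ⊗ₜ[A] (((κ l : Fin r → A) j) • E l) := by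
        apply Finset.sum_congr rfl
        intro j _
        rw [hd j, TensorProduct.tmul_sum]
    _ = ∑ l, ∑ j, (((κ l : Fin r → A) j) • s j) ⊗ₜ[A] E l := by
        rw [Finset.sum_comm]
        apply Finset.sum_congr rfl
        intro l _
        apply Finset.sum_congr rfl
        intro j _
        rw [TensorProduct.smul_tmul]
    _ = ∑ l, (∑ j, ((κ l : Fin r → A) j) • s j) ⊗ₜ[A] E l := by
        apply Finset.sum_congr rfl
        intro l _
        rw [TensorProduct.sum_tmul]
    _ = 0 := by
        apply Finset.sum_eq_zero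
        intro l _
        rw [hκφ l, TensorProduct.zero_tmul]

end finite

/-- flatness of the module of decaying functions -/
theorem flat_decaying [IsNoetherianRing A] [IsAdicComplete I A] :
    Module.Flat A (decaying I Z A) := by
  rw [Module.Flat.iff_rTensor_injective']
  intro J
  have h1 : Function.Injective (Φ I Z J) := Φ_injective
  have hcomm : ∀ t : J ⊗[A] (decaying I Z A),
      Φ I Z A (LinearMap.rTensor (decaying I Z A) J.subtype t) = fun z => ((Φ I Z J t z : J) : A) := by
    intro t
    induction t using TensorProduct.induction_on with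
    | zero => simp; rfl
    | tmul j d =>
      rw [LinearMap.rTensor_tmul, Φ_tmul, Φ_tmul]
      funext z
      simp
    | add x y hx hy =>
      rw [map_add, map_add, hx, hy, map_add]
      funext z
      simp
  intro x y hxy
  apply h1
  funext z
  apply Subtype.ext
  have := congrArg (Φ I Z A) hxy
  rw [hcomm, hcomm] at this
  exact congrFun this z

end Groth.Agent.Lib.helper26.AdicSum
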