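import Mathlib
import Groth.Agent.Lib.helper26.AdicTensor

/-!
# The completion of `Z →₀ M` as decaying functions `Z → M^`
-/

namespace Groth.Agent.Lib.helper26.AdicSum

open W4c5adicflatcompl

variable {A : Type*} [CommRing A] (I : Ideal A) {Z : Type*} {M : Type*}
  [AddCommGroup M] [Module A M]

theorem of_mem_F {n : ℕ} {m : M} (hm : m ∈ (F I n : Submodule A M)) :
    AdicCompletion.of I M m ∈ (F I n : Submodule A (AdicCompletion I M)) :=
  map_mem_F (AdicCompletion.of I M) n m hm

theorem eval_eq_zero_of_mem_F {n : ℕ} {y : AdicCompletion I M}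
    (hy : y ∈ (F I n : Submodule A (AdicCompletion I M))) : AdicCompletion.eval I M n y = 0 :=
  LinearMap.mem_ker.mp (AdicCompletion.pow_smul_top_le_ker_eval (I := I) (M := M) n hy)

/-- if `M^` is precomplete, then `y - of m ∈ I^n M^` whenever `y` and `m` agree modulo `I^n` -/
theorem sub_of_mem_F_of_eval_eq [IsPrecomplete I (AdicCompletion I M)] (y : AdicCompletion I M)
    (n : ℕ) (m : M)
    (hm : AdicCompletion.eval I M n y = Submodule.Quotient.mk m) :
    y - AdicCompletion.of I M m ∈ (F I n : Submodule A (AdicCompletion I M)) := by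
  obtain ⟨a, rfl⟩ := AdicCompletion.mk_surjective I M y
  have hc : ∀ {j k : ℕ}, j ≤ k → AdicCompletion.of I M (a j) ≡ AdicCompletion.of I M (a k)
      [SMOD (I ^ j • ⊤ : Submodule A (AdicCompletion I M))] := by
    intro j k hjk
    rw [SModEq.sub_mem, ← map_sub]
    apply of_mem_F
    have := a.property hjk
    rwa [SModEq.sub_mem] at this
  obtain ⟨L, hL⟩ := IsPrecomplete.prec (inferInstance : IsPrecomplete I (AdicCompletion I M)) hc
  have hLa : L = AdicCompletion.mk I M a := by
    apply AdicCompletion.ext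
    intro k
    have h1 := hL k
    rw [SModEq.sub_mem] at h1
    have h2 := eval_eq_zero_of_mem_F I h1
    rw [map_sub, sub_eq_zero, AdicCompletion.eval_of] at h2
    rw [AdicCompletion.mk_apply_coe, ← AdicCompletion.eval_apply, ← h2]
  have h3 : AdicCompletion.mk I M a - AdicCompletion.of I M m =
      -(AdicCompletion.of I M (a n) - L) + AdicCompletion.of I M (a n - m) := by
    rw [hLa, map_sub]
    abel
  rw [h3]
  refine Submodule.add_mem _ (Submodule.neg_mem _ ?_) (of_mem_F I ?_)
  · have := hL n
    rwa [SModEq.sub_mem] at this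
  · rw [AdicCompletion.eval_apply, AdicCompletion.mk_apply_coe, Submodule.mkQ_apply,
      Submodule.Quotient.eq] at hm
    exact hm

theorem mem_F_of_eval_eq_zero [IsPrecomplete I (AdicCompletion I M)] (y : AdicCompletion I M)
    (n : ℕ) (h : AdicCompletion.eval I M n y = 0) :
    y ∈ (F I n : Submodule A (AdicCompletion I M)) := by
  have := sub_of_mem_F_of_eval_eq I y n 0 (by rw [h]; rfl)
  rwa [map_zero, sub_zero] at this

/-- a finitely supported function with all values in `I^n M` lies in `I^n (Z →₀ M)` -/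
theorem finsupp_mem_F_of_apply_mem (n : ℕ) (γ : Z →₀ M)
    (h : ∀ z, γ z ∈ (F I n : Submodule A M)) : γ ∈ (F I n : Submodule A (Z →₀ M)) := by
  classical
  rw [← Finsupp.sum_single γ, Finsupp.sum]
  refine Submodule.sum_mem _ fun z _ => ?_
  exact map_mem_F (Finsupp.lsingle (R := A) (M := M) z) n _ (h z)

theorem finsupp_apply_mem_F_of_mem (n : ℕ) (γ : Z →₀ M)
    (h : γ ∈ (F I n : Submodule A (Z →₀ M))) (z : Z) : γ z ∈ (F I n : Submodule A M) :=
  map_mem_F (Finsupp.lapply (R := A) (M := M) z) n _ h

variable (Z M) in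
/-- the comparison map -/
noncomputable abbrev Ψ : AdicCompletion I (Z →₀ M) →ₗ[A] (Z → AdicCompletion I M) :=
  LinearMap.pi fun z : Z =>
    (AdicCompletion.map I (Finsupp.lapply (M := M) (R := A) z)).restrictScalars A

theorem eval_Ψ_mk (a : AdicCompletion.AdicCauchySequence I (Z →₀ M)) (z : Z) (n : ℕ) :
    AdicCompletion.eval I M n (Ψ I Z M (AdicCompletion.mk I (Z →₀ M) a) z) =
      Submodule.Quotient.mk (a n z) := by
  rfl

theorem Ψ_injective : Function.Injective (Ψ I Z M) := by
  rw [← LinearMap.ker_eq_bot, eq_bot_iff]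
  intro g hg
  rw [LinearMap.mem_ker] at hg
  obtain ⟨a, rfl⟩ := AdicCompletion.mk_surjective I (Z →₀ M) g
  rw [Submodule.mem_bot]
  apply AdicCompletion.ext
  intro n
  rw [AdicCompletion.mk_apply_coe, AdicCompletion.val_zero_apply, Submodule.mkQ_apply,
    Submodule.Quotient.mk_eq_zero]
  apply finsupp_mem_F_of_apply_mem
  intro z
  have h1 := eval_Ψ_mk I a z n
  rw [hg, Pi.zero_apply, map_zero] at h1
  exact (Submodule.Quotient.mk_eq_zero _).mp h1.symm

theorem Ψ_range_le [IsPrecomplete I (AdicCompletion I M)] :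
    LinearMap.range (Ψ I Z M) ≤ decaying I Z (AdicCompletion I M) := by
  rintro _ ⟨g, rfl⟩
  obtain ⟨a, rfl⟩ := AdicCompletion.mk_surjective I (Z →₀ M) g
  intro n
  refine (a n).support.finite_toSet.subset ?_
  intro z hz
  by_contra hzs
  apply hz
  apply mem_F_of_eval_eq_zero
  rw [eval_Ψ_mk]
  have : a n z = 0 := by
    by_contra h
    exact hzs (Finsupp.mem_support_iff.mpr h)
  rw [this]
  rfl

/-- a representative of `eval n y`, chosen to be `0` when possible -/
noncomputable def rep (n : ℕ) (y : AdicCompletion I M) : M :=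
  open Classical in
  if AdicCompletion.eval I M n y = 0 then 0
  else (Submodule.Quotient.mk_surjective _ (AdicCompletion.eval I M n y)).choose

theorem mk_rep (n : ℕ) (y : AdicCompletion I M) :
    Submodule.Quotient.mk (p := (I ^ n • ⊤ : Submodule A M)) (rep I n y) =
      AdicCompletion.eval I M n y := by
  classical
  unfold rep
  split_ifs with h
  · rw [h]
    rfl
  · exact (Submodule.Quotient.mk_surjective _ (AdicCompletion.eval I M n y)).choose_spec

theorem rep_eq_zero (n : ℕ) (y : AdicCompletion I M) (h : AdicCompletion.eval I M n y = 0) :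
    rep I n y = 0 := by
  classical
  unfold rep
  rw [if_pos h]

theorem rep_sub_rep_mem (n : ℕ) (y : AdicCompletion I M) :
    rep I n y - rep I (n + 1) y ∈ (F I n : Submodule A M) := by
  rw [← Submodule.Quotient.mk_eq_zero, Submodule.Quotient.mk_sub, mk_rep, sub_eq_zero]
  have h1 := AdicCompletion.transitionMap_comp_eval_apply I M (Nat.le_succ n) y
  rw [← AdicCompletion.eval_apply, ← AdicCompletion.eval_apply, ← mk_rep I (n + 1) y] at h1
  rw [← h1]
  rfl

theorem decaying_le_Ψ_range :
    decaying I Z (AdicCompletion I M) ≤ LinearMap.range (Ψ I Z M) := by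
  intro h hh
  have hfin : ∀ n, (Function.support fun z => rep I n (h z)).Finite := by
    intro n
    refine (hh n).subset ?_
    intro z hz hmem
    exact hz (rep_eq_zero I n (h z) (eval_eq_zero_of_mem_F I hmem))
  let γ : ℕ → (Z →₀ M) := fun n => Finsupp.ofSupportFinite (fun z => rep I n (h z)) (hfin n)
  have hγ : ∀ n z, γ n z = rep I n (h z) := fun n z => rfl
  have hcauchy : ∀ n, γ n ≡ γ (n + 1) [SMOD (I ^ n • ⊤ : Submodule A (Z →₀ M))] := by
    intro n
    rw [SModEq.sub_mem]
    apply finsupp_mem_F_of_apply_mem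
    intro z
    rw [Finsupp.sub_apply, hγ, hγ]
    exact rep_sub_rep_mem I n (h z)
  refine ⟨AdicCompletion.mk I (Z →₀ M) (AdicCompletion.AdicCauchySequence.mk I (Z →₀ M) γ hcauchy), ?_⟩
  funext z
  apply AdicCompletion.ext
  intro n
  rw [← AdicCompletion.eval_apply, eval_Ψ_mk, ← AdicCompletion.eval_apply, ← mk_rep]
  rfl

theorem Ψ_range [IsPrecomplete I (AdicCompletion I M)] :
    LinearMap.range (Ψ I Z M) = decaying I Z (AdicCompletion I M) :=
  le_antisymm (Ψ_range_le I) (decaying_le_Ψ_range I)

end Groth.Agent.Lib.helper26.AdicSum
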