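import Mathlib
import Groth.Agent.Lib.helper26.AdicDec

/-!
# Universal property of the module of decaying functions `Z → Â`
-/

namespace Groth.Agent.Lib.helper26.AdicSum

open W4c5adicflatcompl

variable {A : Type*} [CommRing A] {I : Ideal A} {Z : Type*} {M : Type*}
  [AddCommGroup M] [Module A M]

/-- `Â`-scalar multiplication preserves the filtration -/
theorem hat_smul_mem_F (n : ℕ) (a : AdicCompletion I A)
    (ha : a ∈ (F I n : Submodule A (AdicCompletion I A))) (x : AdicCompletion I M) :
    a • x ∈ (F I n : Submodule A (AdicCompletion I M)) := by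
  refine Submodule.smul_induction_on ha ?_ ?_
  · intro c hc b _
    rw [smul_assoc]
    exact smul_mem_F hc _
  · intro a b ha hb
    rw [add_smul]
    exact Submodule.add_mem _ ha hb

section act
variable [IsAdicComplete I M]

variable (I) in
/-- the action of `Â` on an `I`-adically complete module -/
noncomputable def act (a : AdicCompletion I A) (m : M) : M :=
  (AdicCompletion.ofLinearEquiv I M).symm (a • AdicCompletion.of I M m)

theorem act_add (a b : AdicCompletion I A) (m : M) : act I (a + b) m = act I a m + act I b m := by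
  simp [act, add_smul]

theorem act_smul (c : A) (a : AdicCompletion I A) (m : M) : act I (c • a) m = c • act I a m := by
  simp [act, smul_assoc]

theorem act_zero (m : M) : act I (0 : AdicCompletion I A) m = 0 := by
  simp [act]

theorem act_one (m : M) : act I (1 : AdicCompletion I A) m = m := by
  simp [act]

theorem act_mem_F (n : ℕ) (a : AdicCompletion I A)
    (ha : a ∈ (F I n : Submodule A (AdicCompletion I A))) (m : M) :
    act I a m ∈ (F I n : Submodule A M) :=
  map_mem_F' _ n _ (hat_smul_mem_F n a ha _)
where
  map_mem_F' {P Q : Type _} [AddCommGroup P] [Module A P] [AddCommGroup Q] [Module A Q]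
      (ℓ : P ≃ₗ[A] Q) (n : ℕ) (x : P) (hx : x ∈ (F I n : Submodule A P)) :
      ℓ x ∈ (F I n : Submodule A Q) := by
    have : (F I n : Submodule A P).map ℓ.toLinearMap ≤ (F I n : Submodule A Q) := by
      rw [F, Submodule.map_smul'']
      exact Submodule.smul_mono le_rfl le_top
    exact this (Submodule.mem_map_of_mem hx)

/-- `g ↦ (z ↦ g z ⋆ f z)` -/
noncomputable def actFamily (f : Z → M) :
    decaying I Z (AdicCompletion I A) →ₗ[A] decaying I Z M where
  toFun g := ⟨fun z => act I ((g : Z → AdicCompletion I A) z) (f z), by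
    intro n
    refine (g.2 n).subset ?_
    intro z hz hgz
    exact hz (act_mem_F n _ hgz _)⟩
  map_add' g h := by
    ext z
    simp [act_add]
  map_smul' c g := by
    ext z
    simp [act_smul]

/-- the universal map -/
noncomputable def univMap (f : Z → M) : decaying I Z (AdicCompletion I A) →ₗ[A] M :=
  (adicSumₗ (I := I) (Z := Z) (M := M)).comp (actFamily f)

theorem univMap_single [DecidableEq Z] (f : Z → M) (z : Z) :
    univMap f (single I z (1 : AdicCompletion I A)) = f z := by
  rw [univMap, LinearMap.comp_apply, adicSumₗ_apply]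
  apply adicSum_eq
  intro n
  refine ⟨{z}, ?_, ?_⟩
  · intro w hw
    rw [Finset.mem_singleton] at hw
    simp only [actFamily, LinearMap.coe_mk, AddHom.coe_mk, coe_single]
    rw [Pi.single_eq_of_ne hw, act_zero]
    exact Submodule.zero_mem _
  · simp only [actFamily, LinearMap.coe_mk, AddHom.coe_mk, coe_single, Finset.sum_singleton,
      Pi.single_eq_same, act_one, sub_self]
    exact Submodule.zero_mem _

end act

section uniq

variable [IsNoetherianRing A]

/-- density of `A` in `Â` -/
theorem exists_approx (a : AdicCompletion I A) (n : ℕ) :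
    ∃ a₀ : A, a - a₀ • (1 : AdicCompletion I A) ∈ (F I n : Submodule A (AdicCompletion I A)) := by
  have hfg : I.FG := IsNoetherian.noetherian I
  obtain ⟨a₀, ha₀⟩ := Submodule.mkQ_surjective _ (AdicCompletion.eval I A n a)
  refine ⟨a₀, ?_⟩
  rw [F, AdicCompletion.pow_smul_top_eq_ker_eval hfg, LinearMap.mem_ker, map_sub, sub_eq_zero]
  have h1 : a₀ • (1 : AdicCompletion I A) = AdicCompletion.of I A a₀ := by
    rw [← Algebra.algebraMap_eq_smul_one, AdicCompletion.algebraMap_apply]
    simp
  rw [h1, AdicCompletion.eval_of, ha₀]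

theorem single_sub_mem [DecidableEq Z] (z : Z) (a : AdicCompletion I A) (n : ℕ)
    (ha : a ∈ (F I n : Submodule A (AdicCompletion I A))) :
    single I z a ∈ (F I n : Submodule A (decaying I Z (AdicCompletion I A))) := by
  apply mem_F_of_apply_mem
  intro w
  rw [coe_single]
  by_cases hw : w = z
  · subst hw
    rw [Pi.single_eq_same]
    exact ha
  · rw [Pi.single_eq_of_ne hw]
    exact Submodule.zero_mem _

/-- a linear map to a Hausdorff module vanishing on all `single z 1` is zero -/
theorem eq_zero_of_single [DecidableEq Z] [IsHausdorff I M]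
    (ψ : decaying I Z (AdicCompletion I A) →ₗ[A] M)
    (hψ : ∀ z, ψ (single I z (1 : AdicCompletion I A)) = 0) : ψ = 0 := by
  -- step 1
  have h1 : ∀ z (a : AdicCompletion I A), ψ (single I z a) = 0 := by
    intro z a
    apply IsHausdorff.haus ‹IsHausdorff I M›
    intro n
    rw [SModEq.sub_mem, sub_zero]
    obtain ⟨a₀, ha₀⟩ := exists_approx a n
    have h2 : single I z a = single I z (a - a₀ • (1 : AdicCompletion I A)) +
        a₀ • single I z (1 : AdicCompletion I A) := by
      apply Subtype.ext
      funext w
      by_cases hw : w = z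
      · subst hw
        simp
      · simp [Pi.single_eq_of_ne hw]
    rw [h2, map_add, map_smul, hψ, smul_zero, add_zero]
    exact map_mem_F'' ψ n _ (single_sub_mem z _ n ha₀)
  -- step 2
  ext g
  rw [LinearMap.zero_apply]
  apply IsHausdorff.haus ‹IsHausdorff I M›
  intro n
  rw [SModEq.sub_mem, sub_zero]
  let S := supp g.1 g.2 n
  let g' : Z → AdicCompletion I A := fun z => if z ∈ S then 0 else g.1 z
  have hg' : g' ∈ decaying I Z (AdicCompletion I A) := by
    intro k
    refine (g.2 k).subset ?_
    intro z hz
    simp only [g', Set.mem_ofPred_eq] at hz ⊢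
    by_cases hzS : z ∈ S
    · simp [hzS] at hz
    · simpa [hzS] using hz
  have hdecomp : g = ∑ z ∈ S, single I z (g.1 z) + ⟨g', hg'⟩ := by
    apply Subtype.ext
    funext w
    simp only [Submodule.coe_add, Submodule.coe_sum, Pi.add_apply, Finset.sum_apply, coe_single]
    by_cases hw : w ∈ S
    · rw [Finset.sum_eq_single w]
      · simp [g', hw]
      · intro b _ hb
        rw [Pi.single_eq_of_ne (Ne.symm hb)]
      · intro h; exact absurd hw h
    · rw [Finset.sum_eq_zero]
      · simp [g', hw]
      · intro b hb
        have : w ≠ b := fun h => hw (h ▸ hb)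
        rw [Pi.single_eq_of_ne this]
  rw [hdecomp, map_add, map_sum, Finset.sum_eq_zero (fun z _ => h1 z _), zero_add]
  apply map_mem_F'' ψ n
  apply mem_F_of_apply_mem
  intro z
  simp only [g']
  by_cases hzS : z ∈ S
  · simp [hzS]
  · simp only [hzS, if_false]
    have := (mem_supp g.2 n z).not.mp hzS
    rwa [not_not] at this
where
  map_mem_F'' {P Q : Type _} [AddCommGroup P] [Module A P] [AddCommGroup Q] [Module A Q]
      (ℓ : P →ₗ[A] Q) (n : ℕ) (x : P) (hx : x ∈ (F I n : Submodule A P)) :
      ℓ x ∈ (F I n : Submodule A Q) := by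
    have : (F I n : Submodule A P).map ℓ ≤ (F I n : Submodule A Q) := by
      rw [F, Submodule.map_smul'']
      exact Submodule.smul_mono le_rfl le_top
    exact this (Submodule.mem_map_of_mem hx)

theorem existsUnique_univ [DecidableEq Z] [IsAdicComplete I M] (f : Z → M) :
    ∃! φ : decaying I Z (AdicCompletion I A) →ₗ[A] M,
      ∀ z, φ (single I z (1 : AdicCompletion I A)) = f z := by
  refine ⟨univMap f, univMap_single f, ?_⟩
  intro φ hφ
  rw [← sub_eq_zero]
  apply eq_zero_of_single
  intro z
  rw [LinearMap.sub_apply, hφ, univMap_single, sub_self]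

end uniq

end Groth.Agent.Lib.helper26.AdicSum
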