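import Mathlib
import Groth.Agent.Lib.helper26.AdicUniv
import Groth.Agent.Lib.helper26.AdicTensor

/-!
# Adically projective modules as retracts of decaying-function modules
-/

namespace Groth.Agent.Lib.helper26.AdicSum

open W4c5adicflatcompl

variable {A : Type*} [CommRing A] {I : Ideal A}

/-- a retract of an `I`-adically complete module is `I`-adically complete -/
theorem isAdicComplete_of_retract {P D : Type*} [AddCommGroup P] [Module A P]
    [AddCommGroup D] [Module A D] [IsAdicComplete I D]
    (i : P →ₗ[A] D) (r : D →ₗ[A] P) (hri : r ∘ₗ i = LinearMap.id) : IsAdicComplete I P := by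
  have hri' : ∀ x, r (i x) = x := fun x => by
    have := congrArg (fun f => f x) hri
    simpa using this
  have hH : IsHausdorff I P := by
    constructor
    intro x hx
    have h0 : i x = 0 := by
      apply IsHausdorff.haus (inferInstance : IsHausdorff I D)
      intro n
      have := hx n
      rw [SModEq.sub_mem, sub_zero] at this ⊢
      exact map_mem_F i n x this
    rw [← hri' x, h0, map_zero]
  have hP : IsPrecomplete I P := by
    constructor
    intro f hf
    have hc : ∀ {m n : ℕ}, m ≤ n → i (f m) ≡ i (f n) [SMOD (I ^ m • ⊤ : Submodule A D)] := by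
      intro m n hmn
      have := hf hmn
      rw [SModEq.sub_mem] at this ⊢
      rw [← map_sub]
      exact map_mem_F i m _ this
    obtain ⟨L, hL⟩ := IsPrecomplete.prec (inferInstance : IsPrecomplete I D) hc
    refine ⟨r L, ?_⟩
    intro n
    have := hL n
    rw [SModEq.sub_mem] at this ⊢
    have h2 : f n - r L = r (i (f n) - L) := by
      rw [map_sub, hri']
    rw [h2]
    exact map_mem_F r n _ this
  exact { toIsHausdorff := hH, toIsPrecomplete := hP }

section
variable [IsNoetherianRing A]

/-- `Â` is complete (Noetherian case), as an instance-free statement -/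
theorem isAdicComplete_hat (M : Type*) [AddCommGroup M] [Module A M] :
    IsAdicComplete I (AdicCompletion I M) :=
  AdicCompletion.isAdicComplete (IsNoetherian.noetherian I)

theorem isAdicComplete_decaying_hat (Z : Type*) :
    IsAdicComplete I (decaying I Z (AdicCompletion I A)) := by
  have := isAdicComplete_hat (I := I) A
  exact isAdicComplete_decaying

/-- retracts of `decaying I Z Â` have the lifting property -/
theorem lift_of_retract {P Z : Type*} [AddCommGroup P] [Module A P]
    (i : P →ₗ[A] decaying I Z (AdicCompletion I A))
    (r : decaying I Z (AdicCompletion I A) →ₗ[A] P) (hri : r ∘ₗ i = LinearMap.id)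
    {M N : Type*} [AddCommGroup M] [Module A M] [AddCommGroup N] [Module A N]
    [IsAdicComplete I M] [IsAdicComplete I N] (φ : M →ₗ[A] N) (hφ : Function.Surjective φ)
    (ψ : P →ₗ[A] N) : ∃ χ : P →ₗ[A] M, φ ∘ₗ χ = ψ := by
  classical
  choose m hm using fun z : Z => hφ (ψ (r (single I z (1 : AdicCompletion I A))))
  have huniq := (existsUnique_univ (I := I) (M := N)
    (fun z : Z => ψ (r (single I z (1 : AdicCompletion I A))))).unique
    (y₁ := φ ∘ₗ univMap m) (y₂ := ψ ∘ₗ r)
    (by intro z; rw [LinearMap.comp_apply, univMap_single, hm])
    (by intro z; rfl)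
  refine ⟨univMap m ∘ₗ i, ?_⟩
  rw [← LinearMap.comp_assoc, huniq, LinearMap.comp_assoc, hri, LinearMap.comp_id]

omit [IsNoetherianRing A] in
/-- the canonical surjection from `decaying I P Â` onto a complete module `P` -/
theorem univMap_id_surjective {P : Type*} [AddCommGroup P] [Module A P] [IsAdicComplete I P] :
    Function.Surjective (univMap (I := I) (Z := P) (M := P) id) := by
  classical
  intro p
  exact ⟨single I p 1, univMap_single _ p⟩

end

end Groth.Agent.Lib.helper26.AdicSum
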