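import Mathlib
import Groth.Agent.Lib.helper26.AdicSum

/-!
# coordinatewise limits of series of finitely supported functions
-/

namespace Groth.Agent.Lib.helper26.AdicSum

open W4c5adicflatcompl

variable {A : Type*} [CommRing A] {I : Ideal A} {Z : Type*} {N : Type*}
  [AddCommGroup N] [Module A N]

/-- partial sums -/
noncomputable def psum (c : ℕ → (Z →₀ N)) (n : ℕ) (z : Z) : N := ∑ k ∈ Finset.range n, c k z

theorem psum_cauchy (c : ℕ → (Z →₀ N)) (hc : ∀ k z, c k z ∈ (F I k : Submodule A N)) (z : Z)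
    {m n : ℕ} (hmn : m ≤ n) : psum c m z ≡ psum c n z [SMOD (I ^ m • ⊤ : Submodule A N)] := by
  rw [SModEq.sub_mem, ← neg_sub, psum, psum, ← Finset.sum_range_add_sum_Ico _ hmn]
  rw [add_sub_cancel_left]
  apply Submodule.neg_mem
  apply Submodule.sum_mem
  intro k hk
  rw [Finset.mem_Ico] at hk
  exact F_anti I hk.1 (hc k z)

theorem exists_limit [IsPrecomplete I N] (c : ℕ → (Z →₀ N))
    (hc : ∀ k z, c k z ∈ (F I k : Submodule A N)) :
    ∃ g : Z → N, ∀ n z, psum c n z - g z ∈ (F I n : Submodule A N) := by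
  have : ∀ z, ∃ L : N, ∀ n, psum c n z ≡ L [SMOD (I ^ n • ⊤ : Submodule A N)] := by
    intro z
    apply IsPrecomplete.prec ‹_›
    intro m n hmn
    exact psum_cauchy c hc z hmn
  choose g hg using this
  refine ⟨g, fun n z => ?_⟩
  have := hg z n
  rwa [SModEq.sub_mem] at this

theorem psum_eq_zero (c : ℕ → (Z →₀ N)) (n : ℕ) (z : Z)
    (hz : ∀ k, k < n → z ∉ (c k).support) : psum c n z = 0 := by
  apply Finset.sum_eq_zero
  intro k hk
  have := hz k (Finset.mem_range.mp hk)
  rwa [Finsupp.mem_support_iff, not_not] at this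

/-- the union of the supports of the first `n` terms -/
noncomputable def usupp [DecidableEq Z] (c : ℕ → (Z →₀ N)) (n : ℕ) : Finset Z :=
  (Finset.range n).biUnion (fun k => (c k).support)

theorem limit_mem_of_not_mem [DecidableEq Z] (c : ℕ → (Z →₀ N)) (g : Z → N)
    (hg : ∀ n z, psum c n z - g z ∈ (F I n : Submodule A N)) (n : ℕ) (z : Z)
    (hz : z ∉ usupp c n) : g z ∈ (F I n : Submodule A N) := by
  have h0 : psum c n z = 0 := by
    apply psum_eq_zero
    intro k hk hzk
    apply hz
    rw [usupp, Finset.mem_biUnion]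
    exact ⟨k, Finset.mem_range.mpr hk, hzk⟩
  have := hg n z
  rw [h0, zero_sub] at this
  simpa using Submodule.neg_mem _ this

theorem limit_decaying (c : ℕ → (Z →₀ N)) (g : Z → N)
    (hg : ∀ n z, psum c n z - g z ∈ (F I n : Submodule A N)) : g ∈ decaying I Z N := by
  classical
  intro n
  refine (usupp c n).finite_toSet.subset ?_
  intro z hz
  by_contra hzn
  exact hz (limit_mem_of_not_mem c g hg n z hzn)

end Groth.Agent.Lib.helper26.AdicSum
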