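import Mathlib
import Groth.Agent.Lib.helper26.AdicProj
import Groth.Agent.S17540

/-!
# Adically free modules over a complete Noetherian local ring: flat + complete
-/

namespace Groth.Agent.Lib.helper26.AdicSum

open W4c5adicflatcompl TensorProduct

universe u

variable {A : Type*} [CommRing A] {I : Ideal A}

/-- functoriality of `decaying` in linear equivalences -/
noncomputable def decayingCongr {P Q : Type*} [AddCommGroup P] [Module A P] [AddCommGroup Q]
    [Module A Q] (Z : Type*) (ℓ : P ≃ₗ[A] Q) : decaying I Z P ≃ₗ[A] decaying I Z Q where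
  toFun f := ⟨fun z => ℓ (f.1 z), comp_mem_decaying ℓ.toLinearMap f.1 f.2⟩
  invFun g := ⟨fun z => ℓ.symm (g.1 z), comp_mem_decaying ℓ.symm.toLinearMap g.1 g.2⟩
  map_add' f g := by
    ext z
    simp
  map_smul' a f := by
    ext z
    simp
  left_inv f := by
    ext z
    simp
  right_inv g := by
    ext z
    simp

/-- for a surjection `f : D → M` onto a flat module, `ker f ∩ J D = J ker f` -/
theorem mem_smul_top_ker_of_flat {D M : Type*} [AddCommGroup D] [Module A D] [AddCommGroup M]
    [Module A M] [Module.Flat A M] (f : D →ₗ[A] M) (hf : Function.Surjective f) (J : Ideal A)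
    (x : LinearMap.ker f) (hx : (x : D) ∈ (J • ⊤ : Submodule A D)) :
    x ∈ (J • ⊤ : Submodule A (LinearMap.ker f)) := by
  have hinj := LinearMap.lTensor_injective_of_exact_of_flat f hf (LinearMap.ker f).subtype
    (LinearMap.ker f).subtype_injective (LinearMap.exact_subtype_ker_map f) (A ⧸ J)
  have h1 : ((1 : A ⧸ J) ⊗ₜ[A] (x : D)) = 0 := by
    apply (TensorProduct.quotTensorEquivQuotSMul D J).injective
    rw [map_zero, TensorProduct.quotTensorEquivQuotSMul_mk_one_tmul]
    exact (Submodule.Quotient.mk_eq_zero _).mpr hx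
  have h2 : ((1 : A ⧸ J) ⊗ₜ[A] x) = 0 := by
    apply hinj
    rw [map_zero, LinearMap.lTensor_tmul]
    exact h1
  have h3 := congrArg (TensorProduct.quotTensorEquivQuotSMul (LinearMap.ker f) J) h2
  rw [map_zero, TensorProduct.quotTensorEquivQuotSMul_mk_one_tmul] at h3
  exact (Submodule.Quotient.mk_eq_zero _).mp h3

/-- a submodule `K` of a Hausdorff module with `K = I K` is zero -/
theorem eq_bot_of_top_le_smul {D : Type*} [AddCommGroup D] [Module A D] [IsHausdorff I D]
    (K : Submodule A D) (hK : (⊤ : Submodule A K) ≤ I • ⊤) : K = ⊥ := by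
  have hKn : ∀ n : ℕ, (⊤ : Submodule A K) ≤ I ^ n • ⊤ := by
    intro n
    induction n with
    | zero => rw [pow_zero, Ideal.one_eq_top, Submodule.top_smul]
    | succ n ih =>
      calc (⊤ : Submodule A K) ≤ I • ⊤ := hK
        _ ≤ I • (I ^ n • ⊤) := Submodule.smul_mono le_rfl ih
        _ = I ^ (n + 1) • ⊤ := by rw [← Submodule.mul_smul, ← pow_succ']
  rw [eq_bot_iff]
  intro x hx
  rw [Submodule.mem_bot]
  apply IsHausdorff.haus (inferInstance : IsHausdorff I D)
  intro n
  rw [SModEq.sub_mem, sub_zero]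
  have h1 : (⟨x, hx⟩ : K) ∈ (F I n : Submodule A K) := hKn n Submodule.mem_top
  exact map_mem_F K.subtype n ⟨x, hx⟩ h1

section main

variable [IsNoetherianRing A] [hI : I.IsMaximal] [IsAdicComplete I A]

theorem exists_equiv_decaying_of_flat (M : Type u) [AddCommGroup M] [Module A M]
    [Module.Flat A M] [IsAdicComplete I M] :
    ∃ Z : Type u, Nonempty (M ≃ₗ[A] decaying I Z A) := by
  classical
  let _ : Field (A ⧸ I) := Ideal.Quotient.field I
  let V := M ⧸ (I • ⊤ : Submodule A M)
  let b := Module.Basis.ofVectorSpace (A ⧸ I) V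
  let Z : Type u := Module.Basis.ofVectorSpaceIndex (A ⧸ I) V
  have hmk : ∀ z : Z, ∃ m : M, Submodule.Quotient.mk (p := (I • ⊤ : Submodule A M)) m = b z :=
    fun z => Submodule.Quotient.mk_surjective _ (b z)
  choose e he using hmk
  have hD : IsAdicComplete I (decaying I Z A) := isAdicComplete_decaying
  obtain ⟨π, hπ⟩ : ∃ π : decaying I Z A →ₗ[A] M, ∀ d : decaying I Z A, π d =
      adicSum (fun z => d.1 z • e z) (smul_mem_decaying d.2 e) :=
    ⟨(adicSumₗ (I := I) (Z := Z) (M := M)).comp (smulFamily e), fun d => rfl⟩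
  -- sums of `a z • e z` in `M / I M`
  have hsum : ∀ (S : Finset Z) (a : Z → A),
      Submodule.Quotient.mk (p := (I • ⊤ : Submodule A M)) (∑ z ∈ S, a z • e z) =
        ∑ z ∈ S, Ideal.Quotient.mk I (a z) • b z := by
    intro S a
    rw [← Submodule.mkQ_apply, map_sum]
    apply Finset.sum_congr rfl
    intro z _
    rw [Submodule.mkQ_apply, ← he z]
    rfl
  -- spanning
  have hspan : Submodule.span A (Set.range e) ⊔ I • ⊤ = ⊤ := by
    rw [eq_top_iff]
    intro x _
    let c := b.repr (Submodule.Quotient.mk x)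
    have hc : ∀ z : Z, ∃ a : A, Ideal.Quotient.mk I a = c z :=
      fun z => Ideal.Quotient.mk_surjective _
    choose a ha using hc
    have h1 : Submodule.Quotient.mk (p := (I • ⊤ : Submodule A M)) (∑ z ∈ c.support, a z • e z) =
        Submodule.Quotient.mk x := by
      rw [hsum]
      have := b.linearCombination_repr (Submodule.Quotient.mk x)
      rw [Finsupp.linearCombination_apply, Finsupp.sum] at this
      rw [← this]
      apply Finset.sum_congr rfl
      intro z _
      rw [ha]
    have h2 : x - ∑ z ∈ c.support, a z • e z ∈ (I • ⊤ : Submodule A M) := by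
      rw [← Submodule.Quotient.mk_eq_zero, Submodule.Quotient.mk_sub, h1, sub_self]
    have h3 : x = ∑ z ∈ c.support, a z • e z + (x - ∑ z ∈ c.support, a z • e z) := by abel
    rw [h3]
    refine Submodule.add_mem_sup (Submodule.sum_mem _ fun z _ => ?_) h2
    exact Submodule.smul_mem _ _ (Submodule.subset_span ⟨z, rfl⟩)
  -- surjectivity
  have hsurj : Function.Surjective π := by
    intro x
    obtain ⟨g, hg, hgx⟩ := (Groth.Agent.S17540.result I M Z e).mp hspan x
    refine ⟨⟨g, hg⟩, ?_⟩
    rw [hπ]
    apply adicSum_eq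
    intro n
    obtain ⟨S, hS1, hS2⟩ := hgx n
    exact ⟨S, hS1, hS2⟩
  -- key step
  have key : ∀ d : decaying I Z A, π d ∈ (I • ⊤ : Submodule A M) → ∀ z, d.1 z ∈ I := by
    intro d hd z
    have hx : (fun w => d.1 w • e w) ∈ decaying I Z M := smul_mem_decaying d.2 e
    have h1 := adicSum_spec _ hx 1 (insert z (supp _ hx 1)) (Finset.subset_insert _ _)
    rw [F, pow_one, ← hπ] at h1
    have h2 : ∑ w ∈ insert z (supp _ hx 1), d.1 w • e w ∈ (I • ⊤ : Submodule A M) := by
      have := Submodule.sub_mem _ hd h1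
      rwa [sub_sub_cancel] at this
    have h3 := (Submodule.Quotient.mk_eq_zero _).mpr h2
    rw [hsum] at h3
    have h4 := linearIndependent_iff'.mp b.linearIndependent _ _ h3 z (Finset.mem_insert_self _ _)
    exact Ideal.Quotient.eq_zero_iff_mem.mp h4
  -- injectivity
  have hinj : Function.Injective π := by
    rw [← LinearMap.ker_eq_bot]
    have hK : (⊤ : Submodule A (LinearMap.ker π)) ≤ I • ⊤ := by
      intro y _
      apply mem_smul_top_ker_of_flat π hsurj I y
      have h1 := key y.1 (by rw [LinearMap.mem_ker.mp y.2]; exact Submodule.zero_mem _)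
      have h2 : y.1 ∈ (F I 1 : Submodule A (decaying I Z A)) := by
        apply mem_F_of_apply_mem
        intro z
        rw [mem_F_self_iff, pow_one]
        exact h1 z
      rwa [F, pow_one] at h2
    have hD' : IsHausdorff I (decaying I Z A) := inferInstance
    exact eq_bot_of_top_le_smul (I := I) (LinearMap.ker π) hK
  exact ⟨Z, ⟨(LinearEquiv.ofBijective π ⟨hinj, hsurj⟩).symm⟩⟩

end main

end Groth.Agent.Lib.helper26.AdicSum
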