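import Mathlib
import Groth.Agent.Lib.helper26.AdicFree

/-!
# Limits of `m`-adic systems of flat modules are adically free
-/

namespace Groth.Agent.Lib.helper26.AdicSum

open W4c5adicflatcompl TensorProduct

universe u

variable {A : Type*} [CommRing A] {I : Ideal A}

/-- a module killed by a power of `I` is `I`-adically complete -/
theorem isAdicComplete_of_pow_smul_eq_bot {N : Type*} [AddCommGroup N] [Module A N] (j : ℕ)
    (h : (I ^ j • ⊤ : Submodule A N) = ⊥) : IsAdicComplete I N := by
  have hH : IsHausdorff I N := by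
    constructor
    intro x hx
    have := hx j
    rw [SModEq.sub_mem, sub_zero, h, Submodule.mem_bot] at this
    exact this
  have hP : IsPrecomplete I N := by
    constructor
    intro f hf
    refine ⟨f j, ?_⟩
    intro n
    by_cases hn : n ≤ j
    · exact hf hn
    · have hjn : j ≤ n := le_of_not_ge hn
      have := hf hjn
      rw [SModEq.sub_mem, h, Submodule.mem_bot, sub_eq_zero] at this
      rw [this]
  exact { toIsHausdorff := hH, toIsPrecomplete := hP }

/-- continuity of linear maps for adic sums -/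
theorem map_adicSum {P Q : Type*} [AddCommGroup P] [Module A P] [AddCommGroup Q] [Module A Q]
    [IsAdicComplete I P] [IsAdicComplete I Q] {Z : Type*} (ℓ : P →ₗ[A] Q) (x : Z → P)
    (hx : x ∈ decaying I Z P) :
    ℓ (adicSum x hx) = adicSum (fun z => ℓ (x z)) (comp_mem_decaying ℓ x hx) := by
  symm
  apply adicSum_eq
  intro n
  refine ⟨supp x hx n, ?_, ?_⟩
  · intro z hz
    rw [mem_supp, not_not] at hz
    exact map_mem_F ℓ n _ hz
  · have h1 := adicSum_spec x hx n _ (Finset.Subset.refl _)
    have h2 := map_mem_F ℓ n _ h1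
    rwa [map_sub, map_sum] at h2

/-- nilpotent Nakayama -/
theorem span_eq_top_of_nilpotent {N : Type*} [AddCommGroup N] [Module A N] (j : ℕ)
    (h : (I ^ j • ⊤ : Submodule A N) = ⊥) (S : Submodule A N) (hS : S ⊔ I • ⊤ = ⊤) : S = ⊤ := by
  have h1 : ∀ n : ℕ, (⊤ : Submodule A N) ≤ S ⊔ I ^ n • ⊤ := by
    intro n
    induction n with
    | zero =>
      rw [pow_zero, Ideal.one_eq_top, Submodule.top_smul]
      exact le_sup_right
    | succ n ih =>
      calc (⊤ : Submodule A N) ≤ S ⊔ I ^ n • ⊤ := ih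
        _ = S ⊔ I ^ n • (S ⊔ I • ⊤) := by rw [hS]
        _ = S ⊔ (I ^ n • S ⊔ I ^ n • (I • ⊤)) := by rw [Submodule.smul_sup]
        _ ≤ S ⊔ I ^ (n + 1) • ⊤ := by
          refine sup_le le_sup_left (sup_le (le_sup_of_le_left Submodule.smul_le_right) ?_)
          rw [← Submodule.mul_smul, ← pow_succ]
          exact le_sup_right
  have := h1 j
  rw [h, sup_bot_eq] at this
  exact eq_top_iff.mpr this

theorem top_le_pow_smul_of_top_le_smul {D : Type*} [AddCommGroup D] [Module A D]
    (K : Submodule A D)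
    (hK : (⊤ : Submodule A K) ≤ I • ⊤) (n : ℕ) : (⊤ : Submodule A K) ≤ I ^ n • ⊤ := by
  induction n with
  | zero => rw [pow_zero, Ideal.one_eq_top, Submodule.top_smul]
  | succ n ih =>
    calc (⊤ : Submodule A K) ≤ I • ⊤ := hK
      _ ≤ I • (I ^ n • ⊤) := Submodule.smul_mono le_rfl ih
      _ = I ^ (n + 1) • ⊤ := by rw [← Submodule.mul_smul, ← pow_succ']

/-- key lemma: a family which is a basis modulo `I` of a module flat over `A ⧸ I ^ j` is
linearly independent modulo `I ^ j` -/
theorem coeff_mem_pow_of_flat (I : Ideal A) (j : ℕ) {N : Type*} [AddCommGroup N]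
    [Module A N] [Module (A ⧸ I ^ j) N] [IsScalarTower A (A ⧸ I ^ j) N]
    [Module.Flat (A ⧸ I ^ j) N] {Z : Type*} (e : Z → N)
    (hspan : Submodule.span A (Set.range e) ⊔ I • ⊤ = ⊤)
    (hind : ∀ (S : Finset Z) (a : Z → A),
      ∑ z ∈ S, a z • e z ∈ (I • ⊤ : Submodule A N) → ∀ z ∈ S, a z ∈ I)
    (S : Finset Z) (a : Z → A) (h0 : ∑ z ∈ S, a z • e z = 0) : ∀ z ∈ S, a z ∈ I ^ j := by
  classical
  have hsm : ∀ (a : A) (x : N), (Ideal.Quotient.mk (I ^ j) a) • x = a • x := fun a x => by
    rw [← Ideal.Quotient.algebraMap_eq, algebraMap_smul]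
  have hbot : (I ^ j • ⊤ : Submodule A N) = ⊥ := by
    rw [eq_bot_iff]
    intro x hx
    refine Submodule.smul_induction_on hx ?_ ?_
    · intro c hc y _
      rw [Submodule.mem_bot, ← hsm, Ideal.Quotient.eq_zero_iff_mem.mpr hc, zero_smul]
    · intro x y hx hy
      exact Submodule.add_mem _ hx hy
  have hspan' : Submodule.span A (Set.range e) = ⊤ := span_eq_top_of_nilpotent j hbot _ hspan
  -- the `R`-linear presentation
  have hf : Function.Surjective (Finsupp.linearCombination (A ⧸ I ^ j) e) := by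
    intro x
    have hx : x ∈ Submodule.span A (Set.range e) := by rw [hspan']; trivial
    obtain ⟨c, rfl⟩ := (Finsupp.mem_span_range_iff_exists_finsupp).mp hx
    refine ⟨c.mapRange (Ideal.Quotient.mk (I ^ j)) (map_zero _), ?_⟩
    rw [Finsupp.linearCombination_apply, Finsupp.sum_mapRange_index (by simp)]
    simp only [hsm]
  -- the kernel lies in `J • ⊤`
  have hKJ : ∀ x : LinearMap.ker (Finsupp.linearCombination (A ⧸ I ^ j) e),
      (x : Z →₀ A ⧸ I ^ j) ∈ ((I.map (Ideal.Quotient.mk (I ^ j))) • ⊤ :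
        Submodule (A ⧸ I ^ j) (Z →₀ A ⧸ I ^ j)) := by
    intro x
    have hc : ∀ z : Z, ∃ a : A, Ideal.Quotient.mk (I ^ j) a = x.1 z :=
      fun z => Ideal.Quotient.mk_surjective _
    choose c hc using hc
    have h1 : ∑ z ∈ x.1.support, c z • e z = 0 := by
      have := LinearMap.mem_ker.mp x.2
      rw [Finsupp.linearCombination_apply, Finsupp.sum] at this
      rw [← this]
      apply Finset.sum_congr rfl
      intro z _
      rw [← hsm, hc]
    have h2 := hind x.1.support c (by rw [h1]; exact Submodule.zero_mem _)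
    have h3 : x.1 = ∑ z ∈ x.1.support, x.1 z • Finsupp.single z (1 : A ⧸ I ^ j) := by
      conv_lhs => rw [← Finsupp.sum_single x.1]
      rw [Finsupp.sum]
      apply Finset.sum_congr rfl
      intro z _
      rw [Finsupp.smul_single, smul_eq_mul, mul_one]
    rw [h3]
    refine Submodule.sum_mem _ fun z hz => Submodule.smul_mem_smul ?_ Submodule.mem_top
    rw [← hc z]
    exact Ideal.mem_map_of_mem _ (h2 z hz)
  have hK : (⊤ : Submodule (A ⧸ I ^ j)
      (LinearMap.ker (Finsupp.linearCombination (A ⧸ I ^ j) e))) ≤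
      (I.map (Ideal.Quotient.mk (I ^ j))) • ⊤ := by
    intro y _
    exact mem_smul_top_ker_of_flat (A := A ⧸ I ^ j)
      (Finsupp.linearCombination (A ⧸ I ^ j) e) hf (I.map (Ideal.Quotient.mk (I ^ j))) y (hKJ y)
  have hK0 : ∀ y : LinearMap.ker (Finsupp.linearCombination (A ⧸ I ^ j) e), y = 0 := by
    intro y
    have h1 := top_le_pow_smul_of_top_le_smul (A := A ⧸ I ^ j)
      (I := I.map (Ideal.Quotient.mk (I ^ j)))
      (LinearMap.ker (Finsupp.linearCombination (A ⧸ I ^ j) e)) hK j
      (Submodule.mem_top : y ∈ (⊤ : Submodule (A ⧸ I ^ j)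
        (LinearMap.ker (Finsupp.linearCombination (A ⧸ I ^ j) e))))
    rw [← Ideal.map_pow, Ideal.map_quotient_self, Submodule.bot_smul, Submodule.mem_bot] at h1
    exact h1
  -- conclude
  have hx : Finsupp.linearCombination (A ⧸ I ^ j) e
      (∑ z ∈ S, Finsupp.single z (Ideal.Quotient.mk (I ^ j) (a z))) = 0 := by
    simp only [map_sum, Finsupp.linearCombination_single, hsm]
    exact h0
  have hx0 : (∑ z ∈ S, Finsupp.single z (Ideal.Quotient.mk (I ^ j) (a z))) = 0 :=
    congrArg Subtype.val (hK0 ⟨_, hx⟩)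
  intro z hz
  have := DFunLike.congr_fun hx0 z
  rw [Finsupp.finsetSum_apply] at this
  simp only [Finsupp.single_apply, Finset.sum_ite_eq', hz, if_true, Finsupp.zero_apply] at this
  exact Ideal.Quotient.eq_zero_iff_mem.mp this

theorem pow_smul_top_eq_bot_of_tower (I : Ideal A) (j : ℕ) (N : Type*) [AddCommGroup N]
    [Module A N] [Module (A ⧸ I ^ j) N] [IsScalarTower A (A ⧸ I ^ j) N] :
    (I ^ j • ⊤ : Submodule A N) = ⊥ := by
  have hsm : ∀ (a : A) (x : N), (Ideal.Quotient.mk (I ^ j) a) • x = a • x := fun a x => by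
    rw [← Ideal.Quotient.algebraMap_eq, algebraMap_smul]
  rw [eq_bot_iff]
  intro x hx
  refine Submodule.smul_induction_on hx ?_ ?_
  · intro c hc y _
    rw [Submodule.mem_bot, ← hsm, Ideal.Quotient.eq_zero_iff_mem.mpr hc, zero_smul]
  · intro x y hx hy
    exact Submodule.add_mem _ hx hy

/-- `e` is a basis modulo `I` -/
def BasisMod (I : Ideal A) (N : Type*) [AddCommGroup N] [Module A N] {Z : Type*} (e : Z → N) :
    Prop :=
  Submodule.span A (Set.range e) ⊔ I • ⊤ = ⊤ ∧
    ∀ (S : Finset Z) (a : Z → A),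
      ∑ z ∈ S, a z • e z ∈ (I • ⊤ : Submodule A N) → ∀ z ∈ S, a z ∈ I

theorem BasisMod.of_comp {N N' : Type*} [AddCommGroup N] [Module A N] [AddCommGroup N']
    [Module A N'] {Z : Type*} (τ : N →ₗ[A] N') (hτ : Function.Surjective τ)
    (hker : LinearMap.ker τ ≤ I • ⊤) (e : Z → N) (h : BasisMod I N' (fun z => τ (e z))) :
    BasisMod I N e := by
  refine ⟨?_, ?_⟩
  · rw [eq_top_iff]
    intro x _
    have hx : τ x ∈ Submodule.span A (Set.range fun z => τ (e z)) ⊔ I • ⊤ := by
      rw [h.1]; trivial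
    obtain ⟨s', hs', i', hi', hsum⟩ := Submodule.mem_sup.mp hx
    have h1 : Submodule.span A (Set.range fun z => τ (e z)) =
        (Submodule.span A (Set.range e)).map τ := by
      rw [Submodule.map_span, ← Set.range_comp]
      rfl
    have h2 : (I • ⊤ : Submodule A N') = (I • ⊤ : Submodule A N).map τ := by
      rw [Submodule.map_smul'', Submodule.map_top, LinearMap.range_eq_top.mpr hτ]
    rw [h1] at hs'
    rw [h2] at hi'
    obtain ⟨s, hs, rfl⟩ := hs'
    obtain ⟨i, hi, rfl⟩ := hi'
    have h3 : x - s - i ∈ LinearMap.ker τ := by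
      rw [LinearMap.mem_ker, map_sub, map_sub, ← hsum]
      abel
    have h4 : x = s + (i + (x - s - i)) := by abel
    rw [h4]
    exact Submodule.add_mem_sup hs (Submodule.add_mem _ hi (hker h3))
  · intro S a ha
    apply h.2 S a
    have := map_mem_F τ 1 _ (by rwa [F, pow_one])
    rw [F, pow_one, map_sum] at this
    simpa only [map_smul] using this

theorem exists_basisMod (I : Ideal A) [hI : I.IsMaximal] (N : Type u) [AddCommGroup N]
    [Module A N] : ∃ (Z : Type u) (e : Z → N), BasisMod I N e := by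
  classical
  let _ : Field (A ⧸ I) := Ideal.Quotient.field I
  let V := N ⧸ (I • ⊤ : Submodule A N)
  let b := Module.Basis.ofVectorSpace (A ⧸ I) V
  let Z : Type u := Module.Basis.ofVectorSpaceIndex (A ⧸ I) V
  have hmk : ∀ z : Z, ∃ m : N, Submodule.Quotient.mk (p := (I • ⊤ : Submodule A N)) m = b z :=
    fun z => Submodule.Quotient.mk_surjective _ (b z)
  choose e he using hmk
  have hsum : ∀ (S : Finset Z) (a : Z → A),
      Submodule.Quotient.mk (p := (I • ⊤ : Submodule A N)) (∑ z ∈ S, a z • e z) =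
        ∑ z ∈ S, Ideal.Quotient.mk I (a z) • b z := by
    intro S a
    rw [← Submodule.mkQ_apply, map_sum]
    apply Finset.sum_congr rfl
    intro z _
    rw [Submodule.mkQ_apply, ← he z]
    rfl
  refine ⟨Z, e, ?_, ?_⟩
  · rw [eq_top_iff]
    intro x _
    let c := b.repr (Submodule.Quotient.mk x)
    have hc : ∀ z : Z, ∃ a : A, Ideal.Quotient.mk I a = c z :=
      fun z => Ideal.Quotient.mk_surjective _
    choose a ha using hc
    have h1 : Submodule.Quotient.mk (p := (I • ⊤ : Submodule A N)) (∑ z ∈ c.support, a z • e z) =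
        Submodule.Quotient.mk x := by
      rw [hsum]
      have := b.linearCombination_repr (Submodule.Quotient.mk x)
      rw [Finsupp.linearCombination_apply, Finsupp.sum] at this
      rw [← this]
      apply Finset.sum_congr rfl
      intro z _
      rw [ha]
    have h2 : x - ∑ z ∈ c.support, a z • e z ∈ (I • ⊤ : Submodule A N) := by
      rw [← Submodule.Quotient.mk_eq_zero, Submodule.Quotient.mk_sub, h1, sub_self]
    have h3 : x = ∑ z ∈ c.support, a z • e z + (x - ∑ z ∈ c.support, a z • e z) := by abel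
    rw [h3]
    refine Submodule.add_mem_sup (Submodule.sum_mem _ fun z _ => ?_) h2
    exact Submodule.smul_mem _ _ (Submodule.subset_span ⟨z, rfl⟩)
  · intro S a ha z hz
    have h3 := (Submodule.Quotient.mk_eq_zero _).mpr ha
    rw [hsum] at h3
    have h4 := linearIndependent_iff'.mp b.linearIndependent _ _ h3 z hz
    exact Ideal.Quotient.eq_zero_iff_mem.mp h4

theorem adicSum_congr {M : Type*} [AddCommGroup M] [Module A M] [IsPrecomplete I M] {Z : Type*}
    {x y : Z → M} (h : x = y) (hx : x ∈ decaying I Z M) (hy : y ∈ decaying I Z M) :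
    adicSum x hx = adicSum y hy := by
  subst h
  rfl

/-- the level map attached to a basis modulo `I` -/
theorem level_surjective [IsAdicComplete I A] {N : Type*} [AddCommGroup N] [Module A N]
    [IsAdicComplete I N] {Z : Type*} (e : Z → N) (he : BasisMod I N e) :
    Function.Surjective ((adicSumₗ (I := I) (Z := Z) (M := N)).comp (smulFamily e)) := by
  intro x
  obtain ⟨g, hg, hgx⟩ := (Groth.Agent.S17540.result I N Z e).mp he.1 x
  refine ⟨⟨g, hg⟩, ?_⟩
  show adicSum (fun z => g z • e z) (smul_mem_decaying hg e) = x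
  apply adicSum_eq
  intro n
  obtain ⟨S, hS1, hS2⟩ := hgx n
  exact ⟨S, hS1, hS2⟩

theorem level_coeff (I : Ideal A) (j : ℕ) {N : Type*} [AddCommGroup N]
    [Module A N] [Module (A ⧸ I ^ j) N] [IsScalarTower A (A ⧸ I ^ j) N]
    [Module.Flat (A ⧸ I ^ j) N] [IsAdicComplete I N] {Z : Type*} (e : Z → N)
    (he : BasisMod I N e) (d : decaying I Z A)
    (hd : (adicSumₗ (I := I) (Z := Z) (M := N)).comp (smulFamily e) d = 0) (z : Z) :
    d.1 z ∈ I ^ j := by
  classical
  have hbot := pow_smul_top_eq_bot_of_tower I j N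
  have hx : (fun w => d.1 w • e w) ∈ decaying I Z N := smul_mem_decaying d.2 e
  have hd' : adicSum (fun w => d.1 w • e w) hx = 0 := hd
  have h1 := adicSum_spec _ hx j (insert z (supp _ hx j)) (Finset.subset_insert _ _)
  rw [F, hbot, Submodule.mem_bot, hd', zero_sub, neg_eq_zero] at h1
  exact coeff_mem_pow_of_flat I j e he.1 he.2 _ _ h1 z (Finset.mem_insert_self _ _)

section main

variable [IsNoetherianRing A] [hI : I.IsMaximal] [IsAdicComplete I A]

theorem sysLim_main
    (M : ℕ → Type u) [∀ n, AddCommGroup (M n)] [∀ n, Module A (M n)]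
    [∀ n, Module (A ⧸ I ^ (n + 1)) (M n)]
    [∀ n, IsScalarTower A (A ⧸ I ^ (n + 1)) (M n)]
    [∀ n, Module.Flat (A ⧸ I ^ (n + 1)) (M n)]
    (ψ : ∀ n, M (n + 1) →ₗ[A] M n) (hψ : ∀ n, Function.Surjective (ψ n))
    (hker : ∀ n, LinearMap.ker (ψ n) = (I ^ (n + 1) • ⊤ : Submodule A (M (n + 1)))) :
    ∃ (Z : Type u), Nonempty (decaying I Z A ≃ₗ[A] sysLim M ψ) ∧
      ∀ n, Function.Surjective (sysProj M ψ n) ∧
        LinearMap.ker (sysProj M ψ n) = (I ^ (n + 1) • ⊤ : Submodule A (sysLim M ψ)) := by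
  classical
  have hbot : ∀ n, (I ^ (n + 1) • ⊤ : Submodule A (M n)) = ⊥ :=
    fun n => pow_smul_top_eq_bot_of_tower I (n + 1) (M n)
  have hcomp : ∀ n, IsAdicComplete I (M n) :=
    fun n => isAdicComplete_of_pow_smul_eq_bot (n + 1) (hbot n)
  -- lifting from `M 0`
  have hlift : ∀ y : M 0, ∃ x : sysLim M ψ, (x : ∀ k, M k) 0 = y := by
    intro y
    let x : (k : ℕ) → M k := fun k =>
      Nat.rec (motive := M) y (fun k xk => Classical.choose (hψ k xk)) k
    refine ⟨⟨x, ?_⟩, rfl⟩
    intro n
    exact Classical.choose_spec (hψ n (x n))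
  obtain ⟨Z, e0, he0⟩ := exists_basisMod I (M 0)
  choose ε hε using fun z => hlift (e0 z)
  -- level families
  have hen : ∀ n, BasisMod I (M n) (fun z => (ε z : ∀ k, M k) n) := by
    intro n
    induction n with
    | zero =>
      have : (fun z => (ε z : ∀ k, M k) 0) = e0 := funext hε
      rw [this]
      exact he0
    | succ n ih =>
      refine BasisMod.of_comp (ψ n) (hψ n) ?_ _ ?_
      · rw [hker n]
        calc (I ^ (n + 1) • ⊤ : Submodule A (M (n + 1))) ≤ I ^ 1 • ⊤ :=
              Submodule.pow_smul_top_le I _ (by omega)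
          _ = I • ⊤ := by rw [pow_one]
      · have : (fun z => ψ n ((ε z : ∀ k, M k) (n + 1))) = fun z => (ε z : ∀ k, M k) n :=
          funext fun z => (ε z).2 n
        rw [this]
        exact ih
  have hD : IsAdicComplete I (decaying I Z A) := isAdicComplete_decaying
  -- level maps
  obtain ⟨πn, hπn⟩ : ∃ πn : ∀ n, decaying I Z A →ₗ[A] M n, ∀ n,
      πn n = (adicSumₗ (I := I) (Z := Z) (M := M n)).comp
        (smulFamily fun z => (ε z : ∀ k, M k) n) := ⟨_, fun n => rfl⟩
  have hπn' : ∀ n (d : decaying I Z A), πn n d =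
      adicSum (fun z => d.1 z • (ε z : ∀ k, M k) n) (smul_mem_decaying d.2 _) := by
    intro n d
    rw [hπn]
    rfl
  have hcompat : ∀ n (d : decaying I Z A), ψ n (πn (n + 1) d) = πn n d := by
    intro n d
    rw [hπn', hπn', map_adicSum]
    apply adicSum_congr
    funext z
    rw [map_smul, (ε z).2 n]
  have hkern : ∀ n (d : decaying I Z A), πn n d = 0 →
      d ∈ (F I (n + 1) : Submodule A (decaying I Z A)) := by
    intro n d hd
    apply mem_F_of_apply_mem
    intro z
    rw [mem_F_self_iff]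
    rw [hπn] at hd
    exact level_coeff I (n + 1) _ (hen n) d hd z
  have hsurjn : ∀ n, Function.Surjective (πn n) := by
    intro n
    rw [hπn]
    exact level_surjective _ (hen n)
  obtain ⟨π, hπ⟩ : ∃ π : decaying I Z A →ₗ[A] sysLim M ψ,
      ∀ d n, (π d : ∀ k, M k) n = πn n d :=
    ⟨LinearMap.codRestrict (sysLim M ψ) (LinearMap.pi πn) (fun d n => hcompat n d),
      fun d n => rfl⟩
  -- injectivity
  have hinj : Function.Injective π := by
    rw [← LinearMap.ker_eq_bot, eq_bot_iff]
    intro d hd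
    rw [LinearMap.mem_ker] at hd
    have h1 : ∀ n, d ∈ (F I (n + 1) : Submodule A (decaying I Z A)) := fun n =>
      hkern n d (by rw [← hπ, hd]; rfl)
    rw [Submodule.mem_bot]
    apply IsHausdorff.haus (inferInstance : IsHausdorff I (decaying I Z A))
    intro n
    rw [SModEq.sub_mem, sub_zero]
    exact F_anti I (Nat.le_succ n) (h1 n)
  -- surjectivity
  have hsurj : Function.Surjective π := by
    intro x
    choose dn hdn using fun n => hsurjn n ((x : ∀ k, M k) n)
    have hstep : ∀ n, dn (n + 1) - dn n ∈ (F I (n + 1) : Submodule A (decaying I Z A)) :=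
      fun n => hkern n _ (by
        rw [map_sub, ← hcompat n (dn (n + 1)), hdn, hdn, x.2 n, sub_self])
    have hcauchy : ∀ m n, m ≤ n →
        dn n - dn m ∈ (F I (m + 1) : Submodule A (decaying I Z A)) := by
      intro m n hmn
      induction n, hmn using Nat.le_induction with
      | base =>
        rw [sub_self]
        exact Submodule.zero_mem _
      | succ n hmn ih =>
        have : dn (n + 1) - dn m = (dn (n + 1) - dn n) + (dn n - dn m) := by abel
        rw [this]
        exact Submodule.add_mem _ (F_anti I (by omega) (hstep n)) ih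
    obtain ⟨d, hd⟩ := IsPrecomplete.prec (inferInstance : IsPrecomplete I (decaying I Z A))
      (f := dn) (by
        intro m n hmn
        rw [SModEq.sub_mem]
        have := hcauchy m n hmn
        rw [← neg_sub]
        exact Submodule.neg_mem _ (F_anti I (Nat.le_succ m) this))
    refine ⟨d, ?_⟩
    apply Subtype.ext
    funext n
    rw [hπ]
    have h1 := hd (n + 1)
    rw [SModEq.sub_mem] at h1
    have h2 := map_mem_F (πn n) (n + 1) _ h1
    rw [F, hbot n, Submodule.mem_bot, map_sub, sub_eq_zero] at h2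
    rw [← h2, ← hcompat n, hdn, x.2 n]
  refine ⟨Z, ⟨LinearEquiv.ofBijective π ⟨hinj, hsurj⟩⟩, fun n => ⟨?_, ?_⟩⟩
  · intro y
    obtain ⟨d, hd⟩ := hsurjn n y
    refine ⟨π d, ?_⟩
    rw [sysProj_apply, hπ, hd]
  · apply le_antisymm
    · intro x hx
      obtain ⟨d, rfl⟩ := hsurj x
      rw [LinearMap.mem_ker, sysProj_apply, hπ] at hx
      exact map_mem_F π (n + 1) d (hkern n d hx)
    · intro x hx
      rw [LinearMap.mem_ker]
      have := map_mem_F (sysProj M ψ n) (n + 1) x hx
      rwa [F, hbot n, Submodule.mem_bot] at this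

end main

end Groth.Agent.Lib.helper26.AdicSum
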