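import Mathlib
import Groth.Agent.Lib.helper26.AdicFin
import Groth.Agent.Lib.helper26.AdicSys

/-!
# Completed base change of adically free modules
-/

namespace Groth.Agent.Lib.helper26.AdicSum

open W4c5adicflatcompl TensorProduct

universe u

section general

variable {B : Type*} [CommRing B] (J : Ideal B) {M N : Type*} [AddCommGroup M] [Module B M]
  [AddCommGroup N] [Module B N]

theorem map_injective_of_reflects (α : M →ₗ[B] N)
    (h : ∀ n x, α x ∈ (F J n : Submodule B N) → x ∈ (F J n : Submodule B M)) :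
    Function.Injective (AdicCompletion.map J α) := by
  rw [injective_iff_map_eq_zero]
  intro g hg
  obtain ⟨a, rfl⟩ := AdicCompletion.mk_surjective J M g
  apply AdicCompletion.ext
  intro n
  rw [AdicCompletion.mk_apply_coe, AdicCompletion.val_zero_apply, Submodule.mkQ_apply,
    Submodule.Quotient.mk_eq_zero]
  apply h
  have h1 := congrArg (fun y => AdicCompletion.eval J N n y) hg
  simp only [AdicCompletion.map_mk, map_zero] at h1
  rw [AdicCompletion.eval_apply, AdicCompletion.mk_apply_coe, Submodule.mkQ_apply,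
    Submodule.Quotient.mk_eq_zero] at h1
  exact h1

end general

section bc

variable {A B : Type*} [CommRing A] [CommRing B] [Algebra A B]
  (I : Ideal A) (J : Ideal B) (hIJ : I.map (algebraMap A B) ≤ J)

include hIJ in
theorem algebraMap_mem_pow {n : ℕ} {a : A} (ha : a ∈ I ^ n) : algebraMap A B a ∈ J ^ n := by
  have h1 : (I ^ n).map (algebraMap A B) ≤ J ^ n := by
    rw [Ideal.map_pow]
    exact Ideal.pow_right_mono hIJ n
  exact h1 (Ideal.mem_map_of_mem _ ha)

include hIJ in
theorem tmul_mem_F {D' : Type*} [AddCommGroup D'] [Module A D'] (n : ℕ) (b : B) (r : D')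
    (hr : r ∈ (F I n : Submodule A D')) :
    b ⊗ₜ[A] r ∈ (F J n : Submodule B (B ⊗[A] D')) := by
  refine Submodule.smul_induction_on hr ?_ ?_
  · intro i hi d _
    have : b ⊗ₜ[A] (i • d) = algebraMap A B i • (b ⊗ₜ[A] d) := by
      rw [TensorProduct.tmul_smul, TensorProduct.smul_tmul', TensorProduct.smul_tmul',
        Algebra.smul_def, smul_eq_mul]
    rw [this]
    exact smul_mem_F (algebraMap_mem_pow I J hIJ hi) _
  · intro x y hx hy
    rw [TensorProduct.tmul_add]
    exact Submodule.add_mem _ hx hy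

end bc

section bc2

variable {A B : Type*} [CommRing A] [CommRing B] [Algebra A B] [IsNoetherianRing A]
  (I : Ideal A) (J : Ideal B) (hIJ : I.map (algebraMap A B) ≤ J) (Z : Type*) [DecidableEq Z]

/-- finite approximation of decaying functions by `A`-combinations of the `single z 1` -/
theorem exists_finite_approx (d : decaying I Z (AdicCompletion I A)) (n : ℕ) :
    ∃ (S : Finset Z) (c : Z → A),
      d - ∑ z ∈ S, c z • single I z (1 : AdicCompletion I A) ∈
        (F I n : Submodule A (decaying I Z (AdicCompletion I A))) := by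
  choose c hc using fun z : Z => exists_approx (I := I) (d.1 z) n
  refine ⟨supp d.1 d.2 n, c, ?_⟩
  apply mem_F_of_apply_mem
  intro w
  have h1 : ((d - ∑ z ∈ supp d.1 d.2 n, c z • single I z (1 : AdicCompletion I A) :
      decaying I Z (AdicCompletion I A)) : Z → AdicCompletion I A) w =
      d.1 w - (if w ∈ supp d.1 d.2 n then c w • (1 : AdicCompletion I A) else 0) := by
    simp only [Submodule.coe_sub, Submodule.coe_sum, Submodule.coe_smul, coe_single,
      Pi.sub_apply, Finset.sum_apply, Pi.smul_apply, Pi.single_apply, smul_ite, smul_zero,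
      Finset.sum_ite_eq]
  rw [h1]
  by_cases hw : w ∈ supp d.1 d.2 n
  · rw [if_pos hw]
    exact hc w
  · rw [if_neg hw, sub_zero]
    have := (mem_supp d.2 n w).not.mp hw
    rwa [not_not] at this

/-- the comparison map `B^(Z) → B ⊗ D` -/
noncomputable def bcMap : (Z →₀ B) →ₗ[B] B ⊗[A] decaying I Z (AdicCompletion I A) :=
  Finsupp.linearCombination B
    (fun z => (1 : B) ⊗ₜ[A] single I z (1 : AdicCompletion I A))

omit [IsNoetherianRing A] in
theorem bcMap_single (z : Z) (b : B) :
    bcMap I Z (Finsupp.single z b) = b ⊗ₜ[A] single I z (1 : AdicCompletion I A) := by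
  rw [bcMap, Finsupp.linearCombination_single, TensorProduct.smul_tmul', smul_eq_mul, mul_one]

include hIJ in
theorem bc_surj (t : B ⊗[A] decaying I Z (AdicCompletion I A)) :
    ∃ x : Z →₀ B, t - bcMap I Z x ∈
      (J • ⊤ : Submodule B (B ⊗[A] decaying I Z (AdicCompletion I A))) := by
  induction t using TensorProduct.induction_on with
  | zero => exact ⟨0, by rw [map_zero, sub_zero]; exact Submodule.zero_mem _⟩
  | add t₁ t₂ h₁ h₂ =>
    obtain ⟨x₁, hx₁⟩ := h₁
    obtain ⟨x₂, hx₂⟩ := h₂
    refine ⟨x₁ + x₂, ?_⟩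
    have : t₁ + t₂ - bcMap I Z (x₁ + x₂) = (t₁ - bcMap I Z x₁) + (t₂ - bcMap I Z x₂) := by
      rw [map_add]; abel
    rw [this]
    exact Submodule.add_mem _ hx₁ hx₂
  | tmul b d =>
    obtain ⟨S, c, hc⟩ := exists_finite_approx I Z d 1
    refine ⟨∑ z ∈ S, Finsupp.single z (c z • b), ?_⟩
    have h1 : bcMap I Z (∑ z ∈ S, Finsupp.single z (c z • b)) =
        b ⊗ₜ[A] (∑ z ∈ S, c z • single I z (1 : AdicCompletion I A)) := by
      rw [map_sum, TensorProduct.tmul_sum]
      apply Finset.sum_congr rfl
      intro z _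
      rw [bcMap_single, TensorProduct.tmul_smul, TensorProduct.smul_tmul']
    rw [h1, ← TensorProduct.tmul_sub]
    have := tmul_mem_F I J hIJ 1 b _ hc
    rwa [F, pow_one] at this

/-- the map `A / I^n → B / J^n` -/
noncomputable def quotMap (n : ℕ) : A ⧸ I ^ n →ₐ[A] B ⧸ J ^ n :=
  Ideal.quotientMapₐ (J ^ n) (Algebra.ofId A B) (fun _ ha => algebraMap_mem_pow I J hIJ ha)

/-- the `z`-th coordinate modulo `J ^ n`, on `D` -/
noncomputable def coordModD (n : ℕ) (z : Z) :
    decaying I Z (AdicCompletion I A) →ₗ[A] B ⧸ J ^ n :=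
  (quotMap I J hIJ n).toLinearMap.comp
    (((AdicCompletion.evalₐ I n).toLinearMap.comp (LinearMap.proj z)).comp
      (decaying I Z (AdicCompletion I A)).subtype)

omit [IsNoetherianRing A] in
theorem coordModD_single (n : ℕ) (z w : Z) :
    coordModD I J hIJ Z n z (single I w (1 : AdicCompletion I A)) = if w = z then 1 else 0 := by
  simp only [coordModD, LinearMap.comp_apply, Submodule.subtype_apply, coe_single,
    LinearMap.proj_apply, AlgHom.toLinearMap_apply, Pi.single_apply]
  by_cases h : z = w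
  · subst h
    simp
  · rw [if_neg h, if_neg (Ne.symm h), map_zero, map_zero]

/-- the `z`-th coordinate modulo `J ^ n` -/
noncomputable def coordMod (n : ℕ) (z : Z) :
    B ⊗[A] decaying I Z (AdicCompletion I A) →ₗ[B] B ⧸ J ^ n :=
  LinearMap.liftBaseChange B (coordModD I J hIJ Z n z)

omit [IsNoetherianRing A] in
theorem coordMod_bcMap (n : ℕ) (z : Z) (x : Z →₀ B) :
    coordMod I J hIJ Z n z (bcMap I Z x) = Ideal.Quotient.mk (J ^ n) (x z) := by
  induction x using Finsupp.induction_linear with
  | zero => simp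
  | add x y hx hy => rw [map_add, map_add, hx, hy, Finsupp.add_apply, map_add]
  | single w b =>
    rw [bcMap_single, coordMod, LinearMap.liftBaseChange_tmul, coordModD_single]
    by_cases h : w = z
    · subst h
      rw [if_pos rfl, Finsupp.single_eq_same, Algebra.smul_def, mul_one]
      rfl
    · rw [if_neg h, smul_zero, Finsupp.single_eq_of_ne (Ne.symm h), map_zero]

omit [IsNoetherianRing A] in
include hIJ in
theorem bc_reflects (n : ℕ) (x : Z →₀ B)
    (hx : bcMap I Z x ∈
      (F J n : Submodule B (B ⊗[A] decaying I Z (AdicCompletion I A)))) :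
    x ∈ (F J n : Submodule B (Z →₀ B)) := by
  apply finsupp_mem_F_of_apply_mem
  intro z
  rw [mem_F_self_iff]
  have h1 := map_mem_F (coordMod I J hIJ Z n z) n _ hx
  rw [F, pow_smul_top_eq_bot_of_tower J n (B ⧸ J ^ n), Submodule.mem_bot, coordMod_bcMap] at h1
  exact Ideal.Quotient.eq_zero_iff_mem.mp h1

end bc2

theorem bc_main {A B : Type u} [CommRing A] [CommRing B] [Algebra A B] [IsNoetherianRing A]
    [IsNoetherianRing B] (I : Ideal A) (J : Ideal B) (hIJ : I.map (algebraMap A B) ≤ J)
    (P : Type u) [AddCommGroup P] [Module A P] (Z : Type u)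
    (ℓ : P ≃ₗ[A] decaying I Z (AdicCompletion I A)) :
    Nonempty (AdicCompletion J (B ⊗[A] P) ≃ₗ[B] decaying J Z (AdicCompletion J B)) := by
  classical
  have hB : IsAdicComplete J (AdicCompletion J B) := isAdicComplete_hat B
  let f : B ⊗[A] P ≃ₗ[B] B ⊗[A] decaying I Z (AdicCompletion I A) :=
    TensorProduct.AlgebraTensorModule.congr (LinearEquiv.refl B B) ℓ
  let e1 : AdicCompletion J (B ⊗[A] P) ≃ₗ[B]
      AdicCompletion J (B ⊗[A] decaying I Z (AdicCompletion I A)) :=
    (AdicCompletion.congr J f).restrictScalars B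
  have hinj := map_injective_of_reflects J (bcMap I Z) (bc_reflects I J hIJ Z)
  have hsurj : Function.Surjective (AdicCompletion.map J (bcMap (B := B) I Z)) :=
    AdicCompletion.map_surjective_of_mkQ_comp_surjective (by
      intro y
      obtain ⟨t, rfl⟩ := Submodule.mkQ_surjective _ y
      obtain ⟨x, hx⟩ := bc_surj I J hIJ Z t
      refine ⟨x, ?_⟩
      rw [LinearMap.comp_apply, eq_comm, ← sub_eq_zero, ← map_sub, Submodule.mkQ_apply,
        Submodule.Quotient.mk_eq_zero]
      exact hx)
  let e2 : AdicCompletion J (Z →₀ B) ≃ₗ[B]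
      AdicCompletion J (B ⊗[A] decaying I Z (AdicCompletion I A)) :=
    LinearEquiv.ofBijective ((AdicCompletion.map J (bcMap (B := B) I Z)).restrictScalars B)
      ⟨hinj, hsurj⟩
  let e3 : AdicCompletion J (Z →₀ B) ≃ₗ[B] decaying J Z (AdicCompletion J B) :=
    (LinearEquiv.ofInjective (Ψ J Z B) (Ψ_injective J)).trans (LinearEquiv.ofEq _ _ (Ψ_range J))
  exact ⟨e1 ≪≫ₗ e2.symm ≪≫ₗ e3⟩

end Groth.Agent.Lib.helper26.AdicSum
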