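import Mathlib

set_option autoImplicit false
universe u

namespace Groth.Agent.Lib.helper26.LocImm

/-- in a reduced ring with finitely many minimal primes, there is `h ∉ p` killing (after
multiplication) every element that dies in the localization at `p`. -/
theorem exists_kill {A : Type u} [CommRing A] [IsReduced A] (hfin : (minimalPrimes A).Finite)
    (p : Ideal A) [hp : p.IsPrime] :
    ∃ h : A, h ∉ p ∧ ∀ x u : A, u ∉ p → u * x = 0 → h * x = 0 := by
  classical
  have hex : ∀ P : Ideal A, ∃ e : A, e ∉ p ∧ (¬ P ≤ p → e ∈ P) := by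
    intro P
    by_cases hP : P ≤ p
    · exact ⟨1, fun h1 => hp.ne_top ((Ideal.eq_top_iff_one p).2 h1), fun h => absurd hP h⟩
    · obtain ⟨e, heP, hep⟩ := Set.not_subset.1 hP
      exact ⟨e, hep, fun _ => heP⟩
  choose e he1 he2 using hex
  refine ⟨∏ P ∈ hfin.toFinset, e P, ?_, ?_⟩
  · exact p.primeCompl.prod_mem (fun P _ => he1 P)
  · intro x u hu hux
    have hmem : (∏ P ∈ hfin.toFinset, e P) * x ∈ sInf (minimalPrimes A) := by
      rw [Submodule.mem_sInf]
      intro (P : Ideal A) hP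
      haveI : P.IsPrime := Ideal.minimalPrimes_isPrime hP
      by_cases hPp : P ≤ p
      · have huP : u ∉ P := fun h => hu (hPp h)
        have h0 : u * x ∈ P := by rw [hux]; exact P.zero_mem
        exact P.mul_mem_left _ ((‹P.IsPrime›.mem_or_mem h0).resolve_left huP)
      · refine P.mul_mem_right _ ?_
        exact Ideal.mem_of_dvd P (Finset.dvd_prod_of_mem e (hfin.mem_toFinset.2 hP)) (he2 P hPp)
    have hrad : sInf (minimalPrimes A) = (⊥ : Ideal A).radical := Ideal.sInf_minimalPrimes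
    rw [hrad] at hmem
    have h2 : (∏ P ∈ hfin.toFinset, e P) * x ∈ nilradical A := hmem
    rw [nilradical_eq_zero] at h2
    exact h2

section main
variable {A B : Type u} [CommRing A] [CommRing B] [Algebra A B]
  (q : Ideal B) [hq : q.IsPrime] (p : Ideal A) [hp : p.IsPrime]
  (Ap Bq : Type u) [CommRing Ap] [CommRing Bq] [Algebra A Ap] [Algebra B Bq]
  [IsLocalization.AtPrime Ap p] [IsLocalization.AtPrime Bq q]
  (ψ : Ap →+* Bq)

include hq hp in
/-- pointwise: every element of `B` is a fraction of elements of `A` near `q`. -/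
theorem exists_frac (hψ : ∀ a, ψ (algebraMap A Ap a) = algebraMap B Bq (algebraMap A B a))
    (hsurj : Function.Surjective ψ) (y : B) :
    ∃ s : A, s ∉ p ∧ ∃ t : B, t ∉ q ∧ ∃ a : A,
      t * (algebraMap A B s * y - algebraMap A B a) = 0 := by
  obtain ⟨z, hz⟩ := hsurj (algebraMap B Bq y)
  obtain ⟨a, s, rfl⟩ := IsLocalization.exists_mk'_eq p.primeCompl z
  have h2 : ψ (IsLocalization.mk' Ap a s) * algebraMap B Bq (algebraMap A B s) =
      algebraMap B Bq (algebraMap A B a) := by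
    rw [← hψ, ← hψ, ← map_mul, IsLocalization.mk'_spec]
  rw [hz, ← map_mul] at h2
  obtain ⟨t, ht⟩ := (IsLocalization.eq_iff_exists q.primeCompl Bq).1 h2
  refine ⟨s.1, s.2, t.1, t.2, a, ?_⟩
  rw [mul_sub, sub_eq_zero, ← ht]
  ring

include hq hp in
theorem exists_uniform [Algebra.FiniteType A B]
    (hψ : ∀ a, ψ (algebraMap A Ap a) = algebraMap B Bq (algebraMap A B a))
    (hsurj : Function.Surjective ψ) :
    ∃ S : A, S ∉ p ∧ ∃ T : B, T ∉ q ∧ ∀ y : B, ∃ k m : ℕ, ∃ c : A,
      T ^ m * (algebraMap A B S ^ k * y - algebraMap A B c) = 0 := by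
  classical
  obtain ⟨G, hG⟩ := (Algebra.FiniteType.out : (⊤ : Subalgebra A B).FG)
  have h1 := exists_frac q p Ap Bq ψ hψ hsurj
  choose s hs t ht a ha using h1
  refine ⟨∏ y ∈ G, s y, p.primeCompl.prod_mem (fun y _ => hs y), ∏ y ∈ G, t y,
    q.primeCompl.prod_mem (fun y _ => ht y), ?_⟩
  intro y
  have hy : y ∈ Algebra.adjoin A (G : Set B) := by rw [hG]; exact Algebra.mem_top
  induction hy using Algebra.adjoin_induction with
  | mem y hy =>
    refine ⟨1, 1, a y * ∏ x ∈ G.erase y, s x, ?_⟩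
    have hS : s y * ∏ x ∈ G.erase y, s x = ∏ x ∈ G, s x := Finset.mul_prod_erase G s hy
    have hT : t y * ∏ x ∈ G.erase y, t x = ∏ x ∈ G, t x := Finset.mul_prod_erase G t hy
    rw [← hS, ← hT]
    simp only [pow_one, map_mul]
    linear_combination ((∏ x ∈ G.erase y, t x) *
      (algebraMap A B (∏ x ∈ G.erase y, s x))) * ha y
  | algebraMap r =>
    exact ⟨0, 0, r, by simp⟩
  | add y z _ _ hy hz =>
    obtain ⟨k1, m1, c1, h1⟩ := hy
    obtain ⟨k2, m2, c2, h2⟩ := hz
    refine ⟨k1 + k2, m1 + m2, (∏ y ∈ G, s y) ^ k2 * c1 + (∏ y ∈ G, s y) ^ k1 * c2, ?_⟩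
    simp only [map_add, map_mul, map_pow]
    linear_combination ((∏ y ∈ G, t y) ^ m2 * algebraMap A B (∏ y ∈ G, s y) ^ k2) * h1 +
      ((∏ y ∈ G, t y) ^ m1 * algebraMap A B (∏ y ∈ G, s y) ^ k1) * h2
  | mul y z _ _ hy hz =>
    obtain ⟨k1, m1, c1, h1⟩ := hy
    obtain ⟨k2, m2, c2, h2⟩ := hz
    refine ⟨k1 + k2, m1 + m2, c1 * c2, ?_⟩
    simp only [map_mul]
    linear_combination ((∏ y ∈ G, t y) ^ m2 * algebraMap A B (∏ y ∈ G, s y) ^ k2 * z) * h1 +
      ((∏ y ∈ G, t y) ^ m1 * algebraMap A B c1) * h2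

include hq hp in
theorem exists_localization_bijective [Algebra.FiniteType A B] [IsReduced A]
    (hfin : (minimalPrimes A).Finite) (hpq : p = q.comap (algebraMap A B))
    (hψ : ∀ a, ψ (algebraMap A Ap a) = algebraMap B Bq (algebraMap A B a))
    (hbij : Function.Bijective ψ) :
    ∃ a : A, a ∉ p ∧ ∃ t : B, t ∉ q ∧
      ∀ (Aa Bb : Type u) [CommRing Aa] [CommRing Bb] [Algebra A Aa] [Algebra B Bb]
        [IsLocalization.Away a Aa] [IsLocalization.Away (algebraMap A B a * t) Bb]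
        (χ : Aa →+* Bb), (∀ x, χ (algebraMap A Aa x) = algebraMap B Bb (algebraMap A B x)) →
        Function.Bijective χ := by
  obtain ⟨S, hS, T, hT, hQ⟩ := exists_uniform q p Ap Bq ψ hψ hbij.2
  obtain ⟨h, hh, hkill⟩ := exists_kill hfin p
  obtain ⟨k0, m0, τ, hτ⟩ := hQ T
  have hφ : ∀ x : A, x ∉ p → algebraMap A B x ∉ q := by
    intro x hx hxq
    apply hx
    rw [hpq]
    exact hxq
  have hτp : τ ∉ p := by
    intro hτp
    have h1 : algebraMap A B τ ∈ q := by
      have : τ ∈ q.comap (algebraMap A B) := hpq ▸ hτp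
      exact this
    have h2 : T ^ m0 * (algebraMap A B S ^ k0 * T) ∈ q := by
      have : T ^ m0 * (algebraMap A B S ^ k0 * T) = T ^ m0 * algebraMap A B τ := by
        linear_combination hτ
      rw [this]
      exact q.mul_mem_left _ h1
    rcases hq.mem_or_mem h2 with h3 | h3
    · exact hT (hq.mem_of_pow_mem _ h3)
    · rcases hq.mem_or_mem h3 with h4 | h4
      · exact hφ S hS (hq.mem_of_pow_mem _ h4)
      · exact hT h4
  have hap : S * τ * h ∉ p := by
    intro hmem
    rcases hp.mem_or_mem hmem with h1 | h1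
    · rcases hp.mem_or_mem h1 with h2 | h2
      · exact hS h2
      · exact hτp h2
    · exact hh h1
  refine ⟨S * τ * h, hap, T, hT, ?_⟩
  intro Aa Bb _ _ _ _ _ _ χ hχ
  have huA : IsUnit (algebraMap A Aa (S * τ * h)) :=
    IsLocalization.map_units Aa (⟨S * τ * h, Submonoid.mem_powers _⟩ : Submonoid.powers (S * τ * h))
  have huS : IsUnit (algebraMap A Aa S) := by
    rw [map_mul, map_mul] at huA
    exact (IsUnit.mul_iff.1 (IsUnit.mul_iff.1 huA).1).1
  have huτ : IsUnit (algebraMap A Aa τ) := by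
    rw [map_mul, map_mul] at huA
    exact (IsUnit.mul_iff.1 (IsUnit.mul_iff.1 huA).1).2
  have huB : IsUnit (algebraMap B Bb (algebraMap A B (S * τ * h) * T)) :=
    IsLocalization.map_units Bb (⟨_, Submonoid.mem_powers _⟩ :
      Submonoid.powers (algebraMap A B (S * τ * h) * T))
  have huT : IsUnit (algebraMap B Bb T) := by
    rw [map_mul] at huB
    exact (IsUnit.mul_iff.1 huB).2
  obtain ⟨u, hu⟩ := huS
  have e1 : χ (↑u) = algebraMap B Bb (algebraMap A B S) := by rw [hu, hχ]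
  have e2 : χ ↑u⁻¹ * χ ↑u = 1 := by rw [← map_mul, Units.inv_mul, map_one]
  -- (i) the image of `B` lies in the range of `χ`
  have hi : ∀ y : B, ∃ y' : Aa, χ y' = algebraMap B Bb y := by
    intro y
    obtain ⟨k, m, c, hc⟩ := hQ y
    have h1 := congrArg (algebraMap B Bb) hc
    rw [map_mul, map_pow, map_zero, map_sub, map_mul, map_pow] at h1
    have h2 : algebraMap B Bb (algebraMap A B S) ^ k * algebraMap B Bb y -
        algebraMap B Bb (algebraMap A B c) = 0 := (huT.pow m).mul_right_eq_zero.1 h1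
    refine ⟨↑u⁻¹ ^ k * algebraMap A Aa c, ?_⟩
    rw [map_mul, map_pow, hχ, ← sub_eq_zero.1 h2, ← e1, ← mul_assoc, ← mul_pow, e2, one_pow,
      one_mul]
  -- (ii) the image of `b` is the image of a unit
  have hii : ∃ v : Aaˣ, χ ↑v = algebraMap B Bb (algebraMap A B (S * τ * h) * T) := by
    have h1 := congrArg (algebraMap B Bb) hτ
    rw [map_mul, map_pow, map_zero, map_sub, map_mul, map_pow] at h1
    have h2 : algebraMap B Bb (algebraMap A B S) ^ k0 * algebraMap B Bb T -
        algebraMap B Bb (algebraMap A B τ) = 0 := (huT.pow m0).mul_right_eq_zero.1 h1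
    obtain ⟨w, hw⟩ := huτ
    obtain ⟨v0, hv0⟩ := huA
    refine ⟨v0 * (u⁻¹ ^ k0 * w), ?_⟩
    rw [Units.val_mul, Units.val_mul, Units.val_pow_eq_pow_val, map_mul, map_mul, map_pow, hv0,
      hw, hχ, hχ, map_mul (algebraMap B Bb), ← sub_eq_zero.1 h2, ← e1, ← mul_assoc (χ ↑u⁻¹ ^ k0),
      ← mul_pow, e2, one_pow, one_mul]
  obtain ⟨v, hv⟩ := hii
  constructor
  · -- injectivity
    rw [injective_iff_map_eq_zero]
    intro x₁ hx₁
    obtain ⟨x, ⟨_, n, rfl⟩, rfl⟩ := IsLocalization.exists_mk'_eq (Submonoid.powers (S * τ * h)) x₁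
    have h1 : χ (IsLocalization.mk' Aa x (⟨(S * τ * h) ^ n, n, rfl⟩ :
        Submonoid.powers (S * τ * h))) * χ (algebraMap A Aa ((S * τ * h) ^ n)) =
        χ (algebraMap A Aa x) := by
      rw [← map_mul, IsLocalization.mk'_spec]
    rw [hx₁, zero_mul, hχ] at h1
    obtain ⟨⟨_, m, rfl⟩, hm⟩ := (IsLocalization.map_eq_zero_iff
      (Submonoid.powers (algebraMap A B (S * τ * h) * T)) Bb _).1 h1.symm
    -- pass to `Bq`
    have hbq : algebraMap A B (S * τ * h) * T ∉ q := fun hmem =>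
      (hq.mem_or_mem hmem).elim (hφ _ hap) hT
    have h3 : algebraMap B Bq (algebraMap A B x) = 0 := by
      rw [IsLocalization.map_eq_zero_iff q.primeCompl Bq]
      exact ⟨⟨_, q.primeCompl.pow_mem hbq m⟩, hm⟩
    rw [← hψ] at h3
    have h4 : algebraMap A Ap x = 0 := hbij.1 (h3.trans (map_zero ψ).symm)
    obtain ⟨⟨u', hu'⟩, hux⟩ := (IsLocalization.map_eq_zero_iff p.primeCompl Ap _).1 h4
    have h5 : h * x = 0 := hkill x u' hu' hux
    have h6 : algebraMap A Aa x = 0 := by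
      rw [IsLocalization.map_eq_zero_iff (Submonoid.powers (S * τ * h)) Aa]
      refine ⟨⟨S * τ * h, Submonoid.mem_powers _⟩, ?_⟩
      show S * τ * h * x = 0
      rw [mul_assoc, h5, mul_zero]
    rw [IsLocalization.mk'_eq_zero_iff]
    exact (IsLocalization.map_eq_zero_iff (Submonoid.powers (S * τ * h)) Aa _).1 h6
  · -- surjectivity
    intro z
    obtain ⟨y, ⟨_, n, rfl⟩, rfl⟩ := IsLocalization.exists_mk'_eq
      (Submonoid.powers (algebraMap A B (S * τ * h) * T)) z
    obtain ⟨y', hy'⟩ := hi y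
    refine ⟨y' * ↑(v⁻¹ ^ n), ?_⟩
    rw [IsLocalization.eq_mk'_iff_mul_eq, map_mul, hy', map_pow, ← hv, mul_assoc, ← map_pow,
      ← map_mul, Units.val_pow_eq_pow_val, ← mul_pow, Units.inv_mul, one_pow, map_one, mul_one]

end main

end Groth.Agent.Lib.helper26.LocImm
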