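import Mathlib
import Groth.Agent.Lib.helper26.LocImmAlg

set_option autoImplicit false
universe u

namespace Groth.Agent.Lib.helper26.LocImm

section general
variable {A B : Type u} [CommRing A] [CommRing B] [Algebra A B]

/-- surjectivity half: only uses the uniform fraction data. -/
theorem surjective_of (S τ h : A) (T : B)
    (hQ : ∀ y : B, ∃ k m : ℕ, ∃ c : A,
      T ^ m * (algebraMap A B S ^ k * y - algebraMap A B c) = 0)
    (k0 m0 : ℕ) (hτ : T ^ m0 * (algebraMap A B S ^ k0 * T - algebraMap A B τ) = 0)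
    (Aa Bb : Type u) [CommRing Aa] [CommRing Bb] [Algebra A Aa] [Algebra B Bb]
    [IsLocalization.Away (S * τ * h) Aa] [IsLocalization.Away (algebraMap A B (S * τ * h) * T) Bb]
    (χ : Aa →+* Bb) (hχ : ∀ x, χ (algebraMap A Aa x) = algebraMap B Bb (algebraMap A B x)) :
    Function.Surjective χ := by
  have huA : IsUnit (algebraMap A Aa (S * τ * h)) :=
    IsLocalization.map_units Aa (⟨S * τ * h, Submonoid.mem_powers _⟩ : Submonoid.powers (S * τ * h))
  have huS : IsUnit (algebraMap A Aa S) := by
    rw [map_mul, map_mul] at huA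
    exact (IsUnit.mul_iff.1 (IsUnit.mul_iff.1 huA).1).1
  have huτ : IsUnit (algebraMap A Aa τ) := by
    rw [map_mul, map_mul] at huA
    exact (IsUnit.mul_iff.1 (IsUnit.mul_iff.1 huA).1).2
  have huB : IsUnit (algebraMap B Bb (algebraMap A B (S * τ * h) * T)) :=
    IsLocalization.map_units Bb (⟨_, Submonoid.mem_powers _⟩ :
      Submonoid.powers (algebraMap A B (S * τ * h) * T))
  have huT : IsUnit (algebraMap B Bb T) := by
    rw [map_mul] at huB
    exact (IsUnit.mul_iff.1 huB).2
  obtain ⟨u, hu⟩ := huS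
  have e1 : χ (↑u) = algebraMap B Bb (algebraMap A B S) := by rw [hu, hχ]
  have e2 : χ ↑u⁻¹ * χ ↑u = 1 := by rw [← map_mul, Units.inv_mul, map_one]
  have hi : ∀ y : B, ∃ y' : Aa, χ y' = algebraMap B Bb y := by
    intro y
    obtain ⟨k, m, c, hc⟩ := hQ y
    have h1 := congrArg (algebraMap B Bb) hc
    rw [map_mul, map_pow, map_zero, map_sub, map_mul, map_pow] at h1
    have h2 : algebraMap B Bb (algebraMap A B S) ^ k * algebraMap B Bb y -
        algebraMap B Bb (algebraMap A B c) = 0 := (huT.pow m).mul_right_eq_zero.1 h1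
    refine ⟨↑u⁻¹ ^ k * algebraMap A Aa c, ?_⟩
    rw [map_mul, map_pow, hχ, ← sub_eq_zero.1 h2, ← e1, ← mul_assoc, ← mul_pow, e2, one_pow,
      one_mul]
  have hii : ∃ v : Aaˣ, χ ↑v = algebraMap B Bb (algebraMap A B (S * τ * h) * T) := by
    have h1 := congrArg (algebraMap B Bb) hτ
    rw [map_mul, map_pow, map_zero, map_sub, map_mul, map_pow] at h1
    have h2 : algebraMap B Bb (algebraMap A B S) ^ k0 * algebraMap B Bb T -
        algebraMap B Bb (algebraMap A B τ) = 0 := (huT.pow m0).mul_right_eq_zero.1 h1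
    obtain ⟨w, hw⟩ := huτ
    obtain ⟨v0, hv0⟩ := huA
    refine ⟨v0 * (u⁻¹ ^ k0 * w), ?_⟩
    rw [Units.val_mul, Units.val_mul, Units.val_pow_eq_pow_val, map_mul, map_mul, map_pow, hv0,
      hw, hχ, hχ, map_mul (algebraMap B Bb), ← sub_eq_zero.1 h2, ← e1, ← mul_assoc (χ ↑u⁻¹ ^ k0),
      ← mul_pow, e2, one_pow, one_mul]
  obtain ⟨v, hv⟩ := hii
  intro z
  obtain ⟨y, ⟨_, n, rfl⟩, rfl⟩ := IsLocalization.exists_mk'_eq
    (Submonoid.powers (algebraMap A B (S * τ * h) * T)) z
  obtain ⟨y', hy'⟩ := hi y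
  refine ⟨y' * ↑(v⁻¹ ^ n), ?_⟩
  rw [IsLocalization.eq_mk'_iff_mul_eq, map_mul, hy', map_pow, ← hv, mul_assoc, ← map_pow,
    ← map_mul, Units.val_pow_eq_pow_val, ← mul_pow, Units.inv_mul, one_pow, map_one, mul_one]

/-- injectivity half from a kernel condition. -/
theorem injective_of (a : A) (b : B)
    (hker : ∀ x : A, (∃ m : ℕ, b ^ m * algebraMap A B x = 0) → ∃ N : ℕ, a ^ N * x = 0)
    (Aa Bb : Type u) [CommRing Aa] [CommRing Bb] [Algebra A Aa] [Algebra B Bb]
    [IsLocalization.Away a Aa] [IsLocalization.Away b Bb]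
    (χ : Aa →+* Bb) (hχ : ∀ x, χ (algebraMap A Aa x) = algebraMap B Bb (algebraMap A B x)) :
    Function.Injective χ := by
  rw [injective_iff_map_eq_zero]
  intro x₁ hx₁
  obtain ⟨x, ⟨_, n, rfl⟩, rfl⟩ := IsLocalization.exists_mk'_eq (Submonoid.powers a) x₁
  have h1 : χ (IsLocalization.mk' Aa x (⟨a ^ n, n, rfl⟩ : Submonoid.powers a)) *
      χ (algebraMap A Aa (a ^ n)) = χ (algebraMap A Aa x) := by
    rw [← map_mul, IsLocalization.mk'_spec]
  rw [hx₁, zero_mul, hχ] at h1
  obtain ⟨⟨_, m, rfl⟩, hm⟩ := (IsLocalization.map_eq_zero_iff (Submonoid.powers b) Bb _).1 h1.symm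
  obtain ⟨N, hN⟩ := hker x ⟨m, hm⟩
  rw [IsLocalization.mk'_eq_zero_iff]
  exact ⟨⟨a ^ N, N, rfl⟩, hN⟩

end general

section fp
variable {A B : Type u} [CommRing A] [CommRing B] [Algebra A B]
  (q : Ideal B) [hq : q.IsPrime] (p : Ideal A) [hp : p.IsPrime]
  (Ap Bq : Type u) [CommRing Ap] [CommRing Bq] [Algebra A Ap] [Algebra B Bq]
  [IsLocalization.AtPrime Ap p] [IsLocalization.AtPrime Bq q]
  (ψ : Ap →+* Bq)

include hq hp in
theorem exists_localization_bijective_fp [Algebra.FinitePresentation A B]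
    (hpq : p = q.comap (algebraMap A B))
    (hψ : ∀ a, ψ (algebraMap A Ap a) = algebraMap B Bq (algebraMap A B a))
    (hbij : Function.Bijective ψ) :
    ∃ a : A, a ∉ p ∧ ∃ t : B, t ∉ q ∧
      ∀ (Aa Bb : Type u) [CommRing Aa] [CommRing Bb] [Algebra A Aa] [Algebra B Bb]
        [IsLocalization.Away a Aa] [IsLocalization.Away (algebraMap A B a * t) Bb]
        (χ : Aa →+* Bb), (∀ x, χ (algebraMap A Aa x) = algebraMap B Bb (algebraMap A B x)) →
        Function.Bijective χ := by
  classical
  haveI : Algebra.FiniteType A B := inferInstance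
  obtain ⟨S, hS, T, hT, hQ⟩ := exists_uniform q p Ap Bq ψ hψ hbij.2
  obtain ⟨k0, m0, τ, hτ⟩ := hQ T
  have hφ : ∀ x : A, x ∉ p → algebraMap A B x ∉ q := by
    intro x hx hxq
    apply hx
    rw [hpq]
    exact hxq
  have hτp : τ ∉ p := by
    intro hτp
    have h1 : algebraMap A B τ ∈ q := by
      have : τ ∈ q.comap (algebraMap A B) := hpq ▸ hτp
      exact this
    have h2 : T ^ m0 * (algebraMap A B S ^ k0 * T) ∈ q := by
      have : T ^ m0 * (algebraMap A B S ^ k0 * T) = T ^ m0 * algebraMap A B τ := by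
        linear_combination hτ
      rw [this]
      exact q.mul_mem_left _ h1
    rcases hq.mem_or_mem h2 with h3 | h3
    · exact hT (hq.mem_of_pow_mem _ h3)
    · rcases hq.mem_or_mem h3 with h4 | h4
      · exact hφ S hS (hq.mem_of_pow_mem _ h4)
      · exact hT h4
  -- concrete localizations with `h = 1`
  have hunit : IsUnit (((algebraMap B (Localization.Away (algebraMap A B (S * τ * 1) * T))).comp
      (algebraMap A B)) (S * τ * 1)) := by
    have h1 : IsUnit (algebraMap B (Localization.Away (algebraMap A B (S * τ * 1) * T))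
        (algebraMap A B (S * τ * 1) * T)) :=
      IsLocalization.map_units _ (⟨_, Submonoid.mem_powers _⟩ :
        Submonoid.powers (algebraMap A B (S * τ * 1) * T))
    have h2 : IsUnit (algebraMap B (Localization.Away (algebraMap A B (S * τ * 1) * T))
        (algebraMap A B (S * τ * 1)) *
        algebraMap B (Localization.Away (algebraMap A B (S * τ * 1) * T)) T) := by
      rw [← RingHom.map_mul]
      exact h1
    exact (IsUnit.mul_iff.1 h2).1
  let χ₀ : Localization.Away (S * τ * 1) →+*
      Localization.Away (algebraMap A B (S * τ * 1) * T) :=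
    IsLocalization.Away.lift (S * τ * 1) hunit
  have hχ₀ : ∀ x, χ₀ (algebraMap A (Localization.Away (S * τ * 1)) x) =
      algebraMap B (Localization.Away (algebraMap A B (S * τ * 1) * T)) (algebraMap A B x) :=
    fun x => IsLocalization.Away.lift_eq (S * τ * 1) hunit x
  have hsurj₀ : Function.Surjective χ₀ :=
    surjective_of S τ 1 T hQ k0 m0 hτ _ _ χ₀ hχ₀
  letI algA₀B₀ : Algebra (Localization.Away (S * τ * 1))
      (Localization.Away (algebraMap A B (S * τ * 1) * T)) := χ₀.toAlgebra
  haveI : IsScalarTower A (Localization.Away (S * τ * 1))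
      (Localization.Away (algebraMap A B (S * τ * 1) * T)) :=
    IsScalarTower.of_algebraMap_eq (fun x => by
      rw [IsScalarTower.algebraMap_apply A B (Localization.Away (algebraMap A B (S * τ * 1) * T))]
      exact (hχ₀ x).symm)
  haveI : Algebra.FinitePresentation B (Localization.Away (algebraMap A B (S * τ * 1) * T)) :=
    IsLocalization.Away.finitePresentation (algebraMap A B (S * τ * 1) * T)
  haveI : Algebra.FinitePresentation A (Localization.Away (algebraMap A B (S * τ * 1) * T)) :=
    Algebra.FinitePresentation.trans A B _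
  haveI : Algebra.FinitePresentation A (Localization.Away (S * τ * 1)) :=
    IsLocalization.Away.finitePresentation (S * τ * 1)
  haveI : Algebra.FinitePresentation (Localization.Away (S * τ * 1))
      (Localization.Away (algebraMap A B (S * τ * 1) * T)) :=
    Algebra.FinitePresentation.of_restrict_scalars_finitePresentation A _ _
  have hkerfg : (RingHom.ker χ₀).FG :=
    Algebra.FinitePresentation.ker_fG_of_surjective
      (Algebra.ofId (Localization.Away (S * τ * 1))
        (Localization.Away (algebraMap A B (S * τ * 1) * T))) hsurj₀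
  -- every kernel element is killed by some element outside `p`
  have hb₀q : algebraMap A B (S * τ * 1) * T ∉ q := by
    intro hmem
    rcases hq.mem_or_mem hmem with h1 | h1
    · refine hφ (S * τ * 1) ?_ h1
      intro h2
      rw [mul_one] at h2
      rcases hp.mem_or_mem h2 with h3 | h3
      · exact hS h3
      · exact hτp h3
    · exact hT h1
  have hkill1 : ∀ z : Localization.Away (S * τ * 1), χ₀ z = 0 →
      ∃ u : A, u ∉ p ∧ algebraMap A (Localization.Away (S * τ * 1)) u * z = 0 := by
    intro z hz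
    obtain ⟨x, s, rfl⟩ := IsLocalization.exists_mk'_eq (Submonoid.powers (S * τ * 1)) z
    have h1 : χ₀ (IsLocalization.mk' (Localization.Away (S * τ * 1)) x s) *
        χ₀ (algebraMap A (Localization.Away (S * τ * 1)) s.1) =
        χ₀ (algebraMap A (Localization.Away (S * τ * 1)) x) := by
      rw [← map_mul, IsLocalization.mk'_spec]
    rw [hz, zero_mul, hχ₀] at h1
    obtain ⟨⟨_, m, rfl⟩, hm⟩ := (IsLocalization.map_eq_zero_iff
      (Submonoid.powers (algebraMap A B (S * τ * 1) * T)) _ _).1 h1.symm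
    have h3 : algebraMap B Bq (algebraMap A B x) = 0 := by
      rw [IsLocalization.map_eq_zero_iff q.primeCompl Bq]
      exact ⟨⟨_, q.primeCompl.pow_mem hb₀q m⟩, hm⟩
    rw [← hψ] at h3
    have h4 : algebraMap A Ap x = 0 := hbij.1 (h3.trans (map_zero ψ).symm)
    obtain ⟨⟨u', hu'⟩, hux⟩ := (IsLocalization.map_eq_zero_iff p.primeCompl Ap _).1 h4
    refine ⟨u', hu', ?_⟩
    have h5 : algebraMap A (Localization.Away (S * τ * 1)) u' *
        IsLocalization.mk' (Localization.Away (S * τ * 1)) x s =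
        IsLocalization.mk' (Localization.Away (S * τ * 1)) (u' * x) s := by
      rw [IsLocalization.mul_mk'_eq_mk'_of_mul]
    rw [h5]
    have h6 : u' * x = 0 := hux
    rw [h6, IsLocalization.mk'_zero]
  obtain ⟨F, hF⟩ := hkerfg
  choose! u hu1 hu2 using hkill1
  have hFker : ∀ z ∈ F, χ₀ z = 0 := by
    intro z hz
    have : z ∈ RingHom.ker χ₀ := by rw [← hF]; exact Ideal.subset_span hz
    exact this
  set h : A := ∏ z ∈ F, u z with hh
  have hhp : h ∉ p := p.primeCompl.prod_mem (fun z hz => hu1 z (hFker z hz))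
  have hkill2 : ∀ z : Localization.Away (S * τ * 1),
      z ∈ Ideal.span (F : Set (Localization.Away (S * τ * 1))) →
      algebraMap A (Localization.Away (S * τ * 1)) h * z = 0 := by
    intro z hzmem
    induction hzmem using Submodule.span_induction with
    | mem z hzF =>
      have h1 : u z * ∏ w ∈ F.erase z, u w = h := Finset.mul_prod_erase F u hzF
      have h2 := hu2 z (hFker z hzF)
      calc algebraMap A (Localization.Away (S * τ * 1)) h * z
          = algebraMap A (Localization.Away (S * τ * 1)) (∏ w ∈ F.erase z, u w) *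
            (algebraMap A (Localization.Away (S * τ * 1)) (u z) * z) := by
            rw [← h1, RingHom.map_mul]; ring
        _ = 0 := by rw [h2, mul_zero]
    | zero => rw [mul_zero]
    | add z w _ _ hz' hw' => rw [mul_add, hz', hw', add_zero]
    | smul c z _ hz' =>
      rw [smul_eq_mul, mul_left_comm, hz', mul_zero]
  have hap : S * τ * h ∉ p := by
    intro hmem
    rcases hp.mem_or_mem hmem with h1 | h1
    · rcases hp.mem_or_mem h1 with h2 | h2
      · exact hS h2
      · exact hτp h2
    · exact hhp h1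
  have hker : ∀ x : A, (∃ m : ℕ, (algebraMap A B (S * τ * h) * T) ^ m * algebraMap A B x = 0) →
      ∃ N : ℕ, (S * τ * h) ^ N * x = 0 := by
    rintro x ⟨m, hm⟩
    have h1 : χ₀ (algebraMap A (Localization.Away (S * τ * 1)) (h ^ m * x)) = 0 := by
      rw [hχ₀, IsLocalization.map_eq_zero_iff
        (Submonoid.powers (algebraMap A B (S * τ * 1) * T))]
      refine ⟨⟨_, m, rfl⟩, ?_⟩
      show (algebraMap A B (S * τ * 1) * T) ^ m * algebraMap A B (h ^ m * x) = 0
      rw [← hm]
      simp only [map_mul, map_pow, map_one]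
      ring
    have h2 := hkill2 _ (by rw [hF]; exact h1)
    rw [← RingHom.map_mul, IsLocalization.map_eq_zero_iff (Submonoid.powers (S * τ * 1))] at h2
    obtain ⟨⟨_, k, rfl⟩, hk⟩ := h2
    refine ⟨k + m + 1, ?_⟩
    have hk' : (S * τ * 1) ^ k * (h * (h ^ m * x)) = 0 := hk
    calc (S * τ * h) ^ (k + m + 1) * x
        = (S * τ) ^ (m + 1) * h ^ k * ((S * τ * 1) ^ k * (h * (h ^ m * x))) := by ring
      _ = 0 := by rw [hk', mul_zero]
  refine ⟨S * τ * h, hap, T, hT, ?_⟩
  intro Aa Bb _ _ _ _ _ _ χ hχ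
  exact ⟨injective_of (S * τ * h) (algebraMap A B (S * τ * h) * T) hker Aa Bb χ hχ,
    surjective_of S τ h T hQ k0 m0 hτ Aa Bb χ hχ⟩

end fp

end Groth.Agent.Lib.helper26.LocImm
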