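import Mathlib
import Groth.Agent.Lib.helper26.LocImmAlg

set_option autoImplicit false
universe u
open CategoryTheory AlgebraicGeometry

namespace Groth.Agent.Lib.helper26.LocImm

theorem isOpenImmersion_of_isIso_appLE {X S : Scheme.{u}} (f : X ⟶ S) (U : X.Opens) (V : S.Opens)
    (hU : IsAffineOpen U) (hV : IsAffineOpen V) (e : U ≤ f ⁻¹ᵁ V) [IsIso (f.appLE V U e)] :
    IsOpenImmersion (U.ι ≫ f) := by
  haveI : IsAffine V.toScheme := hV
  haveI : IsAffine U.toScheme := hU
  haveI : IsIso (f.resLE V U e) := by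
    refine (HasAffineProperty.iff_of_isAffine (P := MorphismProperty.isomorphisms Scheme)
      (f := f.resLE V U e)).2 ⟨inferInstance, ?_⟩
    show IsIso ((f.resLE V U e).app ⊤)
    rw [Scheme.Hom.resLE_app_top]
    have h1 : IsIso (f.appLE V U e ≫ U.topIso.inv) := IsIso.comp_isIso' inferInstance inferInstance
    exact IsIso.comp_isIso' inferInstance h1
  rw [← Scheme.Hom.resLE_comp_ι f e]
  infer_instance

/-- a point without proper generizations is the generic point of an irreducible component -/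
theorem mem_genericPoints_of_forall {α : Type*} [TopologicalSpace α] [QuasiSober α] (y : α)
    (h : ∀ z : α, z ⤳ y → y ⤳ z) : y ∈ genericPoints α := by
  show closure {y} ∈ irreducibleComponents α
  refine ⟨isIrreducible_singleton.closure, ?_⟩
  intro Z hZ hle
  have hZc : IsIrreducible (closure Z) := hZ.closure
  obtain ⟨z, hz⟩ := QuasiSober.sober hZc isClosed_closure
  have hy : y ∈ closure Z := subset_closure (hle (subset_closure rfl))
  have hzy : z ⤳ y := by
    rw [specializes_iff_mem_closure, hz.def]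
    exact hy
  have hyz : y ⤳ z := h z hzy
  have h1 : closure Z ⊆ closure {y} := by
    rw [← hz.def]
    exact closure_minimal (Set.singleton_subset_iff.2 (specializes_iff_mem_closure.1 hyz))
      isClosed_closure
  exact subset_closure.trans h1

theorem finite_minimalPrimes_of_affineOpen (S : Scheme.{u})
    (hS : (irreducibleComponents S).Finite) (V : S.Opens) (hV : IsAffineOpen V) :
    (minimalPrimes Γ(S, V)).Finite := by
  have hfin : (genericPoints S).Finite := genericPoints.finite hS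
  haveI hprime : ∀ P : minimalPrimes Γ(S, V), P.1.IsPrime := fun P =>
    Ideal.minimalPrimes_isPrime P.2
  let g : minimalPrimes Γ(S, V) → genericPoints S := fun P =>
    ⟨hV.fromSpec (⟨P.1, hprime P⟩ : PrimeSpectrum Γ(S, V)), by
      apply mem_genericPoints_of_forall
      intro z hz
      have hyV : hV.fromSpec (⟨P.1, hprime P⟩ : PrimeSpectrum Γ(S, V)) ∈ V := by
        have : hV.fromSpec (⟨P.1, hprime P⟩ : PrimeSpectrum Γ(S, V)) ∈ Set.range hV.fromSpec :=
          ⟨_, rfl⟩
        rwa [hV.range_fromSpec] at this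
      have hzV : z ∈ V := hz.mem_open V.isOpen hyV
      have hzr : z ∈ Set.range hV.fromSpec := by rw [hV.range_fromSpec]; exact hzV
      obtain ⟨(P' : PrimeSpectrum Γ(S, V)), rfl⟩ := hzr
      have h1 : P' ⤳ (⟨P.1, hprime P⟩ : PrimeSpectrum Γ(S, V)) :=
        (hV.fromSpec.isOpenEmbedding.isInducing.specializes_iff).1 hz
      have h2 : P' ≤ (⟨P.1, hprime P⟩ : PrimeSpectrum Γ(S, V)) :=
        (PrimeSpectrum.le_iff_specializes _ _).2 h1
      have h3 : P.1 ≤ P'.asIdeal := P.2.2 ⟨P'.isPrime, bot_le⟩ h2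
      have h4 : P' = (⟨P.1, hprime P⟩ : PrimeSpectrum Γ(S, V)) :=
        PrimeSpectrum.ext (le_antisymm h2 h3)
      rw [h4]⟩
  have hg : Function.Injective g := by
    intro P P' hPP
    have h1 : hV.fromSpec (⟨P.1, hprime P⟩ : PrimeSpectrum Γ(S, V)) =
        hV.fromSpec (⟨P'.1, hprime P'⟩ : PrimeSpectrum Γ(S, V)) :=
      congrArg (fun t : genericPoints S => (t : S)) hPP
    have h2 := hV.fromSpec.isOpenEmbedding.injective h1
    exact Subtype.ext (congrArg PrimeSpectrum.asIdeal h2)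
  haveI : Finite (genericPoints S) := hfin
  exact Set.finite_coe_iff.1 (Finite.of_injective g hg)

theorem exists_openImmersion_nhd {X S : Scheme.{u}} (f : X ⟶ S) [LocallyOfFiniteType f]
    [IsReduced S] (hS : (irreducibleComponents S).Finite) (x : X)
    (hx : IsIso (f.stalkMap x)) :
    ∃ U : X.Opens, x ∈ U ∧ IsOpenImmersion (U.ι ≫ f) := by
  obtain ⟨_, ⟨V, hV, rfl⟩, hxV, -⟩ := S.isBasis_affineOpens.exists_subset_of_mem_open
    (Set.mem_univ (f x)) isOpen_univ
  obtain ⟨_, ⟨W, hW, rfl⟩, hxW, hWV⟩ := X.isBasis_affineOpens.exists_subset_of_mem_open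
    (show x ∈ ((f ⁻¹ᵁ V : X.Opens) : Set X) from hxV) (f ⁻¹ᵁ V).isOpen
  have hWV' : W ≤ f ⁻¹ᵁ V := hWV
  letI algAB : Algebra Γ(S, V) Γ(X, W) := (f.appLE V W hWV').hom.toAlgebra
  haveI : Algebra.FiniteType Γ(S, V) Γ(X, W) := f.finiteType_appLE hV hW hWV'
  have hfin : (minimalPrimes Γ(S, V)).Finite := finite_minimalPrimes_of_affineOpen S hS V hV
  have hpq : (hV.primeIdealOf ⟨f x, hxV⟩).asIdeal =
      (hW.primeIdealOf ⟨x, hxW⟩).asIdeal.comap (algebraMap Γ(S, V) Γ(X, W)) :=
    (congrArg PrimeSpectrum.asIdeal (IsAffineOpen.comap_primeIdealOf_appLE V hV W hW hWV' hxW)).symm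
  letI algA := TopCat.Presheaf.algebra_section_stalk S.presheaf (⟨f x, hxV⟩ : V)
  letI algB := TopCat.Presheaf.algebra_section_stalk X.presheaf (⟨x, hxW⟩ : W)
  haveI locA : IsLocalization.AtPrime (S.presheaf.stalk (f x))
      (hV.primeIdealOf ⟨f x, hxV⟩).asIdeal := hV.isLocalization_stalk ⟨f x, hxV⟩
  haveI locB : IsLocalization.AtPrime (X.presheaf.stalk x)
      (hW.primeIdealOf ⟨x, hxW⟩).asIdeal := hW.isLocalization_stalk ⟨x, hxW⟩
  have hψ : ∀ a : Γ(S, V), (f.stalkMap x).hom (algebraMap Γ(S, V) (S.presheaf.stalk (f x)) a) =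
      algebraMap Γ(X, W) (X.presheaf.stalk x) (algebraMap Γ(S, V) Γ(X, W) a) := by
    intro a
    show f.stalkMap x (S.presheaf.germ V (f x) hxV a) =
      X.presheaf.germ W x hxW ((f.appLE V W hWV').hom a)
    rw [Scheme.Hom.germ_stalkMap_apply, Scheme.Hom.appLE]
    simp only [CommRingCat.hom_comp, RingHom.comp_apply]
    exact (TopCat.Presheaf.germ_res_apply X.presheaf (homOfLE hWV') x hxW _).symm
  have hbij : Function.Bijective (f.stalkMap x).hom := ConcreteCategory.bijective_of_isIso _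
  obtain ⟨a, hap, t, htq, H⟩ := exists_localization_bijective
    (hW.primeIdealOf ⟨x, hxW⟩).asIdeal (hV.primeIdealOf ⟨f x, hxV⟩).asIdeal
    (S.presheaf.stalk (f x)) (X.presheaf.stalk x) (f.stalkMap x).hom hfin hpq hψ hbij
  set b : Γ(X, W) := algebraMap Γ(S, V) Γ(X, W) a * t with hb
  have hUaff : IsAffineOpen (X.basicOpen b) := hW.basicOpen b
  have hV'aff : IsAffineOpen (S.basicOpen a) := hV.basicOpen a
  have e : X.basicOpen b ≤ f ⁻¹ᵁ S.basicOpen a := by
    rw [Scheme.preimage_basicOpen]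
    have h1 : X.basicOpen b ≤ X.basicOpen (algebraMap Γ(S, V) Γ(X, W) a) := by
      rw [hb, Scheme.basicOpen_mul]
      exact inf_le_left
    refine h1.trans ?_
    show X.basicOpen ((f.appLE V W hWV').hom a) ≤ _
    rw [Scheme.Hom.appLE]
    simp only [CommRingCat.hom_comp, RingHom.comp_apply]
    rw [Scheme.basicOpen_res]
    exact inf_le_right
  have hχ : ∀ x' : Γ(S, V), (f.appLE (S.basicOpen a) (X.basicOpen b) e).hom
      (algebraMap Γ(S, V) Γ(S, S.basicOpen a) x') =
      algebraMap Γ(X, W) Γ(X, X.basicOpen b) (algebraMap Γ(S, V) Γ(X, W) x') := by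
    intro x'
    show (f.appLE _ _ e).hom ((S.presheaf.map (homOfLE (S.basicOpen_le a)).op).hom x') =
      (X.presheaf.map (homOfLE (X.basicOpen_le b)).op).hom ((f.appLE V W hWV').hom x')
    rw [← CommRingCat.comp_apply, ← CommRingCat.comp_apply, Scheme.Hom.map_appLE,
      Scheme.Hom.appLE_map]
  haveI := hV.isLocalization_basicOpen a
  haveI := hW.isLocalization_basicOpen b
  have hbij' := H Γ(S, S.basicOpen a) Γ(X, X.basicOpen b) (f.appLE _ _ e).hom hχ
  haveI : IsIso (f.appLE (S.basicOpen a) (X.basicOpen b) e) :=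
    (ConcreteCategory.isIso_iff_bijective _).2 hbij'
  refine ⟨X.basicOpen b, ?_, isOpenImmersion_of_isIso_appLE f _ _ hUaff hV'aff e⟩
  have hxeq : hW.fromSpec (hW.primeIdealOf ⟨x, hxW⟩) = x := hW.fromSpec_primeIdealOf ⟨x, hxW⟩
  have hmem : hW.primeIdealOf ⟨x, hxW⟩ ∈ hW.fromSpec ⁻¹ᵁ X.basicOpen b := by
    rw [hW.fromSpec_preimage_basicOpen]
    show b ∉ (hW.primeIdealOf ⟨x, hxW⟩).asIdeal
    intro hmem
    rcases (hW.primeIdealOf ⟨x, hxW⟩).isPrime.mem_or_mem hmem with h1 | h1
    · exact hap (by rw [hpq]; exact h1)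
    · exact htq h1
  rw [← hxeq]
  exact hmem

end Groth.Agent.Lib.helper26.LocImm
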