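import Mathlib
import Groth.Agent.Lib.helper26.LocImmAlg2
import Groth.Agent.Lib.helper26.LocImmSch

set_option autoImplicit false
universe u
open CategoryTheory AlgebraicGeometry

namespace Groth.Agent.Lib.helper26.LocImm

theorem exists_openImmersion_nhd_fp {X S : Scheme.{u}} (f : X ⟶ S)
    [LocallyOfFinitePresentation f] (x : X)
    (hx : IsIso (f.stalkMap x)) :
    ∃ U : X.Opens, x ∈ U ∧ IsOpenImmersion (U.ι ≫ f) := by
  obtain ⟨_, ⟨V, hV, rfl⟩, hxV, -⟩ := S.isBasis_affineOpens.exists_subset_of_mem_open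
    (Set.mem_univ (f x)) isOpen_univ
  obtain ⟨_, ⟨W, hW, rfl⟩, hxW, hWV⟩ := X.isBasis_affineOpens.exists_subset_of_mem_open
    (show x ∈ ((f ⁻¹ᵁ V : X.Opens) : Set X) from hxV) (f ⁻¹ᵁ V).isOpen
  have hWV' : W ≤ f ⁻¹ᵁ V := hWV
  letI algAB : Algebra Γ(S, V) Γ(X, W) := (f.appLE V W hWV').hom.toAlgebra
  haveI : Algebra.FinitePresentation Γ(S, V) Γ(X, W) := f.finitePresentation_appLE hV hW hWV'
  have hpq : (hV.primeIdealOf ⟨f x, hxV⟩).asIdeal =
      (hW.primeIdealOf ⟨x, hxW⟩).asIdeal.comap (algebraMap Γ(S, V) Γ(X, W)) :=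
    (congrArg PrimeSpectrum.asIdeal (IsAffineOpen.comap_primeIdealOf_appLE V hV W hW hWV' hxW)).symm
  letI algA := TopCat.Presheaf.algebra_section_stalk S.presheaf (⟨f x, hxV⟩ : V)
  letI algB := TopCat.Presheaf.algebra_section_stalk X.presheaf (⟨x, hxW⟩ : W)
  haveI locA : IsLocalization.AtPrime (S.presheaf.stalk (f x))
      (hV.primeIdealOf ⟨f x, hxV⟩).asIdeal := hV.isLocalization_stalk ⟨f x, hxV⟩
  haveI locB : IsLocalization.AtPrime (X.presheaf.stalk x)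
      (hW.primeIdealOf ⟨x, hxW⟩).asIdeal := hW.isLocalization_stalk ⟨x, hxW⟩
  have hψ : ∀ a : Γ(S, V), (f.stalkMap x).hom (algebraMap Γ(S, V) (S.presheaf.stalk (f x)) a) =
      algebraMap Γ(X, W) (X.presheaf.stalk x) (algebraMap Γ(S, V) Γ(X, W) a) := by
    intro a
    show f.stalkMap x (S.presheaf.germ V (f x) hxV a) =
      X.presheaf.germ W x hxW ((f.appLE V W hWV').hom a)
    rw [Scheme.Hom.germ_stalkMap_apply, Scheme.Hom.appLE]
    simp only [CommRingCat.hom_comp, RingHom.comp_apply]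
    exact (TopCat.Presheaf.germ_res_apply X.presheaf (homOfLE hWV') x hxW _).symm
  have hbij : Function.Bijective (f.stalkMap x).hom := ConcreteCategory.bijective_of_isIso _
  obtain ⟨a, hap, t, htq, H⟩ := exists_localization_bijective_fp
    (hW.primeIdealOf ⟨x, hxW⟩).asIdeal (hV.primeIdealOf ⟨f x, hxV⟩).asIdeal
    (S.presheaf.stalk (f x)) (X.presheaf.stalk x) (f.stalkMap x).hom hpq hψ hbij
  set b : Γ(X, W) := algebraMap Γ(S, V) Γ(X, W) a * t with hb
  have hUaff : IsAffineOpen (X.basicOpen b) := hW.basicOpen b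
  have hV'aff : IsAffineOpen (S.basicOpen a) := hV.basicOpen a
  have e : X.basicOpen b ≤ f ⁻¹ᵁ S.basicOpen a := by
    rw [Scheme.preimage_basicOpen]
    have h1 : X.basicOpen b ≤ X.basicOpen (algebraMap Γ(S, V) Γ(X, W) a) := by
      rw [hb, Scheme.basicOpen_mul]
      exact inf_le_left
    refine h1.trans ?_
    show X.basicOpen ((f.appLE V W hWV').hom a) ≤ _
    rw [Scheme.Hom.appLE]
    simp only [CommRingCat.hom_comp, RingHom.comp_apply]
    rw [Scheme.basicOpen_res]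
    exact inf_le_right
  have hχ : ∀ x' : Γ(S, V), (f.appLE (S.basicOpen a) (X.basicOpen b) e).hom
      (algebraMap Γ(S, V) Γ(S, S.basicOpen a) x') =
      algebraMap Γ(X, W) Γ(X, X.basicOpen b) (algebraMap Γ(S, V) Γ(X, W) x') := by
    intro x'
    show (f.appLE _ _ e).hom ((S.presheaf.map (homOfLE (S.basicOpen_le a)).op).hom x') =
      (X.presheaf.map (homOfLE (X.basicOpen_le b)).op).hom ((f.appLE V W hWV').hom x')
    rw [← CommRingCat.comp_apply, ← CommRingCat.comp_apply, Scheme.Hom.map_appLE,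
      Scheme.Hom.appLE_map]
  haveI := hV.isLocalization_basicOpen a
  haveI := hW.isLocalization_basicOpen b
  have hbij' := H Γ(S, S.basicOpen a) Γ(X, X.basicOpen b) (f.appLE _ _ e).hom hχ
  haveI : IsIso (f.appLE (S.basicOpen a) (X.basicOpen b) e) :=
    (ConcreteCategory.isIso_iff_bijective _).2 hbij'
  refine ⟨X.basicOpen b, ?_, isOpenImmersion_of_isIso_appLE f _ _ hUaff hV'aff e⟩
  have hxeq : hW.fromSpec (hW.primeIdealOf ⟨x, hxW⟩) = x := hW.fromSpec_primeIdealOf ⟨x, hxW⟩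
  have hmem : hW.primeIdealOf ⟨x, hxW⟩ ∈ hW.fromSpec ⁻¹ᵁ X.basicOpen b := by
    rw [hW.fromSpec_preimage_basicOpen]
    show b ∉ (hW.primeIdealOf ⟨x, hxW⟩).asIdeal
    intro hmem
    rcases (hW.primeIdealOf ⟨x, hxW⟩).isPrime.mem_or_mem hmem with h1 | h1
    · exact hap (by rw [hpq]; exact h1)
    · exact htq h1
  rw [← hxeq]
  exact hmem

section top
variable {α : Type*} [TopologicalSpace α]

theorem exists_generic [QuasiSober α] (x : α) :
    ∃ ξ ∈ genericPoints α, x ∈ closure {ξ} := by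
  obtain ⟨ξ, hξ⟩ := QuasiSober.sober (isIrreducible_irreducibleComponent (x := x))
    isClosed_irreducibleComponent
  refine ⟨ξ, ?_, ?_⟩
  · show closure {ξ} ∈ irreducibleComponents α
    rw [hξ.def]
    exact irreducibleComponent_mem_irreducibleComponents x
  · rw [hξ.def]
    exact mem_irreducibleComponent

theorem generic_eq_of_mem_closure [T0Space α] {ξ ξ' : α} (hξ : ξ ∈ genericPoints α)
    (h : ξ ∈ closure {ξ'}) : ξ = ξ' := by
  have h1 : closure {ξ} ⊆ closure {ξ'} :=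
    closure_minimal (Set.singleton_subset_iff.2 h) isClosed_closure
  have h2 : closure {ξ'} ⊆ closure {ξ} := hξ.2 isIrreducible_singleton.closure h1
  exact (inseparable_iff_closure_eq.2 (le_antisymm h1 h2)).eq

theorem dense_of_generic_mem [QuasiSober α] (U : Set α)
    (h : ∀ ξ ∈ genericPoints α, ξ ∈ U) : Dense U := by
  intro x
  obtain ⟨ξ, hξ, hx⟩ := exists_generic x
  exact closure_mono (Set.singleton_subset_iff.2 (h ξ hξ)) hx

end top

theorem exists_dense_opens' {X Y : Scheme.{u}} (f : X ⟶ Y)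
    (hXfin : (irreducibleComponents X).Finite) (hYfin : (irreducibleComponents Y).Finite)
    (hbij : Set.BijOn (fun x : X => f x) (genericPoints X) (genericPoints Y))
    (hloc : ∀ x ∈ genericPoints X, ∃ W : X.Opens, x ∈ W ∧ IsOpenImmersion (W.ι ≫ f)) :
    ∃ (U : X.Opens) (V : Y.Opens) (hUV : U ≤ f ⁻¹ᵁ V), (∀ ξ ∈ genericPoints X, ξ ∈ U) ∧
      (∀ η ∈ genericPoints Y, η ∈ V) ∧ IsIso (f.resLE V U hUV) := by
  classical
  have hGX : (genericPoints X).Finite := genericPoints.finite hXfin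
  have hGY : (genericPoints Y).Finite := genericPoints.finite hYfin
  choose! W hW1 hW2 using hloc
  let C : X → Set X := fun ξ => ⋃ ξ' ∈ (genericPoints X) \ {ξ}, closure {ξ'}
  have hC : ∀ ξ, IsClosed (C ξ) := fun ξ =>
    (hGX.subset Set.diff_subset).isClosed_biUnion (fun _ _ => isClosed_closure)
  let D : Y → Set Y := fun η => ⋃ η' ∈ (genericPoints Y) \ {η}, closure {η'}
  have hD : ∀ η, IsClosed (D η) := fun η =>
    (hGY.subset Set.diff_subset).isClosed_biUnion (fun _ _ => isClosed_closure)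
  let O : X → X.Opens := fun ξ => W ξ ⊓ ⟨(C ξ)ᶜ, (hC ξ).isOpen_compl⟩ ⊓
    f ⁻¹ᵁ ⟨(D (f ξ))ᶜ, (hD _).isOpen_compl⟩
  have hOW : ∀ ξ, O ξ ≤ W ξ := fun ξ => inf_le_left.trans inf_le_left
  have hOC : ∀ ξ, ∀ x ∈ O ξ, x ∉ C ξ := fun ξ x hx => hx.1.2
  have hOD : ∀ ξ, ∀ x ∈ O ξ, f x ∉ D (f ξ) := fun ξ x hx => hx.2
  have hCmem : ∀ ξ ∈ genericPoints X, ξ ∉ C ξ := by
    intro ξ hξ hmem
    simp only [C, Set.mem_iUnion] at hmem
    obtain ⟨ξ', hξ', h1⟩ := hmem
    exact hξ'.2 (generic_eq_of_mem_closure hξ h1).symm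
  have hDmem : ∀ η ∈ genericPoints Y, η ∉ D η := by
    intro η hη hmem
    simp only [D, Set.mem_iUnion] at hmem
    obtain ⟨η', hη', h1⟩ := hmem
    exact hη'.2 (generic_eq_of_mem_closure hη h1).symm
  have hOmem : ∀ ξ ∈ genericPoints X, ξ ∈ O ξ := fun ξ hξ =>
    ⟨⟨hW1 ξ hξ, hCmem ξ hξ⟩, hDmem _ (hbij.mapsTo hξ)⟩
  have hOsub : ∀ ξ ∈ genericPoints X, ∀ x ∈ O ξ, x ∈ closure {ξ} := by
    intro ξ hξ x hx
    obtain ⟨ξ', hξ', hx'⟩ := exists_generic x
    by_cases hne : ξ' = ξ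
    · rw [← hne]; exact hx'
    · exfalso
      apply hOC ξ x hx
      simp only [C, Set.mem_iUnion]
      exact ⟨ξ', ⟨hξ', hne⟩, hx'⟩
  have hOimg : ∀ ξ ∈ genericPoints X, ∀ x ∈ O ξ, f x ∈ closure {f ξ} := by
    intro ξ hξ x hx
    have h1 : ξ ⤳ x := specializes_iff_mem_closure.2 (hOsub ξ hξ x hx)
    exact specializes_iff_mem_closure.1 (h1.map f.continuous)
  let U : X.Opens := ⨆ ξ : genericPoints X, O ξ.1
  have hUmem : ∀ x ∈ U, ∃ ξ ∈ genericPoints X, x ∈ O ξ := by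
    intro x hx
    obtain ⟨ξ, hξ⟩ := TopologicalSpace.Opens.mem_iSup.1 hx
    exact ⟨ξ.1, ξ.2, hξ⟩
  have hOU : ∀ ξ ∈ genericPoints X, O ξ ≤ U := fun ξ hξ =>
    le_iSup (fun ξ : genericPoints X => O ξ.1) ⟨ξ, hξ⟩
  have hinj : Function.Injective (U.ι ≫ f) := by
    intro a b hab
    have hab' : f a.1 = f b.1 := hab
    obtain ⟨ξ, hξ, ha⟩ := hUmem a.1 a.2
    obtain ⟨ξ', hξ', hb⟩ := hUmem b.1 b.2
    have hξξ' : ξ' = ξ := by
      by_contra hne
      apply hOD ξ a.1 ha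
      rw [hab']
      simp only [D, Set.mem_iUnion]
      refine ⟨f ξ', ⟨hbij.mapsTo hξ', fun h => hne (hbij.injOn hξ' hξ h)⟩, hOimg ξ' hξ' b.1 hb⟩
    subst hξξ'
    haveI := hW2 ξ' hξ'
    have h1 : ((W ξ').ι ≫ f) ⟨a.1, hOW ξ' ha⟩ = ((W ξ').ι ≫ f) ⟨b.1, hOW ξ' hb⟩ := hab'
    have h2 := ((W ξ').ι ≫ f).isOpenEmbedding.injective h1
    exact Subtype.ext (congrArg (fun t : (W ξ') => (t : X)) h2)
  haveI hopen : IsOpenImmersion (U.ι ≫ f) := by
    refine IsOpenImmersion.of_forall_source_exists _ hinj ?_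
    intro x
    obtain ⟨ξ, hξ, hx⟩ := hUmem x.1 x.2
    refine ⟨(O ξ).toScheme, X.homOfLE (hOU ξ hξ), inferInstance, ?_, ?_⟩
    · rw [Scheme.opensRange_homOfLE]
      exact hx
    · haveI := hW2 ξ hξ
      have h1 : X.homOfLE (hOU ξ hξ) ≫ U.ι ≫ f = X.homOfLE (hOW ξ) ≫ (W ξ).ι ≫ f := by
        rw [Scheme.homOfLE_ι_assoc, Scheme.homOfLE_ι_assoc]
      rw [h1]
      infer_instance
  let V : Y.Opens := (U.ι ≫ f).opensRange
  have hUV : U ≤ f ⁻¹ᵁ V := by
    intro x hx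
    exact ⟨⟨x, hx⟩, rfl⟩
  refine ⟨U, V, hUV, ?_, ?_, ?_⟩
  · intro ξ hξ
    exact hOU ξ hξ (hOmem ξ hξ)
  · intro η hη
    obtain ⟨ξ, hξ, rfl⟩ := hbij.surjOn hη
    exact hUV (hOU ξ hξ (hOmem ξ hξ))
  · have h1 : f.resLE V U hUV ≫ V.ι = U.ι ≫ f := Scheme.Hom.resLE_comp_ι f hUV
    haveI : IsOpenImmersion (f.resLE V U hUV ≫ V.ι) := by rw [h1]; infer_instance
    haveI : IsOpenImmersion (f.resLE V U hUV) := IsOpenImmersion.of_comp _ V.ι
    apply isIso_of_isOpenImmersion_of_opensRange_eq_top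
    rw [eq_top_iff]
    rintro y -
    obtain ⟨a, ha⟩ := y.2
    refine ⟨a, Subtype.ext ?_⟩
    have h2 : (f.resLE V U hUV ≫ V.ι) a = (U.ι ≫ f) a := by rw [h1]
    exact h2.trans ha

theorem exists_dense_opens {X Y : Scheme.{u}} (f : X ⟶ Y)
    (hXfin : (irreducibleComponents X).Finite) (hYfin : (irreducibleComponents Y).Finite)
    (hbij : Set.BijOn (fun x : X => f x) (genericPoints X) (genericPoints Y))
    (hiso : ∀ x ∈ genericPoints X, IsIso (f.stalkMap x))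
    (hf : (LocallyOfFiniteType f ∧ IsReduced Y) ∨ LocallyOfFinitePresentation f) :
    ∃ (U : X.Opens) (V : Y.Opens) (hUV : U ≤ f ⁻¹ᵁ V), (∀ ξ ∈ genericPoints X, ξ ∈ U) ∧
      (∀ η ∈ genericPoints Y, η ∈ V) ∧ IsIso (f.resLE V U hUV) := by
  apply exists_dense_opens' f hXfin hYfin hbij
  intro x hx
  rcases hf with ⟨h1, h2⟩ | h1
  · exact exists_openImmersion_nhd f hYfin x (hiso x hx)
  · exact exists_openImmersion_nhd_fp f x (hiso x hx)

end Groth.Agent.Lib.helper26.LocImm
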