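import Mathlib

set_option autoImplicit false
universe u

namespace Groth.Agent.Lib.helper26.SpreadFp

/-- kernel elements of `A_s → A_p` are killed by an element outside `p`. -/
theorem exists_kill_of_map_eq_zero {A : Type u} [CommRing A] (p : Ideal A) [hp : p.IsPrime]
    (Ap : Type u) [CommRing Ap] [Algebra A Ap] [IsLocalization.AtPrime Ap p]
    (s : A) (As : Type u) [CommRing As] [Algebra A As] [IsLocalization.Away s As]
    (l : As →+* Ap) (hl : ∀ a, l (algebraMap A As a) = algebraMap A Ap a)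
    (z : As) (hz : l z = 0) : ∃ u : A, u ∉ p ∧ algebraMap A As u * z = 0 := by
  obtain ⟨x, t, rfl⟩ := IsLocalization.exists_mk'_eq (Submonoid.powers s) z
  have h1 : l (IsLocalization.mk' As x t) * l (algebraMap A As t.1) = l (algebraMap A As x) := by
    rw [← map_mul, IsLocalization.mk'_spec]
  rw [hz, zero_mul, hl] at h1
  obtain ⟨⟨u', hu'⟩, hux⟩ := (IsLocalization.map_eq_zero_iff p.primeCompl Ap _).1 h1.symm
  refine ⟨u', hu', ?_⟩
  have h5 : algebraMap A As u' * IsLocalization.mk' As x t = IsLocalization.mk' As (u' * x) t := by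
    rw [IsLocalization.mul_mk'_eq_mk'_of_mul]
  rw [h5]
  have h6 : u' * x = 0 := hux
  rw [h6, IsLocalization.mk'_zero]

theorem exists_lift_away {R A B : Type u} [CommRing R] [CommRing A] [CommRing B]
    (ρA : R →+* A) (ρB : R →+* B) (hB : ρB.FinitePresentation)
    (p : Ideal A) [hp : p.IsPrime] (Ap : Type u) [CommRing Ap] [Algebra A Ap]
    [IsLocalization.AtPrime Ap p]
    (θ : B →+* Ap) (hθ : θ.comp ρB = (algebraMap A Ap).comp ρA) :
    ∃ g : A, g ∉ p ∧ ∀ (Ag : Type u) [CommRing Ag] [Algebra A Ag] [IsLocalization.Away g Ag]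
      (l : Ag →+* Ap) (_ : ∀ a, l (algebraMap A Ag a) = algebraMap A Ap a),
      ∃ θ' : B →+* Ag, l.comp θ' = θ ∧ θ'.comp ρB = (algebraMap A Ag).comp ρA := by
  classical
  letI algB : Algebra R B := ρB.toAlgebra
  haveI fpB : Algebra.FinitePresentation R B := hB
  obtain ⟨n, π, hπ, F, hF0⟩ := Algebra.FinitePresentation.out (R := R) (A := B)
  have hF : Ideal.span (F : Set (MvPolynomial (Fin n) R)) =
      RingHom.ker (π : MvPolynomial (Fin n) R →+* B) := hF0
  -- numerators and denominators
  have hfrac : ∀ i : Fin n, ∃ a : A, ∃ t : A, t ∉ p ∧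
      θ (π (MvPolynomial.X i)) * algebraMap A Ap t = algebraMap A Ap a := by
    intro i
    obtain ⟨a, t, ht⟩ := IsLocalization.exists_mk'_eq p.primeCompl (θ (π (MvPolynomial.X i)))
    refine ⟨a, t.1, t.2, ?_⟩
    rw [← ht, IsLocalization.mk'_spec]
  choose a t ht hat using hfrac
  set s : A := ∏ i, t i with hs
  have hsp : s ∉ p := p.primeCompl.prod_mem (fun i _ => ht i)
  -- work in `As`
  let As := Localization.Away s
  have hsu : IsUnit (algebraMap A As s) :=
    IsLocalization.map_units As (⟨s, Submonoid.mem_powers _⟩ : Submonoid.powers s)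
  have htu : ∀ i, IsUnit (algebraMap A As (t i)) := fun i =>
    isUnit_of_dvd_unit ((algebraMap A As).map_dvd (Finset.dvd_prod_of_mem t (Finset.mem_univ i))) hsu
  have hsAp : IsUnit (algebraMap A Ap s) :=
    IsLocalization.map_units Ap (⟨s, hsp⟩ : p.primeCompl)
  let ls : As →+* Ap := IsLocalization.Away.lift s hsAp
  have hls : ∀ x, ls (algebraMap A As x) = algebraMap A Ap x :=
    fun x => IsLocalization.Away.lift_eq s hsAp x
  let c : Fin n → As := fun i => algebraMap A As (a i) * ↑((htu i).unit⁻¹)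
  let θ₀ : MvPolynomial (Fin n) R →+* As :=
    MvPolynomial.eval₂Hom ((algebraMap A As).comp ρA) c
  have hθ₀ : ls.comp θ₀ = θ.comp (π : MvPolynomial (Fin n) R →+* B) := by
    apply MvPolynomial.ringHom_ext
    · intro r
      have h1 : θ₀ (MvPolynomial.C r) = algebraMap A As (ρA r) := by
        simp [θ₀]
      have h2 : π (MvPolynomial.C r) = ρB r := by
        have := π.commutes r
        rw [MvPolynomial.algebraMap_eq] at this
        exact this
      simp only [RingHom.comp_apply, RingHom.coe_coe]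
      rw [h1, hls, h2]
      exact (RingHom.congr_fun hθ r).symm
    · intro i
      have h1 : θ₀ (MvPolynomial.X i) = c i := by simp [θ₀]
      simp only [RingHom.comp_apply, RingHom.coe_coe]
      rw [h1]
      have htAp : IsUnit (algebraMap A Ap (t i)) :=
        IsLocalization.map_units Ap (⟨t i, ht i⟩ : p.primeCompl)
      apply htAp.mul_left_injective
      show ls (c i) * algebraMap A Ap (t i) = θ (π (MvPolynomial.X i)) * algebraMap A Ap (t i)
      rw [hat i, ← hls (t i), ← map_mul]
      have h2 : c i * algebraMap A As (t i) = algebraMap A As (a i) := by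
        show algebraMap A As (a i) * ↑((htu i).unit⁻¹) * algebraMap A As (t i) = _
        rw [mul_assoc, IsUnit.val_inv_mul, mul_one]
      rw [h2, hls]
  -- kill the relations
  have hFker : ∀ f ∈ F, ls (θ₀ f) = 0 := by
    intro f hf
    have h1 : f ∈ RingHom.ker (π : MvPolynomial (Fin n) R →+* B) := by
      rw [← hF]; exact Ideal.subset_span hf
    have h2 : (ls.comp θ₀) f = 0 := by
      rw [hθ₀]
      simp only [RingHom.comp_apply]
      rw [RingHom.mem_ker] at h1
      rw [h1, map_zero]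
    exact h2
  have hkill : ∀ f : MvPolynomial (Fin n) R, ∃ u : A, u ∉ p ∧
      (f ∈ F → algebraMap A As u * θ₀ f = 0) := by
    intro f
    by_cases hf : f ∈ F
    · obtain ⟨u, hu, h⟩ := exists_kill_of_map_eq_zero p Ap s As ls hls (θ₀ f) (hFker f hf)
      exact ⟨u, hu, fun _ => h⟩
    · exact ⟨1, fun h1 => hp.ne_top ((Ideal.eq_top_iff_one p).2 h1), fun h => absurd h hf⟩
  choose u hu1 hu2 using hkill
  set w : A := ∏ f ∈ F, u f with hw
  have hwp : w ∉ p := p.primeCompl.prod_mem (fun f _ => hu1 f)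
  refine ⟨s * w, fun h => (hp.mem_or_mem h).elim hsp hwp, ?_⟩
  intro Ag _ _ _ l hl
  have hgu : IsUnit (algebraMap A Ag (s * w)) :=
    IsLocalization.map_units Ag (⟨s * w, Submonoid.mem_powers _⟩ : Submonoid.powers (s * w))
  have hsAg : IsUnit (algebraMap A Ag s) :=
    isUnit_of_dvd_unit ((algebraMap A Ag).map_dvd (Dvd.intro w rfl)) hgu
  have huAg : ∀ f ∈ F, IsUnit (algebraMap A Ag (u f)) := fun f hf =>
    isUnit_of_dvd_unit ((algebraMap A Ag).map_dvd
      ((Finset.dvd_prod_of_mem u hf).trans (Dvd.intro_left s rfl))) hgu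
  let μ : As →+* Ag := IsLocalization.Away.lift s hsAg
  have hμ : ∀ x, μ (algebraMap A As x) = algebraMap A Ag x :=
    fun x => IsLocalization.Away.lift_eq s hsAg x
  have hlμ : l.comp μ = ls := by
    apply IsLocalization.ringHom_ext (Submonoid.powers s)
    ext x
    simp only [RingHom.comp_apply]
    rw [hμ, hl, hls]
  let θ₁ : MvPolynomial (Fin n) R →+* Ag := μ.comp θ₀
  have hker : RingHom.ker (π : MvPolynomial (Fin n) R →+* B) ≤ RingHom.ker θ₁ := by
    rw [← hF, Ideal.span_le]
    intro f hf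
    show θ₁ f = 0
    have h1 : algebraMap A Ag (u f) * θ₁ f = 0 := by
      show algebraMap A Ag (u f) * μ (θ₀ f) = 0
      rw [← hμ, ← map_mul, hu2 f hf, map_zero]
    exact (huAg f hf).mul_right_eq_zero.1 h1
  let θ' : B →+* Ag := RingHom.liftOfSurjective (π : MvPolynomial (Fin n) R →+* B) hπ ⟨θ₁, hker⟩
  have hθ' : θ'.comp (π : MvPolynomial (Fin n) R →+* B) = θ₁ :=
    RingHom.liftOfSurjective_comp (π : MvPolynomial (Fin n) R →+* B) hπ ⟨θ₁, hker⟩
  refine ⟨θ', ?_, ?_⟩
  · apply RingHom.ext
    intro b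
    obtain ⟨f, rfl⟩ := hπ b
    have h1 : θ' (π f) = θ₁ f := RingHom.congr_fun hθ' f
    simp only [RingHom.comp_apply]
    rw [h1]
    show l (μ (θ₀ f)) = θ (π f)
    have h2 : l (μ (θ₀ f)) = (l.comp μ) (θ₀ f) := rfl
    rw [h2, hlμ]
    exact RingHom.congr_fun hθ₀ f
  · apply RingHom.ext
    intro r
    have h2 : π (MvPolynomial.C r) = ρB r := by
      have := π.commutes r
      rw [MvPolynomial.algebraMap_eq] at this
      exact this
    simp only [RingHom.comp_apply]
    rw [← h2]
    have h1 : θ' (π (MvPolynomial.C r)) = θ₁ (MvPolynomial.C r) :=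
      RingHom.congr_fun hθ' (MvPolynomial.C r)
    rw [h1]
    show μ (θ₀ (MvPolynomial.C r)) = _
    have h3 : θ₀ (MvPolynomial.C r) = algebraMap A As (ρA r) := by simp [θ₀]
    rw [h3, hμ]

end Groth.Agent.Lib.helper26.SpreadFp
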