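import Mathlib
import Groth.Agent.Lib.helper26.SpreadFpAlg

set_option autoImplicit false
universe u
open CategoryTheory AlgebraicGeometry

namespace Groth.Agent.Lib.helper26.SpreadFp

variable {X Y S : Scheme.{u}} (sX : X ⟶ S) (sY : Y ⟶ S) {R A : CommRingCat.{u}}

lemma exists_lift_of_fp {x : X} {U : X.Opens} (hxU : x ∈ U)
    (φ : A ⟶ X.presheaf.stalk x) (φRA : R ⟶ A) (φRX : R ⟶ Γ(X, U))
    (hφRA : RingHom.FinitePresentation φRA.hom)
    (e : φRA ≫ φ = φRX ≫ X.presheaf.germ U x hxU) :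
    ∃ (V : X.Opens) (hxV : x ∈ V) (φ' : A ⟶ Γ(X, V)) (i : V ≤ U), IsAffineOpen V ∧
      φ = φ' ≫ X.presheaf.germ V x hxV ∧ φRX ≫ X.presheaf.map i.hom.op = φRA ≫ φ' := by
  obtain ⟨_, ⟨W, hW, rfl⟩, hxW, hWU⟩ := X.isBasis_affineOpens.exists_subset_of_mem_open
    hxU U.isOpen
  have hWU' : W ≤ U := hWU
  letI alg := TopCat.Presheaf.algebra_section_stalk X.presheaf (⟨x, hxW⟩ : W)
  haveI loc : IsLocalization.AtPrime (X.presheaf.stalk x)
      (hW.primeIdealOf ⟨x, hxW⟩).asIdeal := hW.isLocalization_stalk ⟨x, hxW⟩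
  set ρA : R →+* Γ(X, W) := (φRX ≫ X.presheaf.map (homOfLE hWU').op).hom with hρA
  have hθ : φ.hom.comp φRA.hom = (algebraMap Γ(X, W) (X.presheaf.stalk x)).comp ρA := by
    ext r
    have h1 := congrArg (fun t => t.hom r) e
    simp only [CommRingCat.hom_comp, RingHom.comp_apply] at h1
    simp only [RingHom.comp_apply]
    rw [h1]
    show _ = X.presheaf.germ W x hxW ((φRX ≫ X.presheaf.map (homOfLE hWU').op).hom r)
    simp only [CommRingCat.hom_comp, RingHom.comp_apply]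
    exact (TopCat.Presheaf.germ_res_apply X.presheaf (homOfLE hWU') x hxW _).symm
  obtain ⟨g, hg, H⟩ := exists_lift_away ρA φRA.hom hφRA (hW.primeIdealOf ⟨x, hxW⟩).asIdeal
    (X.presheaf.stalk x) φ.hom hθ
  have hxV : x ∈ X.basicOpen g := by
    have h1 : hW.primeIdealOf ⟨x, hxW⟩ ∈ hW.fromSpec ⁻¹ᵁ X.basicOpen g := by
      rw [hW.fromSpec_preimage_basicOpen]; exact hg
    have h2 : hW.fromSpec (hW.primeIdealOf ⟨x, hxW⟩) = x := hW.fromSpec_primeIdealOf ⟨x, hxW⟩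
    rw [← h2]; exact h1
  haveI := hW.isLocalization_basicOpen g
  have hl : ∀ a : Γ(X, W), (X.presheaf.germ (X.basicOpen g) x hxV).hom
      (algebraMap Γ(X, W) Γ(X, X.basicOpen g) a) = algebraMap Γ(X, W) (X.presheaf.stalk x) a := by
    intro a
    exact TopCat.Presheaf.germ_res_apply X.presheaf (homOfLE (X.basicOpen_le g)) x hxV a
  obtain ⟨θ', h1, h2⟩ := H Γ(X, X.basicOpen g) (X.presheaf.germ (X.basicOpen g) x hxV).hom hl
  refine ⟨X.basicOpen g, hxV, CommRingCat.ofHom θ', (X.basicOpen_le g).trans hWU',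
    hW.basicOpen g, ?_, ?_⟩
  · ext b
    exact (RingHom.congr_fun h1 b).symm
  · ext r
    have h3 := RingHom.congr_fun h2 r
    simp only [RingHom.comp_apply] at h3
    have h4 : (φRA ≫ CommRingCat.ofHom θ').hom r = θ' (φRA.hom r) := rfl
    rw [h4, h3]
    have h5 : X.presheaf.map ((X.basicOpen_le g).trans hWU').hom.op =
        X.presheaf.map (homOfLE hWU').op ≫ X.presheaf.map (homOfLE (X.basicOpen_le g)).op := by
      rw [← X.presheaf.map_comp]
      rfl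
    rw [h5]
    rfl

set_option backward.isDefEq.respectTransparency.types false in
lemma spread_out_of_fp [LocallyOfFinitePresentation sY] {x : X} {y : Y}
    (e : sX x = sY y) (φ : Y.presheaf.stalk y ⟶ X.presheaf.stalk x)
    (h : sY.stalkMap y ≫ φ =
      S.presheaf.stalkSpecializes (Inseparable.of_eq e).specializes ≫ sX.stalkMap x) :
    ∃ (U : X.Opens) (hxU : x ∈ U) (f : U.toScheme ⟶ Y),
      Spec.map φ ≫ Y.fromSpecStalk y = U.fromSpecStalkOfMem x hxU ≫ f ∧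
      f ≫ sY = U.ι ≫ sX := by
  obtain ⟨_, ⟨U, hU, rfl⟩, hxU, -⟩ :=
    S.isBasis_affineOpens.exists_subset_of_mem_open (Set.mem_univ (sX x)) isOpen_univ
  have hyU : sY y ∈ U := e ▸ hxU
  obtain ⟨_, ⟨V : Y.Opens, hV, rfl⟩, hyV, iVU⟩ :=
    Y.isBasis_affineOpens.exists_subset_of_mem_open hyU (sY ⁻¹ᵁ U).2
  have : sY.appLE U V iVU ≫ Y.presheaf.germ V y hyV ≫ φ =
      sX.app U ≫ X.presheaf.germ (sX ⁻¹ᵁ U) x hxU := by
    rw [Scheme.Hom.appLE, Category.assoc, Y.presheaf.germ_res_assoc,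
      ← Scheme.Hom.germ_stalkMap_assoc, h]
    simp
  obtain ⟨W, hxW, φ', i, hW, h₁, h₂⟩ :=
    exists_lift_of_fp (R := Γ(S, U)) (A := Γ(Y, V)) (U := sX ⁻¹ᵁ U) (x := x) hxU
    (Y.presheaf.germ _ y hyV ≫ φ) (sY.appLE U V iVU) (sX.app U)
    (sY.finitePresentation_appLE hU hV _) this
  refine ⟨W, hxW, W.toSpecΓ ≫ Spec.map φ' ≫ hV.fromSpec, ?_, ?_⟩
  · rw [W.fromSpecStalkOfMem_toSpecΓ_assoc x hxW, ← Spec.map_comp_assoc, ← h₁,
      Spec.map_comp, Category.assoc, ← IsAffineOpen.fromSpecStalk,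
      IsAffineOpen.fromSpecStalk_eq_fromSpecStalk]
  · simp only [Category.assoc]
    rw [← IsAffineOpen.SpecMap_appLE_fromSpec sY hU hV iVU, ← Spec.map_comp_assoc, ← h₂,
      ← Scheme.Hom.appLE, ← hW.isoSpec_hom, IsAffineOpen.SpecMap_appLE_fromSpec sX hU hW i,
      ← Iso.eq_inv_comp, IsAffineOpen.isoSpec_inv_ι_assoc]

set_option backward.isDefEq.respectTransparency.types false in
lemma spread_out_of_fp' [LocallyOfFinitePresentation sY] {x : X}
    (φ : Spec (X.presheaf.stalk x) ⟶ Y)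
    (h : φ ≫ sY = X.fromSpecStalk x ≫ sX) :
    ∃ (U : X.Opens) (hxU : x ∈ U) (f : U.toScheme ⟶ Y),
      φ = U.fromSpecStalkOfMem x hxU ≫ f ∧ f ≫ sY = U.ι ≫ sX := by
  have := spread_out_of_fp sX sY ?_ (Scheme.stalkClosedPointTo φ) ?_
  · simpa only [Scheme.Spec_stalkClosedPointTo_fromSpecStalk] using this
  · rw [← Scheme.Hom.comp_apply, h, Scheme.Hom.comp_apply, Scheme.fromSpecStalk_closedPoint]
  · apply Spec.map_injective
    rw [← cancel_mono (S.fromSpecStalk _)]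
    simpa only [Spec.map_comp, Category.assoc, Scheme.SpecMap_stalkMap_fromSpecStalk,
      Scheme.Spec_stalkClosedPointTo_fromSpecStalk_assoc,
      Scheme.SpecMap_stalkSpecializes_fromSpecStalk]

end Groth.Agent.Lib.helper26.SpreadFp
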