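import Mathlib
import Groth.Agent.Lib.helper26.SpreadFp
import Groth.Agent.Lib.helper26.LocImmSch2

set_option autoImplicit false
universe u
open CategoryTheory AlgebraicGeometry

namespace Groth.Agent.Lib.helper26.BiratOver

theorem locallyOfFinitePresentation_of_comp {X Y Z : Scheme.{u}} (f : X ⟶ Y) (g : Y ⟶ Z)
    [LocallyOfFinitePresentation (f ≫ g)] [LocallyOfFiniteType g] :
    LocallyOfFinitePresentation f := by
  rw [HasRingHomProperty.iff_exists_appLE (P := @LocallyOfFinitePresentation)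
    (RingHom.finitePresentation_stableUnderComposition.stableUnderCompositionWithLocalizationAway
      RingHom.finitePresentation_holdsForLocalizationAway).1]
  intro x
  obtain ⟨_, ⟨T, hT, rfl⟩, hxT, -⟩ := Z.isBasis_affineOpens.exists_subset_of_mem_open
    (Set.mem_univ (g (f x))) isOpen_univ
  obtain ⟨_, ⟨V, hV, rfl⟩, hxV, hVT⟩ := Y.isBasis_affineOpens.exists_subset_of_mem_open
    (show f x ∈ ((g ⁻¹ᵁ T : Y.Opens) : Set Y) from hxT) (g ⁻¹ᵁ T).isOpen
  obtain ⟨_, ⟨W, hW, rfl⟩, hxW, hWV⟩ := X.isBasis_affineOpens.exists_subset_of_mem_open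
    (show x ∈ ((f ⁻¹ᵁ V : X.Opens) : Set X) from hxV) (f ⁻¹ᵁ V).isOpen
  have e1 : V ≤ g ⁻¹ᵁ T := hVT
  have e2 : W ≤ f ⁻¹ᵁ V := hWV
  refine ⟨⟨V, hV⟩, ⟨W, hW⟩, hxW, e2, ?_⟩
  have h3 := Scheme.Hom.appLE_comp_appLE f g T V W e1 e2
  have h1 : ((f ≫ g).appLE T W (e2.trans ((TopologicalSpace.Opens.map f.base).map
      (homOfLE e1)).le)).hom.FinitePresentation := (f ≫ g).finitePresentation_appLE hT hW _
  have h2 : (g.appLE T V e1).hom.FiniteType := g.finiteType_appLE hT hV _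
  rw [← h3] at h1
  exact RingHom.FinitePresentation.of_comp_finiteType _ h1 h2

theorem stalkSpecializes_eq_eqToHom {X : Scheme.{u}} {a b : X} (h : a = b) :
    X.presheaf.stalkSpecializes (Inseparable.of_eq h).specializes =
      eqToHom (congrArg X.presheaf.stalk h.symm) := by
  subst h
  simp

/-- transport lemma: two factorizations through stalks. -/
theorem isIso_of_fac {Y : Scheme.{u}} {R : CommRingCat.{u}} (y₁ y₂ : Y) (hy : y₁ = y₂)
    (ψ : Y.presheaf.stalk y₁ ⟶ R) (φ' : Y.presheaf.stalk y₂ ⟶ R) [IsIso φ']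
    (h : Spec.map ψ ≫ Y.fromSpecStalk y₁ = Spec.map φ' ≫ Y.fromSpecStalk y₂) : IsIso ψ := by
  subst hy
  rw [cancel_mono] at h
  have := Spec.map_injective h
  rw [this]
  infer_instance

theorem stalkSpecializes_eq_eqToHom' {X : Scheme.{u}} {a b : X} (hsp : a ⤳ b) (h : a = b) :
    X.presheaf.stalkSpecializes hsp = eqToHom (congrArg X.presheaf.stalk h.symm) := by
  subst h
  simp

theorem fromSpecStalkOfMem_closedPoint {X : Scheme.{u}} (U : X.Opens) (x : X) (hxU : x ∈ U) :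
    (U.fromSpecStalkOfMem x hxU) (IsLocalRing.closedPoint _) = ⟨x, hxU⟩ := by
  apply Subtype.ext
  have h1 : (U.fromSpecStalkOfMem x hxU ≫ U.ι) (IsLocalRing.closedPoint _) = x := by
    rw [Scheme.Opens.fromSpecStalkOfMem_ι, Scheme.fromSpecStalk_closedPoint]
  exact h1

theorem stalk_iso_of_openImmersions {U X Y S : Scheme.{u}} (a : U ⟶ X) (m : U ⟶ Y)
    [IsOpenImmersion a] [IsOpenImmersion m]
    (sX : X ⟶ S) (sY : Y ⟶ S) (hcomm : m ≫ sY = a ≫ sX) (u : U) (x : X) (y : Y)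
    (hx : a u = x) (hy : m u = y) :
    ∃ (hs : sX x = sY y) (e : X.presheaf.stalk x ≅ Y.presheaf.stalk y),
      sX.stalkMap x ≫ e.hom = eqToHom (congrArg S.presheaf.stalk hs) ≫ sY.stalkMap y := by
  subst hx hy
  have hs : sX (a u) = sY (m u) := by
    have h1 : (a ≫ sX) u = (m ≫ sY) u := by rw [hcomm]
    exact h1
  refine ⟨hs, asIso (a.stalkMap u) ≪≫ (asIso (m.stalkMap u)).symm, ?_⟩
  simp only [Iso.trans_hom, asIso_hom, Iso.symm_hom, asIso_inv]
  rw [← Category.assoc, IsIso.comp_inv_eq, Category.assoc]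
  rw [← Scheme.Hom.stalkMap_comp, ← Scheme.Hom.stalkMap_comp]
  rw [Scheme.Hom.stalkMap_congr_hom (a ≫ sX) (m ≫ sY) hcomm.symm u]
  congr 1
  rw [TopCat.Presheaf.stalkCongr_hom]
  exact stalkSpecializes_eq_eqToHom' _ hs.symm

theorem isIso_stalkMap_of_fac {X Y : Scheme.{u}} (U : X.Opens) (x : X) (hxU : x ∈ U)
    (f : U.toScheme ⟶ Y) (y : Y) (φ : Y.presheaf.stalk y ⟶ X.presheaf.stalk x) [IsIso φ]
    (h1 : Spec.map φ ≫ Y.fromSpecStalk y = U.fromSpecStalkOfMem x hxU ≫ f) :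
    f ⟨x, hxU⟩ = y ∧ IsIso (f.stalkMap ⟨x, hxU⟩) := by
  have hfx : f ⟨x, hxU⟩ = y := by
    have h3 : (Spec.map φ ≫ Y.fromSpecStalk y) (IsLocalRing.closedPoint _) =
        (U.fromSpecStalkOfMem x hxU ≫ f) (IsLocalRing.closedPoint _) := by
      rw [h1]
    rw [Scheme.Hom.comp_apply, Scheme.Hom.comp_apply, fromSpecStalkOfMem_closedPoint] at h3
    have h4 : (Spec.map φ) (IsLocalRing.closedPoint _) = IsLocalRing.closedPoint _ :=
      IsLocalRing.comap_closedPoint φ.hom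
    rw [h4, Scheme.fromSpecStalk_closedPoint] at h3
    exact h3.symm
  refine ⟨hfx, ?_⟩
  have k1 := Scheme.SpecMap_stalkMap_fromSpecStalk f (x := (⟨x, hxU⟩ : U.toScheme))
  let x' : U.toScheme := ⟨x, hxU⟩
  let i₀ := inv (U.ι.stalkMap x')
  have key : Spec.map (f.stalkMap x' ≫ i₀) ≫ Y.fromSpecStalk (f x') =
      Spec.map φ ≫ Y.fromSpecStalk y := by
    rw [h1, Spec.map_comp, Category.assoc, k1]
    rfl
  have hψ : IsIso (f.stalkMap x' ≫ i₀) :=
    isIso_of_fac (R := X.presheaf.stalk x) _ _ hfx (f.stalkMap x' ≫ i₀) φ key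
  exact IsIso.of_isIso_comp_right (f.stalkMap x') i₀

theorem stalk_iso_of_birationalOver {S X Y : Scheme.{u}} [IrreducibleSpace X] [IrreducibleSpace Y]
    (sX : X ⟶ S) (sY : Y ⟶ S) (h : Scheme.BirationalOver sX sY) :
    ∃ (hs : sX (genericPoint X) = sY (genericPoint Y))
      (e : X.presheaf.stalk (genericPoint X) ≅ Y.presheaf.stalk (genericPoint Y)),
      sX.stalkMap (genericPoint X) ≫ e.hom =
        eqToHom (congrArg S.presheaf.stalk hs) ≫ sY.stalkMap (genericPoint Y) := by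
  obtain ⟨pi, hover⟩ := h
  have hne : (pi.source : Set X).Nonempty := pi.dense_source.nonempty
  haveI : IrreducibleSpace pi.source.toScheme := by
    have h1 : IsIrreducible (pi.source : Set X) :=
      ⟨hne, (PreirreducibleSpace.isPreirreducible_univ (X := X)).open_subset pi.source.isOpen
        (Set.subset_univ _)⟩
    exact isIrreducible_iff_irreducibleSpace.1 h1
  have hcomm : (pi.iso.hom ≫ pi.target.ι) ≫ sY = pi.source.ι ≫ sX := by
    rw [Category.assoc]; exact hover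
  exact stalk_iso_of_openImmersions pi.source.ι (pi.iso.hom ≫ pi.target.ι) sX sY hcomm
    (genericPoint pi.source.toScheme) (genericPoint X) (genericPoint Y)
    (genericPoint_eq_of_isOpenImmersion pi.source.ι)
    (genericPoint_eq_of_isOpenImmersion (pi.iso.hom ≫ pi.target.ι))

theorem birationalOver_of_stalk_iso {S X Y : Scheme.{u}} [IrreducibleSpace X] [IrreducibleSpace Y]
    (sX : X ⟶ S) (sY : Y ⟶ S) [LocallyOfFinitePresentation sX] [LocallyOfFinitePresentation sY]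
    (hs : sX (genericPoint X) = sY (genericPoint Y))
    (e : X.presheaf.stalk (genericPoint X) ≅ Y.presheaf.stalk (genericPoint Y))
    (he : sX.stalkMap (genericPoint X) ≫ e.hom =
      eqToHom (congrArg S.presheaf.stalk hs) ≫ sY.stalkMap (genericPoint Y)) :
    Scheme.BirationalOver sX sY := by
  have h : sY.stalkMap (genericPoint Y) ≫ e.inv =
      S.presheaf.stalkSpecializes (Inseparable.of_eq hs).specializes ≫
        sX.stalkMap (genericPoint X) := by
    rw [stalkSpecializes_eq_eqToHom hs, Iso.comp_inv_eq, Category.assoc, he, ← Category.assoc,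
      eqToHom_trans, eqToHom_refl, Category.id_comp]
  obtain ⟨U, hxU, f, h1, h2⟩ := SpreadFp.spread_out_of_fp sX sY hs e.inv h
  haveI : LocallyOfFinitePresentation (f ≫ sY) := by rw [h2]; infer_instance
  haveI : LocallyOfFinitePresentation f := locallyOfFinitePresentation_of_comp f sY
  obtain ⟨hfx, hiso⟩ := isIso_stalkMap_of_fac U (genericPoint X) hxU f (genericPoint Y) e.inv h1
  obtain ⟨U', hx'U', hopen⟩ := LocImm.exists_openImmersion_nhd_fp f ⟨genericPoint X, hxU⟩ hiso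
  haveI := hopen
  let j : U'.toScheme ⟶ X := U'.ι ≫ U.ι
  let k : U'.toScheme ⟶ Y := U'.ι ≫ f
  have hdj : Dense (j.opensRange : Set X) :=
    j.opensRange.isOpen.dense ⟨j ⟨_, hx'U'⟩, Set.mem_range_self _⟩
  have hdk : Dense (k.opensRange : Set Y) :=
    k.opensRange.isOpen.dense ⟨k ⟨_, hx'U'⟩, Set.mem_range_self _⟩
  refine ⟨⟨j.opensRange, hdj, k.opensRange, hdk, j.isoOpensRange.symm ≪≫ k.isoOpensRange⟩, ?_⟩
  show (j.isoOpensRange.symm ≪≫ k.isoOpensRange).hom ≫ k.opensRange.ι ≫ sY =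
    j.opensRange.ι ≫ sX
  rw [Iso.trans_hom, Iso.symm_hom, Category.assoc, Scheme.Hom.isoOpensRange_hom_ι_assoc,
    Iso.inv_comp_eq, Scheme.Hom.isoOpensRange_hom_ι_assoc]
  show (U'.ι ≫ f) ≫ sY = (U'.ι ≫ U.ι) ≫ sX
  rw [Category.assoc, h2, Category.assoc]

end Groth.Agent.Lib.helper26.BiratOver
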