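import Mathlib
import Groth.Agent.Lib.helper26.LocImmSch2

set_option autoImplicit false
universe u
open CategoryTheory AlgebraicGeometry

namespace Groth.Agent.Lib.helper26.LocImm

/-- if `σ ∘ ρ` is bijective with `C` local and `L` nontrivial then `σ` is a local hom -/
theorem isLocalHom_of_bijective_comp {R C L : Type*} [CommRing R] [CommRing C] [CommRing L]
    [IsLocalRing C] [Nontrivial L] (ρ : R →+* C) (σ : C →+* L)
    (h : Function.Bijective (σ.comp ρ)) : IsLocalHom σ := by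
  constructor
  intro c hc
  by_contra hcu
  obtain ⟨r, hr⟩ := h.2 (σ c)
  have hr' : σ (ρ r) = σ c := hr
  have hru : IsUnit r := by
    let e := RingEquiv.ofBijective (σ.comp ρ) h
    have : IsUnit (e r) := by
      show IsUnit ((σ.comp ρ) r)
      rw [hr]; exact hc
    exact (isUnit_map_iff e r).1 this
  have h1 : IsUnit (ρ r) := hru.map ρ
  have h2 : ¬ IsUnit (c - ρ r) := by
    intro hu
    have : IsUnit (σ (c - ρ r)) := hu.map σ
    rw [map_sub, hr', sub_self] at this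
    exact not_isUnit_zero this
  have h3 : c ∈ IsLocalRing.maximalIdeal C := hcu
  have h4 : c - ρ r ∈ IsLocalRing.maximalIdeal C := h2
  have h5 : ρ r ∈ IsLocalRing.maximalIdeal C := by
    have := (IsLocalRing.maximalIdeal C).sub_mem h3 h4
    simpa using this
  exact h5 h1

/-- fibre lemma: a specialization `z` of `ξ` with the same image, where the stalk map at `ξ` is
an isomorphism, is equal to `ξ`. -/
theorem eq_of_specializes_of_isIso_stalkMap {X Y : Scheme.{u}} (f : X ⟶ Y) (ξ z : X)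
    (h : ξ ⤳ z) (hf : f ξ = f z) [IsIso (f.stalkMap ξ)] : z = ξ := by
  have key := Scheme.Hom.stalkSpecializes_stalkMap f ξ z h
  -- `Y.presheaf.stalkSpecializes _` is an iso as `f ξ = f z`
  haveI : IsIso (Y.presheaf.stalkSpecializes (f.base.hom.map_specializes h)) := by
    have : Y.presheaf.stalkSpecializes (f.base.hom.map_specializes h) =
        (Y.presheaf.stalkCongr (Inseparable.of_eq hf.symm)).hom := rfl
    rw [this]; infer_instance
  have hbij : Function.Bijective ((X.presheaf.stalkSpecializes h).hom.comp (f.stalkMap z).hom) := by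
    have h1 : IsIso (f.stalkMap z ≫ X.presheaf.stalkSpecializes h) := by
      rw [← key]; infer_instance
    exact ConcreteCategory.bijective_of_isIso (f.stalkMap z ≫ X.presheaf.stalkSpecializes h)
  haveI := isLocalHom_of_bijective_comp _ _ hbij
  have h2 := Scheme.SpecMap_stalkSpecializes_fromSpecStalk h
  have h3 : (Spec.map (X.presheaf.stalkSpecializes h) ≫ X.fromSpecStalk z)
      (IsLocalRing.closedPoint _) = (X.fromSpecStalk ξ) (IsLocalRing.closedPoint _) := by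
    rw [h2]
  rw [Scheme.fromSpecStalk_closedPoint, Scheme.Hom.comp_apply] at h3
  have h4 : (Spec.map (X.presheaf.stalkSpecializes h)) (IsLocalRing.closedPoint _) =
      IsLocalRing.closedPoint _ :=
    IsLocalRing.comap_closedPoint (X.presheaf.stalkSpecializes h).hom
  rw [h4, Scheme.fromSpecStalk_closedPoint] at h3
  exact h3

/-- Lemma A: shrink the target. -/
theorem isIso_morphismRestrict_of_resLE {X Y : Scheme.{u}} (f : X ⟶ Y) (U : X.Opens)
    (V : Y.Opens) (hUV : U ≤ f ⁻¹ᵁ V) [IsIso (f.resLE V U hUV)] (V' : Y.Opens) (hV' : V' ≤ V)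
    (h : f ⁻¹ᵁ V' ≤ U) : IsIso (f ∣_ V') := by
  have h1 : f.resLE V U hUV ≫ V.ι = U.ι ≫ f := Scheme.Hom.resLE_comp_ι f hUV
  haveI : IsOpenImmersion (U.ι ≫ f) := by rw [← h1]; infer_instance
  have h2 : (f ∣_ V') ≫ V'.ι = X.homOfLE h ≫ U.ι ≫ f := by
    rw [morphismRestrict_ι, Scheme.homOfLE_ι_assoc]
  haveI : IsOpenImmersion ((f ∣_ V') ≫ V'.ι) := by rw [h2]; infer_instance
  haveI : IsOpenImmersion (f ∣_ V') := IsOpenImmersion.of_comp _ V'.ι
  apply isIso_of_isOpenImmersion_of_opensRange_eq_top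
  rw [eq_top_iff]
  rintro y -
  -- `y.1 ∈ V`, so it is hit by `U`
  have hsurj : Function.Surjective (f.resLE V U hUV) :=
    (ConcreteCategory.bijective_of_isIso (f.resLE V U hUV).base).2
  obtain ⟨a, ha⟩ := hsurj ⟨y.1, hV' y.2⟩
  have h3 : f a.1 = y.1 := by
    have h4 : (f.resLE V U hUV ≫ V.ι) a = (U.ι ≫ f) a := by rw [h1]
    have h5 : (f.resLE V U hUV ≫ V.ι) a = y.1 := by
      rw [Scheme.Hom.comp_apply, ha]; rfl
    exact h4.symm.trans h5
  have ha' : a.1 ∈ f ⁻¹ᵁ V' := by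
    show f a.1 ∈ V'
    rw [h3]; exact y.2
  refine ⟨⟨a.1, ha'⟩, Subtype.ext ?_⟩
  have h6 : ((f ∣_ V') ≫ V'.ι) ⟨a.1, ha'⟩ = ((f ⁻¹ᵁ V').ι ≫ f) ⟨a.1, ha'⟩ := by
    rw [morphismRestrict_ι]
  exact h6.trans h3

theorem preimage_le_of_isSeparated {X Y : Scheme.{u}} (f : X ⟶ Y) [IsSeparated f] (U : X.Opens)
    (V : Y.Opens) (hUV : U ≤ f ⁻¹ᵁ V) [IsIso (f.resLE V U hUV)]
    (hU : ∀ ξ ∈ genericPoints X, ξ ∈ U) : f ⁻¹ᵁ V ≤ U := by
  have h1 : X.homOfLE hUV ≫ f ∣_ V = f.resLE V U hUV := rfl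
  haveI : IsSeparated (f ∣_ V) := IsZariskiLocalAtTarget.restrict ‹_› V
  haveI : IsClosedImmersion (X.homOfLE hUV ≫ f ∣_ V) := by rw [h1]; infer_instance
  haveI : IsClosedImmersion (X.homOfLE hUV) := IsClosedImmersion.of_comp _ (f ∣_ V)
  have hcl : IsClosed (Set.range (X.homOfLE hUV)) :=
    (X.homOfLE hUV).isClosedEmbedding.isClosed_range
  intro x hx
  by_contra hxU
  let W : X.Opens := (f ⁻¹ᵁ V).ι ''ᵁ ⟨(Set.range (X.homOfLE hUV))ᶜ, hcl.isOpen_compl⟩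
  have hxW : x ∈ W := by
    refine ⟨⟨x, hx⟩, ?_, rfl⟩
    rintro ⟨a, ha⟩
    apply hxU
    have : (X.homOfLE hUV a).1 = x := by rw [ha]
    rw [Scheme.homOfLE_apply] at this
    rw [← this]; exact a.2
  obtain ⟨ξ, hξ, hxξ⟩ := exists_generic x
  have hξW : ξ ∈ W := (specializes_iff_mem_closure.2 hxξ).mem_open W.isOpen hxW
  obtain ⟨⟨ξ', hξ'⟩, hnr, rfl⟩ := hξW
  apply hnr
  refine ⟨⟨ξ', hU ξ' hξ⟩, Subtype.ext ?_⟩
  rw [Scheme.homOfLE_apply]

theorem mem_image_of_mem_closure_affine {X Y : Scheme.{u}} (f : X ⟶ Y) (V₀ : Y.Opens)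
    (hV₀ : IsAffineOpen V₀) (W : X.Opens) (hW : IsAffineOpen W) (e : W ≤ f ⁻¹ᵁ V₀)
    (Z : Set X) (hZ : IsClosed Z) (η : Y) (hηV : η ∈ V₀) (hη : ∀ y : Y, y ⤳ η → y = η)
    (h : η ∈ closure (f '' (Z ∩ W))) : η ∈ f '' (Z ∩ W) := by
  set φ := (f.appLE V₀ W e).hom with hφ
  let T : Set (PrimeSpectrum Γ(X, W)) := hW.fromSpec ⁻¹' Z
  have hT : IsClosed T := hZ.preimage hW.fromSpec.continuous
  set I := PrimeSpectrum.vanishingIdeal T with hI
  have hIT : PrimeSpectrum.zeroLocus (I : Set Γ(X, W)) = T := by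
    rw [PrimeSpectrum.zeroLocus_vanishingIdeal_eq_closure, hT.closure_eq]
  set q := hV₀.primeIdealOf ⟨η, hηV⟩ with hq
  have hqη : hV₀.fromSpec q = η := hV₀.fromSpec_primeIdealOf ⟨η, hηV⟩
  have hle : I.comap φ ≤ q.asIdeal := by
    intro b hb
    by_contra hbq
    have hηb : η ∈ Y.basicOpen b := by
      have h1 : q ∈ hV₀.fromSpec ⁻¹ᵁ Y.basicOpen b := by
        rw [hV₀.fromSpec_preimage_basicOpen]; exact hbq
      rw [← hqη]; exact h1
    obtain ⟨y, hy1, hy2⟩ := mem_closure_iff.1 h (Y.basicOpen b) (Y.basicOpen b).isOpen hηb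
    obtain ⟨z, ⟨hzZ, hzW⟩, rfl⟩ := hy2
    have hz1 : z ∈ X.basicOpen (φ b) := by
      have h1 : z ∈ f ⁻¹ᵁ Y.basicOpen b := hy1
      rw [Scheme.preimage_basicOpen] at h1
      show z ∈ X.basicOpen ((f.appLE V₀ W e).hom b)
      rw [Scheme.Hom.appLE]
      simp only [CommRingCat.hom_comp, RingHom.comp_apply]
      rw [Scheme.basicOpen_res]
      exact ⟨hzW, h1⟩
    set P := hW.primeIdealOf ⟨z, hzW⟩ with hPdef
    have hP : hW.fromSpec P = z := hW.fromSpec_primeIdealOf ⟨z, hzW⟩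
    have hPT : P ∈ T := by show hW.fromSpec P ∈ Z; rw [hP]; exact hzZ
    have hIP : (I : Set Γ(X, W)) ⊆ P.asIdeal := by rw [← hIT] at hPT; exact hPT
    have h2 : P ∈ hW.fromSpec ⁻¹ᵁ X.basicOpen (φ b) := by
      show hW.fromSpec P ∈ X.basicOpen (φ b); rw [hP]; exact hz1
    rw [hW.fromSpec_preimage_basicOpen] at h2
    exact h2 (hIP hb)
  have hqmin : q.asIdeal ∈ (I.comap φ).minimalPrimes := by
    refine ⟨⟨q.isPrime, hle⟩, ?_⟩
    rintro q' ⟨hq'prime, hq'le⟩ hq'q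
    let Q' : PrimeSpectrum Γ(Y, V₀) := ⟨q', hq'prime⟩
    have h1 : Q' ⤳ q := (PrimeSpectrum.le_iff_specializes _ _).1 hq'q
    have h2 : hV₀.fromSpec Q' ⤳ hV₀.fromSpec q := h1.map hV₀.fromSpec.continuous
    rw [hqη] at h2
    have h3 := hη _ h2
    have h4 : hV₀.fromSpec Q' = hV₀.fromSpec q := h3.trans hqη.symm
    have h5 : Q' = q := hV₀.fromSpec.isOpenEmbedding.injective h4
    rw [← h5]
  obtain ⟨P, hPprime, hIP, hPq⟩ := Ideal.exists_comap_eq_of_mem_minimalPrimes φ _ hqmin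
  let P' : PrimeSpectrum Γ(X, W) := ⟨P, hPprime⟩
  have hzW : hW.fromSpec P' ∈ W := by
    have : hW.fromSpec P' ∈ Set.range hW.fromSpec := ⟨_, rfl⟩
    rwa [hW.range_fromSpec] at this
  refine ⟨hW.fromSpec P', ⟨?_, hzW⟩, ?_⟩
  · show P' ∈ T
    rw [← hIT]
    exact hIP
  · have h1 := IsAffineOpen.comap_primeIdealOf_appLE (f := f) V₀ hV₀ W hW e hzW
    have h2 : hW.primeIdealOf ⟨hW.fromSpec P', hzW⟩ = P' :=
      hW.fromSpec.isOpenEmbedding.injective (hW.fromSpec_primeIdealOf ⟨_, hzW⟩)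
    rw [h2] at h1
    have h3 : PrimeSpectrum.comap φ P' = q := PrimeSpectrum.ext hPq
    have h4 : hV₀.primeIdealOf ⟨f (hW.fromSpec P'), e hzW⟩ = q := h1.symm.trans h3
    have h5 := congrArg (fun t => hV₀.fromSpec t) h4
    simp only [] at h5
    rw [hV₀.fromSpec_primeIdealOf, hqη] at h5
    exact h5

theorem mem_image_of_mem_closure {X Y : Scheme.{u}} (f : X ⟶ Y) [QuasiCompact f]
    (Z : Set X) (hZ : IsClosed Z) (η : Y) (hη : ∀ y : Y, y ⤳ η → y = η)
    (h : η ∈ closure (f '' Z)) : η ∈ f '' Z := by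
  obtain ⟨_, ⟨V₀, hV₀, rfl⟩, hηV, -⟩ := Y.isBasis_affineOpens.exists_subset_of_mem_open
    (Set.mem_univ η) isOpen_univ
  have hc : IsCompact (f ⁻¹ᵁ V₀ : Set X) := f.isCompact_preimage hV₀.isCompact
  obtain ⟨s, hs, hsU⟩ := isCompact_iff_finite_and_eq_biUnion_affineOpens.1 hc
  have h1 : η ∈ closure ((V₀ : Set Y) ∩ f '' Z) := V₀.isOpen.inter_closure ⟨hηV, h⟩
  have h2 : (V₀ : Set Y) ∩ f '' Z ⊆ ⋃ i ∈ s, f '' (Z ∩ ((i : X.Opens) : Set X)) := by
    rintro _ ⟨hy, z, hz, rfl⟩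
    have h3 : z ∈ f ⁻¹ᵁ V₀ := hy
    rw [hsU] at h3
    simp only [TopologicalSpace.Opens.mem_iSup] at h3
    obtain ⟨i, hi, hzi⟩ := h3
    exact Set.mem_biUnion hi ⟨z, ⟨hz, hzi⟩, rfl⟩
  have h3 := closure_mono h2 h1
  rw [hs.closure_biUnion] at h3
  obtain ⟨i, hi, h4⟩ := Set.mem_iUnion₂.1 h3
  have hile : (i : X.Opens) ≤ f ⁻¹ᵁ V₀ := by
    rw [hsU]
    exact le_iSup₂ (f := fun (i : X.affineOpens) (_ : i ∈ s) => (i : X.Opens)) i hi
  obtain ⟨z, ⟨hz, -⟩, hzη⟩ :=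
    mem_image_of_mem_closure_affine f V₀ hV₀ i i.2 hile Z hZ η hηV hη h4
  exact ⟨z, hz, hzη⟩

theorem exists_dense_isIso_restrict {X Y : Scheme.{u}} (f : X ⟶ Y)
    (hXfin : (irreducibleComponents X).Finite) (hYfin : (irreducibleComponents Y).Finite)
    (hbij : Set.BijOn (fun x : X => f x) (genericPoints X) (genericPoints Y))
    (hiso : ∀ x ∈ genericPoints X, IsIso (f.stalkMap x))
    (hf₁ : QuasiCompact f ∨ IsSeparated f)
    (hf₂ : (LocallyOfFiniteType f ∧ IsReduced Y) ∨ LocallyOfFinitePresentation f) :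
    ∃ V : Y.Opens, (∀ η ∈ genericPoints Y, η ∈ V) ∧ IsIso (f ∣_ V) := by
  obtain ⟨U, V, hUV, hU, hV, hiso'⟩ := exists_dense_opens f hXfin hYfin hbij hiso hf₂
  rcases hf₁ with hqc | hsep
  · let K : Set Y := closure (f '' (U : Set X)ᶜ)
    let V' : Y.Opens := V ⊓ ⟨Kᶜ, isClosed_closure.isOpen_compl⟩
    refine ⟨V', ?_, isIso_morphismRestrict_of_resLE f U V hUV V' inf_le_left ?_⟩
    · intro η hη
      refine ⟨hV η hη, ?_⟩
      intro hηK
      have hgen : ∀ y : Y, y ⤳ η → y = η := fun y hy =>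
        (generic_eq_of_mem_closure hη (specializes_iff_mem_closure.1 hy)).symm
      obtain ⟨z, hzU, hz⟩ := mem_image_of_mem_closure f _ U.isOpen.isClosed_compl η hgen hηK
      obtain ⟨ξ, hξ, hzξ⟩ := exists_generic z
      have h1 : ξ ⤳ z := specializes_iff_mem_closure.2 hzξ
      have h2 : f ξ ⤳ f z := h1.map f.continuous
      rw [hz] at h2
      have h3 : f ξ = η := hgen _ h2
      haveI := hiso ξ hξ
      have h4 : z = ξ := eq_of_specializes_of_isIso_stalkMap f ξ z h1 (h3.trans hz.symm)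
      exact hzU (h4 ▸ hU ξ hξ)
    · intro x hx
      by_contra hxU
      exact hx.2 (subset_closure ⟨x, hxU, rfl⟩)
  · exact ⟨V, hV, isIso_morphismRestrict_of_resLE f U V hUV V le_rfl
      (preimage_le_of_isSeparated f U V hUV hU)⟩

end Groth.Agent.Lib.helper26.LocImm
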