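import Mathlib
import Groth.Agent.Lib.helper26.BiratQc

set_option autoImplicit false
universe u
open CategoryTheory CategoryTheory.Limits AlgebraicGeometry

namespace Groth.Agent.Lib.helper26.LocImm

/-- a morphism whose image consists of generizations of `ξ` factors through `Spec 𝒪_{X,ξ}`. -/
theorem exists_fac_fromSpecStalk {P X : Scheme.{u}} (h : P ⟶ X) (ξ : X)
    (hr : ∀ p : P, h p ⤳ ξ) :
    ∃ t : P ⟶ Spec (X.presheaf.stalk ξ), t ≫ X.fromSpecStalk ξ = h := by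
  obtain ⟨_, ⟨W, hW, rfl⟩, hξW, -⟩ := X.isBasis_affineOpens.exists_subset_of_mem_open
    (Set.mem_univ ξ) isOpen_univ
  have e : (⊤ : P.Opens) ≤ h ⁻¹ᵁ W := fun p _ => (hr p).mem_open W.isOpen hξW
  letI alg := TopCat.Presheaf.algebra_section_stalk X.presheaf (⟨ξ, hξW⟩ : W)
  haveI loc : IsLocalization.AtPrime (X.presheaf.stalk ξ)
      (hW.primeIdealOf ⟨ξ, hξW⟩).asIdeal := hW.isLocalization_stalk ⟨ξ, hξW⟩
  set ψ : Γ(X, W) →+* Γ(P, ⊤) := (h.appLE W ⊤ e).hom with hψ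
  have hunit : ∀ a : (hW.primeIdealOf ⟨ξ, hξW⟩).asIdeal.primeCompl, IsUnit (ψ a) := by
    rintro ⟨a, ha⟩
    have hξa : ξ ∈ X.basicOpen a := by
      have h1 : hW.primeIdealOf ⟨ξ, hξW⟩ ∈ hW.fromSpec ⁻¹ᵁ X.basicOpen a := by
        rw [hW.fromSpec_preimage_basicOpen]; exact ha
      have h2 : hW.fromSpec (hW.primeIdealOf ⟨ξ, hξW⟩) = ξ := hW.fromSpec_primeIdealOf ⟨ξ, hξW⟩
      rw [← h2]; exact h1
    have hb : ∀ p : P, p ∈ P.basicOpen (ψ a) := by
      intro p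
      have h1 : h p ∈ X.basicOpen a := (hr p).mem_open (X.basicOpen a).isOpen hξa
      show p ∈ P.basicOpen ((h.appLE W ⊤ e).hom a)
      rw [Scheme.Hom.appLE]
      simp only [CommRingCat.hom_comp, RingHom.comp_apply]
      rw [Scheme.basicOpen_res]
      refine ⟨trivial, ?_⟩
      rw [← Scheme.preimage_basicOpen]
      exact h1
    apply P.toRingedSpace.isUnit_of_isUnit_germ
    intro x hx
    exact (P.mem_basicOpen (ψ a) x hx).1 (hb x)
  let ψ' : X.presheaf.stalk ξ →+* Γ(P, ⊤) :=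
    IsLocalization.lift (M := (hW.primeIdealOf ⟨ξ, hξW⟩).asIdeal.primeCompl) (g := ψ) hunit
  have hψ' : (X.presheaf.germ W ξ hξW) ≫ CommRingCat.ofHom ψ' = h.appLE W ⊤ e := by
    ext a
    exact IsLocalization.lift_eq (M := (hW.primeIdealOf ⟨ξ, hξW⟩).asIdeal.primeCompl) hunit a
  refine ⟨P.topIso.inv ≫ (⊤ : P.Opens).toSpecΓ ≫ Spec.map (CommRingCat.ofHom ψ'), ?_⟩
  rw [← hW.fromSpecStalk_eq_fromSpecStalk hξW, IsAffineOpen.fromSpecStalk]
  simp only [Category.assoc]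
  rw [← Spec.map_comp_assoc, hψ', Scheme.Opens.toSpecΓ_SpecMap_appLE_assoc, hW.toSpecΓ_fromSpec,
    Scheme.Hom.resLE_comp_ι, Scheme.toIso_inv_ι_assoc]

theorem isIso_snd_fromSpecStalk {X Y : Scheme.{u}} (f : X ⟶ Y) (ξ : X) [IsIso (f.stalkMap ξ)]
    (hfib : ∀ x : X, f x ⤳ f ξ → x = ξ) :
    IsIso (pullback.snd f (Y.fromSpecStalk (f ξ))) := by
  set g := Y.fromSpecStalk (f ξ) with hg
  have hr : ∀ p : ↥(pullback f g), (pullback.fst f g) p ⤳ ξ := by
    intro p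
    have h1 : (pullback.fst f g) p ∈ Set.range (pullback.fst f g) := ⟨p, rfl⟩
    rw [Scheme.Pullback.range_fst, Scheme.range_fromSpecStalk] at h1
    rw [hfib _ h1]
  obtain ⟨t, ht⟩ := exists_fac_fromSpecStalk (pullback.fst f g) ξ hr
  have hkey : Spec.map (f.stalkMap ξ) ≫ g = X.fromSpecStalk ξ ≫ f :=
    Scheme.SpecMap_stalkMap_fromSpecStalk f
  have ht2 : t ≫ Spec.map (f.stalkMap ξ) = pullback.snd f g := by
    rw [← cancel_mono g, Category.assoc, hkey, ← Category.assoc, ht, pullback.condition]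
  let s : Spec (Y.presheaf.stalk (f ξ)) ⟶ pullback f g :=
    pullback.lift (Spec.map (inv (f.stalkMap ξ)) ≫ X.fromSpecStalk ξ) (𝟙 _) (by
      rw [Category.assoc, ← hkey, ← Spec.map_comp_assoc, IsIso.hom_inv_id, Spec.map_id,
        Category.id_comp])
  refine ⟨s, ?_, pullback.lift_snd _ _ _⟩
  apply pullback.hom_ext
  · rw [Category.assoc, pullback.lift_fst, Category.id_comp, ← ht2, Category.assoc,
      ← Spec.map_comp_assoc, IsIso.inv_hom_id, Spec.map_id, Category.id_comp, ht]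
  · rw [Category.assoc, pullback.lift_snd, Category.comp_id, Category.id_comp]

theorem isIso_snd_fromSpecStalk_of_birational {X Y : Scheme.{u}} (f : X ⟶ Y)
    (hbij : Set.BijOn (fun x : X => f x) (genericPoints X) (genericPoints Y))
    (hiso : ∀ x ∈ genericPoints X, IsIso (f.stalkMap x))
    (y : Y) (hy : y ∈ genericPoints Y) :
    IsIso (pullback.snd f (Y.fromSpecStalk y)) := by
  obtain ⟨ξ, hξ, rfl⟩ := hbij.surjOn hy
  haveI := hiso ξ hξ
  apply isIso_snd_fromSpecStalk f ξ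
  intro x hx
  have h1 : f x = f ξ := (generic_eq_of_mem_closure hy (specializes_iff_mem_closure.1 hx)).symm
  obtain ⟨ξ', hξ', hxξ'⟩ := exists_generic x
  have h2 : ξ' ⤳ x := specializes_iff_mem_closure.2 hxξ'
  have h3 : f ξ' ⤳ f x := h2.map f.continuous
  rw [h1] at h3
  have h4 : f ξ' = f ξ := (generic_eq_of_mem_closure hy (specializes_iff_mem_closure.1 h3)).symm
  have h5 : ξ' = ξ := hbij.injOn hξ' hξ h4
  subst h5
  exact eq_of_specializes_of_isIso_stalkMap f ξ' x h2 h1.symm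

end Groth.Agent.Lib.helper26.LocImm
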