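import Mathlib
import Groth.Prelude.Def_BlowUp2

universe u
open AlgebraicGeometry CategoryTheory Topology TopologicalSpace

namespace Groth.Agent.Lib.helper26.BlowIso

theorem top_isEffCartier (Y : Scheme.{u}) : BlowUp.IsEffCartierIdeal (⊤ : Y.IdealSheafData) := by
  intro x
  obtain ⟨W, hW, hxW, -⟩ := (Opens.isBasis_iff_nbhd.1 Y.isBasis_affineOpens)
    (show x ∈ (⊤ : Y.Opens) from trivial)
  refine ⟨⟨W, hW⟩, hxW, 1, one_mem _, ?_⟩
  rw [Ideal.span_singleton_one]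
  rfl

theorem comap_eq_top_of_range_disjoint {X Y : Scheme.{u}} (𝓘 : X.IdealSheafData) (g : Y ⟶ X)
    (h : ∀ y : Y, g y ∉ 𝓘.support) : 𝓘.comap g = ⊤ := by
  rw [← Scheme.IdealSheafData.support_eq_bot_iff, Scheme.IdealSheafData.support_comap]
  ext y
  simp only [Closeds.coe_preimage, Set.mem_preimage, SetLike.mem_coe, Closeds.coe_bot,
    Set.mem_empty_iff_false, iff_false]
  exact h y

theorem isIso_morphismRestrict_compl {X X' : Scheme.{u}} (𝓘 : X.IdealSheafData) (b : X' ⟶ X)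
    (hb : BlowUp.IsBlowUp b 𝓘) : IsIso (b ∣_ 𝓘.support.compl) := by
  set U : X.Opens := 𝓘.support.compl with hU
  have hj : 𝓘.comap U.ι = ⊤ := comap_eq_top_of_range_disjoint 𝓘 U.ι (fun y => y.2)
  obtain ⟨s, hs, hsu⟩ := hb.2 U U.ι (hj ▸ top_isEffCartier _)
  have hrange : Set.range s ⊆ Set.range (b ⁻¹ᵁ U).ι := by
    rintro _ ⟨y, rfl⟩
    rw [Scheme.Opens.range_ι]
    show b (s y) ∈ U
    rw [← Scheme.Hom.comp_apply, hs]
    exact y.2
  let t : (U : Scheme.{u}) ⟶ ((b ⁻¹ᵁ U : X'.Opens) : Scheme.{u}) :=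
    IsOpenImmersion.lift (b ⁻¹ᵁ U).ι s hrange
  have ht : t ≫ (b ⁻¹ᵁ U).ι = s := IsOpenImmersion.lift_fac _ _ _
  refine ⟨t, ?_, ?_⟩
  · rw [← cancel_mono (b ⁻¹ᵁ U).ι, Category.assoc, ht, Category.id_comp]
    have hg : BlowUp.IsEffCartierIdeal (𝓘.comap ((b ⁻¹ᵁ U).ι ≫ b)) := by
      rw [← morphismRestrict_ι, Scheme.IdealSheafData.comap_comp, hj,
        Scheme.IdealSheafData.comap_top]
      exact top_isEffCartier _
    obtain ⟨h0, -, huniq⟩ := hb.2 _ _ hg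
    have e1 : ((b ∣_ U) ≫ s) ≫ b = (b ⁻¹ᵁ U).ι ≫ b := by
      rw [Category.assoc, hs, morphismRestrict_ι]
    rw [huniq ((b ∣_ U) ≫ s) e1, huniq (b ⁻¹ᵁ U).ι rfl]
  · rw [← cancel_mono U.ι, Category.assoc, morphismRestrict_ι, ← Category.assoc, ht, hs,
      Category.id_comp]

end Groth.Agent.Lib.helper26.BlowIso
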