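import Mathlib
import Groth.Agent.Lib.helper26.Haupt
import Groth.Agent.Lib.helper26.DimPts
import Groth.Agent.Lib.helper7.TensorDim6
import Groth.Prelude.Def_Flat

universe u
open AlgebraicGeometry CategoryTheory Topology TopologicalSpace

namespace Groth.Agent.Lib.helper26.CartDim

open Groth.Agent.Lib.helper26.DimPts Groth.Agent.Lib.helper26.Haupt Groth.Agent.Lib.helper7

variable {S : Scheme.{u}}

/-- every point of an effective Cartier divisor has a proper generization. -/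
theorem exists_generization (𝓘 : S.IdealSheafData) (h𝓘 : BlowUp.IsEffCartierIdeal 𝓘) (t : S)
    (ht : t ∈ 𝓘.support) : ∃ η : S, η ⤳ t ∧ η ≠ t := by
  obtain ⟨U, htU, f, hfnzd, hf⟩ := h𝓘 t
  have hle := (mem_support_iff_le 𝓘 U t htU).mp ht
  set q := U.2.primeIdealOf ⟨t, htU⟩ with hq
  have hfq : f ∈ q.asIdeal := hle (by rw [hf]; exact Ideal.subset_span rfl)
  obtain ⟨q₀, hq₀, hq₀le⟩ := Ideal.exists_minimalPrimes_le (I := ⊥) (J := q.asIdeal) bot_le
  have hne : q₀ ≠ q.asIdeal := by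
    intro h
    rw [← h] at hfq
    exact notMem_nonZeroDivisors_of_mem_mem_minimalPrimes hfq hq₀ hfnzd
  obtain ⟨η, hη⟩ := helper7.DimSch.exists_primeIdealOf_eq U.2 ⟨q₀, hq₀.1.1⟩
  refine ⟨η, ?_, ?_⟩
  · rw [← helper7.DimSch.primeIdealOf_le_iff U.2 η ⟨t, htU⟩, hη]
    exact hq₀le
  · intro h
    apply hne
    have : η = ⟨t, htU⟩ := Subtype.ext h
    rw [this] at hη
    rw [hq, hη]

theorem dim_inter_add_one_le (𝓘 : S.IdealSheafData) (h𝓘 : BlowUp.IsEffCartierIdeal 𝓘)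
    (U : Set S) (hU : IsOpen U) (hne : (U ∩ (𝓘.support : Set S)).Nonempty) :
    topologicalKrullDim ↥(U ∩ (𝓘.support : Set S)) + 1 ≤ topologicalKrullDim ↥U := by
  haveI : QuasiSober ↥U := hU.isOpenEmbedding_subtypeVal.quasiSober
  haveI : QuasiSober ↥(U ∩ (𝓘.support : Set S)) :=
    quasiSober_open_inter_closed U _ hU 𝓘.support.isClosed
  rw [topologicalKrullDim_eq_krullDim_subtype, topologicalKrullDim_eq_krullDim_subtype]
  haveI : Nonempty ↥(U ∩ (𝓘.support : Set S)) := hne.to_subtype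
  have h0 : (0 : WithBot ℕ∞) ≤ Order.krullDim ↥(U ∩ (𝓘.support : Set S)) := Order.krullDim_nonneg
  have key : ∀ m : ℕ, (m : WithBot ℕ∞) ≤ Order.krullDim ↥(U ∩ (𝓘.support : Set S)) →
      ((m + 1 : ℕ) : WithBot ℕ∞) ≤ Order.krullDim ↥U := by
    intro m hm
    obtain ⟨p, hp⟩ : ∃ p : LTSeries ↥(U ∩ (𝓘.support : Set S)), p.length = m := by
      exact Order.le_krullDim_iff.mp hm
    obtain ⟨η, hη, hηne⟩ := exists_generization 𝓘 h𝓘 p.last.1 p.last.2.2
    have hηU : η ∈ U := hη.mem_open hU p.last.2.1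
    let p' : LTSeries S := p.map Subtype.val (fun a b hab => hab)
    have hlt : p'.last < η := by
      rw [lt_iff_le_not_ge, Scheme.le_iff_specializes, Scheme.le_iff_specializes]
      refine ⟨by simpa [p'] using hη, fun h => hηne ?_⟩
      have h' : p.last.1 ⤳ η := by simpa [p'] using h
      exact (hη.antisymm h').eq
    have := length_le_krullDim_subtype U (p'.snoc η hlt) (fun i => by
      have hmem : (p'.snoc η hlt) i ∈ p'.snoc η hlt := ⟨i, rfl⟩
      rw [RelSeries.mem_snoc] at hmem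
      rcases hmem with ⟨j, hj⟩ | hmem
      · rw [← hj]; exact (p j).2.1
      · rw [hmem]; exact hηU)
    simpa [p', hp] using this
  rcases TensorDim.eq_top_or_exists_nat _ h0 with htop | ⟨r, hr⟩
  · have : Order.krullDim ↥U = ⊤ := by
      apply TensorDim.eq_top_of_forall_nat_le
      intro r
      refine le_trans ?_ (key r (by rw [htop]; exact le_top))
      exact_mod_cast Nat.le_succ r
    rw [this]; exact le_top
  · rw [hr]
    have := key r (by rw [hr])
    exact_mod_cast this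


theorem localDim_effCartier_lt (𝓘 : S.IdealSheafData) (h𝓘 : BlowUp.IsEffCartierIdeal 𝓘)
    (d : ↥𝓘.subscheme) (hfin : FlatMor.localDim ↥S (𝓘.subschemeι d) ≠ ⊤) :
    FlatMor.localDim ↥𝓘.subscheme d < FlatMor.localDim ↥S (𝓘.subschemeι d) := by
  unfold FlatMor.localDim at hfin ⊢
  haveI : Nonempty {U : Opens S // 𝓘.subschemeι d ∈ U} := ⟨⟨⊤, trivial⟩⟩
  obtain ⟨U₀, hU₀⟩ := ciInf_mem
    (fun U : {U : Opens S // 𝓘.subschemeι d ∈ U} => topologicalKrullDim (U.1 : Set S))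
  simp only at hU₀
  rw [← hU₀] at hfin ⊢
  let W : {W : Opens 𝓘.subscheme // d ∈ W} := ⟨𝓘.subschemeι ⁻¹ᵁ U₀.1, U₀.2⟩
  refine lt_of_le_of_lt (iInf_le _ W) ?_
  change topologicalKrullDim ↥(𝓘.subschemeι.base ⁻¹' (U₀.1 : Set S)) < _
  have hhomeo : topologicalKrullDim ↥(𝓘.subschemeι.base ⁻¹' (U₀.1 : Set S)) =
      topologicalKrullDim ↥((U₀.1 : Set S) ∩ (𝓘.support : Set S)) := by
    have himg : 𝓘.subschemeι.base '' (𝓘.subschemeι.base ⁻¹' (U₀.1 : Set S)) =
        (U₀.1 : Set S) ∩ 𝓘.support := by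
      rw [Set.image_preimage_eq_inter_range, 𝓘.range_subschemeι]
    exact IsHomeomorph.topologicalKrullDim_eq _
      ((𝓘.subschemeι.isEmbedding.homeomorphImage _).trans (Homeomorph.setCongr himg)).isHomeomorph
  rw [hhomeo]
  have hne : ((U₀.1 : Set S) ∩ (𝓘.support : Set S)).Nonempty :=
    ⟨𝓘.subschemeι d, U₀.2, by rw [← 𝓘.range_subschemeι]; exact ⟨d, rfl⟩⟩
  have h1 := dim_inter_add_one_le 𝓘 h𝓘 U₀.1 U₀.1.2 hne
  haveI : Nonempty ↥((U₀.1 : Set S) ∩ (𝓘.support : Set S)) := hne.to_subtype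
  have h0 : (0 : WithBot ℕ∞) ≤ topologicalKrullDim ↥((U₀.1 : Set S) ∩ (𝓘.support : Set S)) :=
    Groth.Agent.H9TopDim.dim_nonneg_of_nonempty
  rcases TensorDim.eq_top_or_exists_nat _ h0 with htop | ⟨r, hr⟩
  · exfalso
    apply hfin
    rw [htop] at h1
    have h2 : (⊤ : WithBot ℕ∞) + 1 = ⊤ := rfl
    rw [h2] at h1
    exact top_le_iff.mp h1
  · rw [hr] at h1 ⊢
    refine lt_of_lt_of_le ?_ h1
    exact_mod_cast Nat.lt_succ_self r

end Groth.Agent.Lib.helper26.CartDim
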