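import Mathlib
import Groth.Agent.Lib.helper26.BlowIso
import Groth.Agent.Lib.helper26.CartDim

universe u
open AlgebraicGeometry CategoryTheory Topology TopologicalSpace

namespace Groth.Agent.Lib.helper26.BlowMax

open Groth.Agent.Lib.helper26.BlowIso

theorem bijOn_maximal_points {X X' : Scheme.{u}} (𝓘 : X.IdealSheafData) (b : X' ⟶ X)
    (hb : BlowUp.IsBlowUp b 𝓘) :
    Set.BijOn (fun x' => b x') {x' : ↥X' | ∀ y : ↥X', y ⤳ x' → y = x'}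
      {x : ↥X | (∀ y : ↥X, y ⤳ x → y = x) ∧ x ∉ 𝓘.support} := by
  set U : X.Opens := 𝓘.support.compl with hU
  haveI := isIso_morphismRestrict_compl 𝓘 b hb
  let e : ↥(b ⁻¹ᵁ U : X'.Opens) ≃ₜ ↥U := (b ∣_ U).homeomorph
  have he : ∀ z : ↥(b ⁻¹ᵁ U : X'.Opens), (e z).1 = b z.1 := fun z =>
    morphismRestrict_base_coe b U z
  -- maximal points avoid the exceptional divisor
  have hmaxU : ∀ x' : X', (∀ y : X', y ⤳ x' → y = x') → x' ∈ b ⁻¹ᵁ U := by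
    intro x' hx'
    show b x' ∈ U
    intro hbx
    have hx'E : x' ∈ (𝓘.comap b).support := by
      rw [Scheme.IdealSheafData.support_comap]
      exact hbx
    obtain ⟨η, hη, hne⟩ := Groth.Agent.Lib.helper26.CartDim.exists_generization _ hb.1 x' hx'E
    exact hne (hx' η hη)
  have hinj : ∀ z₁ z₂ : X', z₁ ∈ b ⁻¹ᵁ U → z₂ ∈ b ⁻¹ᵁ U → b z₁ = b z₂ → z₁ = z₂ := by
    intro z₁ z₂ h1 h2 h
    have : e ⟨z₁, h1⟩ = e ⟨z₂, h2⟩ := Subtype.ext (by rw [he, he]; exact h)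
    exact congrArg Subtype.val (e.injective this)
  have hsurj : ∀ x : X, x ∈ U → ∃ z : X', z ∈ b ⁻¹ᵁ U ∧ b z = x := by
    intro x hx
    obtain ⟨z, hz⟩ := e.surjective ⟨x, hx⟩
    exact ⟨z.1, z.2, by rw [← he, hz]⟩
  have hrefl : ∀ z₁ z₂ : X', ∀ (h1 : z₁ ∈ b ⁻¹ᵁ U) (h2 : z₂ ∈ b ⁻¹ᵁ U), b z₁ ⤳ b z₂ → z₁ ⤳ z₂ := by
    intro z₁ z₂ h1 h2 h
    have h' : e ⟨z₁, h1⟩ ⤳ e ⟨z₂, h2⟩ := by
      rw [subtype_specializes_iff, he, he]
      exact h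
    have h'' := h'.map e.symm.continuous
    rw [e.symm_apply_apply, e.symm_apply_apply] at h''
    exact ((subtype_specializes_iff _ _).1 h'')
  refine ⟨?_, ?_, ?_⟩
  · intro x' hx'
    have hx'U := hmaxU x' hx'
    refine ⟨fun y hy => ?_, fun h => hx'U h⟩
    have hyU : y ∈ U := hy.mem_open U.2 hx'U
    obtain ⟨y', hy'U, rfl⟩ := hsurj y hyU
    have := hrefl y' x' hy'U hx'U hy
    rw [hx' y' this]
  · intro z₁ h1 z₂ h2 h
    exact hinj z₁ z₂ (hmaxU z₁ h1) (hmaxU z₂ h2) h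
  · rintro x ⟨hxmax, hxU⟩
    obtain ⟨x', hx'U, rfl⟩ := hsurj x hxU
    refine ⟨x', fun y' hy' => ?_, rfl⟩
    have hy'U : y' ∈ b ⁻¹ᵁ U := hy'.mem_open (b ⁻¹ᵁ U).2 hx'U
    have h1 : b y' ⤳ b x' := hy'.map b.continuous
    exact hinj y' x' hy'U hx'U (hxmax _ h1)

end Groth.Agent.Lib.helper26.BlowMax
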