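import Mathlib
import Groth.Agent.Lib.helper26.BlowIso
import Groth.Agent.Lib.helper26.CartCompl

universe u
open AlgebraicGeometry CategoryTheory Topology TopologicalSpace

namespace Groth.Agent.Lib.helper26.BlowRed

open Groth.Agent.Lib.helper26.BlowIso Groth.Agent.Lib.helper26.CartCompl

theorem compl_support_comap {X X' : Scheme.{u}} (𝓘 : X.IdealSheafData) (b : X' ⟶ X) :
    (𝓘.comap b).support.compl = b ⁻¹ᵁ 𝓘.support.compl := by
  ext x
  show x ∉ (𝓘.comap b).support ↔ b x ∉ 𝓘.support
  rw [Scheme.IdealSheafData.support_comap]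
  rfl

theorem isReduced_of_isBlowUp {X X' : Scheme.{u}} [IsReduced X] (𝓘 : X.IdealSheafData)
    (b : X' ⟶ X) (hb : BlowUp.IsBlowUp b 𝓘) : IsReduced X' := by
  haveI := isIso_morphismRestrict_compl 𝓘 b hb
  haveI : IsReduced ((b ⁻¹ᵁ 𝓘.support.compl : X'.Opens) : Scheme.{u}) :=
    isReduced_of_isOpenImmersion (b ∣_ 𝓘.support.compl)
  haveI : IsReduced (((𝓘.comap b).support.compl : X'.Opens) : Scheme.{u}) := by
    rw [compl_support_comap]
    infer_instance
  haveI := dominant_compl_of_effCartier (𝓘.comap b) hb.1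
  haveI := isAffineHom_compl_of_locPrincipal (𝓘.comap b)
    (isLocPrincipal_of_effCartier (𝓘.comap b) hb.1)
  exact IsSchemeTheoreticallyDominant.isReduced (Scheme.Opens.ι (𝓘.comap b).support.compl)

end Groth.Agent.Lib.helper26.BlowRed
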