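import Mathlib

set_option autoImplicit false
universe u

namespace Groth.Agent.Lib.helper26.NormAff

section evalg
variable {A B k F : Type*} [CommRing A] [CommRing B] [Algebra A B] [Field k] [Field F]
  (ev : A →+* k) (ψ : B →+* F) (res : k →+* F)

include ev in
/-- generic case: the residue field map is surjective. -/
theorem surjective_of_eval_bot
    (hcomm : ∀ a, res (ev a) = ψ (algebraMap A B a))
    (hgen : ∀ r : F, ∃ c s : B, ψ s ≠ 0 ∧ r = ψ c / ψ s)
    (hinj : Function.Injective (algebraMap A B))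
    (hfrac : ∀ b : B, ∃ t : A, t ≠ 0 ∧ ∃ a : A, algebraMap A B t * b = algebraMap A B a)
    (hker : RingHom.ker ψ = ⊥) : Function.Surjective res := by
  have key : ∀ b : B, ∃ y : k, res y = ψ b := by
    intro b
    obtain ⟨t, ht, a, hta⟩ := hfrac b
    have h1 : ψ (algebraMap A B t) ≠ 0 := by
      intro h0
      have : algebraMap A B t ∈ RingHom.ker ψ := h0
      rw [hker, Ideal.mem_bot] at this
      exact ht (hinj (by rw [this, map_zero]))
    refine ⟨ev a / ev t, ?_⟩
    rw [map_div₀, hcomm, hcomm, ← hta, map_mul, mul_div_cancel_left₀ _ h1]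
  intro r
  obtain ⟨c, s, hs, rfl⟩ := hgen r
  obtain ⟨y1, h1⟩ := key c
  obtain ⟨y2, h2⟩ := key s
  exact ⟨y1 / y2, by rw [map_div₀, h1, h2]⟩

/-- closed point case: `ψ` is surjective -/
theorem surjective_of_eval_max
    (hgen : ∀ r : F, ∃ c s : B, ψ s ≠ 0 ∧ r = ψ c / ψ s)
    (hker : (RingHom.ker ψ).IsMaximal) : Function.Surjective ψ := by
  intro r
  obtain ⟨c, s, hs, rfl⟩ := hgen r
  have hsQ : s ∉ RingHom.ker ψ := hs
  obtain ⟨y, i, hi, hyi⟩ := hker.exists_inv hsQ
  have h1 : ψ y * ψ s = 1 := by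
    have := congrArg ψ hyi
    rw [map_add, map_mul, map_one, (RingHom.mem_ker).1 hi, add_zero] at this
    exact this
  refine ⟨c * y, ?_⟩
  rw [map_mul, div_eq_mul_inv]
  congr 1
  exact (eq_inv_of_mul_eq_one_left h1)

theorem finite_of_eval
    (hcomm : ∀ a, res (ev a) = ψ (algebraMap A B a))
    (hgen : ∀ r : F, ∃ c s : B, ψ s ≠ 0 ∧ r = ψ c / ψ s)
    (hinj : Function.Injective (algebraMap A B))
    (hfrac : ∀ b : B, ∃ t : A, t ≠ 0 ∧ ∃ a : A, algebraMap A B t * b = algebraMap A B a)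
    (hmax : ∀ Q : Ideal B, Q.IsPrime → Q ≠ ⊥ → Q.IsMaximal)
    (hfin : ∀ Q : Ideal B, Q.IsMaximal →
      Module.Finite (A ⧸ Q.comap (algebraMap A B)) (B ⧸ Q)) :
    res.Finite := by
  by_cases hker : RingHom.ker ψ = ⊥
  · exact RingHom.Finite.of_surjective _ (surjective_of_eval_bot ev ψ res hcomm hgen hinj hfrac hker)
  · have hQ : (RingHom.ker ψ).IsMaximal := hmax _ (RingHom.ker_isPrime ψ) hker
    have hsurj := surjective_of_eval_max ψ hgen hQ
    have hfinQ := hfin _ hQ
    have hfinA : Module.Finite A (B ⧸ RingHom.ker ψ) :=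
      Module.Finite.trans (A ⧸ (RingHom.ker ψ).comap (algebraMap A B)) _
    letI := res.toAlgebra
    letI := ev.toAlgebra
    letI := (ψ.comp (algebraMap A B)).toAlgebra
    haveI : IsScalarTower A k F := IsScalarTower.of_algebraMap_eq (fun a => (hcomm a).symm)
    let ψa : B →ₐ[A] F := { ψ with commutes' := fun a => rfl }
    let l : (B ⧸ RingHom.ker ψ) →ₐ[A] F :=
      Ideal.Quotient.liftₐ (RingHom.ker ψ) ψa (fun b hb => hb)
    have hl : Function.Surjective l := by
      intro r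
      obtain ⟨b, rfl⟩ := hsurj r
      exact ⟨Ideal.Quotient.mk _ b, rfl⟩
    have hFA : Module.Finite A F := Module.Finite.of_surjective l.toLinearMap hl
    show Module.Finite k F
    exact Module.Finite.of_restrictScalars_finite A k F

end evalg

end Groth.Agent.Lib.helper26.NormAff

namespace Groth.Agent.Lib.helper26.NormAff
open CategoryTheory AlgebraicGeometry

theorem exists_evaluation_div (Z : Scheme.{u}) (W : Z.Opens) (hW : IsAffineOpen W) (z : Z)
    (hz : z ∈ W) (r : Z.residueField z) :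
    ∃ (c : Γ(Z, W)) (s : Γ(Z, W)), Z.evaluation W z hz s ≠ 0 ∧
      r = Z.evaluation W z hz c / Z.evaluation W z hz s := by
  obtain ⟨σ, rfl⟩ := Z.residue_surjective z r
  letI := TopCat.Presheaf.algebra_section_stalk Z.presheaf ⟨z, hz⟩
  have hloc := hW.isLocalization_stalk ⟨z, hz⟩
  obtain ⟨c, s, rfl⟩ := IsLocalization.exists_mk'_eq
    (hW.primeIdealOf ⟨z, hz⟩).asIdeal.primeCompl σ
  have hunit : IsUnit (algebraMap Γ(Z, W) (Z.presheaf.stalk z) s.1) :=
    IsLocalization.map_units _ s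
  have hs0 : Z.evaluation W z hz s.1 ≠ 0 := by
    have h2 : IsUnit (Z.residue z (algebraMap Γ(Z, W) (Z.presheaf.stalk z) s.1)) :=
      hunit.map (Z.residue z).hom
    exact h2.ne_zero
  refine ⟨c, s.1, hs0, ?_⟩
  rw [eq_div_iff hs0]
  have h3 := IsLocalization.mk'_spec (Z.presheaf.stalk z) c s
  have h4 := congrArg (Z.residue z).hom h3
  rw [map_mul] at h4
  exact h4

end Groth.Agent.Lib.helper26.NormAff
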