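import Mathlib
import Groth.Agent.Lib.helper26.NormAffEval

set_option autoImplicit false
universe u

namespace Groth.Agent.Lib.helper26.BrFib

open Groth.Agent.Lib.helper26.NormAff

section S
variable (A O K : Type*) [CommRing A] [IsDomain A] (p : Ideal A) [p.IsPrime]
  [CommRing O] [Algebra A O] [IsLocalization.AtPrime O p]
  [Field K] [Algebra A K] [Algebra O K] [IsScalarTower A O K]

/-- the inclusion of integral closures -/
noncomputable def incl : integralClosure A K →ₐ[A] integralClosure O K where
  toFun b := ⟨b.1, b.2.tower_top⟩
  map_one' := rfl
  map_mul' _ _ := rfl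
  map_zero' := rfl
  map_add' _ _ := rfl
  commutes' a := by
    apply Subtype.ext
    rfl

noncomputable instance inclAlgebra : Algebra (integralClosure A K) (integralClosure O K) :=
  (incl A O K).toRingHom.toAlgebra

instance : IsScalarTower (integralClosure A K) (integralClosure O K) K :=
  IsScalarTower.of_algebraMap_eq (fun _ => rfl)

instance : IsScalarTower A (integralClosure A K) (integralClosure O K) :=
  IsScalarTower.of_algebraMap_eq (fun a => ((incl A O K).commutes a).symm)

omit [IsDomain A] in
include p in
theorem isLocalization_integralClosure [IsFractionRing A K] :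
    IsLocalization (Algebra.algebraMapSubmonoid (integralClosure A K) p.primeCompl)
      (integralClosure O K) := by
  haveI : IsLocalization (Algebra.algebraMapSubmonoid K p.primeCompl) K := by
    apply IsLocalization.of_le_isUnit
    rintro _ ⟨t, ht, rfl⟩
    have ht0 : t ≠ 0 := fun h => ht (h ▸ p.zero_mem)
    exact (IsUnit.mk0 _ (fun h => ht0 ((IsFractionRing.injective A K) (by rw [h, map_zero]))))
  exact IsLocalization.integralClosure (R := A) (S := K) (Rf := O) (Sf := K) p.primeCompl

variable [IsFractionRing A K]

/-- the contraction of a maximal ideal of `C₁` to `A` is `p`. -/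
theorem comap_maximal (M : Ideal (integralClosure O K)) [M.IsMaximal] :
    M.comap (algebraMap A (integralClosure O K)) = p := by
  haveI : IsLocalRing O := IsLocalization.AtPrime.isLocalRing O p
  have h1 : (M.comap (algebraMap O (integralClosure O K))).IsMaximal :=
    Ideal.isMaximal_comap_of_isIntegral_of_isMaximal M
  have h2 := IsLocalRing.eq_maximalIdeal h1
  have h3 : M.comap (algebraMap A (integralClosure O K)) =
      (M.comap (algebraMap O (integralClosure O K))).comap (algebraMap A O) := by
    rw [Ideal.comap_comap, ← IsScalarTower.algebraMap_eq]
  rw [h3, h2]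
  exact IsLocalization.AtPrime.under_maximalIdeal O p

/-- the map `MaxSpec C₁ → {q ∈ Spec B₁ | q ∩ A = p}`. -/
noncomputable def contract (M : MaximalSpectrum (integralClosure O K)) :
    {q : PrimeSpectrum (integralClosure A K) //
      q.asIdeal.comap (algebraMap A (integralClosure A K)) = p} :=
  ⟨⟨M.asIdeal.comap (algebraMap (integralClosure A K) (integralClosure O K)),
    haveI := M.isMaximal.isPrime; Ideal.comap_isPrime _ _⟩, by
    haveI := M.isMaximal
    show (M.asIdeal.comap (algebraMap (integralClosure A K) (integralClosure O K))).comap
      (algebraMap A (integralClosure A K)) = p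
    rw [Ideal.comap_comap, ← IsScalarTower.algebraMap_eq]
    exact comap_maximal A O K p M.asIdeal⟩

theorem contract_bijective : Function.Bijective (contract A O K p) := by
  have hloc := isLocalization_integralClosure A O K p
  constructor
  · intro M1 M2 h
    have h1 : M1.asIdeal.comap (algebraMap (integralClosure A K) (integralClosure O K)) =
        M2.asIdeal.comap (algebraMap (integralClosure A K) (integralClosure O K)) :=
      congrArg (fun z => z.1.asIdeal) h
    apply MaximalSpectrum.ext
    rw [← IsLocalization.map_under
      (Algebra.algebraMapSubmonoid (integralClosure A K) p.primeCompl) (integralClosure O K)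
      M1.asIdeal, ← IsLocalization.map_under
      (Algebra.algebraMapSubmonoid (integralClosure A K) p.primeCompl) (integralClosure O K)
      M2.asIdeal]
    exact congrArg _ h1
  · rintro ⟨q, hq⟩
    haveI : IsLocalRing O := IsLocalization.AtPrime.isLocalRing O p
    have hdisj : Disjoint
        ((Algebra.algebraMapSubmonoid (integralClosure A K) p.primeCompl :
          Submonoid (integralClosure A K)) : Set (integralClosure A K)) (q.asIdeal : Set _) := by
      rw [Set.disjoint_left]
      rintro _ ⟨t, ht, rfl⟩ hmem
      apply ht
      rw [← hq]
      exact hmem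
    let Q := q.asIdeal.map (algebraMap (integralClosure A K) (integralClosure O K))
    have hQp : Q.IsPrime := IsLocalization.isPrime_of_isPrime_disjoint
      (Algebra.algebraMapSubmonoid (integralClosure A K) p.primeCompl) (integralClosure O K)
      q.asIdeal q.2 hdisj
    have hQc : Q.comap (algebraMap (integralClosure A K) (integralClosure O K)) = q.asIdeal :=
      IsLocalization.under_map_of_isPrime_disjoint
        (Algebra.algebraMapSubmonoid (integralClosure A K) p.primeCompl) (integralClosure O K)
        q.2 hdisj
    -- `Q ∩ O` is the maximal ideal
    have hQO : Q.comap (algebraMap O (integralClosure O K)) = IsLocalRing.maximalIdeal O := by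
      have h1 : (Q.comap (algebraMap O (integralClosure O K))).comap (algebraMap A O) = p := by
        rw [Ideal.comap_comap, ← IsScalarTower.algebraMap_eq,
          IsScalarTower.algebraMap_eq A (integralClosure A K) (integralClosure O K),
          ← Ideal.comap_comap, hQc, hq]
      rw [← IsLocalization.map_under p.primeCompl O
        (Q.comap (algebraMap O (integralClosure O K)))]
      show ((Q.comap (algebraMap O (integralClosure O K))).comap (algebraMap A O)).map
        (algebraMap A O) = _
      rw [h1]
      exact IsLocalization.AtPrime.map_eq_maximalIdeal p O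
    have hQmax : Q.IsMaximal := by
      haveI := hQp
      apply Ideal.isMaximal_of_isIntegral_of_isMaximal_comap (R := O) Q
      rw [hQO]
      infer_instance
    refine ⟨⟨Q, hQmax⟩, ?_⟩
    apply Subtype.ext
    apply PrimeSpectrum.ext
    exact hQc

omit [IsFractionRing A K] in
theorem isMaximal_of_comap_eq (Q : Ideal (integralClosure O K)) [Q.IsPrime]
    (h : Q.comap (algebraMap A (integralClosure O K)) = p) : Q.IsMaximal := by
  haveI : IsLocalRing O := IsLocalization.AtPrime.isLocalRing O p
  have hQO : Q.comap (algebraMap O (integralClosure O K)) = IsLocalRing.maximalIdeal O := by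
    have h1 : (Q.comap (algebraMap O (integralClosure O K))).comap (algebraMap A O) = p := by
      rw [Ideal.comap_comap, ← IsScalarTower.algebraMap_eq, h]
    rw [← IsLocalization.map_under p.primeCompl O
      (Q.comap (algebraMap O (integralClosure O K)))]
    show ((Q.comap (algebraMap O (integralClosure O K))).comap (algebraMap A O)).map
      (algebraMap A O) = _
    rw [h1]
    exact IsLocalization.AtPrime.map_eq_maximalIdeal p O
  apply Ideal.isMaximal_of_isIntegral_of_isMaximal_comap (R := O) Q
  rw [hQO]
  infer_instance

theorem exists_extension {F : Type*} [Field F] (ψ : integralClosure A K →+* F)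
    (hψ : (RingHom.ker ψ).comap (algebraMap A (integralClosure A K)) = p)
    (hgen : ∀ r : F, ∃ c s, ψ s ≠ 0 ∧ r = ψ c / ψ s) :
    ∃ θ : integralClosure O K →+* F,
      θ.comp (algebraMap (integralClosure A K) (integralClosure O K)) = ψ ∧
      Function.Surjective θ ∧ (RingHom.ker θ).IsMaximal ∧
      (RingHom.ker θ).comap (algebraMap (integralClosure A K) (integralClosure O K)) =
        RingHom.ker ψ := by
  have hloc := isLocalization_integralClosure A O K p
  have hunits : ∀ y : Algebra.algebraMapSubmonoid (integralClosure A K) p.primeCompl,
      IsUnit (ψ y) := by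
    rintro ⟨_, t, ht, rfl⟩
    apply IsUnit.mk0
    intro h0
    apply ht
    rw [← hψ]
    exact h0
  let θ : integralClosure O K →+* F :=
    IsLocalization.lift (M := Algebra.algebraMapSubmonoid (integralClosure A K) p.primeCompl)
      hunits
  have hcomp : θ.comp (algebraMap (integralClosure A K) (integralClosure O K)) = ψ :=
    IsLocalization.lift_comp _
  have hker : (RingHom.ker θ).comap (algebraMap (integralClosure A K) (integralClosure O K)) =
      RingHom.ker ψ := by
    rw [RingHom.comap_ker, hcomp]
  haveI : (RingHom.ker θ).IsPrime := RingHom.ker_isPrime θ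
  have hmax : (RingHom.ker θ).IsMaximal := by
    apply isMaximal_of_comap_eq A O K p
    rw [IsScalarTower.algebraMap_eq A (integralClosure A K) (integralClosure O K),
      ← Ideal.comap_comap, hker, hψ]
  refine ⟨θ, hcomp, ?_, hmax, hker⟩
  apply surjective_of_eval_max θ _ hmax
  intro r
  obtain ⟨c, s, hs, hr⟩ := hgen r
  refine ⟨algebraMap _ _ c, algebraMap _ _ s, ?_, ?_⟩
  · rw [← RingHom.comp_apply, hcomp]; exact hs
  · rw [← RingHom.comp_apply, ← RingHom.comp_apply, hcomp]; exact hr

end S

end Groth.Agent.Lib.helper26.BrFib
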