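import Mathlib
import Groth.Prelude.Def_Brnch

set_option autoImplicit false
universe u

namespace Groth.Agent.Lib.helper26.BrnchLib

open CAlg2 Brnch

variable (A : Type u) [CommRing A] [IsLocalRing A]

instance (m' : MaximalSpectrum (normRed A)) : m'.asIdeal.IsMaximal := m'.isMaximal

theorem ker_toResidue (m' : MaximalSpectrum (normRed A)) :
    RingHom.ker (toResidue A m') = IsLocalRing.maximalIdeal A := by
  have h1 : (m'.asIdeal.comap (algebraMap (red A) (normRed A))).IsMaximal :=
    Ideal.isMaximal_comap_of_isIntegral_of_isMaximal m'.asIdeal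
  have h2 : ((m'.asIdeal.comap (algebraMap (red A) (normRed A))).comap
      (Ideal.Quotient.mk (nilradical A))).IsMaximal :=
    Ideal.comap_isMaximal_of_surjective _ Ideal.Quotient.mk_surjective
  have h3 := IsLocalRing.eq_maximalIdeal h2
  rw [← h3]
  ext a
  simp only [RingHom.mem_ker, toResidue, RingHom.coe_comp, Function.comp_apply,
    Ideal.Quotient.eq_zero_iff_mem, Ideal.mem_comap]

/-- the structure map from the residue field of `A` to the residue field of `m'`. -/
noncomputable def resAlg (m' : MaximalSpectrum (normRed A)) :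
    IsLocalRing.ResidueField A →+* normRed A ⧸ m'.asIdeal :=
  Ideal.Quotient.lift (IsLocalRing.maximalIdeal A) (toResidue A m') (fun a ha => by
    rw [← ker_toResidue A m'] at ha
    exact ha)

theorem resAlg_residue (m' : MaximalSpectrum (normRed A)) (a : A) :
    resAlg A m' (IsLocalRing.residue A a) = toResidue A m' a := rfl

theorem resAlg_comp (m' : MaximalSpectrum (normRed A)) :
    (resAlg A m').comp (IsLocalRing.residue A) = toResidue A m' := rfl

noncomputable instance (m' : MaximalSpectrum (normRed A)) : Field (normRed A ⧸ m'.asIdeal) :=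
  Ideal.Quotient.field _

theorem comp_iff (m' : MaximalSpectrum (normRed A))
    (σ : normRed A ⧸ m'.asIdeal →+* AlgebraicClosure (IsLocalRing.ResidueField A)) :
    σ.comp (toResidue A m') = toClosure A ↔
      σ.comp (resAlg A m') = algebraMap (IsLocalRing.ResidueField A)
        (AlgebraicClosure (IsLocalRing.ResidueField A)) := by
  have h1 : σ.comp (toResidue A m') = (σ.comp (resAlg A m')).comp (IsLocalRing.residue A) := by
    rw [RingHom.comp_assoc, resAlg_comp]
  have h2 : toClosure A = (algebraMap (IsLocalRing.ResidueField A)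
        (AlgebraicClosure (IsLocalRing.ResidueField A))).comp (IsLocalRing.residue A) := rfl
  rw [h1, h2]
  exact RingHom.cancel_right (IsLocalRing.residue_surjective)

/-- `Emb A m'` as ring maps over the residue field. -/
noncomputable def embEquiv (m' : MaximalSpectrum (normRed A)) :
    Emb A m' ≃ {σ : normRed A ⧸ m'.asIdeal →+* AlgebraicClosure (IsLocalRing.ResidueField A) //
      σ.comp (resAlg A m') = algebraMap (IsLocalRing.ResidueField A)
        (AlgebraicClosure (IsLocalRing.ResidueField A))} :=
  (Equiv.refl _ : Emb A m' ≃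
    {σ : normRed A ⧸ m'.asIdeal →+* AlgebraicClosure (IsLocalRing.ResidueField A) //
      σ.comp (toResidue A m') = toClosure A}).trans
    (Equiv.subtypeEquivRight (fun σ => comp_iff A m' σ))

/-- ring maps over `F` are algebra maps. -/
def ringHomSubtypeEquivAlgHom (F E K : Type*) [Field F] [Field E] [Field K] [Algebra F E]
    [Algebra F K] :
    {σ : E →+* K // σ.comp (algebraMap F E) = algebraMap F K} ≃ (E →ₐ[F] K) where
  toFun σ := { σ.1 with commutes' := fun r => RingHom.congr_fun σ.2 r }
  invFun f := ⟨f.toRingHom, f.comp_algebraMap⟩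
  left_inv σ := rfl
  right_inv f := rfl

/-- `Emb A m'` as algebra maps for the algebra structure `resAlg`. -/
noncomputable def embEquivAlgHom (m' : MaximalSpectrum (normRed A)) :
    letI := (resAlg A m').toAlgebra
    Emb A m' ≃ ((normRed A ⧸ m'.asIdeal) →ₐ[IsLocalRing.ResidueField A]
      AlgebraicClosure (IsLocalRing.ResidueField A)) :=
  letI := (resAlg A m').toAlgebra
  (embEquiv A m').trans (ringHomSubtypeEquivAlgHom _ _ _)

theorem card_algHom_le_finrank (F E K : Type*) [Field F] [Field E] [Field K] [Algebra F E]
    [Algebra F K] [IsAlgClosed K] [FiniteDimensional F E] :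
    ENat.card (E →ₐ[F] K) ≤ (Module.finrank F E : ℕ∞) := by
  have h1 := Field.finSepDegree_eq_of_isAlgClosed F E K
  have h2 := Field.finSepDegree_le_finrank F E
  have : Finite (E →ₐ[F] K) := Fintype.finite <| minpoly.AlgHom.fintype _ _ _
  rw [ENat.card_eq_coe_natCard, ← h1]
  exact_mod_cast h2

theorem card_emb_le_finrank (m' : MaximalSpectrum (normRed A))
    (hfin : (resAlg A m').Finite) :
    letI := (resAlg A m').toAlgebra
    ENat.card (Emb A m') ≤
      (Module.finrank (IsLocalRing.ResidueField A) (normRed A ⧸ m'.asIdeal) : ℕ∞) := by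
  letI := (resAlg A m').toAlgebra
  haveI : FiniteDimensional (IsLocalRing.ResidueField A) (normRed A ⧸ m'.asIdeal) := hfin
  rw [ENat.card_congr (embEquivAlgHom A m')]
  exact card_algHom_le_finrank _ _ _

end Groth.Agent.Lib.helper26.BrnchLib
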