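import Mathlib

set_option autoImplicit false
universe u

namespace Groth.Agent.Lib.helper26.BrnchLib

section semilocal
variable (A D : Type*) [CommRing A] [IsLocalRing A] [CommRing D] [Algebra A D]
  [Algebra.IsIntegral A D]

/-- maximal ideals of an integral extension of a local ring lie over the maximal ideal. -/
theorem algebraMap_mem_of_mem_maximalIdeal (n : Ideal D) [n.IsMaximal] {a : A}
    (ha : a ∈ IsLocalRing.maximalIdeal A) : algebraMap A D a ∈ n := by
  have h1 : (n.comap (algebraMap A D)).IsMaximal :=
    Ideal.isMaximal_comap_of_isIntegral_of_isMaximal n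
  rw [← IsLocalRing.eq_maximalIdeal h1] at ha
  exact ha

theorem sum_length_le [Fintype (MaximalSpectrum D)] :
    ∑ n : MaximalSpectrum D, Module.length A (D ⧸ n.asIdeal) ≤
      1 + Module.length A (D ⧸ LinearMap.range (Algebra.linearMap A D)) := by
  classical
  let P := Π n : MaximalSpectrum D, D ⧸ n.asIdeal
  let π : D →ₗ[A] P := LinearMap.pi (fun n => (Ideal.Quotient.mkₐ A n.asIdeal).toLinearMap)
  have hπ : Function.Surjective π := by
    intro y
    choose x hx using fun n => Ideal.Quotient.mk_surjective (y n)
    have hcop : Pairwise (Function.onFun IsCoprime (fun n : MaximalSpectrum D => n.asIdeal)) := by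
      intro n1 n2 hne
      haveI := n1.isMaximal
      haveI := n2.isMaximal
      exact Ideal.isCoprime_of_isMaximal (fun h => hne (MaximalSpectrum.ext h))
    obtain ⟨r, hr⟩ := Ideal.exists_forall_sub_mem_ideal hcop x
    refine ⟨r, funext fun n => ?_⟩
    show Ideal.Quotient.mk n.asIdeal r = y n
    rw [← hx n]
    exact Ideal.Quotient.eq.2 (hr n)
  rw [← Module.length_pi_of_fintype A (fun n : MaximalSpectrum D => D ⧸ n.asIdeal)]
  -- the cyclic submodule generated by `π 1`
  let S : Submodule A P := Submodule.span A {π 1}
  have hS : Module.length A S ≤ 1 := by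
    let g : (A ⧸ IsLocalRing.maximalIdeal A) →ₗ[A] S :=
      Submodule.liftQ _ (LinearMap.toSpanSingleton A S ⟨π 1, Submodule.mem_span_singleton_self _⟩)
        (by
          intro a ha
          rw [LinearMap.mem_ker, LinearMap.toSpanSingleton_apply]
          apply Subtype.ext
          show a • π 1 = 0
          rw [← map_smul]
          funext n
          show Ideal.Quotient.mk n.asIdeal (a • (1 : D)) = 0
          rw [Ideal.Quotient.eq_zero_iff_mem, Algebra.smul_def, mul_one]
          haveI := n.isMaximal
          exact algebraMap_mem_of_mem_maximalIdeal A D n.asIdeal ha)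
    have hg : Function.Surjective g := by
      rintro ⟨s, hs⟩
      obtain ⟨a, rfl⟩ := Submodule.mem_span_singleton.1 hs
      exact ⟨Submodule.Quotient.mk a, Subtype.ext rfl⟩
    have h1 := Module.length_le_of_surjective g hg
    haveI : IsSimpleModule A (A ⧸ IsLocalRing.maximalIdeal A) :=
      isSimpleModule_iff_isCoatom.2 (Ideal.isMaximal_def.1 inferInstance)
    have h2 : Module.length A (A ⧸ IsLocalRing.maximalIdeal A) = 1 := Module.length_eq_one _ _
    rw [h2] at h1
    exact h1
  have hQ : Module.length A (P ⧸ S) ≤
      Module.length A (D ⧸ LinearMap.range (Algebra.linearMap A D)) := by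
    let g : (D ⧸ LinearMap.range (Algebra.linearMap A D)) →ₗ[A] (P ⧸ S) :=
      Submodule.liftQ _ (S.mkQ.comp π) (by
        rintro _ ⟨a, rfl⟩
        rw [LinearMap.mem_ker, LinearMap.comp_apply, Submodule.mkQ_apply,
          Submodule.Quotient.mk_eq_zero]
        have : (Algebra.linearMap A D) a = a • (1 : D) := by
          rw [Algebra.linearMap_apply, Algebra.smul_def, mul_one]
        rw [this, map_smul]
        exact S.smul_mem a (Submodule.mem_span_singleton_self _))
    have hg : Function.Surjective g := by
      intro y
      obtain ⟨p, rfl⟩ := Submodule.mkQ_surjective S y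
      obtain ⟨d, rfl⟩ := hπ p
      exact ⟨Submodule.Quotient.mk d, rfl⟩
    exact Module.length_le_of_surjective g hg
  have hadd : Module.length A P = Module.length A S + Module.length A (P ⧸ S) :=
    Module.length_eq_add_of_exact S.subtype S.mkQ (Submodule.subtype_injective _)
      (Submodule.mkQ_surjective _) (LinearMap.exact_subtype_mkQ _)
  rw [hadd]
  exact add_le_add hS hQ

end semilocal

end Groth.Agent.Lib.helper26.BrnchLib

namespace Groth.Agent.Lib.helper26.BrnchLib

theorem enat_card_sigma_fintype {ι : Type*} [Fintype ι] (α : ι → Type*) :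
    ENat.card (Σ i, α i) = ∑ i, ENat.card (α i) := by
  by_cases h : ∀ i, Finite (α i)
  · haveI := h
    rw [ENat.card_eq_coe_natCard, Nat.card_sigma, Nat.cast_sum]
    exact Finset.sum_congr rfl (fun i _ => (ENat.card_eq_coe_natCard _).symm)
  · push Not at h
    obtain ⟨i₀, hi₀⟩ := h
    have h1 : Infinite (Σ i, α i) :=
      Infinite.of_injective (fun a : α i₀ => (⟨i₀, a⟩ : Σ i, α i))
        (fun a b hab => by simpa using hab)
    rw [ENat.card_eq_top_of_infinite]
    symm
    rw [eq_top_iff]
    calc (⊤ : ℕ∞) = ENat.card (α i₀) := (ENat.card_eq_top_of_infinite).symm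
      _ ≤ ∑ i, ENat.card (α i) :=
        Finset.single_le_sum (f := fun i => ENat.card (α i)) (fun _ _ => zero_le)
          (Finset.mem_univ i₀)

end Groth.Agent.Lib.helper26.BrnchLib
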