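import Mathlib
import Groth.Prelude.Def_Brnch
import Groth.Prelude.Def_Curv2

set_option autoImplicit false
universe u
open CAlg2

namespace Groth.Agent.Lib.helper26.BrnchLib

section reduced
variable (A : Type u) [CommRing A] [IsReduced A]

theorem mk_nilradical_bijective : Function.Bijective (Ideal.Quotient.mk (nilradical A)) := by
  refine ⟨?_, Ideal.Quotient.mk_surjective⟩
  rw [injective_iff_map_eq_zero]
  intro a ha
  rw [Ideal.Quotient.eq_zero_iff_mem, nilradical_eq_zero, Ideal.zero_eq_bot, Ideal.mem_bot] at ha
  exact ha

/-- `A ≃ A_red` for reduced `A`. -/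
noncomputable def redEquiv : A ≃+* red A := RingEquiv.ofBijective _ (mk_nilradical_bijective A)

theorem redEquiv_apply (a : A) : redEquiv A a = algebraMap A (red A) a := rfl

instance isFractionRing_red : IsFractionRing A (FractionRing (red A)) := by
  refine ⟨?_, ?_, ?_⟩
  · rintro ⟨a, ha⟩
    have h1 : redEquiv A a ∈ nonZeroDivisors (red A) := by
      rw [← MulEquivClass.map_nonZeroDivisors (redEquiv A)]
      exact Submonoid.mem_map_of_mem _ ha
    have h2 := IsLocalization.map_units (FractionRing (red A)) ⟨redEquiv A a, h1⟩
    rw [IsScalarTower.algebraMap_apply A (red A) (FractionRing (red A))]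
    exact h2
  · intro z
    obtain ⟨⟨r, s⟩, hrs⟩ := IsLocalization.surj (nonZeroDivisors (red A)) z
    obtain ⟨a, rfl⟩ := (redEquiv A).surjective r
    have hs : (redEquiv A).symm s.1 ∈ nonZeroDivisors A := by
      rw [← MulEquivClass.map_nonZeroDivisors (redEquiv A).symm]
      exact Submonoid.mem_map_of_mem _ s.2
    refine ⟨⟨a, ⟨(redEquiv A).symm s.1, hs⟩⟩, ?_⟩
    simp only [IsScalarTower.algebraMap_apply A (red A) (FractionRing (red A)), ← redEquiv_apply,
      RingEquiv.apply_symm_apply]
    exact hrs
  · intro a b hab
    refine ⟨1, ?_⟩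
    rw [IsScalarTower.algebraMap_apply A (red A) (FractionRing (red A)),
      IsScalarTower.algebraMap_apply A (red A) (FractionRing (red A))] at hab
    have h1 := IsFractionRing.injective (red A) (FractionRing (red A)) hab
    have h2 := (mk_nilradical_bijective A).1 h1
    rw [h2]

omit [IsReduced A] in
theorem isIntegral_red_iff (x : FractionRing (red A)) :
    IsIntegral A x ↔ IsIntegral (red A) x := by
  constructor
  · intro h
    exact h.tower_top
  · intro h
    haveI : Algebra.IsIntegral A (red A) :=
      Algebra.isIntegral_of_surjective Ideal.Quotient.mk_surjective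
    exact isIntegral_trans x h

/-- the comparison `integralClosure A (Frac A_red) ≃ normRed A`. -/
noncomputable def icRedEquiv :
    integralClosure A (FractionRing (red A)) ≃ₐ[A] normRed A :=
  AlgEquiv.ofBijective
    { toFun := fun x => ⟨x.1, (isIntegral_red_iff A x.1).1 x.2⟩
      map_one' := rfl
      map_mul' := fun _ _ => rfl
      map_zero' := rfl
      map_add' := fun _ _ => rfl
      commutes' := fun _ => rfl }
    ⟨fun x y h => Subtype.ext (congrArg (fun z : normRed A => (z : FractionRing (red A))) h),
      fun y => ⟨⟨y.1, (isIntegral_red_iff A y.1).2 y.2⟩, rfl⟩⟩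

/-- for reduced `A`: the integral closure of `A` in its total ring of fractions is `normRed A`. -/
noncomputable def normEquiv : integralClosure A (FractionRing A) ≃ₐ[A] normRed A :=
  (AlgEquiv.mapIntegralClosure (FractionRing.algEquiv A (FractionRing (red A)))).trans
    (icRedEquiv A)

theorem deltaInv_eq_length_normRed :
    Curv2.deltaInv A =
      Module.length A (normRed A ⧸ LinearMap.range (Algebra.linearMap A (normRed A))) := by
  unfold Curv2.deltaInv
  refine LinearEquiv.length_eq (Submodule.Quotient.equiv _ _ (normEquiv A).toLinearEquiv ?_)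
  ext y
  simp only [Submodule.mem_map, LinearMap.mem_range, Algebra.linearMap_apply]
  constructor
  · rintro ⟨_, ⟨a, rfl⟩, rfl⟩
    exact ⟨a, ((normEquiv A).commutes a).symm⟩
  · rintro ⟨a, rfl⟩
    exact ⟨_, ⟨a, rfl⟩, (normEquiv A).commutes a⟩

end reduced

end Groth.Agent.Lib.helper26.BrnchLib
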