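import Mathlib

set_option autoImplicit false

namespace Groth.Agent.Lib.helper26.KrullAkizuki

section rl
variable {R : Type*} [CommRing R] {M : Type*} [AddCommGroup M] [Module R M]

/-- relative length `ℓ(X/Y)` for submodules of a common module (`Y ≤ X` intended). -/
noncomputable def rl (X Y : Submodule R M) : ℕ∞ :=
  Module.length R (↥X ⧸ Y.comap X.subtype)

lemma rl_chain {P Q T : Submodule R M} (h1 : P ≤ Q) (h2 : Q ≤ T) :
    rl T P = rl Q P + rl T Q := by
  unfold rl
  let f : (↥Q ⧸ P.comap Q.subtype) →ₗ[R] (↥T ⧸ P.comap T.subtype) :=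
    Submodule.mapQ _ _ (Submodule.inclusion h2) (by
      intro x hx
      simpa using hx)
  let g : (↥T ⧸ P.comap T.subtype) →ₗ[R] (↥T ⧸ Q.comap T.subtype) :=
    Submodule.mapQ _ _ LinearMap.id (by
      intro x hx
      exact h1 hx)
  have hf : Function.Injective f := by
    rw [← LinearMap.ker_eq_bot, LinearMap.ker_eq_bot']
    intro y hy
    obtain ⟨x, rfl⟩ := Submodule.mkQ_surjective _ y
    simp only [f, Submodule.mkQ_apply, Submodule.mapQ_apply] at hy
    rw [Submodule.Quotient.mk_eq_zero] at hy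
    rw [Submodule.mkQ_apply, Submodule.Quotient.mk_eq_zero]
    simpa using hy
  have hg : Function.Surjective g := by
    intro y
    obtain ⟨x, rfl⟩ := Submodule.mkQ_surjective _ y
    exact ⟨Submodule.Quotient.mk x, by simp [g]⟩
  have hfg : Function.Exact f g := by
    intro y
    obtain ⟨x, rfl⟩ := Submodule.mkQ_surjective _ y
    constructor
    · intro hy
      simp only [g, Submodule.mkQ_apply, Submodule.mapQ_apply, LinearMap.id_coe, id_eq] at hy
      rw [Submodule.Quotient.mk_eq_zero] at hy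
      have hxQ : (x : M) ∈ Q := by simpa using hy
      refine ⟨Submodule.Quotient.mk ⟨x, hxQ⟩, ?_⟩
      simp only [f, Submodule.mapQ_apply, Submodule.mkQ_apply]
      rfl
    · rintro ⟨z, hz⟩
      obtain ⟨w, rfl⟩ := Submodule.mkQ_surjective _ z
      rw [← hz]
      simp only [f, g, Submodule.mkQ_apply, Submodule.mapQ_apply, LinearMap.id_coe, id_eq]
      rw [Submodule.Quotient.mk_eq_zero]
      simp
  exact Module.length_eq_add_of_exact f g hf hg hfg


/-- `a • X` as the image of multiplication by `a`. -/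
noncomputable def sm (a : R) (X : Submodule R M) : Submodule R M :=
  X.map (LinearMap.lsmul R M a)

lemma mem_sm {a : R} {X : Submodule R M} {y : M} : y ∈ sm a X ↔ ∃ x ∈ X, a • x = y := by
  simp [sm, Submodule.mem_map]

lemma sm_mono (a : R) {X Y : Submodule R M} (h : X ≤ Y) : sm a X ≤ sm a Y :=
  Submodule.map_mono h

lemma sm_le (a : R) (X : Submodule R M) : sm a X ≤ X := by
  intro y hy
  obtain ⟨x, hx, rfl⟩ := mem_sm.1 hy
  exact X.smul_mem a hx

lemma sm_sm (a b : R) (X : Submodule R M) : sm a (sm b X) = sm b (sm a X) := by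
  ext y
  simp only [mem_sm]
  constructor
  · rintro ⟨x, ⟨z, hz, rfl⟩, rfl⟩
    exact ⟨a • z, ⟨z, hz, rfl⟩, by rw [smul_comm]⟩
  · rintro ⟨x, ⟨z, hz, rfl⟩, rfl⟩
    exact ⟨b • z, ⟨z, hz, rfl⟩, by rw [smul_comm]⟩

lemma rl_sm {a : R} (ha : Function.Injective (fun x : M => a • x)) (X Y : Submodule R M) :
    rl (sm a X) (sm a Y) = rl X Y := by
  unfold rl
  have hinj : Function.Injective (LinearMap.lsmul R M a) := ha
  let e : ↥X ≃ₗ[R] ↥(sm a X) := Submodule.equivMapOfInjective _ hinj X
  symm
  refine LinearEquiv.length_eq (Submodule.Quotient.equiv _ _ e ?_)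
  ext ⟨y, hy⟩
  simp only [Submodule.mem_map, Submodule.mem_comap, Submodule.subtype_apply, Subtype.exists]
  constructor
  · rintro ⟨x, hx, hxY, hxe⟩
    have : a • x = y := by
      have := congrArg Subtype.val hxe
      simp only [e, Submodule.coe_equivMapOfInjective_apply, LinearMap.lsmul_apply] at this
      exact this
    exact mem_sm.2 ⟨x, hxY, this⟩
  · intro hyY
    obtain ⟨x, hxY, hxy⟩ := mem_sm.1 hyY
    obtain ⟨x', hx'X, hx'y⟩ := mem_sm.1 hy
    have hxx' : x = x' := ha (by simp only; rw [hxy, hx'y])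
    refine ⟨x, hxx' ▸ hx'X, hxY, ?_⟩
    apply Subtype.ext
    simp only [e, Submodule.coe_equivMapOfInjective_apply, LinearMap.lsmul_apply]
    exact hxy

lemma rl_le_of_le {P Q T : Submodule R M} (h1 : P ≤ Q) (h2 : Q ≤ T) : rl T Q ≤ rl T P := by
  rw [rl_chain h1 h2]
  exact le_add_self

/-- (L1) -/
lemma rl_sm_eq {a : R} (ha : Function.Injective (fun x : M => a • x)) {N F : Submodule R M}
    (hNF : N ≤ F) (hfin : rl F N ≠ ⊤) : rl N (sm a N) = rl F (sm a F) := by
  have c1 : rl F (sm a N) = rl N (sm a N) + rl F N := rl_chain (sm_le a N) hNF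
  have c2 : rl F (sm a N) = rl (sm a F) (sm a N) + rl F (sm a F) :=
    rl_chain (sm_mono a hNF) (sm_le a F)
  rw [rl_sm ha] at c2
  rw [c1, add_comm] at c2
  exact (ENat.add_right_injective_of_ne_top hfin) c2

end rl


section fin
variable {R : Type*} [CommRing R]

/-- `R ⧸ (t)` has finite length over `R` for `t ≠ 0` in a one-dimensional Noetherian domain. -/
lemma length_quot_span_ne_top [IsDomain R] [IsNoetherianRing R] [Ring.KrullDimLE 1 R] {t : R}
    (ht : t ≠ 0) : Module.length R (R ⧸ Ideal.span {t}) ≠ ⊤ := by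
  have h0 : Ring.KrullDimLE 0 (R ⧸ Ideal.span {t}) := by
    rw [Ring.krullDimLE_zero_iff]
    intro J hJ
    have hp : (J.comap (Ideal.Quotient.mk (Ideal.span {t}))).IsPrime := Ideal.comap_isPrime _ _
    have hne : J.comap (Ideal.Quotient.mk (Ideal.span {t})) ≠ ⊥ := by
      intro h
      have : t ∈ J.comap (Ideal.Quotient.mk (Ideal.span {t})) := by
        rw [Ideal.mem_comap, Ideal.Quotient.eq_zero_iff_mem.2 (Ideal.mem_span_singleton_self t)]
        exact J.zero_mem
      rw [h] at this
      exact ht this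
    have hmax := hp.isMaximal_of_ne_bot hne
    have hJ' : J = (J.comap (Ideal.Quotient.mk _)).map (Ideal.Quotient.mk _) :=
      (Ideal.map_comap_of_surjective _ Ideal.Quotient.mk_surjective J).symm
    rcases Ideal.map_eq_top_or_isMaximal_of_surjective (Ideal.Quotient.mk (Ideal.span {t}))
      Ideal.Quotient.mk_surjective hmax with h | h
    · rw [← hJ'] at h
      exact absurd h hJ.ne_top
    · rwa [← hJ'] at h
  haveI : IsArtinianRing (R ⧸ Ideal.span {t}) := isArtinianRing_iff_krullDimLE_zero.2 h0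
  rw [Module.length_eq_of_surjective (S := R) (R := R ⧸ Ideal.span {t})
    Ideal.Quotient.mk_surjective]
  exact Module.length_ne_top

lemma length_ne_top_of_smul_eq_zero {Y : Type*} [AddCommGroup Y] [Module R Y] [Module.Finite R Y]
    {t : R} (hR : Module.length R (R ⧸ Ideal.span {t}) ≠ ⊤) (hY : ∀ y : Y, t • y = 0) :
    Module.length R Y ≠ ⊤ := by
  obtain ⟨n, s, hs⟩ := Module.Finite.exists_fin (R := R) (M := Y)
  let φ : Fin n → ((R ⧸ Ideal.span {t}) →ₗ[R] Y) := fun i =>
    Submodule.liftQ (Ideal.span {t}) (LinearMap.toSpanSingleton R Y (s i)) (by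
      rw [Ideal.span_le]
      intro x hx
      rw [Set.mem_singleton_iff] at hx
      rw [hx, SetLike.mem_coe, LinearMap.mem_ker, LinearMap.toSpanSingleton_apply]
      exact hY _)
  let g : (Fin n → (R ⧸ Ideal.span {t})) →ₗ[R] Y := ∑ i, (φ i).comp (LinearMap.proj i)
  have hg : Function.Surjective g := by
    intro y
    have hy : y ∈ Submodule.span R (Set.range s) := by rw [hs]; trivial
    obtain ⟨c, rfl⟩ := (Submodule.mem_span_range_iff_exists_fun R).1 hy
    refine ⟨fun i => Ideal.Quotient.mk _ (c i), ?_⟩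
    simp only [g, LinearMap.sum_apply, LinearMap.comp_apply, LinearMap.proj_apply]
    refine Finset.sum_congr rfl (fun i _ => ?_)
    simp only [φ]
    erw [Submodule.liftQ_apply]
    rw [LinearMap.toSpanSingleton_apply]
  have h1 := Module.length_le_of_surjective g hg
  rw [Module.length_pi_of_fintype] at h1
  intro htop
  rw [htop, top_le_iff] at h1
  have : ∑ _i : Fin n, Module.length R (R ⧸ Ideal.span {t}) ≠ ⊤ := by
    rw [Finset.sum_const, nsmul_eq_mul]
    exact WithTop.mul_ne_top (ENat.coe_ne_top _) hR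
  exact this h1

end fin


section L2
variable {R : Type*} [CommRing R] {Q : Type*} [AddCommGroup Q] [Module R Q]

lemma eq_of_length_eq {N N' : Submodule R Q} (h : N ≤ N') (hfin : Module.length R N' ≠ ⊤)
    (heq : Module.length R N = Module.length R N') : N = N' := by
  have h1 : Module.length R N' =
      Module.length R (N.comap N'.subtype) + Module.length R (↥N' ⧸ N.comap N'.subtype) :=
    Module.length_eq_add_of_exact (N.comap N'.subtype).subtype (N.comap N'.subtype).mkQ
      (Submodule.subtype_injective _) (Submodule.mkQ_surjective _)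
      (LinearMap.exact_subtype_mkQ _)
  rw [(Submodule.comapSubtypeEquivOfLe h).length_eq, heq] at h1
  have h2 : Module.length R (↥N' ⧸ N.comap N'.subtype) = 0 := by
    have : Module.length R N' + 0 = Module.length R N' +
        Module.length R (↥N' ⧸ N.comap N'.subtype) := by rw [add_zero]; exact h1
    exact ((ENat.add_right_injective_of_ne_top hfin) this).symm
  rw [Module.length_eq_zero_iff] at h2
  apply le_antisymm h
  intro x hx
  have : (Submodule.Quotient.mk ⟨x, hx⟩ : ↥N' ⧸ N.comap N'.subtype) = 0 := Subsingleton.elim _ _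
  rw [Submodule.Quotient.mk_eq_zero] at this
  simpa using this

lemma length_le_of_forall_fg {C : ℕ∞} (hC : C ≠ ⊤)
    (h : ∀ Q' : Submodule R Q, Q'.FG → Module.length R Q' ≤ C) : Module.length R Q ≤ C := by
  let S := {Q' : Submodule R Q // Q'.FG}
  haveI : Nonempty S := ⟨⟨⊥, Submodule.fg_bot⟩⟩
  let f : S → ℕ∞ := fun Q' => Module.length R Q'.1
  have hsup : ⨆ i, f i < ⊤ :=
    lt_of_le_of_lt (iSup_le (fun i => h i.1 i.2)) (lt_top_iff_ne_top.2 hC)
  obtain ⟨⟨Q₀, hQ₀⟩, hmax⟩ := ENat.exists_eq_iSup_of_lt_top hsup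
  have hle : ∀ Q' : Submodule R Q, Q'.FG → Module.length R Q' ≤ Module.length R Q₀ := by
    intro Q' hQ'
    have : f ⟨Q', hQ'⟩ ≤ ⨆ i, f i := le_iSup f ⟨Q', hQ'⟩
    rw [← hmax] at this
    exact this
  have htop : Q₀ = ⊤ := by
    rw [eq_top_iff]
    intro x _
    have hfg : (Q₀ ⊔ Submodule.span R {x}).FG := hQ₀.sup (Submodule.fg_span_singleton x)
    have h1 := hle _ hfg
    have h2 : Module.length R Q₀ ≤ Module.length R ↥(Q₀ ⊔ Submodule.span R {x}) :=
      Module.length_le_of_injective (Submodule.inclusion le_sup_left)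
        (Submodule.inclusion_injective _)
    have hfin : Module.length R ↥(Q₀ ⊔ Submodule.span R {x}) ≠ ⊤ :=
      ne_top_of_le_ne_top hC (h _ hfg)
    have := eq_of_length_eq (le_sup_left : Q₀ ≤ Q₀ ⊔ Submodule.span R {x}) hfin
      (le_antisymm h2 h1)
    rw [this]
    exact Submodule.mem_sup_right (Submodule.mem_span_singleton_self x)
  rw [← Module.length_top, ← htop]
  exact h Q₀ hQ₀

end L2


section core
variable {R : Type*} [CommRing R] [IsDomain R] [IsNoetherianRing R] [Ring.KrullDimLE 1 R]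
variable {M : Type*} [AddCommGroup M] [Module R M]

lemma rl_sm_ne_top (F : Submodule R M) (hF : F.FG) {t : R} (ht : t ≠ 0) :
    rl F (sm t F) ≠ ⊤ := by
  unfold rl
  haveI : Module.Finite R ↥F := Module.Finite.of_fg hF
  refine length_ne_top_of_smul_eq_zero (t := t) (length_quot_span_ne_top ht) ?_
  intro y
  obtain ⟨x, rfl⟩ := Submodule.mkQ_surjective _ y
  rw [← map_smul, Submodule.mkQ_apply, Submodule.Quotient.mk_eq_zero, Submodule.mem_comap]
  exact mem_sm.2 ⟨x, x.2, rfl⟩

omit [IsDomain R] [IsNoetherianRing R] [Ring.KrullDimLE 1 R] in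
lemma exists_sm_le [NoZeroDivisors R] (F : Submodule R M)
    (hFM : ∀ x : M, ∃ t : R, t ≠ 0 ∧ t • x ∈ F) (N : Submodule R M) (hN : N.FG) :
    ∃ t : R, t ≠ 0 ∧ sm t N ≤ F := by
  induction N, hN using Submodule.fg_induction with
  | singleton x =>
    obtain ⟨t, ht, htx⟩ := hFM x
    refine ⟨t, ht, ?_⟩
    intro y hy
    obtain ⟨z, hz, rfl⟩ := mem_sm.1 hy
    obtain ⟨c, rfl⟩ := Submodule.mem_span_singleton.1 hz
    rw [smul_comm]
    exact F.smul_mem c htx
  | sup N₁ N₂ _ _ h₁ h₂ =>
    obtain ⟨t₁, ht₁, h₁⟩ := h₁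
    obtain ⟨t₂, ht₂, h₂⟩ := h₂
    refine ⟨t₁ * t₂, mul_ne_zero ht₁ ht₂, ?_⟩
    intro y hy
    obtain ⟨z, hz, rfl⟩ := mem_sm.1 hy
    obtain ⟨z₁, hz₁, z₂, hz₂, rfl⟩ := Submodule.mem_sup.1 hz
    rw [smul_add]
    refine F.add_mem ?_ ?_
    · rw [mul_comm, mul_smul]
      exact F.smul_mem t₂ (h₁ (mem_sm.2 ⟨z₁, hz₁, rfl⟩))
    · rw [mul_smul]
      exact F.smul_mem t₁ (h₂ (mem_sm.2 ⟨z₂, hz₂, rfl⟩))

theorem length_quotient_ne_top (htf : ∀ t : R, t ≠ 0 → Function.Injective (fun x : M => t • x))
    (F : Submodule R M) (hF : F.FG) (hFM : ∀ x : M, ∃ t : R, t ≠ 0 ∧ t • x ∈ F)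
    {a : R} (ha : a ≠ 0) : Module.length R (M ⧸ sm a (⊤ : Submodule R M)) ≠ ⊤ := by
  have hC : rl F (sm a F) ≠ ⊤ := rl_sm_ne_top F hF ha
  -- Step A
  have stepA : ∀ N₁ : Submodule R M, N₁.FG → F ≤ N₁ → rl N₁ (sm a N₁) = rl F (sm a F) := by
    intro N₁ hN₁ hFN₁
    obtain ⟨t, ht, htN⟩ := exists_sm_le F hFM N₁ hN₁
    have hfin : rl F (sm t N₁) ≠ ⊤ :=
      ne_top_of_le_ne_top (rl_sm_ne_top F hF ht) (rl_le_of_le (sm_mono t hFN₁) htN)
    have h1 := rl_sm_eq (htf a ha) htN hfin
    rw [sm_sm a t N₁, rl_sm (htf t ht)] at h1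
    exact h1
  -- Step B
  have stepB : ∀ Q' : Submodule R (M ⧸ sm a (⊤ : Submodule R M)), Q'.FG →
      Module.length R Q' ≤ rl F (sm a F) := by
    intro Q' hQ'
    obtain ⟨N, hN, hNQ⟩ : ∃ N : Submodule R M, N.FG ∧
        N.map (sm a (⊤ : Submodule R M)).mkQ = Q' := by
      obtain ⟨s, rfl⟩ := hQ'
      classical
      choose lift hlift using fun y : M ⧸ sm a (⊤ : Submodule R M) =>
        Submodule.mkQ_surjective (sm a (⊤ : Submodule R M)) y
      refine ⟨Submodule.span R (s.image lift), Submodule.fg_span (Finset.finite_toSet _), ?_⟩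
      rw [Submodule.map_span, Finset.coe_image, ← Set.image_comp]
      congr 1
      ext y
      simp only [Set.mem_image, Function.comp_apply, hlift, Finset.mem_coe, exists_eq_right]
    set N₁ := N ⊔ F with hN₁
    have hN₁fg : N₁.FG := hN.sup hF
    have hQ'le : Q' ≤ N₁.map (sm a (⊤ : Submodule R M)).mkQ := by
      rw [← hNQ]
      exact Submodule.map_mono le_sup_left
    have h1 : Module.length R Q' ≤ Module.length R ↥(N₁.map (sm a (⊤ : Submodule R M)).mkQ) :=
      Module.length_le_of_injective (Submodule.inclusion hQ'le) (Submodule.inclusion_injective _)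
    have h2 : Module.length R ↥(N₁.map (sm a (⊤ : Submodule R M)).mkQ) ≤ rl N₁ (sm a N₁) := by
      unfold rl
      let ψ : ↥N₁ →ₗ[R] ↥(N₁.map (sm a (⊤ : Submodule R M)).mkQ) :=
        (sm a (⊤ : Submodule R M)).mkQ.submoduleMap N₁
      have hψ : Function.Surjective ψ := LinearMap.submoduleMap_surjective _ _
      have hker : (sm a N₁).comap N₁.subtype ≤ LinearMap.ker ψ := by
        intro x hx
        rw [LinearMap.mem_ker]
        apply Subtype.ext
        simp only [ψ, LinearMap.submoduleMap_coe_apply, Submodule.mkQ_apply,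
          ZeroMemClass.coe_zero]
        rw [Submodule.Quotient.mk_eq_zero]
        exact sm_mono a le_top hx
      refine Module.length_le_of_surjective (Submodule.liftQ _ ψ hker) ?_
      rw [← LinearMap.range_eq_top, Submodule.range_liftQ, LinearMap.range_eq_top]
      exact hψ
    rw [stepA N₁ hN₁fg le_sup_right] at h2
    exact h1.trans h2
  exact ne_top_of_le_ne_top hC (length_le_of_forall_fg hC stepB)

end core


section KA
variable {R : Type*} [CommRing R] [IsDomain R] [IsNoetherianRing R] [Ring.KrullDimLE 1 R]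
variable {K L : Type*} [Field K] [Field L] [Algebra R K] [IsFractionRing R K] [Algebra K L]
  [Algebra R L] [IsScalarTower R K L]

omit [IsNoetherianRing R] [Ring.KrullDimLE 1 R] in
/-- clearing denominators in a `K`-span. -/
lemma exists_smul_mem_span (S : Set L) {v : L} (hv : v ∈ Submodule.span K S) :
    ∃ t : R, t ≠ 0 ∧ t • v ∈ Submodule.span R S := by
  induction hv using Submodule.span_induction with
  | mem x hx => exact ⟨1, one_ne_zero, by rw [one_smul]; exact Submodule.subset_span hx⟩
  | zero => exact ⟨1, one_ne_zero, by rw [smul_zero]; exact Submodule.zero_mem _⟩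
  | add x y _ _ hx hy =>
    obtain ⟨t₁, ht₁, h₁⟩ := hx
    obtain ⟨t₂, ht₂, h₂⟩ := hy
    refine ⟨t₁ * t₂, mul_ne_zero ht₁ ht₂, ?_⟩
    rw [smul_add]
    refine Submodule.add_mem _ ?_ ?_
    · rw [mul_comm, mul_smul]; exact Submodule.smul_mem _ t₂ h₁
    · rw [mul_smul]; exact Submodule.smul_mem _ t₁ h₂
  | smul c x _ hx =>
    obtain ⟨t, ht, h⟩ := hx
    obtain ⟨r, d, hd, hc⟩ := IsFractionRing.div_surjective (A := R) c
    have hd0 : d ≠ 0 := nonZeroDivisors.ne_zero hd
    refine ⟨d * t, mul_ne_zero hd0 ht, ?_⟩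
    have : (d * t) • c • x = r • t • x := by
      have hdK : algebraMap R K d ≠ 0 := by
        rw [Ne, IsFractionRing.to_map_eq_zero_iff]; exact hd0
      rw [← hc]
      simp only [Algebra.smul_def, IsScalarTower.algebraMap_apply R K L, map_mul]
      rw [div_eq_mul_inv]
      simp only [map_mul, map_inv₀]
      have hdL : algebraMap K L (algebraMap R K d) ≠ 0 := by
        rw [Ne, map_eq_zero]; exact hdK
      field_simp
    rw [this]
    exact Submodule.smul_mem _ r h

variable (R K L) in
theorem krullAkizuki_length [FiniteDimensional K L] (A : Type*) [CommRing A] [Algebra R A]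
    [Algebra A L] [IsScalarTower R A L] (hA : Function.Injective (algebraMap A L))
    {a : R} (ha : a ≠ 0) : Module.length R (A ⧸ sm a (⊤ : Submodule R A)) ≠ ⊤ := by
  have hRL : Function.Injective (algebraMap R L) := by
    rw [IsScalarTower.algebraMap_eq R K L]
    exact (algebraMap K L).injective.comp (IsFractionRing.injective R K)
  have htf : ∀ t : R, t ≠ 0 → Function.Injective (fun x : A => t • x) := by
    intro t ht x y hxy
    apply hA
    have := congrArg (algebraMap A L) hxy
    simp only [Algebra.smul_def, map_mul, ← IsScalarTower.algebraMap_apply] at this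
    have ht' : algebraMap R L t ≠ 0 := by
      rw [Ne, ← map_zero (algebraMap R L)]
      exact fun h => ht (hRL h)
    exact mul_left_cancel₀ ht' this
  -- the finitely generated submodule F
  have hfg : (Submodule.span K (Set.range (algebraMap A L))).FG :=
    IsNoetherian.noetherian _
  obtain ⟨s', hs', hspan⟩ := (Submodule.fg_span_iff_fg_span_finset_subset _).1 hfg
  classical
  choose! pre hpre using fun (y : L) (hy : y ∈ Set.range (algebraMap A L)) => hy
  let F : Submodule R A := Submodule.span R (s'.image pre : Set A)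
  have hF : F.FG := Submodule.fg_span (Finset.finite_toSet _)
  have hFM : ∀ x : A, ∃ t : R, t ≠ 0 ∧ t • x ∈ F := by
    intro x
    have hx : algebraMap A L x ∈ Submodule.span K (s' : Set L) := by
      rw [← hspan]
      exact Submodule.subset_span ⟨x, rfl⟩
    obtain ⟨t, ht, htx⟩ := exists_smul_mem_span (R := R) (s' : Set L) hx
    refine ⟨t, ht, ?_⟩
    have himg : Submodule.span R (s' : Set L) ≤
        F.map (IsScalarTower.toAlgHom R A L).toLinearMap := by
      rw [Submodule.span_le]
      intro y hy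
      refine ⟨pre y, Submodule.subset_span ?_, ?_⟩
      · rw [Finset.coe_image]; exact ⟨y, hy, rfl⟩
      · exact hpre y (hs' hy)
    obtain ⟨z, hz, hzx⟩ := himg htx
    have : z = t • x := by
      apply hA
      rw [Algebra.smul_def, map_mul, ← IsScalarTower.algebraMap_apply, ← Algebra.smul_def]
      exact hzx
    rw [← this]
    exact hz
  exact length_quotient_ne_top htf F hF hFM ha


omit [IsDomain R] [IsNoetherianRing R] [Ring.KrullDimLE 1 R] in
lemma restrictScalars_span_eq_sm (A : Type*) [CommRing A] [Algebra R A] (a : R) :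
    (Ideal.span {algebraMap R A a} : Submodule A A).restrictScalars R =
      sm a (⊤ : Submodule R A) := by
  ext y
  rw [Submodule.restrictScalars_mem, Ideal.mem_span_singleton', mem_sm]
  constructor
  · rintro ⟨z, rfl⟩
    exact ⟨z, trivial, by rw [Algebra.smul_def, mul_comm]⟩
  · rintro ⟨z, _, rfl⟩
    exact ⟨z, by rw [Algebra.smul_def, mul_comm]⟩

variable (R K L) in
theorem krullAkizuki_quotient_noetherian [FiniteDimensional K L] (A : Type*) [CommRing A]
    [Algebra R A] [Algebra A L] [IsScalarTower R A L]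
    (hA : Function.Injective (algebraMap A L)) {a : R} (ha : a ≠ 0) :
    IsNoetherian R (A ⧸ (Ideal.span {algebraMap R A a} : Ideal A)) := by
  have h1 := krullAkizuki_length R K L A hA ha
  rw [Module.length_ne_top_iff, isFiniteLength_iff_isNoetherian_isArtinian] at h1
  haveI := h1.1
  let e : (A ⧸ sm a (⊤ : Submodule R A)) ≃ₗ[R] (A ⧸ (Ideal.span {algebraMap R A a} : Ideal A)) :=
    (Submodule.quotEquivOfEq _ _ (restrictScalars_span_eq_sm A a).symm).trans
      (Submodule.Quotient.restrictScalarsEquiv R (Ideal.span {algebraMap R A a} : Submodule A A))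
  exact isNoetherian_of_linearEquiv e

variable (R K L) in
theorem krullAkizuki [FiniteDimensional K L] (A : Type*) [CommRing A] [Algebra R A]
    [Algebra A L] [IsScalarTower R A L] (hA : Function.Injective (algebraMap A L)) :
    IsNoetherianRing A := by
  haveI : IsDomain A := hA.isDomain (algebraMap A L)
  rw [isNoetherianRing_iff_ideal_fg]
  intro J
  by_cases hJ : J = ⊥
  · rw [hJ]; exact Submodule.fg_bot
  obtain ⟨b, hbJ, hb0⟩ := Submodule.exists_mem_ne_zero_of_ne_bot hJ
  have halg : IsAlgebraic R b := by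
    rw [← isAlgebraic_algebraMap_iff hA, IsFractionRing.isAlgebraic_iff R K L]
    exact Algebra.IsAlgebraic.isAlgebraic _
  have hcomap := Ideal.comap_ne_bot_of_algebraic_mem hb0 hbJ halg
  obtain ⟨a, haJ, ha0⟩ := Submodule.exists_mem_ne_zero_of_ne_bot hcomap
  rw [Ideal.mem_comap] at haJ
  haveI := krullAkizuki_quotient_noetherian R K L A hA ha0
  haveI : IsNoetherian A (A ⧸ (Ideal.span {algebraMap R A a} : Ideal A)) :=
    isNoetherian_of_tower R inferInstance
  refine Submodule.fg_of_fg_map_of_fg_inf_ker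
    (Ideal.span {algebraMap R A a} : Submodule A A).mkQ (IsNoetherian.noetherian _) ?_
  rw [Submodule.ker_mkQ]
  have : J ⊓ Ideal.span {algebraMap R A a} = Ideal.span {algebraMap R A a} := by
    rw [inf_eq_right, Ideal.span_singleton_le_iff_mem]
    exact haJ
  rw [this]
  exact Submodule.fg_span_singleton _

end KA

end Groth.Agent.Lib.helper26.KrullAkizuki
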