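import Mathlib
import Groth.Agent.Lib.helper26.BrnchLib
import Groth.Agent.Lib.helper26.BrnchLib2
import Groth.Agent.Lib.helper26.BrnchLib3
import Groth.Agent.Lib.helper26.DeltaInv2

set_option autoImplicit false
universe u
open CAlg2 Brnch

namespace Groth.Agent.Lib.helper26.BrnchLib

section main
variable (A : Type u) [CommRing A] [IsLocalRing A]

theorem algebraMap_quot_eq_toResidue (m' : MaximalSpectrum (normRed A)) (a : A) :
    algebraMap A (normRed A ⧸ m'.asIdeal) a = toResidue A m' a := rfl

theorem finite_maximalSpectrum_of_finite (D : Type*) [CommRing D] [Algebra A D]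
    [Module.Finite A D] : Finite (MaximalSpectrum D) := by
  have h := Algebra.QuasiFinite.finite_primesOver (S := D) (IsLocalRing.maximalIdeal A)
  haveI := h.to_subtype
  refine Finite.of_injective
    (fun n : MaximalSpectrum D => (⟨n.asIdeal, n.isMaximal.isPrime, ⟨?_⟩⟩ :
      (IsLocalRing.maximalIdeal A).primesOver D)) ?_
  · haveI := n.isMaximal
    have h1 : (n.asIdeal.comap (algebraMap A D)).IsMaximal :=
      Ideal.isMaximal_comap_of_isIntegral_of_isMaximal n.asIdeal
    exact (IsLocalRing.eq_maximalIdeal h1).symm
  · intro n1 n2 h12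
    exact MaximalSpectrum.ext (congrArg (fun z => z.1) h12)

theorem length_quot_eq_finrank [Module.Finite A (normRed A)] (m' : MaximalSpectrum (normRed A)) :
    letI := (resAlg A m').toAlgebra
    (resAlg A m').Finite ∧
    Module.length A (normRed A ⧸ m'.asIdeal) =
      (Module.finrank (IsLocalRing.ResidueField A) (normRed A ⧸ m'.asIdeal) : ℕ∞) := by
  letI := (resAlg A m').toAlgebra
  haveI : IsScalarTower A (IsLocalRing.ResidueField A) (normRed A ⧸ m'.asIdeal) :=
    IsScalarTower.of_algebraMap_eq (fun a => rfl)
  haveI : Module.Finite A (normRed A ⧸ m'.asIdeal) :=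
    Module.Finite.of_surjective (Ideal.Quotient.mkₐ A m'.asIdeal).toLinearMap
      (Ideal.Quotient.mkₐ_surjective A m'.asIdeal)
  haveI hf : Module.Finite (IsLocalRing.ResidueField A) (normRed A ⧸ m'.asIdeal) :=
    Module.Finite.of_restrictScalars_finite A _ _
  refine ⟨hf, ?_⟩
  rw [Module.length_eq_of_surjective (S := A) (R := IsLocalRing.ResidueField A)
    (IsLocalRing.residue_surjective), Module.length_eq_finrank]

theorem numGeomBranches_le [IsReduced A] (hN : CAlg.IsNagata A) (hdim : ringKrullDim A = 1) :
    numGeomBranches A ≤ Curv2.deltaInv A + 1 := by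
  haveI : IsNoetherianRing A := hN.1
  have hfinA' : Module.Finite A (integralClosure A (FractionRing A)) :=
    (Groth.Agent.Lib.helper26.DeltaInv.integralClosure_finite_of_reduced_nagata_dim_one A hN
      hdim).1
  haveI : Module.Finite A (normRed A) := Module.Finite.equiv (normEquiv A).toLinearEquiv
  haveI : Finite (MaximalSpectrum (normRed A)) := finite_maximalSpectrum_of_finite A (normRed A)
  haveI : Fintype (MaximalSpectrum (normRed A)) := Fintype.ofFinite _
  have hmin : (minimalPrimes A).Finite := minimalPrimes.finite_of_isNoetherianRing A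
  unfold numGeomBranches
  rw [if_pos hmin, enat_card_sigma_fintype, deltaInv_eq_length_normRed, add_comm]
  refine le_trans ?_ (sum_length_le A (normRed A))
  refine Finset.sum_le_sum (fun m' _ => ?_)
  obtain ⟨h1, h2⟩ := length_quot_eq_finrank A m'
  rw [h2]
  exact card_emb_le_finrank A m' h1

end main

end Groth.Agent.Lib.helper26.BrnchLib
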