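import Groth.Agent.Lib.helper26.KrullAkizuki

set_option autoImplicit false
universe u

namespace Groth.Agent.Lib.helper26.KrullAkizuki

theorem integralClosure_dedekind (A K L B : Type u) [CommRing A] [IsDomain A]
    [IsNoetherianRing A] (hdim : ringKrullDim A = 1) [Field K] [Algebra A K] [IsFractionRing A K]
    [Field L] [Algebra K L] [FiniteDimensional K L] [Algebra A L] [IsScalarTower A K L]
    [CommRing B] [IsDomain B] [Algebra A B] [Algebra B L] [IsScalarTower A B L]
    [IsIntegralClosure B A L] :
    IsDedekindDomain B ∧ Function.Surjective (PrimeSpectrum.comap (algebraMap A B)) ∧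
      (∀ p : PrimeSpectrum A, (PrimeSpectrum.comap (algebraMap A B) ⁻¹' {p}).Finite) ∧
      ∀ Q : Ideal B, Q.IsMaximal → Module.Finite (A ⧸ Q.comap (algebraMap A B)) (B ⧸ Q) := by
  have hK1 : Ring.KrullDimLE 1 A := Ring.krullDimLE_iff.2 (by rw [hdim]; exact le_rfl)
  have hD1 : Ring.DimensionLEOne A := ⟨fun {p} hp hpp => hpp.isMaximal_of_ne_bot hp⟩
  have hBL : Function.Injective (algebraMap B L) := IsIntegralClosure.algebraMap_injective B A L
  have hfr : IsFractionRing B L := IsIntegralClosure.isFractionRing_of_finite_extension A K L B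
  have hint : Algebra.IsIntegral A B := IsIntegralClosure.isIntegral_algebra A L
  have hnoeth : IsNoetherianRing B := krullAkizuki A K L B hBL
  have hAB : Function.Injective (algebraMap A B) := by
    have h1 : Function.Injective (algebraMap A L) := by
      rw [IsScalarTower.algebraMap_eq A K L]
      exact (algebraMap K L).injective.comp (IsFractionRing.injective A K)
    rw [IsScalarTower.algebraMap_eq A B L] at h1
    exact Function.Injective.of_comp h1
  have hfaith : FaithfulSMul A B := (faithfulSMul_iff_algebraMap_injective A B).mpr hAB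
  -- A is not a field
  have hnf : ¬ IsField A := by
    intro hf
    have := ringKrullDim_eq_zero_of_isField hf
    rw [hdim] at this
    exact one_ne_zero this
  -- finite length quotients
  have hquot : ∀ a : A, a ≠ 0 → IsNoetherian A (B ⧸ (Ideal.span {algebraMap A B a} : Ideal B)) ∧
      IsArtinian A (B ⧸ (Ideal.span {algebraMap A B a} : Ideal B)) := by
    intro a ha
    have h1 := krullAkizuki_length A K L B hBL ha
    rw [Module.length_ne_top_iff, isFiniteLength_iff_isNoetherian_isArtinian] at h1
    have := h1.1
    have := h1.2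
    let e : (B ⧸ sm a (⊤ : Submodule A B)) ≃ₗ[A]
        (B ⧸ (Ideal.span {algebraMap A B a} : Ideal B)) :=
      (Submodule.quotEquivOfEq _ _ (restrictScalars_span_eq_sm B a).symm).trans
        (Submodule.Quotient.restrictScalarsEquiv A (Ideal.span {algebraMap A B a} : Submodule B B))
    exact ⟨isNoetherian_of_linearEquiv e, isArtinian_of_linearEquiv e⟩
  refine ⟨?_, Algebra.IsIntegral.comap_surjective A B, ?_, ?_⟩
  · exact { hnoeth, Ring.DimensionLEOne.of_isIntegral A B,
      (isIntegrallyClosed_iff L).mpr fun {x} hx =>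
        ⟨IsIntegralClosure.mk' B x (isIntegral_trans (R := A) _ hx),
          IsIntegralClosure.algebraMap_mk' _ _ _⟩ with : IsDedekindDomain B }
  · intro p
    by_cases hp : p.asIdeal = ⊥
    · apply Set.Subsingleton.finite
      intro Q₁ h₁ Q₂ h₂
      have e₁ : Q₁.asIdeal = ⊥ := by
        apply Ideal.eq_bot_of_comap_eq_bot (R := A)
        have := congrArg PrimeSpectrum.asIdeal (Set.mem_singleton_iff.1 h₁)
        rw [← hp, ← this]; rfl
      have e₂ : Q₂.asIdeal = ⊥ := by
        apply Ideal.eq_bot_of_comap_eq_bot (R := A)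
        have := congrArg PrimeSpectrum.asIdeal (Set.mem_singleton_iff.1 h₂)
        rw [← hp, ← this]; rfl
      exact PrimeSpectrum.ext (e₁.trans e₂.symm)
    · obtain ⟨a, hap, ha0⟩ := Submodule.exists_mem_ne_zero_of_ne_bot hp
      obtain ⟨_, hart⟩ := hquot a ha0
      have h1 : IsArtinian B (B ⧸ (Ideal.span {algebraMap A B a} : Ideal B)) :=
        isArtinian_of_tower A hart
      have h2 : IsArtinianRing (B ⧸ (Ideal.span {algebraMap A B a} : Ideal B)) :=
        isArtinian_of_tower B h1
      refine Set.Finite.subset (Set.finite_range (PrimeSpectrum.comap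
        (Ideal.Quotient.mk (Ideal.span {algebraMap A B a} : Ideal B)))) ?_
      intro Q hQ
      rw [range_comap_of_surjective _ _ Ideal.Quotient.mk_surjective, Ideal.mk_ker,
        PrimeSpectrum.zeroLocus_span, PrimeSpectrum.mem_zeroLocus, Set.singleton_subset_iff]
      have := congrArg PrimeSpectrum.asIdeal (Set.mem_singleton_iff.1 hQ)
      have hmem : a ∈ (PrimeSpectrum.comap (algebraMap A B) Q).asIdeal := by rw [this]; exact hap
      exact hmem
  · intro Q hQ
    have hpmax : (Q.comap (algebraMap A B)).IsMaximal :=
      Ideal.isMaximal_comap_of_isIntegral_of_isMaximal Q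
    have hpne : Q.comap (algebraMap A B) ≠ ⊥ := by
      intro h
      rw [h] at hpmax
      exact hnf (Ring.isField_iff_maximal_bot.2 hpmax)
    obtain ⟨a, haQ, ha0⟩ := Submodule.exists_mem_ne_zero_of_ne_bot hpne
    rw [Ideal.mem_comap] at haQ
    obtain ⟨hno, _⟩ := hquot a ha0
    have hle : (Ideal.span {algebraMap A B a} : Ideal B) ≤ Q := by
      rw [Ideal.span_singleton_le_iff_mem]; exact haQ
    have hfinA : Module.Finite A (B ⧸ Q) :=
      Module.Finite.of_surjective ((Submodule.factor hle).restrictScalars A)
        (Submodule.factor_surjective hle)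
    exact Module.Finite.of_restrictScalars_finite A (A ⧸ Q.comap (algebraMap A B)) (B ⧸ Q)

end Groth.Agent.Lib.helper26.KrullAkizuki
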