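import Mathlib
import Groth.Agent.Lib.helper26.KrullAkizuki2

set_option autoImplicit false
universe u

namespace Groth.Agent.Lib.helper26.NormAff

open Groth.Agent.Lib.helper26.KrullAkizuki

/-- transport `IsFractionRing` along a ring isomorphism compatible with the algebra maps -/
theorem isFractionRing_of_ringEquiv {A K L : Type*} [CommRing A] [CommRing K] [Algebra A K]
    [IsFractionRing A K] [CommRing L] [Algebra A L] (e : K ≃+* L)
    (he : ∀ a, e (algebraMap A K a) = algebraMap A L a) : IsFractionRing A L :=
  IsLocalization.isLocalization_of_algEquiv (nonZeroDivisors A) (AlgEquiv.ofRingEquiv (f := e) he)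

section
variable (A L : Type u) [CommRing A] [IsDomain A] [Field L] [Algebra A L] [IsFractionRing A L]

instance : IsFractionRing (integralClosure A L) L :=
  IsIntegralClosure.isFractionRing_of_finite_extension A L L (integralClosure A L)

instance : IsIntegrallyClosed (integralClosure A L) :=
  integralClosure.isIntegrallyClosedOfFiniteExtension L

theorem algebraMap_integralClosure_injective :
    Function.Injective (algebraMap A (integralClosure A L)) := by
  have h1 : Function.Injective (algebraMap A L) := IsFractionRing.injective A L
  rw [IsScalarTower.algebraMap_eq A (integralClosure A L) L, RingHom.coe_comp] at h1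
  exact Function.Injective.of_comp h1

theorem exists_smul_mem_range (b : integralClosure A L) :
    ∃ s : A, s ≠ 0 ∧ ∃ a : A, algebraMap A (integralClosure A L) s * b = algebraMap A _ a := by
  obtain ⟨a, s, hs, h⟩ := IsFractionRing.div_surjective (A := A) (b : L)
  refine ⟨s, nonZeroDivisors.ne_zero hs, a, ?_⟩
  apply Subtype.ext
  have hs0 : algebraMap A L s ≠ 0 := by
    intro h0
    exact nonZeroDivisors.ne_zero hs ((IsFractionRing.injective A L) (by rw [h0, map_zero]))
  show algebraMap A L s * (b : L) = algebraMap A L a
  rw [← h]
  field_simp

theorem comap_surjective_integralClosure :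
    Function.Surjective (PrimeSpectrum.comap (algebraMap A (integralClosure A L))) := by
  intro p
  obtain ⟨Q, hQ, hQp⟩ := Ideal.exists_ideal_over_prime_of_isIntegral p.asIdeal
    (⊥ : Ideal (integralClosure A L)) (by
      rw [Ideal.comap_bot_of_injective _ (algebraMap_integralClosure_injective A L)]
      exact bot_le)
  exact ⟨⟨Q, hQp.1⟩, PrimeSpectrum.ext hQp.2⟩

/-- Krull–Akizuki package for the integral closure of a one-dimensional (or zero-dimensional)
noetherian domain in its fraction field. -/
theorem integralClosure_props [IsNoetherianRing A] [Ring.KrullDimLE 1 A] :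
    IsDedekindDomain (integralClosure A L) ∧
      (∀ p : PrimeSpectrum A,
        (PrimeSpectrum.comap (algebraMap A (integralClosure A L)) ⁻¹' {p}).Finite) ∧
      ∀ Q : Ideal (integralClosure A L), Q.IsMaximal →
        Module.Finite (A ⧸ Q.comap (algebraMap A (integralClosure A L)))
          (integralClosure A L ⧸ Q) := by
  by_cases hf : IsField A
  · -- field case: `A → B` is bijective
    let := hf.toField
    have hsurj : Function.Surjective (algebraMap A (integralClosure A L)) := by
      intro b
      obtain ⟨a, s, hs, h⟩ := IsFractionRing.div_surjective (A := A) (b : L)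
      have hs0 : s ≠ 0 := nonZeroDivisors.ne_zero hs
      refine ⟨a * s⁻¹, Subtype.ext ?_⟩
      show algebraMap A L (a * s⁻¹) = (b : L)
      rw [← h, map_mul, map_inv₀, div_eq_mul_inv]
    have hbij : Function.Bijective (algebraMap A (integralClosure A L)) :=
      ⟨algebraMap_integralClosure_injective A L, hsurj⟩
    let e : A ≃+* integralClosure A L := RingEquiv.ofBijective _ hbij
    have hfB : IsField (integralClosure A L) := e.toMulEquiv.symm.isField hf
    refine ⟨?_, ?_, ?_⟩
    · let := hfB.toField
      infer_instance
    · intro p
      apply Set.Subsingleton.finite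
      intro q1 hq1 q2 hq2
      have h1 : PrimeSpectrum.comap (algebraMap A (integralClosure A L)) q1 =
          PrimeSpectrum.comap (algebraMap A (integralClosure A L)) q2 := by
        rw [Set.mem_preimage, Set.mem_singleton_iff] at hq1 hq2
        rw [hq1, hq2]
      exact PrimeSpectrum.comap_injective_of_surjective _ hsurj h1
    · intro Q hQ
      apply Module.Finite.of_surjective
        (Algebra.linearMap (A ⧸ Q.comap (algebraMap A (integralClosure A L)))
          (integralClosure A L ⧸ Q))
      intro y
      obtain ⟨b, rfl⟩ := Ideal.Quotient.mk_surjective y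
      obtain ⟨a, rfl⟩ := hsurj b
      exact ⟨Ideal.Quotient.mk _ a, rfl⟩
  · have hdim : ringKrullDim A = 1 := by
      apply le_antisymm (Ring.krullDimLE_iff.1 inferInstance)
      by_contra hlt
      apply hf
      have h0 : ringKrullDim A ≤ 0 := by
        have h2 : ringKrullDim A < ((0 : ℕ) : WithBot ℕ∞) + 1 := by
          simpa using lt_of_not_ge hlt
        simpa using ENat.WithBot.lt_add_one_iff.1 h2
      have : Ring.KrullDimLE 0 A := Ring.krullDimLE_iff.2 h0
      exact Ring.KrullDimLE.isField_of_isDomain
    obtain ⟨h1, -, h3, h4⟩ := integralClosure_dedekind A L L (integralClosure A L) hdim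
    exact ⟨h1, h3, h4⟩

end

end Groth.Agent.Lib.helper26.NormAff
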