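import Mathlib
import Groth.Prelude.Def_Curv2
import Groth.Agent.Lib.helper26.NormAffAlg
import Groth.Agent.Lib.helper26.NormAffEval

set_option autoImplicit false
universe u
open CategoryTheory CategoryTheory.Limits AlgebraicGeometry

namespace Groth.Agent.Lib.helper26.NormAff

section basic
variable (X : Scheme.{u}) [IsIntegral X]

/-- the morphism from the generic point -/
noncomputable abbrev gen : Spec (X.presheaf.stalk (genericPoint X)) ⟶ X :=
  X.fromSpecStalk (genericPoint X)

theorem genericPoint_mem (U : X.Opens) (hne : (U : Set X).Nonempty) : genericPoint X ∈ U :=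
  ((genericPoint_spec X).mem_open_set_iff U.isOpen).mpr (by simpa using hne)

theorem preimage_eq_top (U : X.Opens) (h : genericPoint X ∈ U) : gen X ⁻¹ᵁ U = ⊤ := by
  ext z
  simp only [Scheme.Hom.mem_preimage, TopologicalSpace.Opens.coe_top, Set.mem_univ, iff_true]
  have hz : gen X z ∈ Set.range (gen X) := ⟨z, rfl⟩
  rw [Scheme.range_fromSpecStalk] at hz
  exact hz.mem_open U.isOpen h

theorem isIso_map_top (Y : Scheme.{u}) (W : Y.Opens) (hW : W = ⊤) :
    IsIso (Y.presheaf.map (homOfLE (le_top : W ≤ ⊤)).op) := by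
  subst hW
  have : homOfLE (le_top : (⊤ : Y.Opens) ≤ ⊤) = 𝟙 _ := rfl
  rw [this, op_id, Y.presheaf.map_id]
  infer_instance

/-- The isomorphism `K(X) ≃ Γ(Spec K(X), gen⁻¹ U)`. -/
noncomputable def secEquiv (U : X.Opens) (h : genericPoint X ∈ U) :
    X.presheaf.stalk (genericPoint X) ≃+* Γ(Spec (X.presheaf.stalk (genericPoint X)), gen X ⁻¹ᵁ U) :=
  haveI := isIso_map_top (Spec (X.presheaf.stalk (genericPoint X))) (gen X ⁻¹ᵁ U)
    (preimage_eq_top X U h)
  ((Scheme.ΓSpecIso (X.presheaf.stalk (genericPoint X))).symm ≪≫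
    asIso ((Spec (X.presheaf.stalk (genericPoint X))).presheaf.map
      (homOfLE (le_top : gen X ⁻¹ᵁ U ≤ ⊤)).op)).commRingCatIsoToRingEquiv

theorem secEquiv_germ (U : X.Opens) (h : genericPoint X ∈ U) (a : Γ(X, U)) :
    secEquiv X U h (X.presheaf.germ U (genericPoint X) h a) = (gen X).app U a := by
  rw [Scheme.fromSpecStalk_app h]
  rfl

theorem isField_sec (U : X.Opens) (h : genericPoint X ∈ U) :
    IsField Γ(Spec (X.presheaf.stalk (genericPoint X)), gen X ⁻¹ᵁ U) :=
  (secEquiv X U h).toMulEquiv.symm.isField (Field.toIsField _)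

theorem isFractionRing_sec (U : X.Opens) (hU : IsAffineOpen U) (h : genericPoint X ∈ U) :
    letI := ((gen X).app U).hom.toAlgebra
    IsFractionRing Γ(X, U) Γ(Spec (X.presheaf.stalk (genericPoint X)), gen X ⁻¹ᵁ U) := by
  letI := ((gen X).app U).hom.toAlgebra
  haveI : Nonempty U := ⟨⟨_, h⟩⟩
  haveI := functionField_isFractionRing_of_isAffineOpen X U hU
  exact isFractionRing_of_ringEquiv (A := Γ(X, U)) (K := X.functionField) (secEquiv X U h)
    (fun a => secEquiv_germ X U h a)

theorem krullDimLE_one_of_affine (U : X.Opens) (hU : IsAffineOpen U)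
    (hdim : topologicalKrullDim X ≤ 1) : Ring.KrullDimLE 1 Γ(X, U) := by
  rw [Ring.KrullDimLE, Order.krullDimLE_iff, ← ringKrullDim,
    ← PrimeSpectrum.topologicalKrullDim_eq_ringKrullDim Γ(X, U)]
  change topologicalKrullDim (Spec Γ(X, U)) ≤ _
  rw [← IsHomeomorph.topologicalKrullDim_eq _ hU.isoSpec.hom.homeomorph.isHomeomorph]
  exact (topologicalKrullDim_subspace_le X U).trans (by simpa using hdim)

variable [QuasiCompact (gen X)] [QuasiSeparated (gen X)]

theorem BU_props [IsLocallyNoetherian X] (hdim : topologicalKrullDim X ≤ 1) (U : X.affineOpens)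
    (h : genericPoint X ∈ U.1) :
    letI := ((gen X).app U.1).hom.toAlgebra
    IsDedekindDomain (integralClosure Γ(X, U.1)
        Γ(Spec (X.presheaf.stalk (genericPoint X)), gen X ⁻¹ᵁ U.1)) ∧
      (∀ p : PrimeSpectrum Γ(X, U.1),
        (PrimeSpectrum.comap (algebraMap Γ(X, U.1) (integralClosure Γ(X, U.1)
          Γ(Spec (X.presheaf.stalk (genericPoint X)), gen X ⁻¹ᵁ U.1))) ⁻¹' {p}).Finite) ∧
      ∀ Q : Ideal (integralClosure Γ(X, U.1)
          Γ(Spec (X.presheaf.stalk (genericPoint X)), gen X ⁻¹ᵁ U.1)), Q.IsMaximal →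
        Module.Finite (Γ(X, U.1) ⧸ Q.comap (algebraMap Γ(X, U.1) (integralClosure Γ(X, U.1)
          Γ(Spec (X.presheaf.stalk (genericPoint X)), gen X ⁻¹ᵁ U.1))))
          (integralClosure Γ(X, U.1)
            Γ(Spec (X.presheaf.stalk (genericPoint X)), gen X ⁻¹ᵁ U.1) ⧸ Q) := by
  letI := ((gen X).app U.1).hom.toAlgebra
  letI := (isField_sec X U.1 h).toField
  haveI := isFractionRing_sec X U.1 U.2 h
  haveI : Nonempty U.1 := ⟨⟨_, h⟩⟩
  haveI : IsDomain Γ(X, U.1) := IsIntegral.component_integral U.1
  haveI : IsNoetherianRing Γ(X, U.1) := IsLocallyNoetherian.component_noetherian U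
  haveI := krullDimLE_one_of_affine X U.1 U.2 hdim
  exact integralClosure_props Γ(X, U.1) Γ(Spec (X.presheaf.stalk (genericPoint X)), gen X ⁻¹ᵁ U.1)

/-- every point of the normalization lying over the affine open `U` comes from `Spec B_U`. -/
theorem exists_point (U : X.affineOpens) (x' : (gen X).normalization)
    (hx' : (gen X).fromNormalization x' ∈ U.1) :
    ∃ q, ((gen X).normalizationOpenCover.f U) q = x' := by
  have h1 : x' ∈ (gen X).fromNormalization ⁻¹ᵁ U.1 := hx'
  rw [(gen X).fromNormalization_preimage U] at h1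
  exact h1

theorem exists_affine_nhd (x : X) : ∃ U : X.affineOpens, x ∈ U.1 := by
  obtain ⟨_, ⟨U, hU, rfl⟩, hxU, -⟩ :=
    X.isBasis_affineOpens.exists_subset_of_mem_open (Set.mem_univ x) isOpen_univ
  exact ⟨⟨U, hU⟩, hxU⟩

theorem comm_point (U : X.affineOpens) (q) :
    (gen X).fromNormalization (((gen X).normalizationOpenCover.f U) q) =
      U.2.fromSpec ((Spec.map ((gen X).normalizationDiagramMap.app (.op U.1))) q) := by
  have h2 := (gen X).ι_fromNormalization U
  have h3 := congrArg (fun g => g q) h2
  exact h3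

theorem finite_fiber [IsLocallyNoetherian X] (hdim : topologicalKrullDim X ≤ 1) (x : X) :
    Finite {x' : (gen X).normalization // (gen X).fromNormalization x' = x} := by
  obtain ⟨U, hxU⟩ := exists_affine_nhd X x
  have hgen : genericPoint X ∈ U.1 := genericPoint_mem X U.1 ⟨x, hxU⟩
  obtain ⟨-, hfin, -⟩ := BU_props X hdim U hgen
  letI := ((gen X).app U.1).hom.toAlgebra
  -- the point of `Spec A` over `x`
  have hxr : x ∈ Set.range U.2.fromSpec := by
    rw [U.2.range_fromSpec]; exact hxU
  obtain ⟨(p : PrimeSpectrum Γ(X, U.1)), hp⟩ := hxr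
  have hsub : {x' : (gen X).normalization | (gen X).fromNormalization x' = x} ⊆
      ((gen X).normalizationOpenCover.f U) '' (PrimeSpectrum.comap (algebraMap Γ(X, U.1)
        (integralClosure Γ(X, U.1) Γ(Spec (X.presheaf.stalk (genericPoint X)), gen X ⁻¹ᵁ U.1)))
          ⁻¹' {p}) := by
    intro x' hx'
    rw [Set.mem_setOf_eq] at hx'
    obtain ⟨q, rfl⟩ := exists_point X U x' (by rw [hx']; exact hxU)
    refine ⟨q, ?_, rfl⟩
    show _ = p
    rw [comm_point, ← hp] at hx'
    exact U.2.fromSpec.isOpenEmbedding.injective hx'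
  exact ((hfin p).image _ |>.subset hsub).to_subtype

theorem isNoetherianRing_BU [IsLocallyNoetherian X] (hdim : topologicalKrullDim X ≤ 1)
    (U : X.affineOpens) :
    letI := ((gen X).app U.1).hom.toAlgebra
    IsNoetherianRing (integralClosure Γ(X, U.1)
        Γ(Spec (X.presheaf.stalk (genericPoint X)), gen X ⁻¹ᵁ U.1)) := by
  letI := ((gen X).app U.1).hom.toAlgebra
  by_cases hne : (U.1 : Set X).Nonempty
  · obtain ⟨hD, -, -⟩ := BU_props X hdim U (genericPoint_mem X U.1 hne)
    exact hD.toIsNoetherian
  · have hbot : U.1 = ⊥ := by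
      ext x
      simp only [TopologicalSpace.Opens.coe_bot, Set.mem_empty_iff_false, iff_false]
      exact fun hx => hne ⟨x, hx⟩
    have h1 : Subsingleton Γ(X, U.1) := by
      rw [hbot]; infer_instance
    have h2 : Subsingleton Γ(Spec (X.presheaf.stalk (genericPoint X)), gen X ⁻¹ᵁ U.1) := by
      rw [← subsingleton_iff_zero_eq_one, ← map_one (algebraMap Γ(X, U.1) _),
        ← map_zero (algebraMap Γ(X, U.1) _)]
      exact congrArg _ (Subsingleton.elim _ _)
    have h3 : Subsingleton (integralClosure Γ(X, U.1)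
        Γ(Spec (X.presheaf.stalk (genericPoint X)), gen X ⁻¹ᵁ U.1)) :=
      ⟨fun a b => Subtype.ext (Subsingleton.elim _ _)⟩
    infer_instance

theorem isLocallyNoetherian_normalization [IsLocallyNoetherian X]
    (hdim : topologicalKrullDim X ≤ 1) : IsLocallyNoetherian (gen X).normalization := by
  haveI : ∀ i, IsAffine ((gen X).normalizationOpenCover.X i) := fun i =>
    inferInstanceAs (IsAffine (Spec _))
  rw [isLocallyNoetherian_iff_of_affine_openCover (gen X).normalizationOpenCover]
  intro U
  letI := ((gen X).app U.1).hom.toAlgebra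
  have := isNoetherianRing_BU X hdim U
  exact isNoetherianRing_of_ringEquiv (R := (integralClosure Γ(X, U.1)
        Γ(Spec (X.presheaf.stalk (genericPoint X)), gen X ⁻¹ᵁ U.1)))
    (Scheme.ΓSpecIso (.of (integralClosure Γ(X, U.1)
        Γ(Spec (X.presheaf.stalk (genericPoint X)), gen X ⁻¹ᵁ U.1)))).symm.commRingCatIsoToRingEquiv

/-- the stalk of the normalization at a point of the chart `Spec B_U` is the localization of
`B_U` at the corresponding prime. -/
theorem nonempty_stalk_equiv (U : X.affineOpens) (q) :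
    letI := ((gen X).app U.1).hom.toAlgebra
    Nonempty ((gen X).normalization.presheaf.stalk (((gen X).normalizationOpenCover.f U) q) ≃+*
      Localization.AtPrime (q : PrimeSpectrum (integralClosure Γ(X, U.1)
        Γ(Spec (X.presheaf.stalk (genericPoint X)), gen X ⁻¹ᵁ U.1))).asIdeal) := by
  letI := ((gen X).app U.1).hom.toAlgebra
  exact ⟨(asIso (((gen X).normalizationOpenCover.f U).stalkMap q) ≪≫
    Spec.stalkIso _ q).commRingCatIsoToRingEquiv⟩

omit [IsIntegral X] [QuasiCompact (gen X)] [QuasiSeparated (gen X)] in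
theorem dvr_or_field_of_dedekind (B : Type*) [CommRing B] [IsDedekindDomain B]
    (q : PrimeSpectrum B) (S : Type*) [CommRing S] [IsDomain S]
    (e : S ≃+* Localization.AtPrime q.asIdeal) :
    IsDiscreteValuationRing S ∨ IsField S := by
  by_cases hq : q.asIdeal = ⊥
  · right
    refine e.toMulEquiv.isField ?_
    have hle : q.asIdeal.primeCompl = nonZeroDivisors B := by
      ext b
      rw [Ideal.mem_primeCompl_iff, hq, Ideal.mem_bot, mem_nonZeroDivisors_iff_ne_zero]
    have : IsFractionRing B (Localization.AtPrime q.asIdeal) := by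
      have h : IsLocalization q.asIdeal.primeCompl (Localization.AtPrime q.asIdeal) :=
        Localization.isLocalization
      show IsLocalization (nonZeroDivisors B) _
      rw [← hle]
      exact h
    exact (IsFractionRing.toField B).toIsField
  · left
    have : IsDomain (Localization.AtPrime q.asIdeal) :=
      IsLocalization.isDomain_localization (Ideal.primeCompl_le_nonZeroDivisors _)
    have := IsLocalization.AtPrime.isDiscreteValuationRing_of_dedekind_domain B hq
      (Localization.AtPrime q.asIdeal)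
    exact IsDiscreteValuationRing.RingEquivClass.isDiscreteValuationRing e.symm

theorem stalk_dvr_or_field [IsLocallyNoetherian X] (hdim : topologicalKrullDim X ≤ 1)
    (y : (gen X).normalization) :
    IsDiscreteValuationRing ((gen X).normalization.presheaf.stalk y) ∨
      IsField ((gen X).normalization.presheaf.stalk y) := by
  obtain ⟨U, hxU⟩ := exists_affine_nhd X ((gen X).fromNormalization y)
  have hgen : genericPoint X ∈ U.1 := genericPoint_mem X U.1 ⟨_, hxU⟩
  obtain ⟨hD, -, -⟩ := BU_props X hdim U hgen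
  obtain ⟨q, rfl⟩ := exists_point X U y hxU
  obtain ⟨e⟩ := nonempty_stalk_equiv X U q
  exact @dvr_or_field_of_dedekind _ _ hD q _ _ _ e

theorem isDedekindDomain_affine [IsLocallyNoetherian X] (hdim : topologicalKrullDim X ≤ 1)
    (V : (gen X).normalization.affineOpens)
    (hne : ((V : (gen X).normalization.Opens) : Set (gen X).normalization).Nonempty) :
    IsDedekindDomain Γ((gen X).normalization, (V : (gen X).normalization.Opens)) := by
  haveI := isLocallyNoetherian_normalization X hdim
  haveI : Nonempty (V : (gen X).normalization.Opens) := by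
    obtain ⟨y, hy⟩ := hne
    exact ⟨⟨y, hy⟩⟩
  haveI : IsDomain Γ((gen X).normalization, (V : (gen X).normalization.Opens)) :=
    IsIntegral.component_integral _
  haveI : IsNoetherianRing Γ((gen X).normalization, (V : (gen X).normalization.Opens)) :=
    IsLocallyNoetherian.component_noetherian V
  suffices h : IsDedekindDomainDvr Γ((gen X).normalization, (V : (gen X).normalization.Opens)) from
    inferInstance
  refine ⟨fun P hP0 hP => ?_⟩
  -- the point corresponding to `P`
  have hmem : V.2.fromSpec ⟨P, hP⟩ ∈ (V : (gen X).normalization.Opens) := by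
    have : V.2.fromSpec ⟨P, hP⟩ ∈ Set.range V.2.fromSpec := ⟨_, rfl⟩
    rwa [V.2.range_fromSpec] at this
  letI := TopCat.Presheaf.algebra_section_stalk (gen X).normalization.presheaf
    ⟨V.2.fromSpec ⟨P, hP⟩, hmem⟩
  have hloc : IsLocalization.AtPrime
      ((gen X).normalization.presheaf.stalk (V.2.fromSpec ⟨P, hP⟩)) P :=
    V.2.isLocalization_stalk' ⟨P, hP⟩ hmem
  have hnf : ¬ IsField (Localization.AtPrime P) := IsLocalization.AtPrime.not_isField _ hP0 _
  let e : Localization.AtPrime P ≃+*
      (gen X).normalization.presheaf.stalk (V.2.fromSpec ⟨P, hP⟩) :=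
    (IsLocalization.algEquiv P.primeCompl (Localization.AtPrime P)
      ((gen X).normalization.presheaf.stalk (V.2.fromSpec ⟨P, hP⟩))).toRingEquiv
  rcases stalk_dvr_or_field X hdim (V.2.fromSpec ⟨P, hP⟩) with h | h
  · have : IsDomain (Localization.AtPrime P) :=
      IsLocalization.isDomain_localization (Ideal.primeCompl_le_nonZeroDivisors _)
    exact IsDiscreteValuationRing.RingEquivClass.isDiscreteValuationRing e.symm
  · exact absurd (e.toMulEquiv.isField h) hnf

/-- the evaluation of the chart ring `B_U` at a point of the normalization over `U`. -/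
noncomputable def evB (U : X.affineOpens) (x' : (gen X).normalization)
    (hx' : (gen X).fromNormalization x' ∈ U.1) :
    letI := ((gen X).app U.1).hom.toAlgebra
    (integralClosure Γ(X, U.1) Γ(Spec (X.presheaf.stalk (genericPoint X)), gen X ⁻¹ᵁ U.1)) →+*
      (gen X).normalization.residueField x' :=
  letI := ((gen X).app U.1).hom.toAlgebra
  (((gen X).normalizationObjIso U.2).inv ≫
    (gen X).normalization.evaluation ((gen X).fromNormalization ⁻¹ᵁ U.1) x' hx').hom

theorem evB_algebraMap (U : X.affineOpens) (x' : (gen X).normalization)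
    (hx' : (gen X).fromNormalization x' ∈ U.1) (a : Γ(X, U.1)) :
    letI := ((gen X).app U.1).hom.toAlgebra
    ((gen X).fromNormalization.residueFieldMap x').hom
      ((X.evaluation U.1 ((gen X).fromNormalization x') hx').hom a) =
    evB X U x' hx' (algebraMap Γ(X, U.1) (integralClosure Γ(X, U.1)
      Γ(Spec (X.presheaf.stalk (genericPoint X)), gen X ⁻¹ᵁ U.1)) a) := by
  letI := ((gen X).app U.1).hom.toAlgebra
  have h1 := Scheme.evaluation_naturality_apply (gen X).fromNormalization x' hx' a
  have h2 := (gen X).fromNormalization_app U.2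
  rw [h2] at h1
  exact h1

theorem evB_gen (U : X.affineOpens) (x' : (gen X).normalization)
    (hx' : (gen X).fromNormalization x' ∈ U.1) (r : (gen X).normalization.residueField x') :
    ∃ c s, evB X U x' hx' s ≠ 0 ∧ r = evB X U x' hx' c / evB X U x' hx' s := by
  letI := ((gen X).app U.1).hom.toAlgebra
  have hW : IsAffineOpen ((gen X).fromNormalization ⁻¹ᵁ U.1) := U.2.preimage _
  obtain ⟨c, s, hs, hr⟩ := exists_evaluation_div (gen X).normalization _ hW x' hx' r
  refine ⟨((gen X).normalizationObjIso U.2).hom c, ((gen X).normalizationObjIso U.2).hom s, ?_, ?_⟩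
  · simpa [evB] using hs
  · simpa [evB] using hr

theorem finite_residueFieldMap [IsLocallyNoetherian X] (hdim : topologicalKrullDim X ≤ 1)
    (x' : (gen X).normalization) :
    ((gen X).fromNormalization.residueFieldMap x').hom.Finite := by
  obtain ⟨U, hx'⟩ := exists_affine_nhd X ((gen X).fromNormalization x')
  have hgen : genericPoint X ∈ U.1 := genericPoint_mem X U.1 ⟨_, hx'⟩
  obtain ⟨hD, -, hfin⟩ := BU_props X hdim U hgen
  letI := ((gen X).app U.1).hom.toAlgebra
  letI := (isField_sec X U.1 hgen).toField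
  haveI := isFractionRing_sec X U.1 U.2 hgen
  haveI : Nonempty U.1 := ⟨⟨_, hgen⟩⟩
  haveI : IsDomain Γ(X, U.1) := IsIntegral.component_integral U.1
  refine finite_of_eval (A := Γ(X, U.1)) (B := integralClosure Γ(X, U.1)
      Γ(Spec (X.presheaf.stalk (genericPoint X)), gen X ⁻¹ᵁ U.1))
    (X.evaluation U.1 ((gen X).fromNormalization x') hx').hom (evB X U x' hx')
    ((gen X).fromNormalization.residueFieldMap x').hom
    (fun a => evB_algebraMap X U x' hx' a) (fun r => evB_gen X U x' hx' r)
    (algebraMap_integralClosure_injective _ _) (fun b => exists_smul_mem_range _ _ b)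
    (fun Q hQ hQ0 => hQ.isMaximal hQ0) hfin

end basic

end Groth.Agent.Lib.helper26.NormAff
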