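import Mathlib
import Groth.Prelude.Def_Curv2
import Groth.Prelude.Def_Pi1
import Groth.Agent.Lib.helper26.NormAff

set_option autoImplicit false
universe u
open CategoryTheory CategoryTheory.Limits AlgebraicGeometry

namespace Groth.Agent.Lib.helper26.NormAff

section more
variable (X : Scheme.{u}) [IsIntegral X] [QuasiCompact (gen X)] [QuasiSeparated (gen X)]

theorem isIntegrallyClosed_loc (B : Type*) [CommRing B] [IsDomain B] [IsIntegrallyClosed B]
    (q : PrimeSpectrum B) (S : Type*) [CommRing S]
    (e : S ≃+* Localization.AtPrime q.asIdeal) : IsIntegrallyClosed S := by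
  have : IsIntegrallyClosed (Localization.AtPrime q.asIdeal) :=
    isIntegrallyClosed_of_isLocalization _ q.asIdeal.primeCompl
      (Ideal.primeCompl_le_nonZeroDivisors _)
  exact IsIntegrallyClosed.of_equiv e.symm

theorem isNormalScheme_normalization : Pi1.IsNormalScheme (gen X).normalization := by
  intro y
  refine ⟨inferInstance, ?_⟩
  obtain ⟨U, hxU⟩ := exists_affine_nhd X ((gen X).fromNormalization y)
  have hgen : genericPoint X ∈ U.1 := genericPoint_mem X U.1 ⟨_, hxU⟩
  obtain ⟨q, rfl⟩ := exists_point X U y hxU
  obtain ⟨e⟩ := nonempty_stalk_equiv X U q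
  letI := ((gen X).app U.1).hom.toAlgebra
  letI := (isField_sec X U.1 hgen).toField
  haveI := isFractionRing_sec X U.1 U.2 hgen
  haveI : Nonempty U.1 := ⟨⟨_, hgen⟩⟩
  haveI : IsDomain Γ(X, U.1) := IsIntegral.component_integral U.1
  have hdom : IsDomain (integralClosure Γ(X, U.1)
      Γ(Spec (X.presheaf.stalk (genericPoint X)), gen X ⁻¹ᵁ U.1)) := inferInstance
  have hic : IsIntegrallyClosed (integralClosure Γ(X, U.1)
      Γ(Spec (X.presheaf.stalk (genericPoint X)), gen X ⁻¹ᵁ U.1)) := inferInstance
  exact @isIntegrallyClosed_loc (integralClosure Γ(X, U.1)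
      Γ(Spec (X.presheaf.stalk (genericPoint X)), gen X ⁻¹ᵁ U.1)) _ hdom hic q _ _ e

theorem surjective_fromNormalization : Function.Surjective (gen X).fromNormalization := by
  intro x
  obtain ⟨U, hxU⟩ := exists_affine_nhd X x
  have hgen : genericPoint X ∈ U.1 := genericPoint_mem X U.1 ⟨_, hxU⟩
  letI := ((gen X).app U.1).hom.toAlgebra
  letI := (isField_sec X U.1 hgen).toField
  haveI := isFractionRing_sec X U.1 U.2 hgen
  haveI : Nonempty U.1 := ⟨⟨_, hgen⟩⟩
  haveI : IsDomain Γ(X, U.1) := IsIntegral.component_integral U.1
  have hxr : x ∈ Set.range U.2.fromSpec := by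
    rw [U.2.range_fromSpec]; exact hxU
  obtain ⟨(p : PrimeSpectrum Γ(X, U.1)), hp⟩ := hxr
  obtain ⟨q, hq⟩ := comap_surjective_integralClosure Γ(X, U.1)
      Γ(Spec (X.presheaf.stalk (genericPoint X)), gen X ⁻¹ᵁ U.1) p
  refine ⟨((gen X).normalizationOpenCover.f U) q, ?_⟩
  rw [comm_point, ← hp]
  congr 1

theorem fromNormalization_genericPoint :
    (gen X).fromNormalization (genericPoint (gen X).normalization) = genericPoint X := by
  have h1 := (genericPoint_spec (gen X).normalization).image
    (gen X).fromNormalization.continuous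
  have h2 : closure ((gen X).fromNormalization '' (Set.univ : Set (gen X).normalization)) =
      Set.univ := by
    rw [Set.image_univ, (surjective_fromNormalization X).range_eq, closure_univ]
  rw [h2] at h1
  exact h1.eq (genericPoint_spec X)

theorem evaluation_genericPoint_injective (Z : Scheme.{u}) [IsIntegral Z] (W : Z.Opens)
    (hW : genericPoint Z ∈ W) : Function.Injective (Z.evaluation W (genericPoint Z) hW) := by
  have h1 : Function.Injective (Z.presheaf.germ W (genericPoint Z) hW) :=
    germ_injective_of_isIntegral Z _ hW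
  have h2 : Function.Injective (Z.residue (genericPoint Z)) := by
    letI : Field (Z.presheaf.stalk (genericPoint Z)) :=
      inferInstanceAs (Field Z.functionField)
    exact (Z.residue (genericPoint Z)).hom.injective
  exact h2.comp h1

theorem bijective_residueFieldMap_genericPoint :
    Function.Bijective
      ((gen X).fromNormalization.residueFieldMap (genericPoint (gen X).normalization)).hom := by
  refine ⟨RingHom.injective _, ?_⟩
  obtain ⟨U, hx'⟩ := exists_affine_nhd X
    ((gen X).fromNormalization (genericPoint (gen X).normalization))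
  have hgen : genericPoint X ∈ U.1 := genericPoint_mem X U.1 ⟨_, hx'⟩
  letI := ((gen X).app U.1).hom.toAlgebra
  letI := (isField_sec X U.1 hgen).toField
  haveI := isFractionRing_sec X U.1 U.2 hgen
  haveI : Nonempty U.1 := ⟨⟨_, hgen⟩⟩
  haveI : IsDomain Γ(X, U.1) := IsIntegral.component_integral U.1
  refine surjective_of_eval_bot (A := Γ(X, U.1)) (B := integralClosure Γ(X, U.1)
      Γ(Spec (X.presheaf.stalk (genericPoint X)), gen X ⁻¹ᵁ U.1))
    (X.evaluation U.1 _ hx').hom (evB X U _ hx')
    ((gen X).fromNormalization.residueFieldMap _).hom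
    (fun a => evB_algebraMap X U _ hx' a) (fun r => evB_gen X U _ hx' r)
    (algebraMap_integralClosure_injective _ _) (fun b => exists_smul_mem_range _ _ b) ?_
  rw [eq_bot_iff]
  intro b hb
  rw [RingHom.mem_ker] at hb
  rw [Ideal.mem_bot]
  have h1 : (gen X).normalization.evaluation ((gen X).fromNormalization ⁻¹ᵁ U.1)
      (genericPoint (gen X).normalization) hx' (((gen X).normalizationObjIso U.2).inv b) = 0 := hb
  have h2 := evaluation_genericPoint_injective (gen X).normalization _ hx'
    (h1.trans (map_zero _).symm)
  have h3 : Function.Injective ((gen X).normalizationObjIso U.2).inv :=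
    (ConcreteCategory.bijective_of_isIso ((gen X).normalizationObjIso U.2).inv).1
  exact h3 (h2.trans (map_zero _).symm)

end more

end Groth.Agent.Lib.helper26.NormAff
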