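import Mathlib
import Groth.Agent.Lib.helper26.BrFib1
import Groth.Agent.Lib.helper26.NormAff2
import Groth.Agent.Lib.helper26.BrnchLib4

set_option autoImplicit false
universe u
open CategoryTheory CategoryTheory.Limits AlgebraicGeometry

namespace Groth.Agent.Lib.helper26.BrFib

open Groth.Agent.Lib.helper26.NormAff Groth.Agent.Lib.helper26.BrnchLib

section P3
variable {Z Y : Scheme.{u}} (f : Z ⟶ Y) (U : Y.Opens) (hU : IsAffineOpen U)
  (hW : IsAffineOpen (f ⁻¹ᵁ U)) (y : Y) (hy : y ∈ U)

/-- points of the fibre over `y` as primes of `Γ(Z, f⁻¹U)` lying over the prime of `y`. -/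
noncomputable def fibreToPrimes (z : {z : Z // f z = y}) :
    {P : PrimeSpectrum Γ(Z, f ⁻¹ᵁ U) //
      P.comap (f.app U).hom = hU.primeIdealOf ⟨y, hy⟩} :=
  ⟨hW.primeIdealOf ⟨z.1, by show f z.1 ∈ U; rw [z.2]; exact hy⟩, by
    have h := IsAffineOpen.comap_primeIdealOf_appLE (f := f) (x := z.1) U hU (f ⁻¹ᵁ U) hW le_rfl
      (by show f z.1 ∈ U; rw [z.2]; exact hy)
    rw [← Scheme.Hom.app_eq_appLE] at h
    rw [h]
    congr 1
    exact Subtype.ext z.2⟩

theorem fibreToPrimes_bijective : Function.Bijective (fibreToPrimes f U hU hW y hy) := by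
  have hinjW : Function.Injective hW.primeIdealOf := by
    intro a b hab
    have h1 := congrArg hW.fromSpec hab
    rw [hW.fromSpec_primeIdealOf, hW.fromSpec_primeIdealOf] at h1
    exact Subtype.ext h1
  have hinjU : Function.Injective hU.primeIdealOf := by
    intro a b hab
    have h1 := congrArg hU.fromSpec hab
    rw [hU.fromSpec_primeIdealOf, hU.fromSpec_primeIdealOf] at h1
    exact Subtype.ext h1
  constructor
  · intro z1 z2 h
    have h1 : hW.primeIdealOf ⟨z1.1, _⟩ = hW.primeIdealOf ⟨z2.1, _⟩ := congrArg Subtype.val h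
    have h2 := hinjW h1
    exact Subtype.ext (congrArg (fun w : (f ⁻¹ᵁ U : Z.Opens) => (w : Z)) h2)
  · rintro ⟨P, hP⟩
    have hmem : hW.fromSpec P ∈ f ⁻¹ᵁ U := by
      have : hW.fromSpec P ∈ Set.range hW.fromSpec := ⟨_, rfl⟩
      rwa [hW.range_fromSpec] at this
    have hPeq : hW.primeIdealOf ⟨hW.fromSpec P, hmem⟩ = P := by
      apply hW.fromSpec.isOpenEmbedding.injective
      rw [hW.fromSpec_primeIdealOf]
    have hfy : f (hW.fromSpec P) = y := by
      have h := IsAffineOpen.comap_primeIdealOf_appLE (f := f) (x := hW.fromSpec P) U hU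
        (f ⁻¹ᵁ U) hW le_rfl hmem
      rw [← Scheme.Hom.app_eq_appLE, hPeq, hP] at h
      have h2 := hinjU h
      exact (congrArg Subtype.val h2).symm
    refine ⟨⟨hW.fromSpec P, hfy⟩, Subtype.ext ?_⟩
    exact hPeq

theorem ker_evaluation (z : Z) (hz : z ∈ f ⁻¹ᵁ U) :
    RingHom.ker (Z.evaluation (f ⁻¹ᵁ U) z hz).hom = (hW.primeIdealOf ⟨z, hz⟩).asIdeal := by
  rw [hW.primeIdealOf_eq_map_closedPoint]
  ext c
  rw [RingHom.mem_ker]
  show _ ↔ (Z.presheaf.germ (f ⁻¹ᵁ U) z hz).hom c ∈ IsLocalRing.maximalIdeal _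
  rw [← IsLocalRing.residue_eq_zero_iff]
  rfl

end P3

/-- maximal spectra of isomorphic rings. -/
noncomputable def maxSpecEquiv {R S : Type*} [CommRing R] [CommRing S] (e : R ≃+* S) :
    MaximalSpectrum R ≃ MaximalSpectrum S where
  toFun M := ⟨M.asIdeal.comap e.symm.toRingHom,
    haveI := M.isMaximal; Ideal.comap_isMaximal_of_surjective _ e.symm.surjective⟩
  invFun M := ⟨M.asIdeal.comap e.toRingHom,
    haveI := M.isMaximal; Ideal.comap_isMaximal_of_surjective _ e.surjective⟩
  left_inv M := by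
    apply MaximalSpectrum.ext
    ext r
    show e.symm (e r) ∈ M.asIdeal ↔ _
    rw [RingEquiv.symm_apply_apply]
  right_inv M := by
    apply MaximalSpectrum.ext
    ext r
    show e (e.symm r) ∈ M.asIdeal ↔ _
    rw [RingEquiv.apply_symm_apply]

theorem maxSpecEquiv_asIdeal {R S : Type*} [CommRing R] [CommRing S] (e : R ≃+* S)
    (M : MaximalSpectrum R) : (maxSpecEquiv e M).asIdeal = M.asIdeal.comap e.symm.toRingHom := rfl

section geom
variable (X : Scheme.{u}) [IsIntegral X] [QuasiCompact (gen X)] [QuasiSeparated (gen X)]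
  (U : X.affineOpens) (x : X) (hx : x ∈ U.1)

/-- the section ring of the normalization over `U`. -/
abbrev GW : Type u := Γ((gen X).normalization, (gen X).fromNormalization ⁻¹ᵁ U.1)

include hx in
theorem nonempty_U : Nonempty U.1 := ⟨⟨x, hx⟩⟩

include hx in
theorem gen_mem : genericPoint X ∈ U.1 := genericPoint_mem X U.1 ⟨x, hx⟩

/-- `γ : Γ(Xν, ν⁻¹U) ≃ integralClosure Γ(X,U) K(X)`. -/
noncomputable def gammaEquiv :
    haveI := nonempty_U X U x hx
    GW X U ≃+* integralClosure Γ(X, U.1) X.functionField :=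
  haveI := nonempty_U X U x hx
  letI := ((gen X).app U.1).hom.toAlgebra
  let sa : X.functionField ≃ₐ[Γ(X, U.1)]
      Γ(Spec (X.presheaf.stalk (genericPoint X)), gen X ⁻¹ᵁ U.1) :=
    AlgEquiv.ofRingEquiv (f := secEquiv X U.1 (gen_mem X U x hx))
      (fun a => secEquiv_germ X U.1 (gen_mem X U x hx) a)
  ((gen X).normalizationObjIso U.2).commRingCatIsoToRingEquiv.trans
    (AlgEquiv.mapIntegralClosure sa).symm.toRingEquiv

theorem gammaEquiv_app (a : Γ(X, U.1)) :
    haveI := nonempty_U X U x hx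
    gammaEquiv X U x hx (((gen X).fromNormalization.app U.1).hom a) =
      algebraMap Γ(X, U.1) (integralClosure Γ(X, U.1) X.functionField) a := by
  haveI := nonempty_U X U x hx
  letI := ((gen X).app U.1).hom.toAlgebra
  have h2 := (gen X).fromNormalization_app U.2
  have h3 : ((gen X).normalizationObjIso U.2).commRingCatIsoToRingEquiv
      (((gen X).fromNormalization.app U.1).hom a) = algebraMap Γ(X, U.1)
        (integralClosure Γ(X, U.1)
          Γ(Spec (X.presheaf.stalk (genericPoint X)), gen X ⁻¹ᵁ U.1)) a := by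
    rw [h2]
    show ((gen X).normalizationObjIso U.2).hom.hom
      (((gen X).normalizationObjIso U.2).inv.hom _) = _
    rw [← CommRingCat.comp_apply, Iso.inv_hom_id]
    rfl
  unfold gammaEquiv
  simp only [RingEquiv.trans_apply]
  rw [h3]
  exact AlgEquiv.commutes _ a

/-- `χ : normRed O_x ≃ integralClosure O_x K(X)`. -/
noncomputable def chiEquiv :
    CAlg2.normRed (X.presheaf.stalk x) ≃ₐ[X.presheaf.stalk x]
      integralClosure (X.presheaf.stalk x) X.functionField :=
  (normEquiv (X.presheaf.stalk x)).symm.trans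
    (AlgEquiv.mapIntegralClosure (FractionRing.algEquiv (X.presheaf.stalk x) X.functionField))

set_option maxHeartbeats 1600000 in
theorem main1 :
    ∃ Ψ : {x' : (gen X).normalization // (gen X).fromNormalization x' = x} ≃
        MaximalSpectrum (CAlg2.normRed (X.presheaf.stalk x)),
      ∀ (x' : (gen X).normalization) (hx' : (gen X).fromNormalization x' = x),
        ∃ θ' : CAlg2.normRed (X.presheaf.stalk x) →+* (gen X).normalization.residueField x',
          Function.Surjective θ' ∧ RingHom.ker θ' = (Ψ ⟨x', hx'⟩).asIdeal ∧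
          ∀ a : Γ(X, U.1),
            θ' (algebraMap (X.presheaf.stalk x) _ (X.presheaf.germ U.1 x hx a)) =
              ((gen X).fromNormalization.residueFieldMap x').hom
                (X.evaluation U.1 ((gen X).fromNormalization x') (by rw [hx']; exact hx) a) := by
  haveI := nonempty_U X U x hx
  haveI : IsDomain Γ(X, U.1) := IsIntegral.component_integral U.1
  letI := TopCat.Presheaf.algebra_section_stalk X.presheaf ⟨x, hx⟩
  haveI := U.2.isLocalization_stalk ⟨x, hx⟩
  haveI := functionField_isScalarTower X U.1 ⟨x, hx⟩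
  haveI := functionField_isFractionRing_of_isAffineOpen X U.1 U.2
  have hW : IsAffineOpen ((gen X).fromNormalization ⁻¹ᵁ U.1) := U.2.preimage _
  let γ := gammaEquiv X U x hx
  let χ := chiEquiv X x
  -- F1
  let F1 := Equiv.ofBijective _
    (fibreToPrimes_bijective (gen X).fromNormalization U.1 U.2 hW x hx)
  -- F2
  let F2 : {P : PrimeSpectrum (GW X U) // P.comap ((gen X).fromNormalization.app U.1).hom =
        U.2.primeIdealOf ⟨x, hx⟩} ≃
      {q : PrimeSpectrum (integralClosure Γ(X, U.1) X.functionField) //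
        q.asIdeal.comap (algebraMap Γ(X, U.1) (integralClosure Γ(X, U.1) X.functionField)) =
          (U.2.primeIdealOf ⟨x, hx⟩).asIdeal} :=
    Equiv.subtypeEquiv (PrimeSpectrum.comapEquiv γ).toEquiv (by
      intro P
      have key : (((PrimeSpectrum.comapEquiv γ).toEquiv P).asIdeal.comap
          (algebraMap Γ(X, U.1) (integralClosure Γ(X, U.1) X.functionField))) =
          (P.comap ((gen X).fromNormalization.app U.1).hom).asIdeal := by
        ext a
        show γ.symm (algebraMap Γ(X, U.1) _ a) ∈ P.asIdeal ↔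
          ((gen X).fromNormalization.app U.1).hom a ∈ P.asIdeal
        rw [← gammaEquiv_app X U x hx a]
        show γ.symm (γ _) ∈ _ ↔ _
        rw [RingEquiv.symm_apply_apply]
      rw [key]
      constructor
      · intro h; rw [h]
      · intro h; exact PrimeSpectrum.ext h)
  -- F3
  let F3 := Equiv.ofBijective _
    (contract_bijective Γ(X, U.1) (X.presheaf.stalk x) X.functionField
      (U.2.primeIdealOf ⟨x, hx⟩).asIdeal)
  -- F4
  let F4 := maxSpecEquiv χ.toRingEquiv
  let Ψ := ((F1.trans F2).trans F3.symm).trans F4.symm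
  refine ⟨Ψ, ?_⟩
  intro x' hx'
  have hxW : x' ∈ (gen X).fromNormalization ⁻¹ᵁ U.1 := by
    show (gen X).fromNormalization x' ∈ U.1
    rw [hx']; exact hx
  -- the evaluation on `B₁`
  let ψ : integralClosure Γ(X, U.1) X.functionField →+* (gen X).normalization.residueField x' :=
    ((gen X).normalization.evaluation _ x' hxW).hom.comp γ.symm.toRingHom
  have hkerψ : RingHom.ker ψ = (F2 (F1 ⟨x', hx'⟩)).1.asIdeal := by
    ext b
    rw [RingHom.mem_ker]
    show (gen X).normalization.evaluation _ x' hxW (γ.symm b) = 0 ↔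
      γ.symm b ∈ (hW.primeIdealOf ⟨x', hxW⟩).asIdeal
    rw [← ker_evaluation (gen X).fromNormalization U.1 hW x' hxW, RingHom.mem_ker]
  have hψp : (RingHom.ker ψ).comap (algebraMap Γ(X, U.1)
      (integralClosure Γ(X, U.1) X.functionField)) = (U.2.primeIdealOf ⟨x, hx⟩).asIdeal := by
    rw [hkerψ]
    exact (F2 (F1 ⟨x', hx'⟩)).2
  have hgen : ∀ r : (gen X).normalization.residueField x', ∃ c s, ψ s ≠ 0 ∧ r = ψ c / ψ s := by
    intro r
    obtain ⟨c, s, hs, hr⟩ := exists_evaluation_div (gen X).normalization _ hW x' hxW r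
    refine ⟨γ c, γ s, ?_, ?_⟩
    · show (gen X).normalization.evaluation _ x' hxW (γ.symm (γ s)) ≠ 0
      rw [RingEquiv.symm_apply_apply]; exact hs
    · show r = (gen X).normalization.evaluation _ x' hxW (γ.symm (γ c)) /
        (gen X).normalization.evaluation _ x' hxW (γ.symm (γ s))
      rw [RingEquiv.symm_apply_apply, RingEquiv.symm_apply_apply]; exact hr
  obtain ⟨θ, hcomp, hsurj, hmax, hker⟩ := exists_extension Γ(X, U.1) (X.presheaf.stalk x)
    X.functionField (U.2.primeIdealOf ⟨x, hx⟩).asIdeal ψ hψp hgen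
  -- identify `ker θ`
  have hF3 : F3 ⟨RingHom.ker θ, hmax⟩ = F2 (F1 ⟨x', hx'⟩) := by
    apply Subtype.ext
    apply PrimeSpectrum.ext
    show (RingHom.ker θ).comap _ = _
    rw [hker, hkerψ]
  have hΨ : F4 (Ψ ⟨x', hx'⟩) = ⟨RingHom.ker θ, hmax⟩ := by
    show F4 (F4.symm (F3.symm (F2 (F1 ⟨x', hx'⟩)))) = _
    rw [Equiv.apply_symm_apply, ← hF3, Equiv.symm_apply_apply]
  refine ⟨θ.comp χ.toRingEquiv.toRingHom, hsurj.comp χ.surjective, ?_, ?_⟩
  · have h1 : (Ψ ⟨x', hx'⟩).asIdeal.comap χ.toRingEquiv.symm.toRingHom = RingHom.ker θ :=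
      congrArg MaximalSpectrum.asIdeal hΨ
    ext n
    rw [RingHom.mem_ker]
    show θ (χ n) = 0 ↔ _
    rw [← RingHom.mem_ker, ← h1]
    show χ.toRingEquiv.symm (χ n) ∈ (Ψ ⟨x', hx'⟩).asIdeal ↔ _
    rw [show χ.toRingEquiv.symm (χ n) = n from χ.symm_apply_apply n]
  · intro a
    show θ (χ (algebraMap (X.presheaf.stalk x) _ (X.presheaf.germ U.1 x hx a))) = _
    rw [χ.commutes]
    have h1 : algebraMap (X.presheaf.stalk x) (integralClosure (X.presheaf.stalk x)
        X.functionField) (X.presheaf.germ U.1 x hx a) =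
        algebraMap (integralClosure Γ(X, U.1) X.functionField) _
          (algebraMap Γ(X, U.1) _ a) := by
      apply Subtype.ext
      show algebraMap (X.presheaf.stalk x) X.functionField
        (algebraMap Γ(X, U.1) (X.presheaf.stalk x) a) = algebraMap Γ(X, U.1) X.functionField a
      rw [← IsScalarTower.algebraMap_apply]
    rw [h1, ← RingHom.comp_apply, hcomp]
    show (gen X).normalization.evaluation _ x' hxW (γ.symm (algebraMap Γ(X, U.1) _ a)) = _
    rw [← gammaEquiv_app X U x hx a]
    show (gen X).normalization.evaluation _ x' hxW (γ.symm (γ _)) = _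
    rw [RingEquiv.symm_apply_apply]
    exact (Scheme.evaluation_naturality_apply (gen X).fromNormalization x'
      (by rw [hx']; exact hx) a).symm

end geom

end Groth.Agent.Lib.helper26.BrFib
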