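import Mathlib

set_option autoImplicit false
universe u

namespace Groth.Agent.Lib.helper26.BrFib

open scoped ENNReal

theorem enat_tsum_toENNReal {ι : Type*} (f : ι → ℕ∞) :
    ((∑' i, f i : ℕ∞) : ℝ≥0∞) = ∑' i, (f i : ℝ≥0∞) := by
  have h : Topology.IsClosedEmbedding (ENat.toENNRealRingHom : ℕ∞ → ℝ≥0∞) :=
    ENat.isClosedEmbedding_toENNReal
  exact h.map_tsum f

theorem enat_card_sigma {ι : Type*} (α : ι → Type*) :
    ENat.card (Σ i, α i) = ∑' i, ENat.card (α i) := by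
  rw [← ENat.toENNReal_inj, enat_tsum_toENNReal, ← ENNReal.tsum_one,
    ENNReal.tsum_sigma' (fun _ : (Σ i, α i) => (1 : ℝ≥0∞))]
  exact tsum_congr (fun i => ENNReal.tsum_one)

end Groth.Agent.Lib.helper26.BrFib
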