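import Mathlib
import Groth.Agent.Lib.helper26.BrFib2
import Groth.Agent.Lib.helper26.BrFib3

set_option autoImplicit false
universe u
open CategoryTheory CategoryTheory.Limits AlgebraicGeometry

namespace Groth.Agent.Lib.helper26.BrFib

open Groth.Agent.Lib.helper26.NormAff Groth.Agent.Lib.helper26.BrnchLib CAlg2 Brnch

section PP
variable (O : Type u) [CommRing O] [IsLocalRing O]

/-- abstract per-point comparison: if `N/m' ≅ F` compatibly with the residue field of `O`, then
the embedding counts agree. -/
theorem card_emb_eq_of_equiv (m' : MaximalSpectrum (normRed O)) (F : Type u) [Field F]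
    (res : IsLocalRing.ResidueField O →+* F) (θ' : normRed O →+* F)
    (hsurj : Function.Surjective θ') (hker : RingHom.ker θ' = m'.asIdeal)
    (hcompat : ∀ o : O, θ' (algebraMap O (normRed O) o) = res (IsLocalRing.residue O o)) :
    ENat.card (Emb O m') =
      (letI := res.toAlgebra; ENat.card (Field.Emb (IsLocalRing.ResidueField O) F)) := by
  letI algF := res.toAlgebra
  letI algN := (resAlg O m').toAlgebra
  let e_F : (normRed O ⧸ m'.asIdeal) ≃+* F :=
    (Ideal.quotEquivOfEq hker.symm).trans (RingHom.quotientKerEquivOfSurjective hsurj)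
  have he_F : ∀ n : normRed O, e_F (Ideal.Quotient.mk _ n) = θ' n := fun n => rfl
  have hc : ∀ c : IsLocalRing.ResidueField O, e_F (resAlg O m' c) = res c := by
    intro c
    obtain ⟨o, rfl⟩ := IsLocalRing.residue_surjective c
    rw [resAlg_residue, ← hcompat o]
    rfl
  let e_F' : (normRed O ⧸ m'.asIdeal) ≃ₐ[IsLocalRing.ResidueField O] F :=
    AlgEquiv.ofRingEquiv (f := e_F) hc
  -- integrality
  haveI : IsScalarTower O (IsLocalRing.ResidueField O) (normRed O ⧸ m'.asIdeal) :=
    IsScalarTower.of_algebraMap_eq (fun a => rfl)
  haveI hint : Algebra.IsIntegral (IsLocalRing.ResidueField O) (normRed O ⧸ m'.asIdeal) := by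
    refine ⟨fun y => ?_⟩
    obtain ⟨n, rfl⟩ := Ideal.Quotient.mk_surjective y
    have h1 : IsIntegral (red O) n := Algebra.IsIntegral.isIntegral n
    haveI : Algebra.IsIntegral O (red O) :=
      Algebra.isIntegral_of_surjective Ideal.Quotient.mk_surjective
    have h2 : IsIntegral O n := isIntegral_trans n h1
    have h3 : IsIntegral O (Ideal.Quotient.mkₐ O m'.asIdeal n) := h2.map _
    exact h3.tower_top
  haveI : Algebra.IsIntegral (IsLocalRing.ResidueField O) F :=
    Algebra.IsIntegral.of_surjective e_F'.toAlgHom e_F'.surjective
  haveI : Algebra.IsAlgebraic (IsLocalRing.ResidueField O) F := Algebra.IsIntegral.isAlgebraic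
  refine ENat.card_congr ?_
  exact (embEquivAlgHom O m').trans
    ((e_F'.arrowCongr AlgEquiv.refl).trans
      (Field.embEquivOfIsAlgClosed (IsLocalRing.ResidueField O) F
        (AlgebraicClosure (IsLocalRing.ResidueField O))).symm)

end PP

section geomPP
variable (X : Scheme.{u}) [IsIntegral X] [QuasiCompact (gen X)] [QuasiSeparated (gen X)]
  (U : X.affineOpens)

theorem card_emb_eq (x : X) (hx : x ∈ U.1) (x' : (gen X).normalization)
    (hx' : (gen X).fromNormalization x' = x)
    (m' : MaximalSpectrum (normRed (X.presheaf.stalk x)))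
    (θ' : normRed (X.presheaf.stalk x) →+* (gen X).normalization.residueField x')
    (hsurj : Function.Surjective θ') (hker : RingHom.ker θ' = m'.asIdeal)
    (hcompat : ∀ a : Γ(X, U.1),
      θ' (algebraMap (X.presheaf.stalk x) _ (X.presheaf.germ U.1 x hx a)) =
        ((gen X).fromNormalization.residueFieldMap x').hom
          (X.evaluation U.1 ((gen X).fromNormalization x') (by rw [hx']; exact hx) a)) :
    ENat.card (Emb (X.presheaf.stalk x) m') =
      (letI := ((gen X).fromNormalization.residueFieldMap x').hom.toAlgebra
       ENat.card (Field.Emb (X.residueField ((gen X).fromNormalization x'))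
         ((gen X).normalization.residueField x'))) := by
  subst hx'
  refine card_emb_eq_of_equiv (X.presheaf.stalk ((gen X).fromNormalization x')) m'
    ((gen X).normalization.residueField x')
    ((gen X).fromNormalization.residueFieldMap x').hom θ' hsurj hker ?_
  letI := TopCat.Presheaf.algebra_section_stalk X.presheaf ⟨(gen X).fromNormalization x', hx⟩
  haveI := U.2.isLocalization_stalk ⟨(gen X).fromNormalization x', hx⟩
  have key : (θ'.comp (algebraMap (X.presheaf.stalk ((gen X).fromNormalization x')) _)) =
      ((gen X).fromNormalization.residueFieldMap x').hom.comp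
        (IsLocalRing.residue (X.presheaf.stalk ((gen X).fromNormalization x'))) := by
    apply IsLocalization.ringHom_ext
      (U.2.primeIdealOf ⟨(gen X).fromNormalization x', hx⟩).asIdeal.primeCompl
    ext a
    exact hcompat a
  intro o
  exact RingHom.congr_fun key o

theorem branches_main (x : X) :
    Brnch.numBranchesAt X x =
        ENat.card {x' : (gen X).normalization // (gen X).fromNormalization x' = x} ∧
      Brnch.numGeomBranchesAt X x =
        ∑' x' : {x' : (gen X).normalization // (gen X).fromNormalization x' = x},
          (letI := ((gen X).fromNormalization.residueFieldMap x'.1).hom.toAlgebra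
           ENat.card (Field.Emb (X.residueField ((gen X).fromNormalization x'.1))
             ((gen X).normalization.residueField x'.1))) := by
  obtain ⟨U, hx⟩ := exists_affine_nhd X x
  obtain ⟨Ψ, hΨ⟩ := main1 X U x hx
  have hmin : (minimalPrimes (X.presheaf.stalk x)).Finite := by
    rw [IsDomain.minimalPrimes_eq_singleton_bot]
    exact Set.finite_singleton _
  constructor
  · unfold Brnch.numBranchesAt Brnch.numBranches
    rw [if_pos hmin]
    exact ENat.card_congr Ψ.symm
  · unfold Brnch.numGeomBranchesAt Brnch.numGeomBranches
    rw [if_pos hmin, enat_card_sigma, ← Ψ.tsum_eq]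
    refine tsum_congr (fun x' => ?_)
    obtain ⟨θ', hsurj, hker, hcompat⟩ := hΨ x'.1 x'.2
    exact card_emb_eq X U x hx x'.1 x'.2 (Ψ x') θ' hsurj hker hcompat

end geomPP

end Groth.Agent.Lib.helper26.BrFib
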