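import Mathlib
import Groth.Agent.S9235
import Groth.Agent.Lib.helper26.BrnchLib

set_option autoImplicit false
universe u
open CAlg2 Brnch

namespace Groth.Agent.Lib.helper26.BrnchLib

section geomuni
variable (A : Type u) [CommRing A] [IsLocalRing A]

theorem isIntegral_quot (m' : MaximalSpectrum (normRed A)) :
    letI := (resAlg A m').toAlgebra
    Algebra.IsIntegral (IsLocalRing.ResidueField A) (normRed A ⧸ m'.asIdeal) := by
  letI := (resAlg A m').toAlgebra
  haveI : IsScalarTower A (IsLocalRing.ResidueField A) (normRed A ⧸ m'.asIdeal) :=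
    IsScalarTower.of_algebraMap_eq (fun a => rfl)
  refine ⟨fun y => ?_⟩
  obtain ⟨n, rfl⟩ := Ideal.Quotient.mk_surjective y
  have h1 : IsIntegral (red A) n := Algebra.IsIntegral.isIntegral n
  haveI : Algebra.IsIntegral A (red A) :=
    Algebra.isIntegral_of_surjective Ideal.Quotient.mk_surjective
  have h2 : IsIntegral A n := isIntegral_trans n h1
  have h3 : IsIntegral A (Ideal.Quotient.mkₐ A m'.asIdeal n) := h2.map _
  exact h3.tower_top

/-- `Emb A m'` is nonempty. -/
theorem nonempty_emb (m' : MaximalSpectrum (normRed A)) : Nonempty (Emb A m') := by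
  letI := (resAlg A m').toAlgebra
  haveI := isIntegral_quot A m'
  haveI : Algebra.IsAlgebraic (IsLocalRing.ResidueField A) (normRed A ⧸ m'.asIdeal) :=
    Algebra.IsIntegral.isAlgebraic
  exact ⟨(embEquivAlgHom A m').symm (IsAlgClosed.lift (R := IsLocalRing.ResidueField A)
    (S := normRed A ⧸ m'.asIdeal) (M := AlgebraicClosure (IsLocalRing.ResidueField A)))⟩

theorem range_toResidue (m' : MaximalSpectrum (normRed A)) :
    (toResidue A m').range = (resAlg A m').range := by
  rw [← resAlg_comp, ← RingHom.map_range]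
  have : (IsLocalRing.residue A).range = ⊤ :=
    RingHom.range_eq_top.2 IsLocalRing.residue_surjective
  rw [this, ← RingHom.range_eq_map]

/-- the purely inseparable condition of `IsGeomUnibranch` is `Subsingleton (Emb A m')`. -/
theorem subsingleton_emb_iff (m' : MaximalSpectrum (normRed A)) :
    Subsingleton (Emb A m') ↔
      ∀ x : normRed A ⧸ m'.asIdeal, ∃ n : ℕ,
        x ^ (ringExpChar (normRed A ⧸ m'.asIdeal)) ^ n ∈ (toResidue A m').range := by
  letI := (resAlg A m').toAlgebra
  haveI := isIntegral_quot A m'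
  haveI : Algebra.IsAlgebraic (IsLocalRing.ResidueField A) (normRed A ⧸ m'.asIdeal) :=
    Algebra.IsIntegral.isAlgebraic
  haveI : ExpChar (IsLocalRing.ResidueField A) (ringExpChar (normRed A ⧸ m'.asIdeal)) :=
    (algebraMap (IsLocalRing.ResidueField A) (normRed A ⧸ m'.asIdeal)).expChar
      (algebraMap (IsLocalRing.ResidueField A) (normRed A ⧸ m'.asIdeal)).injective _
  rw [range_toResidue]
  show _ ↔ ∀ x : normRed A ⧸ m'.asIdeal, ∃ n : ℕ,
    x ^ (ringExpChar (normRed A ⧸ m'.asIdeal)) ^ n ∈
      (algebraMap (IsLocalRing.ResidueField A) (normRed A ⧸ m'.asIdeal)).range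
  rw [← isPurelyInseparable_iff_pow_mem (IsLocalRing.ResidueField A)
    (ringExpChar (normRed A ⧸ m'.asIdeal)), isPurelyInseparable_iff_subsingleton_emb]
  have e : Emb A m' ≃ Field.Emb (IsLocalRing.ResidueField A) (normRed A ⧸ m'.asIdeal) :=
    (embEquivAlgHom A m').trans (Field.embEquivOfIsAlgClosed (IsLocalRing.ResidueField A)
      (normRed A ⧸ m'.asIdeal) (AlgebraicClosure (IsLocalRing.ResidueField A))).symm
  exact e.subsingleton_congr

theorem numGeomBranches_eq_one_iff : numGeomBranches A = 1 ↔ IsGeomUnibranch A := by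
  classical
  unfold IsGeomUnibranch
  rw [← H14B.main A]
  unfold numGeomBranches numBranches
  by_cases hfin : (minimalPrimes A).Finite
  · simp only [hfin, if_true]
    constructor
    · intro h
      obtain ⟨huniq⟩ := ENat.card_eq_one_iff_unique.mp h
      have hm : ∀ m' : MaximalSpectrum (normRed A), m' = huniq.default.1 := by
        intro m'
        obtain ⟨σ⟩ := nonempty_emb A m'
        exact congrArg Sigma.fst (huniq.uniq ⟨m', σ⟩)
      refine ⟨?_, ?_⟩
      · rw [ENat.card_eq_one_iff_unique]
        exact ⟨{ default := huniq.default.1, uniq := hm }⟩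
      · intro m' hm'
        have hsub : Subsingleton (Emb A ⟨m', hm'⟩) := by
          refine ⟨fun σ τ => ?_⟩
          have h1 := (huniq.uniq ⟨⟨m', hm'⟩, σ⟩).trans (huniq.uniq ⟨⟨m', hm'⟩, τ⟩).symm
          exact eq_of_heq (Sigma.mk.inj h1).2
        exact (subsingleton_emb_iff A ⟨m', hm'⟩).1 hsub
    · rintro ⟨h1, h2⟩
      obtain ⟨huniq⟩ := ENat.card_eq_one_iff_unique.mp h1
      rw [ENat.card_eq_one_iff_unique]
      obtain ⟨σ₀⟩ := nonempty_emb A huniq.default
      refine ⟨{ default := ⟨huniq.default, σ₀⟩, uniq := ?_ }⟩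
      rintro ⟨m', σ⟩
      obtain rfl : m' = huniq.default := huniq.uniq m'
      have hsub := (subsingleton_emb_iff A huniq.default).2
        (@h2 huniq.default.asIdeal huniq.default.isMaximal)
      exact congrArg _ (Subsingleton.elim σ σ₀)
  · simp only [hfin, if_false]
    constructor
    · intro h; exact absurd h (by simp)
    · rintro ⟨h, -⟩; exact absurd h (by simp)

end geomuni

end Groth.Agent.Lib.helper26.BrnchLib
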