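import Mathlib
import Groth.Prelude.Def_Flat
import Groth.Agent.Lib.helper26.BrFib4
import Groth.Agent.Lib.helper26.BrnchLib5

set_option autoImplicit false
universe u
open CategoryTheory CategoryTheory.Limits AlgebraicGeometry

namespace Groth.Agent.Lib.helper26.BrFib

open Groth.Agent.Lib.helper26.NormAff Groth.Agent.Lib.helper26.BrnchLib CAlg2 Brnch

/-- integral + surjective + universally injective ⇒ universal homeomorphism -/
theorem isUnivHomeo_of {X Y : Scheme.{u}} (f : X ⟶ Y) [UniversallyInjective f]
    [Surjective f] [UniversallyClosed f] : FlatMor.IsUnivHomeo f := by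
  intro X' Y' i₁ i₂ f' h
  have h1 : UniversallyInjective f' := MorphismProperty.of_isPullback h.flip ‹_›
  have h2 : Surjective f' := MorphismProperty.of_isPullback h.flip ‹_›
  have h3 : UniversallyClosed f' := MorphismProperty.of_isPullback h.flip ‹_›
  show IsHomeomorph f'
  rw [isHomeomorph_iff_continuous_isClosedMap_bijective]
  exact ⟨f'.continuous, f'.isClosedMap, f'.injective, f'.surjective⟩

section
variable (X : Scheme.{u}) [IsIntegral X] [QuasiCompact (gen X)] [QuasiSeparated (gen X)]

theorem isUnivHomeo_normalization (hX : ∀ x : X, IsGeomUnibranch (X.presheaf.stalk x)) :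
    FlatMor.IsUnivHomeo (gen X).fromNormalization := by
  -- the sigma type over each fibre is a singleton
  have key : ∀ x : X, ENat.card (Σ x' : {x' : (gen X).normalization //
      (gen X).fromNormalization x' = x},
        (letI := ((gen X).fromNormalization.residueFieldMap x'.1).hom.toAlgebra
         Field.Emb (X.residueField ((gen X).fromNormalization x'.1))
           ((gen X).normalization.residueField x'.1))) = 1 := by
    intro x
    have h1 : Brnch.numGeomBranchesAt X x = 1 := (numGeomBranches_eq_one_iff _).2 (hX x)
    rw [(branches_main X x).2] at h1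
    rw [enat_card_sigma]
    exact h1
  have hinj : Function.Injective (gen X).fromNormalization := by
    intro a b hab
    obtain ⟨huniq⟩ := ENat.card_eq_one_iff_unique.mp (key ((gen X).fromNormalization b))
    letI := ((gen X).fromNormalization.residueFieldMap a).hom.toAlgebra
    letI := ((gen X).fromNormalization.residueFieldMap b).hom.toAlgebra
    have h1 := huniq.uniq ⟨⟨a, hab⟩, default⟩
    have h2 := huniq.uniq ⟨⟨b, rfl⟩, default⟩
    have h3 := congrArg Sigma.fst (h1.trans h2.symm)
    exact congrArg Subtype.val h3
  have hpi : ∀ x', ((gen X).fromNormalization.residueFieldMap x').hom.IsPurelyInseparable := by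
    intro x'
    obtain ⟨huniq⟩ := ENat.card_eq_one_iff_unique.mp (key ((gen X).fromNormalization x'))
    letI := ((gen X).fromNormalization.residueFieldMap x').hom.toAlgebra
    rw [RingHom.IsPurelyInseparable, isPurelyInseparable_iff_subsingleton_emb]
    refine ⟨fun σ τ => ?_⟩
    have h1 := (huniq.uniq ⟨⟨x', rfl⟩, σ⟩).trans (huniq.uniq ⟨⟨x', rfl⟩, τ⟩).symm
    exact eq_of_heq (Sigma.mk.inj h1).2
  haveI : UniversallyInjective (gen X).fromNormalization := by
    have h := (tfae_universallyInjective (gen X).fromNormalization).out 0 2
    exact h.2 ⟨hinj, hpi⟩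
  haveI : Surjective (gen X).fromNormalization := ⟨surjective_fromNormalization X⟩
  exact isUnivHomeo_of _

end

end Groth.Agent.Lib.helper26.BrFib
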