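import Mathlib
import Groth.Agent.Lib.helper26.DeltaInv2
import Groth.Agent.Lib.helper26.BrnchLib2
import Groth.Agent.Lib.helper26.BrSum1

set_option autoImplicit false
universe u

namespace Groth.Agent.Lib.helper26.BrSum

open Groth.Agent.Lib.helper26.DeltaInv

section B
variable {A : Type*} [CommRing A] {ι : Type*} [Fintype ι] [DecidableEq ι]
  {K : ι → Type*} [∀ i, Field (K i)] [∀ i, Algebra A (K i)]
  {Q : Type*} [CommRing Q] [Algebra A Q] (E : Q ≃ₐ[A] ∀ i, K i)

/-- the product of the projections of the integral closure. -/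
noncomputable def icPi : integralClosure A Q →+* ∀ i, integralClosure A (K i) :=
  Pi.ringHom (fun i => (projIC E i : integralClosure A Q →+* integralClosure A (K i)))

lemma icPi_apply (x : integralClosure A Q) (i : ι) : icPi E x i = projIC E i x := rfl

lemma icPi_bijective : Function.Bijective (icPi E) := by
  constructor
  · intro x y hxy
    apply Subtype.ext
    apply E.injective
    funext i
    have := congrArg (fun z : integralClosure A (K i) => (z : K i)) (congrFun hxy i)
    exact this
  · intro y
    have hint : IsIntegral A (fun i => ((y i : integralClosure A (K i)) : K i)) := by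
      have h1 : (fun i => ((y i : integralClosure A (K i)) : K i)) =
          ∑ i, (Pi.single i ((y i : integralClosure A (K i)) : K i) : ∀ i, K i) :=
        (Finset.univ_sum_single _).symm
      rw [h1]
      exact IsIntegral.sum _ (fun i _ => isIntegral_single i _ (y i).2)
    refine ⟨⟨E.symm (fun i => ((y i : integralClosure A (K i)) : K i)),
      hint.map (E.symm : (∀ i, K i) →ₐ[A] Q)⟩, ?_⟩
    funext i
    apply Subtype.ext
    rw [icPi_apply, projIC_coe]
    show E (E.symm _) i = _
    rw [AlgEquiv.apply_symm_apply]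

/-- the integral closure in a finite product of fields is the product of integral closures. -/
noncomputable def icPiEquiv : integralClosure A Q ≃+* ∀ i, integralClosure A (K i) :=
  RingEquiv.ofBijective (icPi E) (icPi_bijective E)

lemma icPiEquiv_apply (x : integralClosure A Q) (i : ι) : icPiEquiv E x i = projIC E i x := rfl

end B

section C

/-- transport of maximal ideals along a ring isomorphism. -/
noncomputable def maxSpecCongr {B C : Type*} [CommRing B] [CommRing C] (e : B ≃+* C) :
    MaximalSpectrum C ≃ MaximalSpectrum B where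
  toFun m := ⟨m.asIdeal.comap (e : B →+* C),
    haveI := m.isMaximal; Ideal.comap_isMaximal_of_surjective _ e.surjective⟩
  invFun m := ⟨m.asIdeal.comap (e.symm : C →+* B),
    haveI := m.isMaximal; Ideal.comap_isMaximal_of_surjective _ e.symm.surjective⟩
  left_inv m := by
    apply MaximalSpectrum.ext
    ext x
    show e (e.symm x) ∈ m.asIdeal ↔ x ∈ m.asIdeal
    rw [e.apply_symm_apply]
  right_inv m := by
    apply MaximalSpectrum.ext
    ext x
    show e.symm (e x) ∈ m.asIdeal ↔ x ∈ m.asIdeal
    rw [e.symm_apply_apply]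

lemma maxSpecCongr_asIdeal {B C : Type*} [CommRing B] [CommRing C] (e : B ≃+* C)
    (m : MaximalSpectrum C) : (maxSpecCongr e m).asIdeal = m.asIdeal.comap (e : B →+* C) := rfl

variable {ι : Type*} [Finite ι] (B : ι → Type*) [∀ i, CommRing (B i)]

/-- maximal ideals of a finite product. -/
noncomputable def sigmaToPiMax : (Σ i, MaximalSpectrum (B i)) → MaximalSpectrum (∀ i, B i) :=
  fun x => ⟨x.2.asIdeal.comap (Pi.evalRingHom B x.1),
    haveI := x.2.isMaximal
    Ideal.comap_isMaximal_of_surjective _ (Function.surjective_eval x.1)⟩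

lemma sigmaToPiMax_asIdeal (x : Σ i, MaximalSpectrum (B i)) :
    (sigmaToPiMax B x).asIdeal = x.2.asIdeal.comap (Pi.evalRingHom B x.1) := rfl

lemma sigmaToPiMax_bijective : Function.Bijective (sigmaToPiMax B) := by
  constructor
  · rintro ⟨i, m⟩ ⟨j, n⟩ h
    have h1 : PrimeSpectrum.sigmaToPi B ⟨i, m.toPrimeSpectrum⟩ =
        PrimeSpectrum.sigmaToPi B ⟨j, n.toPrimeSpectrum⟩ := by
      apply PrimeSpectrum.ext
      exact congrArg MaximalSpectrum.asIdeal h
    have h2 := PrimeSpectrum.sigmaToPi_injective B h1
    obtain ⟨rfl, h3⟩ := Sigma.mk.inj_iff.1 h2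
    have h4 := eq_of_heq h3
    congr 1
    exact MaximalSpectrum.toPrimeSpectrum_injective h4
  · intro M
    obtain ⟨⟨i, p⟩, hp⟩ := (PrimeSpectrum.sigmaToPi_bijective B).2 M.toPrimeSpectrum
    have hp' : p.asIdeal.comap (Pi.evalRingHom B i) = M.asIdeal :=
      congrArg PrimeSpectrum.asIdeal hp
    have hsurj : Function.Surjective (Pi.evalRingHom B i) := Function.surjective_eval i
    have hmax : p.asIdeal.IsMaximal := by
      have h1 := Ideal.map_eq_top_or_isMaximal_of_surjective (Pi.evalRingHom B i) hsurj
        M.isMaximal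
      rw [← hp', Ideal.map_comap_of_surjective _ hsurj] at h1
      exact h1.resolve_left p.isPrime.ne_top
    exact ⟨⟨i, ⟨p.asIdeal, hmax⟩⟩, MaximalSpectrum.ext hp'⟩

end C

end Groth.Agent.Lib.helper26.BrSum
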