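import Mathlib
import Groth.Prelude.Def_Brnch
import Groth.Prelude.Def_EGA4b
import Groth.Agent.Lib.helper26.BrSum2

set_option autoImplicit false
universe u
open CAlg2 Brnch

namespace Groth.Agent.Lib.helper26.BrSum

open Groth.Agent.Lib.helper26.DeltaInv

section D
variable (A : Type u) [CommRing A]

instance isDomain_red_quot (p : Ideal A) [p.IsPrime] : IsDomain (red (A ⧸ p)) := by
  have h : nilradical (A ⧸ p) = ⊥ := nilradical_eq_zero _
  haveI : (nilradical (A ⧸ p)).IsPrime := by rw [h]; exact Ideal.isPrime_bot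
  exact Ideal.Quotient.isDomain _

/-- the map `A_red → (A/p)_red`. -/
noncomputable def toD (p : Ideal A) [p.IsPrime] : red A →+* red (A ⧸ p) :=
  Ideal.Quotient.lift (nilradical A)
    ((Ideal.Quotient.mk (nilradical (A ⧸ p))).comp (Ideal.Quotient.mk p))
    (fun a ha => by
      rw [RingHom.comp_apply, Ideal.Quotient.eq_zero_iff_mem]
      exact (mem_nilradical.1 ha).map (Ideal.Quotient.mk p))

lemma toD_mk (p : Ideal A) [p.IsPrime] (a : A) :
    toD A p (Ideal.Quotient.mk _ a) = Ideal.Quotient.mk _ (Ideal.Quotient.mk p a) := rfl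

lemma toD_surjective (p : Ideal A) [p.IsPrime] : Function.Surjective (toD A p) := by
  intro y
  obtain ⟨y, rfl⟩ := Ideal.Quotient.mk_surjective y
  obtain ⟨a, rfl⟩ := Ideal.Quotient.mk_surjective y
  exact ⟨Ideal.Quotient.mk _ a, rfl⟩

lemma toD_mk_eq_zero_iff (p : Ideal A) [p.IsPrime] (a : A) :
    toD A p (Ideal.Quotient.mk _ a) = 0 ↔ a ∈ p := by
  rw [toD_mk, Ideal.Quotient.eq_zero_iff_mem, nilradical_eq_zero, Ideal.zero_eq_bot,
    Ideal.mem_bot, Ideal.Quotient.eq_zero_iff_mem]

/-- algebra structure of `(A/p)_red` over `A_red`. -/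
noncomputable def algD (p : Ideal A) [p.IsPrime] : Algebra (red A) (red (A ⧸ p)) :=
  (toD A p).toAlgebra

attribute [local instance] algD

lemma algebraMap_D_apply (p : Ideal A) [p.IsPrime] (r : red A) :
    algebraMap (red A) (red (A ⧸ p)) r = toD A p r := rfl

instance isReduced_red : IsReduced (red A) :=
  (Ideal.isRadical_iff_quotient_reduced (nilradical A)).1 (Ideal.radical_isRadical _)

lemma algebraMap_K_apply (p : Ideal A) [p.IsPrime] (r : red A) :
    algebraMap (red A) (FractionRing (red (A ⧸ p))) r =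
      algebraMap (red (A ⧸ p)) (FractionRing (red (A ⧸ p))) (toD A p r) :=
  IsScalarTower.algebraMap_apply (red A) (red (A ⧸ p)) (FractionRing (red (A ⧸ p))) r

instance isPrime_of_mem (i : minimalPrimes A) : i.1.IsPrime := i.2.1.1

/-- the fields `Frac (A/p)_red`. -/
abbrev K (i : minimalPrimes A) : Type u := FractionRing (red (A ⧸ i.1))

/-- the minimal primes of `A_red`. -/
noncomputable def q (i : minimalPrimes A) : Ideal (red A) :=
  RingHom.ker (algebraMap (red A) (K A i))

lemma mk_mem_q_iff (i : minimalPrimes A) (a : A) :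
    Ideal.Quotient.mk (nilradical A) a ∈ q A i ↔ a ∈ i.1 := by
  rw [q, RingHom.mem_ker, algebraMap_K_apply,
    IsFractionRing.to_map_eq_zero_iff, toD_mk_eq_zero_iff]

lemma comap_q (i : minimalPrimes A) :
    (q A i).comap (Ideal.Quotient.mk (nilradical A)) = i.1 := by
  ext a
  rw [Ideal.mem_comap, mk_mem_q_iff]

lemma minimalPrimes_eq_image :
    minimalPrimes A = Ideal.comap (Ideal.Quotient.mk (nilradical A)) '' minimalPrimes (red A) := by
  have h1 : (nilradical A).minimalPrimes = minimalPrimes A := by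
    show ((⊥ : Ideal A).radical).minimalPrimes = _
    rw [Ideal.radical_minimalPrimes]
  rw [← h1]
  exact Ideal.minimalPrimes_eq_comap

lemma comap_mk_injective :
    Function.Injective (Ideal.comap (Ideal.Quotient.mk (nilradical A))) :=
  Ideal.comap_injective_of_surjective _ Ideal.Quotient.mk_surjective

lemma q_mem (i : minimalPrimes A) : q A i ∈ minimalPrimes (red A) := by
  have h : (i.1 : Ideal A) ∈
      Ideal.comap (Ideal.Quotient.mk (nilradical A)) '' minimalPrimes (red A) := by
    rw [← minimalPrimes_eq_image]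
    exact i.2
  obtain ⟨q', hq', hq'i⟩ := h
  have : q' = q A i := comap_mk_injective A (by rw [hq'i, comap_q])
  rw [← this]
  exact hq'

lemma q_all (p' : Ideal (red A)) (hp' : p' ∈ minimalPrimes (red A)) : ∃ i, q A i = p' := by
  have h : Ideal.comap (Ideal.Quotient.mk (nilradical A)) p' ∈ minimalPrimes A := by
    rw [minimalPrimes_eq_image]
    exact ⟨p', hp', rfl⟩
  refine ⟨⟨_, h⟩, ?_⟩
  apply comap_mk_injective A
  rw [comap_q]

lemma q_injective : Function.Injective (q A) := by
  intro i j hij
  apply Subtype.ext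
  rw [← comap_q A i, ← comap_q A j, hij]

lemma K_frac (i : minimalPrimes A) (z : K A i) :
    ∃ a b : red A, algebraMap (red A) (K A i) b ≠ 0 ∧
      z = algebraMap (red A) (K A i) a / algebraMap (red A) (K A i) b := by
  obtain ⟨x, y, hy, hz⟩ := IsFractionRing.div_surjective (A := red (A ⧸ i.1)) z
  obtain ⟨a, rfl⟩ := toD_surjective A i.1 x
  obtain ⟨b, rfl⟩ := toD_surjective A i.1 y
  refine ⟨a, b, ?_, hz.symm⟩
  rw [algebraMap_K_apply]
  intro h0
  rw [IsFractionRing.to_map_eq_zero_iff] at h0
  rw [h0] at hy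
  exact (nonZeroDivisors.ne_zero hy) rfl

variable [Fintype (minimalPrimes A)] [DecidableEq (minimalPrimes A)]

instance isFractionRing_piK : IsFractionRing (red A) (∀ i : minimalPrimes A, K A i) :=
  isFractionRing_pi (q A) (q_mem A) (q_all A) (q_injective A) (K A) (fun _ => rfl) (K_frac A)

/-- the total ring of fractions of `A_red` as a product of fields. -/
noncomputable def E : FractionRing (red A) ≃ₐ[red A] ∀ i : minimalPrimes A, K A i :=
  FractionRing.algEquiv (red A) _

end D

end Groth.Agent.Lib.helper26.BrSum
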