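import Mathlib
import Groth.Agent.Lib.helper26.BrSum3

set_option autoImplicit false
universe u
open CAlg2 Brnch

namespace Groth.Agent.Lib.helper26.BrSum

open Groth.Agent.Lib.helper26.DeltaInv

attribute [local instance] algD

section D2
variable (A : Type u) [CommRing A]

lemma isIntegral_iff (i : minimalPrimes A) (x : K A i) :
    IsIntegral (red A) x ↔ IsIntegral (red (A ⧸ i.1)) x := by
  constructor
  · intro h
    exact h.tower_top
  · intro h
    haveI : Algebra.IsIntegral (red A) (red (A ⧸ i.1)) :=
      Algebra.isIntegral_of_surjective (toD_surjective A i.1)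
    exact isIntegral_trans x h

/-- the integral closure of `A_red` in `Frac (A/p)_red` is that of `(A/p)_red`. -/
noncomputable def icSame (i : minimalPrimes A) :
    integralClosure (red A) (K A i) ≃+* normRed (A ⧸ i.1) where
  toFun x := ⟨x.1, (isIntegral_iff A i x.1).1 x.2⟩
  invFun y := ⟨y.1, (isIntegral_iff A i y.1).2 y.2⟩
  left_inv _ := rfl
  right_inv _ := rfl
  map_mul' _ _ := rfl
  map_add' _ _ := rfl

lemma icSame_coe (i : minimalPrimes A) (x : integralClosure (red A) (K A i)) :
    ((icSame A i x : normRed (A ⧸ i.1)) : K A i) = (x : K A i) := rfl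

variable [Fintype (minimalPrimes A)] [DecidableEq (minimalPrimes A)]

/-- the decomposition of the normalization. -/
noncomputable def N : normRed A ≃+* ∀ i : minimalPrimes A, normRed (A ⧸ i.1) :=
  (icPiEquiv (E A)).trans (RingEquiv.piCongrRight (fun i => icSame A i))

/-- the projections of the normalization. -/
noncomputable def π (i : minimalPrimes A) : normRed A →+* normRed (A ⧸ i.1) :=
  (Pi.evalRingHom _ i).comp (N A : normRed A →+* ∀ i : minimalPrimes A, normRed (A ⧸ i.1))

lemma π_coe (i : minimalPrimes A) (x : normRed A) :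
    ((π A i x : normRed (A ⧸ i.1)) : K A i) = E A (x : FractionRing (red A)) i := rfl

lemma π_surjective (i : minimalPrimes A) : Function.Surjective (π A i) :=
  (Function.surjective_eval i).comp (N A).surjective

lemma π_algebraMap (i : minimalPrimes A) (r : red A) :
    π A i (algebraMap (red A) (normRed A) r) =
      algebraMap (red (A ⧸ i.1)) (normRed (A ⧸ i.1)) (toD A i.1 r) := by
  apply Subtype.ext
  rw [π_coe]
  show E A (algebraMap (red A) (FractionRing (red A)) r) i =
    algebraMap (red (A ⧸ i.1)) (K A i) (toD A i.1 r)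
  rw [(E A).commutes, Pi.algebraMap_apply, algebraMap_K_apply]

/-- the maximal ideals of the normalization. -/
noncomputable def Ψ : (Σ i : minimalPrimes A, MaximalSpectrum (normRed (A ⧸ i.1))) →
    MaximalSpectrum (normRed A) :=
  fun x => maxSpecCongr (N A) (sigmaToPiMax (fun i : minimalPrimes A => normRed (A ⧸ i.1)) x)

lemma Ψ_asIdeal (x : Σ i : minimalPrimes A, MaximalSpectrum (normRed (A ⧸ i.1))) :
    (Ψ A x).asIdeal = x.2.asIdeal.comap (π A x.1) := rfl

lemma Ψ_bijective : Function.Bijective (Ψ A) :=
  (maxSpecCongr (N A)).bijective.comp (sigmaToPiMax_bijective _)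

end D2

end Groth.Agent.Lib.helper26.BrSum
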