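import Mathlib
import Groth.Agent.Lib.helper26.BrSum4
import Groth.Agent.Lib.helper26.BrFib4

set_option autoImplicit false
universe u
open CAlg2 Brnch

namespace Groth.Agent.Lib.helper26.BrSum

open Groth.Agent.Lib.helper26.DeltaInv Groth.Agent.Lib.helper26.BrnchLib
  Groth.Agent.Lib.helper26.BrFib

attribute [local instance] algD

section F

/-- the number of embeddings does not change along a surjection of base fields. -/
theorem card_fieldEmb_eq_of_surjective (k₁ k₂ F : Type*) [Field k₁] [Field k₂] [Field F]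
    (g : k₁ →+* k₂) (hg : Function.Surjective g) (r : k₂ →+* F) :
    (letI := (r.comp g).toAlgebra; ENat.card (Field.Emb k₁ F)) =
      (letI := r.toAlgebra; ENat.card (Field.Emb k₂ F)) := by
  letI a₁ : Algebra k₁ F := (r.comp g).toAlgebra
  letI a₂ : Algebra k₂ F := r.toAlgebra
  refine ENat.card_congr ?_
  refine
    { toFun := fun σ => { σ.toRingHom with commutes' := fun c => ?_ }
      invFun := fun σ => { σ.toRingHom with commutes' := fun c => ?_ }
      left_inv := fun σ => rfl
      right_inv := fun σ => rfl }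
  · obtain ⟨c, rfl⟩ := hg c
    have h1 := σ.commutes c
    rw [IsScalarTower.algebraMap_apply k₁ F (AlgebraicClosure F)] at h1
    rw [IsScalarTower.algebraMap_apply k₂ F (AlgebraicClosure F)]
    exact h1
  · have h1 := σ.commutes (g c)
    rw [IsScalarTower.algebraMap_apply k₂ F (AlgebraicClosure F)] at h1
    rw [IsScalarTower.algebraMap_apply k₁ F (AlgebraicClosure F)]
    exact h1

end F

section G
variable (A : Type u) [CommRing A] [IsLocalRing A]
  [Fintype (minimalPrimes A)] [DecidableEq (minimalPrimes A)]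

theorem card_emb_Ψ (x : Σ i : minimalPrimes A, MaximalSpectrum (normRed (A ⧸ i.1))) :
    ENat.card (Emb A (Ψ A x)) = ENat.card (Emb (A ⧸ x.1.1) x.2) := by
  obtain ⟨i, m⟩ := x
  haveI := m.isMaximal
  haveI : IsLocalHom (Ideal.Quotient.mk i.1) :=
    IsLocalHom.of_surjective _ Ideal.Quotient.mk_surjective
  let g : IsLocalRing.ResidueField A →+* IsLocalRing.ResidueField (A ⧸ i.1) :=
    IsLocalRing.ResidueField.map (Ideal.Quotient.mk i.1)
  have hg : Function.Surjective g := by
    intro y
    obtain ⟨y, rfl⟩ := IsLocalRing.residue_surjective y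
    obtain ⟨a, rfl⟩ := Ideal.Quotient.mk_surjective y
    exact ⟨IsLocalRing.residue A a, rfl⟩
  have h1 := card_emb_eq_of_equiv A (Ψ A ⟨i, m⟩) (normRed (A ⧸ i.1) ⧸ m.asIdeal)
    ((resAlg (A ⧸ i.1) m).comp g) ((Ideal.Quotient.mk m.asIdeal).comp (π A i))
    (Ideal.Quotient.mk_surjective.comp (π_surjective A i))
    (by
      rw [Ψ_asIdeal, ← RingHom.comap_ker, Ideal.mk_ker])
    (by
      intro a
      show Ideal.Quotient.mk m.asIdeal (π A i (algebraMap (red A) (normRed A)
        (Ideal.Quotient.mk _ a))) = _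
      rw [π_algebraMap]
      rfl)
  have h2 := card_emb_eq_of_equiv (A ⧸ i.1) m (normRed (A ⧸ i.1) ⧸ m.asIdeal)
    (resAlg (A ⧸ i.1) m) (Ideal.Quotient.mk m.asIdeal) Ideal.Quotient.mk_surjective
    Ideal.mk_ker (fun o => rfl)
  rw [h1, h2]
  exact card_fieldEmb_eq_of_surjective _ _ _ g hg (resAlg (A ⧸ i.1) m)

theorem card_sigma_emb :
    ENat.card (Σ m' : MaximalSpectrum (normRed A), Emb A m') =
      ∑ i : minimalPrimes A,
        ENat.card (Σ m : MaximalSpectrum (normRed (A ⧸ i.1)), Emb (A ⧸ i.1) m) := by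
  rw [enat_card_sigma]
  rw [← (Equiv.ofBijective _ (Ψ_bijective A)).tsum_eq]
  simp_rw [Equiv.ofBijective_apply, card_emb_Ψ]
  rw [← enat_card_sigma (fun c : (Σ i : minimalPrimes A, MaximalSpectrum (normRed (A ⧸ i.1))) =>
    Emb (A ⧸ c.1.1) c.2),
    ENat.card_congr (Equiv.sigmaAssoc
      (fun (i : minimalPrimes A) (m : MaximalSpectrum (normRed (A ⧸ i.1))) => Emb (A ⧸ i.1) m)),
    enat_card_sigma_fintype]

end G

end Groth.Agent.Lib.helper26.BrSum
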