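import Mathlib
import Groth.Agent.Lib.helper26.BrnchLib2

set_option autoImplicit false
universe u

namespace Groth.Agent.Lib.helper26.BrnchLib

section semilocal2
variable (A D : Type*) [CommRing A] [IsLocalRing A] [CommRing D] [Algebra A D]
  [Algebra.IsIntegral A D]

/-- equality case of `sum_length_le`: the Jacobson radical of `D` lies in the image of `A`. -/
theorem mem_range_of_sum_length_ge [Fintype (MaximalSpectrum D)]
    (hfin : Module.length A (D ⧸ LinearMap.range (Algebra.linearMap A D)) ≠ ⊤)
    (hge : 1 + Module.length A (D ⧸ LinearMap.range (Algebra.linearMap A D)) ≤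
      ∑ n : MaximalSpectrum D, Module.length A (D ⧸ n.asIdeal))
    (d : D) (hd : ∀ n : MaximalSpectrum D, d ∈ n.asIdeal) :
    d ∈ (algebraMap A D).range := by
  classical
  let P := Π n : MaximalSpectrum D, D ⧸ n.asIdeal
  let π : D →ₗ[A] P := LinearMap.pi (fun n => (Ideal.Quotient.mkₐ A n.asIdeal).toLinearMap)
  have hπ : Function.Surjective π := by
    intro y
    choose x hx using fun n => Ideal.Quotient.mk_surjective (y n)
    have hcop : Pairwise (Function.onFun IsCoprime (fun n : MaximalSpectrum D => n.asIdeal)) := by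
      intro n1 n2 hne
      haveI := n1.isMaximal
      haveI := n2.isMaximal
      exact Ideal.isCoprime_of_isMaximal (fun h => hne (MaximalSpectrum.ext h))
    obtain ⟨r, hr⟩ := Ideal.exists_forall_sub_mem_ideal hcop x
    refine ⟨r, funext fun n => ?_⟩
    show Ideal.Quotient.mk n.asIdeal r = y n
    rw [← hx n]
    exact Ideal.Quotient.eq.2 (hr n)
  rw [← Module.length_pi_of_fintype A (fun n : MaximalSpectrum D => D ⧸ n.asIdeal)] at hge
  let S : Submodule A P := Submodule.span A {π 1}
  have hS : Module.length A S ≤ 1 := by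
    let g : (A ⧸ IsLocalRing.maximalIdeal A) →ₗ[A] S :=
      Submodule.liftQ _ (LinearMap.toSpanSingleton A S ⟨π 1, Submodule.mem_span_singleton_self _⟩)
        (by
          intro a ha
          rw [LinearMap.mem_ker, LinearMap.toSpanSingleton_apply]
          apply Subtype.ext
          show a • π 1 = 0
          rw [← map_smul]
          funext n
          show Ideal.Quotient.mk n.asIdeal (a • (1 : D)) = 0
          rw [Ideal.Quotient.eq_zero_iff_mem, Algebra.smul_def, mul_one]
          haveI := n.isMaximal
          exact algebraMap_mem_of_mem_maximalIdeal A D n.asIdeal ha)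
    have hg : Function.Surjective g := by
      rintro ⟨s, hs⟩
      obtain ⟨a, rfl⟩ := Submodule.mem_span_singleton.1 hs
      exact ⟨Submodule.Quotient.mk a, Subtype.ext rfl⟩
    have h1 := Module.length_le_of_surjective g hg
    haveI : IsSimpleModule A (A ⧸ IsLocalRing.maximalIdeal A) :=
      isSimpleModule_iff_isCoatom.2 (Ideal.isMaximal_def.1 inferInstance)
    have h2 : Module.length A (A ⧸ IsLocalRing.maximalIdeal A) = 1 := Module.length_eq_one _ _
    rw [h2] at h1
    exact h1
  let g : (D ⧸ LinearMap.range (Algebra.linearMap A D)) →ₗ[A] (P ⧸ S) :=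
    Submodule.liftQ _ (S.mkQ.comp π) (by
      rintro _ ⟨a, rfl⟩
      rw [LinearMap.mem_ker, LinearMap.comp_apply, Submodule.mkQ_apply,
        Submodule.Quotient.mk_eq_zero]
      have : (Algebra.linearMap A D) a = a • (1 : D) := by
        rw [Algebra.linearMap_apply, Algebra.smul_def, mul_one]
      rw [this, map_smul]
      exact S.smul_mem a (Submodule.mem_span_singleton_self _))
  have hg : Function.Surjective g := by
    intro y
    obtain ⟨p, rfl⟩ := Submodule.mkQ_surjective S y
    obtain ⟨d, rfl⟩ := hπ p
    exact ⟨Submodule.Quotient.mk d, rfl⟩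
  have hQ : Module.length A (P ⧸ S) ≤
      Module.length A (D ⧸ LinearMap.range (Algebra.linearMap A D)) :=
    Module.length_le_of_surjective g hg
  have hadd : Module.length A P = Module.length A S + Module.length A (P ⧸ S) :=
    Module.length_eq_add_of_exact S.subtype S.mkQ (Submodule.subtype_injective _)
      (Submodule.mkQ_surjective _) (LinearMap.exact_subtype_mkQ _)
  -- the kernel of `g` has length zero
  have hker : Module.length A (D ⧸ LinearMap.range (Algebra.linearMap A D)) =
      Module.length A (LinearMap.ker g) + Module.length A (P ⧸ S) :=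
    Module.length_eq_add_of_exact (LinearMap.ker g).subtype g (Submodule.subtype_injective _)
      hg (LinearMap.exact_subtype_ker_map g)
  have hPS : Module.length A (P ⧸ S) =
      Module.length A (D ⧸ LinearMap.range (Algebra.linearMap A D)) := by
    apply le_antisymm hQ
    rw [hadd] at hge
    -- lift to ℕ
    obtain ⟨c, hc⟩ := ENat.ne_top_iff_exists.1 hfin
    have hb : Module.length A (P ⧸ S) ≠ ⊤ := ne_top_of_le_ne_top hfin hQ
    obtain ⟨b, hb'⟩ := ENat.ne_top_iff_exists.1 hb
    have ha : Module.length A S ≠ ⊤ := ne_top_of_le_ne_top ENat.one_ne_top hS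
    obtain ⟨a, ha'⟩ := ENat.ne_top_iff_exists.1 ha
    rw [← hc, ← hb', ← ha'] at hge
    rw [← ha'] at hS
    rw [← hc, ← hb']
    have h1 : a ≤ 1 := by exact_mod_cast hS
    have h2 : 1 + c ≤ a + b := by exact_mod_cast hge
    have : c ≤ b := by omega
    exact_mod_cast this
  have hker0 : Module.length A (LinearMap.ker g) = 0 := by
    rw [hPS] at hker
    obtain ⟨c, hc⟩ := ENat.ne_top_iff_exists.1 hfin
    rw [← hc] at hker
    have hk : Module.length A (LinearMap.ker g) ≠ ⊤ := by
      intro htop
      rw [htop, top_add] at hker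
      exact ENat.coe_ne_top c hker
    obtain ⟨k, hk'⟩ := ENat.ne_top_iff_exists.1 hk
    rw [← hk'] at hker ⊢
    have : c = k + c := by exact_mod_cast hker
    have : k = 0 := by omega
    exact_mod_cast this
  have hsub : Subsingleton (LinearMap.ker g) := Module.length_eq_zero_iff.1 hker0
  have hπd : π d = 0 := by
    funext n
    show Ideal.Quotient.mk n.asIdeal d = 0
    rw [Ideal.Quotient.eq_zero_iff_mem]
    exact hd n
  have hmem : (Submodule.Quotient.mk d : D ⧸ LinearMap.range (Algebra.linearMap A D)) ∈
      LinearMap.ker g := by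
    rw [LinearMap.mem_ker]
    show S.mkQ (π d) = 0
    rw [hπd, map_zero]
  have h0 : (⟨_, hmem⟩ : LinearMap.ker g) = 0 := Subsingleton.elim _ _
  have h1 : (Submodule.Quotient.mk d : D ⧸ LinearMap.range (Algebra.linearMap A D)) = 0 :=
    congrArg Subtype.val h0
  rw [Submodule.Quotient.mk_eq_zero] at h1
  obtain ⟨a, ha⟩ := h1
  exact ⟨a, ha⟩

end semilocal2

end Groth.Agent.Lib.helper26.BrnchLib
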