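import Mathlib
import Groth.Agent.Lib.helper26.BrnchLib4
import Groth.Agent.Lib.helper26.BrnchLib6

set_option autoImplicit false
universe u
open CAlg2 Brnch

namespace Groth.Agent.Lib.helper26.BrnchLib

section eqcase
variable (A : Type u) [CommRing A] [IsLocalRing A]

theorem finite_emb (m' : MaximalSpectrum (normRed A)) (hfin : (resAlg A m').Finite) :
    Finite (Emb A m') := by
  letI := (resAlg A m').toAlgebra
  haveI : FiniteDimensional (IsLocalRing.ResidueField A) (normRed A ⧸ m'.asIdeal) := hfin
  haveI : Finite ((normRed A ⧸ m'.asIdeal) →ₐ[IsLocalRing.ResidueField A]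
      AlgebraicClosure (IsLocalRing.ResidueField A)) :=
    Fintype.finite <| minpoly.AlgHom.fintype _ _ _
  exact Finite.of_equiv _ (embEquivAlgHom A m').symm

theorem natCard_emb (m' : MaximalSpectrum (normRed A)) (hfin : (resAlg A m').Finite) :
    letI := (resAlg A m').toAlgebra
    Nat.card (Emb A m') =
      Field.finSepDegree (IsLocalRing.ResidueField A) (normRed A ⧸ m'.asIdeal) := by
  letI := (resAlg A m').toAlgebra
  haveI : FiniteDimensional (IsLocalRing.ResidueField A) (normRed A ⧸ m'.asIdeal) := hfin
  rw [Nat.card_congr (embEquivAlgHom A m')]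
  exact (Field.finSepDegree_eq_of_isAlgClosed _ _ _).symm

theorem eq_case [IsReduced A] [IsSepClosed (IsLocalRing.ResidueField A)]
    (hN : CAlg.IsNagata A) (hdim : ringKrullDim A = 1)
    (heq : Curv2.deltaInv A + 1 = numGeomBranches A) :
    (∀ m' : MaximalSpectrum (normRed A), Function.Surjective (toResidue A m')) ∧
    ∀ d : normRed A, (∀ m' : MaximalSpectrum (normRed A), d ∈ m'.asIdeal) →
      d ∈ (algebraMap A (normRed A)).range := by
  classical
  haveI : IsNoetherianRing A := hN.1
  obtain ⟨hfinA', -, hlt⟩ :=
    Groth.Agent.Lib.helper26.DeltaInv.integralClosure_finite_of_reduced_nagata_dim_one A hN hdim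
  haveI : Module.Finite A (normRed A) := Module.Finite.equiv (normEquiv A).toLinearEquiv
  haveI : Finite (MaximalSpectrum (normRed A)) := finite_maximalSpectrum_of_finite A (normRed A)
  haveI : Fintype (MaximalSpectrum (normRed A)) := Fintype.ofFinite _
  have hmin : (minimalPrimes A).Finite := minimalPrimes.finite_of_isNoetherianRing A
  unfold numGeomBranches at heq
  rw [if_pos hmin, enat_card_sigma_fintype, deltaInv_eq_length_normRed] at heq
  rw [deltaInv_eq_length_normRed] at hlt
  have hle := sum_length_le A (normRed A)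
  have hterm : ∀ m' : MaximalSpectrum (normRed A),
      ENat.card (Emb A m') ≤ Module.length A (normRed A ⧸ m'.asIdeal) := by
    intro m'
    obtain ⟨h1, h2⟩ := length_quot_eq_finrank A m'
    rw [h2]
    exact card_emb_le_finrank A m' h1
  constructor
  · -- termwise equality
    obtain ⟨d, hd⟩ := ENat.ne_top_iff_exists.1 hlt.ne
    have hE : ∀ m' : MaximalSpectrum (normRed A),
        ENat.card (Emb A m') = (Nat.card (Emb A m') : ℕ∞) := by
      intro m'
      haveI := finite_emb A m' (length_quot_eq_finrank A m').1
      exact ENat.card_eq_coe_natCard _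
    have hR : ∀ m' : MaximalSpectrum (normRed A),
        Module.length A (normRed A ⧸ m'.asIdeal) =
          ((letI := (resAlg A m').toAlgebra;
            Module.finrank (IsLocalRing.ResidueField A) (normRed A ⧸ m'.asIdeal) : ℕ) : ℕ∞) :=
      fun m' => (length_quot_eq_finrank A m').2
    have hER : ∀ m' : MaximalSpectrum (normRed A),
        Nat.card (Emb A m') ≤ (letI := (resAlg A m').toAlgebra;
            Module.finrank (IsLocalRing.ResidueField A) (normRed A ⧸ m'.asIdeal) : ℕ) := by
      intro m'
      have := hterm m'
      rw [hE, hR] at this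
      exact_mod_cast this
    have hsum : ∑ m' : MaximalSpectrum (normRed A), Nat.card (Emb A m') =
        ∑ m' : MaximalSpectrum (normRed A), (letI := (resAlg A m').toAlgebra;
            Module.finrank (IsLocalRing.ResidueField A) (normRed A ⧸ m'.asIdeal) : ℕ) := by
      refine le_antisymm (Finset.sum_le_sum fun m' _ => hER m') ?_
      have h1 : ((∑ m' : MaximalSpectrum (normRed A), (letI := (resAlg A m').toAlgebra;
            Module.finrank (IsLocalRing.ResidueField A) (normRed A ⧸ m'.asIdeal) : ℕ) : ℕ) : ℕ∞)
          ≤ ((∑ m' : MaximalSpectrum (normRed A), Nat.card (Emb A m') : ℕ) : ℕ∞) := by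
        rw [Nat.cast_sum, Nat.cast_sum]
        simp_rw [← hE, ← hR]
        rw [← heq, add_comm]
        exact hle
      exact_mod_cast h1
    have hall := (Finset.sum_eq_sum_iff_of_le (fun m' _ => hER m')).1 hsum
    intro m'
    have hm := hall m' (Finset.mem_univ _)
    letI := (resAlg A m').toAlgebra
    haveI : FiniteDimensional (IsLocalRing.ResidueField A) (normRed A ⧸ m'.asIdeal) :=
      (length_quot_eq_finrank A m').1
    rw [natCard_emb A m' (length_quot_eq_finrank A m').1] at hm
    haveI : Algebra.IsSeparable (IsLocalRing.ResidueField A) (normRed A ⧸ m'.asIdeal) :=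
      (Field.finSepDegree_eq_finrank_iff _ _).1 hm
    have hs := IsSepClosed.algebraMap_surjective (IsLocalRing.ResidueField A)
      (normRed A ⧸ m'.asIdeal)
    intro y
    obtain ⟨k, rfl⟩ := hs y
    obtain ⟨a, rfl⟩ := IsLocalRing.residue_surjective k
    exact ⟨a, rfl⟩
  · intro d hd
    refine mem_range_of_sum_length_ge A (normRed A) hlt.ne ?_ d hd
    rw [add_comm, heq]
    exact Finset.sum_le_sum fun m' _ => hterm m'

end eqcase

end Groth.Agent.Lib.helper26.BrnchLib
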