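import Groth.Agent.Lib.helper26.MinPrimeProd
import Groth.Agent.Lib.helper9.Depth1

set_option autoImplicit false
universe u

namespace Groth.Agent.Lib.helper26.MinPrimeProd

variable {A : Type u} [CommRing A]

lemma forall_P_iff (f : A) :
    (∀ p ∈ minimalPrimes A, f ∉ p) ↔ ∀ p : P A, f ∉ p.1.asIdeal := by
  constructor
  · intro h p
    exact h _ p.2
  · intro h p hp
    exact h ⟨⟨p, hp.1.1⟩, hp⟩

lemma maximalIdeal_notMem_minimalPrimes [IsLocalRing A] (hdim : ringKrullDim A = 1) :
    IsLocalRing.maximalIdeal A ∉ minimalPrimes A := by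
  intro hmin
  have h0 : Ring.KrullDimLE 0 A := by
    rw [Ring.krullDimLE_zero_iff]
    intro q hq
    have hle : q ≤ IsLocalRing.maximalIdeal A := IsLocalRing.le_maximalIdeal hq.ne_top
    have hge : IsLocalRing.maximalIdeal A ≤ q := hmin.2 ⟨hq, bot_le⟩ hle
    rw [le_antisymm hle hge]
    exact IsLocalRing.maximalIdeal.isMaximal A
  have := Ring.krullDimLE_iff.1 h0
  rw [hdim] at this
  exact absurd this (by decide)

lemma exists_avoid [IsLocalRing A] [IsNoetherianRing A] (hdim : ringKrullDim A = 1) :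
    ∃ f ∈ IsLocalRing.maximalIdeal A, ∀ p ∈ minimalPrimes A, f ∉ p := by
  classical
  have hfin : (minimalPrimes A).Finite := minimalPrimes.finite_of_isNoetherianRing A
  by_contra h
  push Not at h
  have hsub : (IsLocalRing.maximalIdeal A : Set A) ⊆ ⋃ p ∈ hfin.toFinset, (p : Set A) := by
    intro f hf
    obtain ⟨p, hp, hfp⟩ := h f hf
    exact Set.mem_biUnion (hfin.mem_toFinset.2 hp) hfp
  obtain ⟨p, hp, hle⟩ := (Ideal.subset_union_prime (R := A) (s := hfin.toFinset) (f := fun p => p)
    (⊥ : Ideal A) (⊥ : Ideal A) (fun p hp _ _ => (hfin.mem_toFinset.1 hp).1.1)).1 hsub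
  have hpmin := hfin.mem_toFinset.1 hp
  have : p = IsLocalRing.maximalIdeal A :=
    le_antisymm (IsLocalRing.le_maximalIdeal hpmin.1.1.ne_top) hle
  exact maximalIdeal_notMem_minimalPrimes hdim (this ▸ hpmin)

lemma radical_iff [IsLocalRing A] (hdim : ringKrullDim A = 1) (f : A)
    (hf : f ∈ IsLocalRing.maximalIdeal A) :
    (IsLocalRing.maximalIdeal A = (Ideal.span {f}).radical) ↔ (∀ p ∈ minimalPrimes A, f ∉ p) := by
  have hdim1 : Ring.KrullDimLE 1 A := Ring.krullDimLE_iff.2 (by rw [hdim]; exact le_rfl)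
  have hprimes := Ring.krullDimLE_one_iff.1 hdim1
  constructor
  · intro h p hp hfp
    have hle : (Ideal.span {f}).radical ≤ p :=
      hp.1.1.radical_le_iff.2 ((Ideal.span_singleton_le_iff_mem _).2 hfp)
    rw [← h] at hle
    have : p = IsLocalRing.maximalIdeal A :=
      le_antisymm (IsLocalRing.le_maximalIdeal hp.1.1.ne_top) hle
    exact maximalIdeal_notMem_minimalPrimes hdim (this ▸ hp)
  · intro h
    apply le_antisymm
    · rw [Ideal.radical_eq_sInf]
      refine le_sInf ?_
      rintro J ⟨hfJ, hJ⟩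
      rcases hprimes J hJ with hmin | hmax
      · exact (h J hmin (hfJ (Ideal.subset_span rfl))).elim
      · rw [IsLocalRing.eq_maximalIdeal hmax]
    · exact (IsLocalRing.maximalIdeal.isMaximal A).isPrime.radical_le_iff.2
        ((Ideal.span_singleton_le_iff_mem _).2 hf)

/-- (from helper12's proof of S7666) An element killed, locally at each minimal prime, by something
outside the prime is killed by a power of the maximal ideal. -/
lemma exists_pow_mul_eq_zero [IsLocalRing A] [IsNoetherianRing A]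
    (hdim : ringKrullDim A = 1) (d : A)
    (hd : ∀ p ∈ minimalPrimes A, ∃ c : A, c ∉ p ∧ c * d = 0) :
    ∃ N : ℕ, ∀ x ∈ IsLocalRing.maximalIdeal A ^ N, x * d = 0 := by
  set J : Ideal A := (Ideal.span {d}).annihilator with hJ
  have hmemJ : ∀ x : A, x ∈ J ↔ x * d = 0 := by
    intro x
    rw [hJ, Submodule.mem_annihilator_span_singleton, smul_eq_mul]
  have hdim1 : Ring.KrullDimLE 1 A := Ring.krullDimLE_iff.2 (by rw [hdim]; rfl)
  have hprimes := Ring.krullDimLE_one_iff.1 hdim1
  have hle : IsLocalRing.maximalIdeal A ≤ J.radical := by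
    rw [Ideal.radical_eq_sInf]
    refine le_sInf ?_
    rintro q ⟨hJq, hq⟩
    rcases hprimes q hq with hmin | hmax
    · exfalso
      obtain ⟨c, hc, hcd⟩ := hd q hmin
      exact hc (hJq ((hmemJ c).2 hcd))
    · rw [IsLocalRing.eq_maximalIdeal hmax]
  obtain ⟨N, hN⟩ := Ideal.exists_radical_pow_le_of_fg J (IsNoetherian.noetherian _)
  refine ⟨N, fun x hx => (hmemJ x).1 (hN (Ideal.pow_right_mono hle N hx))⟩

/-- `L A` is the localization of `A` away from any `f ∈ m` outside all minimal primes. -/
lemma isLocalization_away_L [IsLocalRing A] [IsNoetherianRing A] (hdim : ringKrullDim A = 1)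
    (f : A) (hf : f ∈ IsLocalRing.maximalIdeal A) (h : ∀ p ∈ minimalPrimes A, f ∉ p) :
    IsLocalization.Away f (L A) := by
  have hP := (forall_P_iff f).1 h
  rw [IsLocalization.Away, isLocalization_iff]
  refine ⟨?_, ?_, ?_⟩
  · rintro ⟨_, n, rfl⟩
    rw [map_pow]
    apply IsUnit.pow
    rw [Pi.isUnit_iff]
    intro p
    exact (IsLocalization.AtPrime.isUnit_to_map_iff (Localization.AtPrime p.1.asIdeal)
      p.1.asIdeal f).2 (hP p)
  · intro ℓ
    obtain ⟨s, y, hs, hsy⟩ := exists_common_denom ℓ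
    obtain ⟨M, c, hc⟩ := exists_pow_eq_mul hdim s f hs hf
    refine ⟨(c * y, ⟨f ^ M, M, rfl⟩), ?_⟩
    change ℓ * algebraMap A (L A) (f ^ M) = algebraMap A (L A) (c * y)
    rw [hc, map_mul, map_mul, ← hsy]
    ring
  · intro a b hab
    have hd : ∀ p ∈ minimalPrimes A, ∃ c : A, c ∉ p ∧ c * (a - b) = 0 := by
      intro p hp
      have hpp : p.IsPrime := hp.1.1
      have h1 := congrFun hab (⟨⟨p, hpp⟩, hp⟩ : P A)
      change algebraMap A (Localization.AtPrime p) a = algebraMap A (Localization.AtPrime p) b at h1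
      obtain ⟨c, hc⟩ := (IsLocalization.eq_iff_exists p.primeCompl (Localization.AtPrime p)).1 h1
      exact ⟨c, c.2, by rw [mul_sub, hc, sub_self]⟩
    obtain ⟨N, hN⟩ := exists_pow_mul_eq_zero hdim (a - b) hd
    refine ⟨⟨f ^ N, N, rfl⟩, ?_⟩
    have := hN (f ^ N) (Ideal.pow_mem_pow hf N)
    rw [mul_sub, sub_eq_zero] at this
    exact this

lemma algEquiv_iff [IsLocalRing A] [IsNoetherianRing A] (hdim : ringKrullDim A = 1)
    (f : A) (hf : f ∈ IsLocalRing.maximalIdeal A) :
    (∀ p ∈ minimalPrimes A, f ∉ p) ↔ Nonempty (Localization.Away f ≃ₐ[A] L A) := by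
  constructor
  · intro h
    haveI := isLocalization_away_L hdim f hf h
    exact ⟨IsLocalization.algEquiv (Submonoid.powers f) (Localization.Away f) (L A)⟩
  · rintro ⟨e⟩
    rw [forall_P_iff]
    intro p
    have hu : IsUnit (algebraMap A (Localization.Away f) f) :=
      IsLocalization.map_units (Localization.Away f) (⟨f, Submonoid.mem_powers f⟩ : Submonoid.powers f)
    have hu2 : IsUnit (algebraMap A (L A) f) := by
      have := hu.map e
      rwa [AlgEquiv.commutes] at this
    rw [Pi.isUnit_iff] at hu2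
    exact (IsLocalization.AtPrime.isUnit_to_map_iff (Localization.AtPrime p.1.asIdeal)
      p.1.asIdeal f).1 (hu2 p)


/-- the depth/reducedness hypothesis gives: avoiding minimal primes implies nonzerodivisor. -/
lemma mem_nonZeroDivisors_of_avoid [IsLocalRing A] [IsNoetherianRing A] (hdim : ringKrullDim A = 1)
    (H : LocCoh.depth A A = 1 ∨ IsReduced A) (f : A) (h : ∀ p ∈ minimalPrimes A, f ∉ p) :
    f ∈ nonZeroDivisors A := by
  rw [mem_nonZeroDivisors_iff_right]
  intro z hz
  rcases H with hdepth | hred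
  · -- a regular element in the maximal ideal
    have hne : IsLocalRing.maximalIdeal A • (⊤ : Submodule A A) ≠ ⊤ := by
      intro htop
      unfold LocCoh.depth at hdepth
      rw [Groth.Agent.Lib.helper9.Depth.idealDepth_eq_top _ _ htop] at hdepth
      exact absurd hdepth (by decide)
    have h1 : ((1 : ℕ) : ℕ∞) ≤ LocCoh.idealDepth (IsLocalRing.maximalIdeal A) A := by
      unfold LocCoh.depth at hdepth
      rw [hdepth]; rfl
    obtain ⟨rs, hlen, hreg, hmem⟩ :=
      (Groth.Agent.Lib.helper9.Depth.le_idealDepth_iff hne 1).1 h1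
    obtain ⟨x, rfl⟩ := List.length_eq_one_iff.1 hlen
    rw [RingTheory.Sequence.isWeaklyRegular_singleton_iff] at hreg
    have hxm : x ∈ IsLocalRing.maximalIdeal A := hmem x (by simp)
    obtain ⟨M, c, hc⟩ := exists_pow_eq_mul hdim f x ((forall_P_iff f).1 h) hxm
    have hzero : x ^ M • z = 0 := by
      rw [smul_eq_mul, hc, mul_comm f c, mul_assoc, mul_comm f z, hz, mul_zero]
    exact (hreg.pow M).right_eq_zero_of_smul hzero
  · have hz' : z ∈ sInf (minimalPrimes A) := by
      rw [Ideal.mem_sInf]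
      intro p hp
      have : z * f ∈ p := by rw [hz]; exact Ideal.zero_mem _
      exact (hp.1.1.mem_or_mem this).resolve_right (h p hp)
    have : sInf (minimalPrimes A) = (⊥ : Ideal A) := by
      rw [minimalPrimes, Ideal.sInf_minimalPrimes]
      exact nilradical_eq_zero A
    rw [this, Ideal.mem_bot] at hz'
    exact hz'

lemma avoid_of_mem_nonZeroDivisors (f : A) (hf : f ∈ nonZeroDivisors A) :
    ∀ p ∈ minimalPrimes A, f ∉ p := by
  intro p hp hfp
  exact Set.disjoint_left.1 (Ideal.disjoint_nonZeroDivisors_of_mem_minimalPrimes hp) hfp hf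

lemma isLocalization_nonZeroDivisors_iff [IsLocalRing A] [IsNoetherianRing A]
    (hdim : ringKrullDim A = 1) (H : LocCoh.depth A A = 1 ∨ IsReduced A) (f : A)
    (hf : f ∈ IsLocalRing.maximalIdeal A) :
    (∀ p ∈ minimalPrimes A, f ∉ p) ↔
      IsLocalization (nonZeroDivisors A) (Localization.Away f) := by
  constructor
  · intro h
    have hfS : f ∈ nonZeroDivisors A := mem_nonZeroDivisors_of_avoid hdim H f h
    rw [isLocalization_iff]
    refine ⟨?_, ?_, ?_⟩
    · rintro ⟨s, hs⟩
      by_cases hsm : s ∈ IsLocalRing.maximalIdeal A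
      · have hsav := (forall_P_iff s).1 (avoid_of_mem_nonZeroDivisors s hs)
        obtain ⟨M, c, hc⟩ := exists_pow_eq_mul hdim s f hsav hf
        have hu : IsUnit (algebraMap A (Localization.Away f) (f ^ M)) :=
          IsLocalization.map_units (Localization.Away f)
            (⟨f ^ M, M, rfl⟩ : Submonoid.powers f)
        rw [hc, map_mul] at hu
        exact isUnit_of_mul_isUnit_left hu
      · have : IsUnit s := by
          by_contra hns
          exact hsm ((IsLocalRing.mem_maximalIdeal s).2 hns)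
        exact this.map _
    · intro z
      obtain ⟨⟨a, ⟨_, n, rfl⟩⟩, hz⟩ := IsLocalization.surj (Submonoid.powers f) z
      exact ⟨(a, ⟨f ^ n, pow_mem hfS n⟩), hz⟩
    · intro a b hab
      obtain ⟨⟨_, n, rfl⟩, hc⟩ :=
        (IsLocalization.eq_iff_exists (Submonoid.powers f) (Localization.Away f)).1 hab
      exact ⟨⟨f ^ n, pow_mem hfS n⟩, hc⟩
  · intro hloc
    apply avoid_of_mem_nonZeroDivisors
    have hu : IsUnit (algebraMap A (Localization.Away f) f) :=
      IsLocalization.map_units (Localization.Away f) (⟨f, Submonoid.mem_powers f⟩ : Submonoid.powers f)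
    obtain ⟨w, hw⟩ := hu.exists_right_inv
    obtain ⟨⟨a, s⟩, hws⟩ := IsLocalization.surj (nonZeroDivisors A) w
    have h1 : algebraMap A (Localization.Away f) (f * a) =
        algebraMap A (Localization.Away f) (s : A) := by
      rw [map_mul, ← hws, ← mul_assoc, hw, one_mul]
    obtain ⟨t, ht⟩ := (IsLocalization.eq_iff_exists (nonZeroDivisors A) (Localization.Away f)).1 h1
    have h2 : f * (a * t) ∈ nonZeroDivisors A := by
      have : f * (a * t) = (t : A) * (s : A) := by rw [← ht]; ring
      rw [this]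
      exact mul_mem t.2 s.2
    exact (mul_mem_nonZeroDivisors.1 h2).1

/-- for reduced `A`, the residue map of the localization at a minimal prime is bijective. -/
lemma residue_bijective_of_isReduced [IsReduced A] (p : P A) :
    Function.Bijective (algebraMap (Localization.AtPrime p.1.asIdeal) p.1.asIdeal.ResidueField) := by
  refine ⟨?_, IsLocalRing.residue_surjective⟩
  rw [injective_iff_map_eq_zero]
  intro x hx
  have hx' : x ∈ IsLocalRing.maximalIdeal (Localization.AtPrime p.1.asIdeal) :=
    (IsLocalRing.residue_eq_zero_iff x).1 hx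
  rw [← IsLocalization.AtPrime.map_eq_maximalIdeal p.1.asIdeal (Localization.AtPrime p.1.asIdeal),
    ← IsLocalization.AtPrime.radical_map_of_mem_minimalPrimes
      (A := Localization.AtPrime p.1.asIdeal) p.1.asIdeal ⊥ p.2, Ideal.map_bot] at hx'
  have : (⊥ : Ideal (Localization.AtPrime p.1.asIdeal)).radical = ⊥ :=
    nilradical_eq_zero _
  rw [this, Ideal.mem_bot] at hx'
  exact hx'

lemma algEquiv_residue_iff [IsLocalRing A] [IsNoetherianRing A] [IsReduced A]
    (hdim : ringKrullDim A = 1) (f : A) (hf : f ∈ IsLocalRing.maximalIdeal A) :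
    (∀ p ∈ minimalPrimes A, f ∉ p) ↔
      Nonempty (Localization.Away f ≃ₐ[A] (∀ p : P A, p.1.asIdeal.ResidueField)) := by
  constructor
  · intro h
    obtain ⟨e⟩ := (algEquiv_iff hdim f hf).1 h
    let eκ : L A ≃ₐ[A] (∀ p : P A, p.1.asIdeal.ResidueField) :=
      AlgEquiv.piCongrRight (fun p => AlgEquiv.ofBijective
        (IsScalarTower.toAlgHom A (Localization.AtPrime p.1.asIdeal) p.1.asIdeal.ResidueField)
        (residue_bijective_of_isReduced p))
    exact ⟨e.trans eκ⟩
  · rintro ⟨e⟩
    rw [forall_P_iff]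
    intro p hfp
    have hu : IsUnit (algebraMap A (Localization.Away f) f) :=
      IsLocalization.map_units (Localization.Away f) (⟨f, Submonoid.mem_powers f⟩ : Submonoid.powers f)
    have hu2 : IsUnit (algebraMap A (∀ p : P A, p.1.asIdeal.ResidueField) f) := by
      have := hu.map e
      rwa [AlgEquiv.commutes] at this
    rw [Pi.isUnit_iff] at hu2
    have h0 : algebraMap A p.1.asIdeal.ResidueField f = 0 :=
      Ideal.algebraMap_residueField_eq_zero.2 hfp
    have := hu2 p
    change IsUnit (algebraMap A p.1.asIdeal.ResidueField f) at this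
    rw [h0] at this
    exact not_isUnit_zero this

theorem tfae_dim_one (A : Type u) [CommRing A] [IsLocalRing A]
    [IsNoetherianRing A] (hdim : ringKrullDim A = 1) :
    (∃ f ∈ IsLocalRing.maximalIdeal A, ∀ p ∈ minimalPrimes A, f ∉ p) ∧
    ∀ f ∈ IsLocalRing.maximalIdeal A,
      ((IsLocalRing.maximalIdeal A = (Ideal.span {f}).radical) ↔ (∀ p ∈ minimalPrimes A, f ∉ p)) ∧
      ((∀ p ∈ minimalPrimes A, f ∉ p) ↔
        Nonempty (Localization.Away f ≃ₐ[A] (∀ p : {p : PrimeSpectrum A // p.asIdeal ∈ minimalPrimes A}, Localization.AtPrime p.1.asIdeal))) ∧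
      ((LocCoh.depth A A = 1 ∨ IsReduced A) →
        ((∀ p ∈ minimalPrimes A, f ∉ p) ↔ f ∈ nonZeroDivisors A) ∧
        ((∀ p ∈ minimalPrimes A, f ∉ p) ↔ IsLocalization (nonZeroDivisors A) (Localization.Away f))) ∧
      (IsReduced A →
        ((∀ p ∈ minimalPrimes A, f ∉ p) ↔
          Nonempty (Localization.Away f ≃ₐ[A] (∀ p : {p : PrimeSpectrum A // p.asIdeal ∈ minimalPrimes A}, p.1.asIdeal.ResidueField)))) := by
  refine ⟨exists_avoid hdim, fun f hf => ⟨radical_iff hdim f hf, algEquiv_iff hdim f hf, ?_, ?_⟩⟩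
  · intro H
    exact ⟨⟨mem_nonZeroDivisors_of_avoid hdim H f, avoid_of_mem_nonZeroDivisors f⟩,
      isLocalization_nonZeroDivisors_iff hdim H f hf⟩
  · intro hred
    exact algEquiv_residue_iff hdim f hf

end Groth.Agent.Lib.helper26.MinPrimeProd
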