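import Mathlib
import Groth.Agent.Lib.helper26.BrnchLib7
import Groth.Agent.Lib.helper26.MinPrimeProd2

set_option autoImplicit false
universe u
open CAlg2 Brnch

namespace Groth.Agent.Lib.helper26.BrnchLib

section dvr
variable (A : Type u) [CommRing A] [IsLocalRing A]

/-- a localization of a finite integral extension of a one-dimensional noetherian local ring
at a maximal ideal, which is a normal domain and in which some element of the maximal ideal of
`A` is a nonzerodivisor, is a discrete valuation ring. -/
theorem dvr_of_localization [IsNoetherianRing A] (hdim : Ring.KrullDimLE 1 A)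
    (B : Type*) [CommRing B] [Algebra A B] [Module.Finite A B]
    (n : Ideal B) [n.IsMaximal]
    [IsDomain (Localization.AtPrime n)] [IsIntegrallyClosed (Localization.AtPrime n)]
    (t : A) (ht : t ∈ IsLocalRing.maximalIdeal A) (htn : algebraMap A B t ∈ nonZeroDivisors B) :
    IsDiscreteValuationRing (Localization.AtPrime n) := by
  haveI : Algebra.IsIntegral A B := Algebra.IsIntegral.of_finite A B
  haveI : IsNoetherianRing B := IsNoetherianRing.of_finite A B
  haveI : IsNoetherianRing (Localization.AtPrime n) :=
    IsLocalization.isNoetherianRing n.primeCompl _ inferInstance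
  have hcomap : n.comap (algebraMap A B) = IsLocalRing.maximalIdeal A :=
    IsLocalRing.eq_maximalIdeal (Ideal.isMaximal_comap_of_isIntegral_of_isMaximal n)
  have htmem : algebraMap A B t ∈ n := by
    rw [← hcomap] at ht
    exact ht
  have hne : IsLocalRing.maximalIdeal (Localization.AtPrime n) ≠ ⊥ := by
    intro hbot
    have h1 : algebraMap B (Localization.AtPrime n) (algebraMap A B t) ∈
        IsLocalRing.maximalIdeal (Localization.AtPrime n) := by
      rw [← IsLocalization.AtPrime.map_eq_maximalIdeal n (Localization.AtPrime n)]
      exact Ideal.mem_map_of_mem _ htmem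
    rw [hbot, Ideal.mem_bot] at h1
    have h2 : algebraMap B (Localization.AtPrime n) (algebraMap A B t) ∈
        nonZeroDivisors (Localization.AtPrime n) :=
      IsLocalization.map_nonZeroDivisors_le n.primeCompl (Localization.AtPrime n)
        ⟨_, htn, rfl⟩
    exact nonZeroDivisors.ne_zero h2 h1
  have huniq : ∀ P : Ideal (Localization.AtPrime n), P ≠ ⊥ → P.IsPrime →
      P = IsLocalRing.maximalIdeal (Localization.AtPrime n) := by
    intro P hP0 hPp
    haveI := hPp
    set P' := P.comap (algebraMap B (Localization.AtPrime n)) with hP'
    set Q' := (⊥ : Ideal (Localization.AtPrime n)).comap (algebraMap B (Localization.AtPrime n))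
      with hQ'
    haveI : Q'.IsPrime := Ideal.comap_isPrime _ _
    haveI : P'.IsPrime := Ideal.comap_isPrime _ _
    have hle : Q' ≤ P' := Ideal.comap_mono bot_le
    have hmapP : P'.map (algebraMap B (Localization.AtPrime n)) = P :=
      IsLocalization.map_comap n.primeCompl (Localization.AtPrime n) P
    have hmapQ : Q'.map (algebraMap B (Localization.AtPrime n)) = ⊥ :=
      IsLocalization.map_comap n.primeCompl (Localization.AtPrime n) ⊥
    have hneq : Q' ≠ P' := by
      intro h
      apply hP0
      rw [← hmapP, ← h, hmapQ]
    have hlt : Q' < P' := lt_of_le_of_ne hle hneq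
    have hlt' := Ideal.IsIntegral.comap_lt_comap (R := A) hlt
    have hmax : (P'.comap (algebraMap A B)).IsMaximal := by
      rcases (Ring.krullDimLE_one_iff.1 hdim) (P'.comap (algebraMap A B)) inferInstance with h | h
      · exfalso
        have := h.2 ⟨(inferInstance : (Q'.comap (algebraMap A B)).IsPrime), bot_le⟩ hlt'.le
        exact absurd hlt' (not_lt_of_ge this)
      · exact h
    have hP'max : P'.IsMaximal := Ideal.IsIntegral.isMaximal_of_isMaximal_comap (R := A) P' hmax
    have hP'n : P' ≤ n := by
      intro x hx
      by_contra hxn
      have hu : IsUnit (algebraMap B (Localization.AtPrime n) x) :=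
        IsLocalization.map_units (Localization.AtPrime n) (⟨x, hxn⟩ : n.primeCompl)
      exact hPp.ne_top (Ideal.eq_top_of_isUnit_mem _ hx hu)
    have hPn : P' = n := hP'max.eq_of_le (Ideal.IsMaximal.ne_top inferInstance) hP'n
    rw [← hmapP, hPn,
      IsLocalization.AtPrime.map_eq_maximalIdeal n (Localization.AtPrime n)]
  have htfae := (tfae_of_isNoetherianRing_of_isLocalRing_of_isDomain
    (Localization.AtPrime n)).out 3 0
  have hpir : IsPrincipalIdealRing (Localization.AtPrime n) :=
    htfae.1 ⟨inferInstance, huniq⟩
  exact { hpir with not_a_field' := hne }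

end dvr

end Groth.Agent.Lib.helper26.BrnchLib
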