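import Mathlib
import Groth.Agent.Lib.helper26.DimFun

universe u
open AlgebraicGeometry CategoryTheory Topology TopologicalSpace IsLocalRing

namespace Groth.Agent.Lib.helper26.DimFun4

open Groth.Agent.Lib.helper26.DimJac Groth.Agent.Lib.helper26.DimPts

variable {X : Scheme.{u}}

theorem dim_generizations_eq (ξ : X) :
    topologicalKrullDim ↥{t : X | t ⤳ ξ} = ringKrullDim (X.presheaf.stalk ξ) := by
  rw [← PrimeSpectrum.topologicalKrullDim_eq_ringKrullDim]
  let ψ : PrimeSpectrum (X.presheaf.stalk ξ) → X :=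
    fun y => X.fromSpecStalk ξ (y : Spec (X.presheaf.stalk ξ))
  have hemb : IsEmbedding ψ := (X.fromSpecStalk ξ).isEmbedding
  have hrange : Set.range ψ = {t : X | t ⤳ ξ} := Scheme.range_fromSpecStalk
  exact (IsHomeomorph.topologicalKrullDim_eq _
    ((hemb.toHomeomorph).trans (Homeomorph.setCongr hrange)).isHomeomorph).symm

theorem cdim_genericPoint [IrreducibleSpace X] (ξ : X) :
    cdim X (genericPoint X) ξ = ringKrullDim (X.presheaf.stalk ξ) := by
  rw [← dim_generizations_eq ξ]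
  unfold cdim
  have : {t : X | genericPoint X ⤳ t ∧ t ⤳ ξ} = {t : X | t ⤳ ξ} := by
    ext t
    exact ⟨fun h => h.2, fun h => ⟨genericPoint_specializes t, h⟩⟩
  rw [this]

theorem stalk_dim_eq_delta_sub [IrreducibleSpace X] (δ : X → ℤ) (hδ : Cyc.IsDimFun X δ) (ξ : X) :
    ringKrullDim (X.presheaf.stalk ξ) = (((δ (genericPoint X) - δ ξ).toNat : ℕ) : WithBot ℕ∞) ∧
      δ ξ ≤ δ (genericPoint X) := by
  rw [← cdim_genericPoint ξ]
  exact ⟨Groth.Agent.Lib.helper26.DimPts.dimFun_cdim hδ _ _ (genericPoint_specializes ξ),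
    Groth.Agent.Lib.helper26.DimPts.dimFun_le hδ (genericPoint_specializes ξ)⟩

theorem stalk_dim_eq_one_iff [IrreducibleSpace X] (δ : X → ℤ) (hδ : Cyc.IsDimFun X δ) (ξ : X) :
    ringKrullDim (X.presheaf.stalk ξ) = 1 ↔ δ ξ = δ (genericPoint X) - 1 := by
  obtain ⟨h1, h2⟩ := stalk_dim_eq_delta_sub δ hδ ξ
  rw [h1]
  constructor
  · intro h
    have : (δ (genericPoint X) - δ ξ).toNat = 1 := by exact_mod_cast h
    omega
  · intro h
    have : (δ (genericPoint X) - δ ξ).toNat = 1 := by omega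
    rw [this]; rfl

end Groth.Agent.Lib.helper26.DimFun4
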