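import Mathlib

universe u
open IsLocalRing

namespace Groth.Agent.Lib.helper26.SpreadPrinc

variable {A : Type u} [CommRing A] (p : Ideal A) [p.IsPrime]
  (R : Type u) [CommRing R] [Algebra A R] [IsLocalization.AtPrime R p]

include p in
/-- a principal extension of an ideal to the localization is generated by an element of the
ideal. -/
theorem exists_mem_generator (I : Ideal A) (g : R) (hg : I.map (algebraMap A R) = Ideal.span {g}) :
    ∃ a ∈ I, I.map (algebraMap A R) = Ideal.span {algebraMap A R a} ∧
      ∃ u : R, IsUnit u ∧ algebraMap A R a = g * u := by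
  have hgI : g ∈ I.map (algebraMap A R) := by rw [hg]; exact Ideal.subset_span rfl
  rw [IsLocalization.mem_map_algebraMap_iff p.primeCompl] at hgI
  obtain ⟨⟨a, s⟩, hs⟩ := hgI
  have hu : IsUnit (algebraMap A R s.1) := IsLocalization.map_units R s
  refine ⟨a.1, a.2, ?_, algebraMap A R s.1, hu, hs.symm⟩
  rw [hg, ← hs]
  exact (Ideal.span_singleton_mul_right_unit hu g).symm

include R in
/-- spreading out the inclusion `I R ⊆ (a) R`. -/
theorem exists_mul_mem_span (s : Finset A) (a : A)
    (h : ∀ b ∈ s, algebraMap A R b ∈ Ideal.span {algebraMap A R a}) :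
    ∃ t ∉ p, ∀ b ∈ Ideal.span (s : Set A), t * b ∈ Ideal.span {a} := by
  classical
  have h1 : ∀ b ∈ s, ∃ t ∉ p, t * b ∈ Ideal.span {a} := by
    intro b hb
    obtain ⟨r, hr⟩ := Ideal.mem_span_singleton'.mp (h b hb)
    obtain ⟨⟨c, t⟩, hct⟩ := IsLocalization.surj p.primeCompl r
    have h2 : algebraMap A R (b * t) = algebraMap A R (c * a) := by
      rw [map_mul, map_mul, ← hr, ← hct]; ring
    obtain ⟨u, hu⟩ := (IsLocalization.eq_iff_exists p.primeCompl R).mp h2
    refine ⟨u * t, ?_, ?_⟩
    · exact (u * t).2
    · rw [Ideal.mem_span_singleton']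
      exact ⟨u * c, by
        have : (u : A) * (b * t) = u * (c * a) := hu
        calc (u : A) * c * a = u * (c * a) := by ring
          _ = u * (b * t) := this.symm
          _ = u * t * b := by ring⟩
  choose! t ht1 ht2 using h1
  refine ⟨∏ b ∈ s, t b, ?_, ?_⟩
  · have : ∏ b ∈ s, t b ∈ p.primeCompl :=
      Submonoid.prod_mem p.primeCompl (fun b hb => ht1 b hb)
    exact this
  · intro b hb
    refine Submodule.span_induction (p := fun b _ => (∏ b ∈ s, t b) * b ∈ Ideal.span {a})
      ?_ ?_ ?_ ?_ hb
    · intro b hb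
      obtain ⟨c, hc⟩ := Finset.dvd_prod_of_mem t hb
      rw [hc]
      have : t b * c * b = c * (t b * b) := by ring
      rw [this]
      exact Ideal.mul_mem_left _ _ (ht2 b hb)
    · simp
    · intro x y _ _ hx hy
      rw [mul_add]; exact Ideal.add_mem _ hx hy
    · intro c x _ hx
      have : (∏ b ∈ s, t b) * (c • x) = c * ((∏ b ∈ s, t b) * x) := by
        rw [smul_eq_mul]; ring
      rw [this]
      exact Ideal.mul_mem_left _ _ hx

include R in
/-- spreading out the non-zero-divisor property. -/
theorem exists_mul_eq_zero [IsNoetherianRing A] (a : A)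
    (ha : algebraMap A R a ∈ nonZeroDivisors R) :
    ∃ t ∉ p, ∀ z : A, a * z = 0 → t * z = 0 := by
  classical
  let N : Ideal A := LinearMap.ker (LinearMap.mulLeft A a)
  obtain ⟨s, hs⟩ := (IsNoetherian.noetherian N : N.FG)
  have h1 : ∀ z ∈ s, ∃ t ∉ p, t * z = 0 := by
    intro z hz
    have hzN : z ∈ N := by rw [← hs]; exact Submodule.subset_span hz
    have haz : a * z = 0 := hzN
    have : algebraMap A R z = 0 := by
      have h2 : algebraMap A R z * algebraMap A R a = 0 := by
        rw [← map_mul, mul_comm, haz, map_zero]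
      exact (mem_nonZeroDivisors_iff_right.mp ha) _ h2
    rw [IsLocalization.map_eq_zero_iff p.primeCompl] at this
    obtain ⟨u, hu⟩ := this
    exact ⟨u, u.2, hu⟩
  choose! t ht1 ht2 using h1
  refine ⟨∏ b ∈ s, t b, ?_, ?_⟩
  · have : ∏ b ∈ s, t b ∈ p.primeCompl :=
      Submonoid.prod_mem p.primeCompl (fun b hb => ht1 b hb)
    exact this
  · intro z hz
    have hzN : z ∈ Submodule.span A (s : Set A) := by rw [hs]; exact hz
    refine Submodule.span_induction (p := fun z _ => (∏ b ∈ s, t b) * z = 0) ?_ ?_ ?_ ?_ hzN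
    · intro b hb
      obtain ⟨c, hc⟩ := Finset.dvd_prod_of_mem t hb
      rw [hc]
      have : t b * c * b = c * (t b * b) := by ring
      rw [this, ht2 b hb, mul_zero]
    · simp
    · intro x y _ _ hx hy
      rw [mul_add, hx, hy, add_zero]
    · intro c x _ hx
      have : (∏ b ∈ s, t b) * (c • x) = c * ((∏ b ∈ s, t b) * x) := by
        rw [smul_eq_mul]; ring
      rw [this, hx, mul_zero]

/-- the conclusion on the localization away from `h`. -/
theorem away_principal (h : A) (B : Type u) [CommRing B] [Algebra A B] [IsLocalization.Away h B]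
    (I : Ideal A) (a : A) (haI : a ∈ I)
    (h1 : ∀ b ∈ I, h * b ∈ Ideal.span {a}) (h2 : ∀ z : A, a * z = 0 → h * z = 0) :
    algebraMap A B a ∈ nonZeroDivisors B ∧ I.map (algebraMap A B) = Ideal.span {algebraMap A B a} := by
  have hu : IsUnit (algebraMap A B h) := IsLocalization.Away.algebraMap_isUnit h
  constructor
  · rw [mem_nonZeroDivisors_iff_right]
    intro y hy
    obtain ⟨⟨z, m⟩, hzm⟩ := IsLocalization.surj (Submonoid.powers h) y
    have hm : IsUnit (algebraMap A B m.1) := IsLocalization.map_units B m
    have h3 : algebraMap A B (a * z) = 0 := by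
      rw [mul_comm, map_mul, ← hzm]
      calc y * algebraMap A B m.1 * algebraMap A B a = (y * algebraMap A B a) * algebraMap A B m.1 := by ring
        _ = 0 := by rw [hy, zero_mul]
    rw [IsLocalization.map_eq_zero_iff (Submonoid.powers h)] at h3
    obtain ⟨⟨_, n, rfl⟩, hn⟩ := h3
    have h4 : a * (h ^ n * z) = 0 := by
      have : h ^ n * (a * z) = 0 := hn
      rw [← this]; ring
    have h5 := h2 _ h4
    have h6 : algebraMap A B h * (algebraMap A B h ^ n * (y * algebraMap A B m.1)) = 0 := by
      rw [hzm, ← map_pow, ← map_mul, ← map_mul, h5, map_zero]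
    have h7 := (hu.mul_right_eq_zero).mp h6
    have h8 := ((hu.pow n).mul_right_eq_zero).mp h7
    exact (hm.mul_left_eq_zero).mp h8
  · apply le_antisymm
    · rw [Ideal.map_le_iff_le_comap]
      intro b hb
      rw [Ideal.mem_comap]
      obtain ⟨c, hc⟩ := Ideal.mem_span_singleton'.mp (h1 b hb)
      have : algebraMap A B h * algebraMap A B b = algebraMap A B c * algebraMap A B a := by
        rw [← map_mul, ← map_mul, hc]
      rw [Ideal.mem_span_singleton']
      obtain ⟨v, hv⟩ := hu.exists_left_inv
      refine ⟨v * algebraMap A B c, ?_⟩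
      calc v * algebraMap A B c * algebraMap A B a
          = v * (algebraMap A B c * algebraMap A B a) := by ring
        _ = v * (algebraMap A B h * algebraMap A B b) := by rw [this]
        _ = (v * algebraMap A B h) * algebraMap A B b := by ring
        _ = algebraMap A B b := by rw [hv, one_mul]
    · rw [Ideal.span_le, Set.singleton_subset_iff]
      exact Ideal.mem_map_of_mem _ haI

end Groth.Agent.Lib.helper26.SpreadPrinc
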