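import Mathlib
import Groth.Agent.Lib.helper26.Haupt
import Groth.Agent.Lib.helper26.SpreadPrinc
import Groth.Agent.Lib.helper7.DimSch2

universe u
open AlgebraicGeometry CategoryTheory Topology TopologicalSpace IsLocalRing

namespace Groth.Agent.Lib.helper26.CartSpread

open Groth.Agent.Lib.helper26.Haupt Groth.Agent.Lib.helper7 Groth.Agent.Lib.helper26.SpreadPrinc

variable {X : Scheme.{u}}

theorem exists_chart_of_stalk_principal [IsLocallyNoetherian X] (D : X.IdealSheafData) (x : X)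
    (U : X.affineOpens) (hx : x ∈ U.1) (g : X.presheaf.stalk x)
    (hg : g ∈ nonZeroDivisors (X.presheaf.stalk x))
    (hD : (D.ideal U).map (X.presheaf.germ U.1 x hx).hom = Ideal.span {g}) :
    ∃ U' : X.affineOpens, x ∈ U'.1 ∧ ∃ f ∈ nonZeroDivisors Γ(X, U'.1),
      D.ideal U' = Ideal.span {f} := by
  classical
  haveI : IsNoetherianRing Γ(X, U.1) := IsLocallyNoetherian.component_noetherian U
  letI := X.presheaf.algebra_section_stalk (U := U.1) ⟨x, hx⟩
  haveI := U.2.isLocalization_stalk ⟨x, hx⟩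
  set p := (U.2.primeIdealOf ⟨x, hx⟩).asIdeal with hp
  have hD' : (D.ideal U).map (algebraMap Γ(X, U.1) (X.presheaf.stalk x)) = Ideal.span {g} := hD
  obtain ⟨a, haI, hmap, u, hu, hau⟩ :=
    exists_mem_generator p (X.presheaf.stalk x) (D.ideal U) g hD'
  have hnzd : algebraMap Γ(X, U.1) (X.presheaf.stalk x) a ∈ nonZeroDivisors (X.presheaf.stalk x) := by
    rw [hau]
    exact mul_mem hg hu.mem_nonZeroDivisors
  obtain ⟨s, hs⟩ := (IsNoetherian.noetherian (D.ideal U) : (D.ideal U).FG)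
  have hs' : Ideal.span (s : Set Γ(X, U.1)) = D.ideal U := hs
  obtain ⟨t₁, ht₁, h₁⟩ := exists_mul_mem_span p (X.presheaf.stalk x) s a (by
    intro b hb
    rw [← hmap]
    exact Ideal.mem_map_of_mem _ (by rw [← hs']; exact Ideal.subset_span hb))
  obtain ⟨t₂, ht₂, h₂⟩ := exists_mul_eq_zero p (X.presheaf.stalk x) a hnzd
  set h := t₁ * t₂ with hh
  have hhp : h ∉ p := fun hmem => (Ideal.IsPrime.mem_or_mem inferInstance hmem).elim ht₁ ht₂
  have h1' : ∀ b ∈ D.ideal U, h * b ∈ Ideal.span {a} := by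
    intro b hb
    have : h * b = t₂ * (t₁ * b) := by rw [hh]; ring
    rw [this]
    exact Ideal.mul_mem_left _ _ (h₁ b (by rw [hs']; exact hb))
  have h2' : ∀ z, a * z = 0 → h * z = 0 := by
    intro z hz
    have : h * z = t₁ * (t₂ * z) := by rw [hh]; ring
    rw [this, h₂ z hz, mul_zero]
  haveI := U.2.isLocalization_basicOpen h
  obtain ⟨hB1, hB2⟩ := away_principal h Γ(X, X.basicOpen h) (D.ideal U) a haI h1' h2'
  refine ⟨X.affineBasicOpen h, ?_, algebraMap Γ(X, U.1) Γ(X, X.basicOpen h) a, hB1, ?_⟩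
  · change x ∈ X.basicOpen h
    rw [DimSch.mem_basicOpen_iff U.2 x hx h]
    exact hhp
  · rw [← D.map_ideal_basicOpen U h]
    exact hB2

theorem ideal_eq_top_of_disjoint (D : X.IdealSheafData) (U : X.affineOpens)
    (hU : ∀ y ∈ U.1, y ∉ D.support) : D.ideal U = ⊤ := by
  by_contra hne
  obtain ⟨m, hm, hle⟩ := Ideal.exists_le_maximal _ hne
  obtain ⟨y, hy⟩ := DimSch.exists_primeIdealOf_eq U.2 ⟨m, hm.isPrime⟩
  apply hU y.1 y.2
  rw [mem_support_iff_le D U y.1 y.2, show (⟨y.1, y.2⟩ : U.1) = y from rfl, hy]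
  exact hle

theorem isEffCartier_of_stalk_ideal_principal_regular [IsLocallyNoetherian X]
    (D : X.IdealSheafData)
    (h : ∀ x ∈ D.support, ∀ (U : X.affineOpens) (hx : x ∈ (U : X.Opens)),
      ∃ g : X.presheaf.stalk x, g ∈ nonZeroDivisors (X.presheaf.stalk x) ∧
        (D.ideal U).map (X.presheaf.germ U x hx).hom = Ideal.span {g}) :
    BlowUp.IsEffCartierIdeal D := by
  intro x
  by_cases hx : x ∈ D.support
  · obtain ⟨_, ⟨U, hU, rfl⟩, hxU, -⟩ := X.isBasis_affineOpens.exists_subset_of_mem_open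
      (Set.mem_univ x) isOpen_univ
    obtain ⟨g, hg, hD⟩ := h x hx ⟨U, hU⟩ hxU
    exact exists_chart_of_stalk_principal D x ⟨U, hU⟩ hxU g hg hD
  · have hx' : x ∈ D.support.compl := hx
    obtain ⟨_, ⟨U, hU, rfl⟩, hxU, hUV⟩ := X.isBasis_affineOpens.exists_subset_of_mem_open
      hx' D.support.compl.isOpen
    refine ⟨⟨U, hU⟩, hxU, 1, one_mem _, ?_⟩
    rw [ideal_eq_top_of_disjoint D ⟨U, hU⟩ (fun y hy => hUV hy)]
    simp

end Groth.Agent.Lib.helper26.CartSpread
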