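import Mathlib
import Groth.Agent.Lib.helper26.Haupt
import Groth.Agent.Lib.helper5.RegLoc

universe u
open AlgebraicGeometry CategoryTheory Topology TopologicalSpace IsLocalRing

namespace Groth.Agent.Lib.helper26.CartDVR

open Groth.Agent.Lib.helper26.Haupt Groth.Agent.Lib.helper7

variable {X : Scheme.{u}}

theorem dvr_of_maximalIdeal_principal (R : Type u) [CommRing R] [IsLocalRing R]
    [IsNoetherianRing R] (hdim : ringKrullDim R = 1) (g : R)
    (hm : maximalIdeal R = Ideal.span {g}) :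
    ∃ _ : IsDomain R, IsDiscreteValuationRing R := by
  haveI : IsRegularLocalRing R := by
    apply IsRegularLocalRing.of_spanFinrank_maximalIdeal_le
    rw [hdim, hm]
    have h1 : (Ideal.span {g} : Ideal R).spanFinrank ≤ ({g} : Set R).ncard :=
      Submodule.spanFinrank_span_le_ncard_of_finite (Set.finite_singleton g)
    rw [Set.ncard_singleton] at h1
    exact_mod_cast h1
  haveI : IsDomain R := Groth.Agent.H5.RegLoc.isDomain R
  have hnf : ¬ IsField R := by
    intro hf
    have := ringKrullDim_eq_zero_of_isField hf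
    rw [hdim] at this
    exact one_ne_zero this
  refine ⟨inferInstance, ?_⟩
  refine ((IsDiscreteValuationRing.TFAE R hnf).out 0 4).mpr ?_
  exact ⟨⟨g, by rw [hm, Ideal.submodule_span_eq]⟩⟩

theorem dvr_stalk_generic_of_integral_effCartier [IsLocallyNoetherian X]
    (D : X.IdealSheafData) (hD : BlowUp.IsEffCartierIdeal D) [IsIntegral D.subscheme]
    (ξ : X) (hξ : IsGenericPoint ξ (D.support : Set X)) :
    ∃ _ : IsDomain (X.presheaf.stalk ξ), IsDiscreteValuationRing (X.presheaf.stalk ξ) := by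
  have hξD : ξ ∈ (D.support : Set X) := by rw [← hξ.def]; exact subset_closure rfl
  have hgen : ∀ y ∈ (D.support : Set X), y ⤳ ξ → y = ξ := by
    intro y hy hyξ
    have : ξ ⤳ y := hξ.specializes hy
    exact (hyξ.antisymm this).eq
  obtain ⟨U, hξU, f, hfnzd, hf⟩ := hD ξ
  haveI : IsNoetherianRing Γ(X, U.1) := IsLocallyNoetherian.component_noetherian U
  have hdim := dim_stalk_eq_one_of_generic_effCartier D hD ξ hξD hgen
  have hmin := primeIdealOf_mem_minimalPrimes D U ξ hξU hξD hgen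
  -- the ideal is prime
  have hne : Nonempty ↥(D.subschemeι ⁻¹ᵁ U.1) := by
    have : ξ ∈ Set.range D.subschemeι := by rw [D.range_subschemeι]; exact hξD
    obtain ⟨z, hz⟩ := this
    exact ⟨⟨z, by change D.subschemeι z ∈ U.1; rw [hz]; exact hξU⟩⟩
  haveI : IsDomain Γ(D.subscheme, D.subschemeι ⁻¹ᵁ U.1) :=
    @IsIntegral.component_integral _ _ (D.subschemeι ⁻¹ᵁ U.1) hne
  haveI : IsDomain (Γ(X, U.1) ⧸ D.ideal U) :=
    MulEquiv.isDomain _ (D.subschemeObjIso U).commRingCatIsoToRingEquiv.symm.toMulEquiv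
  have hprime : (D.ideal U).IsPrime := (Ideal.Quotient.isDomain_iff_prime _).mp inferInstance
  have hpeq : (U.2.primeIdealOf ⟨ξ, hξU⟩).asIdeal = D.ideal U :=
    le_antisymm (hmin.2 ⟨hprime, le_rfl⟩ hmin.1.2) hmin.1.2
  letI := X.presheaf.algebra_section_stalk (U := U.1) ⟨ξ, hξU⟩
  haveI := U.2.isLocalization_stalk ⟨ξ, hξU⟩
  have hmax := IsLocalization.AtPrime.map_eq_maximalIdeal (U.2.primeIdealOf ⟨ξ, hξU⟩).asIdeal
    (X.presheaf.stalk ξ)
  rw [hpeq, hf, Ideal.map_span, Set.image_singleton] at hmax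
  exact dvr_of_maximalIdeal_principal _ hdim _ hmax.symm

end Groth.Agent.Lib.helper26.CartDVR
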