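import Mathlib
import Groth.Agent.Lib.helper26.CartSpread

universe u
open AlgebraicGeometry CategoryTheory Topology TopologicalSpace IsLocalRing

namespace Groth.Agent.Lib.helper26.CartMul

open Groth.Agent.Lib.helper7 Groth.Agent.Lib.helper26.SpreadPrinc

/-- if `I J = (f)` with `f` a nonzerodivisor, then near any prime `I` is generated by one element. -/
theorem exists_generator_of_mul_eq {A : Type u} [CommRing A] (I J : Ideal A) (f : A)
    (hf : f ∈ nonZeroDivisors A) (hIJ : I * J = Ideal.span {f}) (P : Ideal A) [P.IsPrime] :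
    ∃ c : A, c ∉ P ∧ ∃ a ∈ I, (∀ a' ∈ I, c * a' ∈ Ideal.span {a}) ∧
      (∀ z : A, a * z = 0 → c * z = 0) := by
  have hcancel : ∀ u v : A, u * f = v * f → u = v := by
    intro u v huv
    have h0 : (u - v) * f = 0 := by rw [sub_mul, huv, sub_self]
    have := (mem_nonZeroDivisors_iff_right.mp hf) _ h0
    exact sub_eq_zero.mp this
  obtain ⟨a, haI, b, hbJ, c, hcP, habc⟩ : ∃ a ∈ I, ∃ b ∈ J, ∃ c : A, c ∉ P ∧ a * b = c * f := by
    by_contra hcon
    push_neg at hcon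
    have hle : I * J ≤ P * Ideal.span {f} := by
      rw [Ideal.mul_le]
      intro a ha b hb
      have hab : a * b ∈ Ideal.span {f} := by rw [← hIJ]; exact Ideal.mul_mem_mul ha hb
      obtain ⟨c, hc⟩ := Ideal.mem_span_singleton'.mp hab
      have hcP : c ∈ P := by
        by_contra hcP
        exact hcon a ha b hb c hcP hc.symm
      rw [← hc]
      exact Ideal.mul_mem_mul hcP (Ideal.subset_span rfl)
    have hfmem : f ∈ P * Ideal.span {f} := hle (by rw [hIJ]; exact Ideal.subset_span rfl)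
    obtain ⟨p, hpP, hp⟩ := Ideal.mem_mul_span_singleton.mp hfmem
    have h1 : p = 1 := hcancel p 1 (by rw [hp, one_mul])
    exact (Ideal.IsPrime.ne_top inferInstance) ((Ideal.eq_top_iff_one P).mpr (h1 ▸ hpP))
  refine ⟨c, hcP, a, haI, ?_, ?_⟩
  · intro a' ha'
    have hab : a' * b ∈ Ideal.span {f} := by rw [← hIJ]; exact Ideal.mul_mem_mul ha' hbJ
    obtain ⟨d, hd⟩ := Ideal.mem_span_singleton'.mp hab
    rw [Ideal.mem_span_singleton']
    refine ⟨d, hcancel _ _ ?_⟩
    calc d * a * f = a * (d * f) := by ring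
      _ = a * (a' * b) := by rw [hd]
      _ = a' * (a * b) := by ring
      _ = a' * (c * f) := by rw [habc]
      _ = c * a' * f := by ring
  · intro z hz
    apply hcancel
    calc c * z * f = (c * f) * z := by ring
      _ = a * b * z := by rw [habc]
      _ = (a * z) * b := by ring
      _ = 0 * f := by rw [hz]; ring

variable {X : Scheme.{u}}

theorem isEffCartier_left_of_mul (𝓘 𝓙 : X.IdealSheafData)
    (h : BlowUp.IsEffCartierIdeal (𝓘 * 𝓙)) : BlowUp.IsEffCartierIdeal 𝓘 := by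
  intro x
  obtain ⟨U, hx, f, hf, hU⟩ := h x
  have hU' : 𝓘.ideal U * 𝓙.ideal U = Ideal.span {f} := hU
  set p := (U.2.primeIdealOf ⟨x, hx⟩).asIdeal with hp
  obtain ⟨c, hcp, a, haI, h1', h2'⟩ := exists_generator_of_mul_eq (𝓘.ideal U) (𝓙.ideal U) f hf hU' p
  haveI := U.2.isLocalization_basicOpen c
  obtain ⟨hB1, hB2⟩ := away_principal c Γ(X, X.basicOpen c) (𝓘.ideal U) a haI h1' h2'
  refine ⟨X.affineBasicOpen c, ?_, algebraMap Γ(X, U.1) Γ(X, X.basicOpen c) a, hB1, ?_⟩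
  · change x ∈ X.basicOpen c
    rw [DimSch.mem_basicOpen_iff U.2 x hx c]
    exact hcp
  · rw [← 𝓘.map_ideal_basicOpen U c]
    exact hB2

theorem isEffCartier_of_mul (𝓘 𝓙 : X.IdealSheafData)
    (h : BlowUp.IsEffCartierIdeal (𝓘 * 𝓙)) :
    BlowUp.IsEffCartierIdeal 𝓘 ∧ BlowUp.IsEffCartierIdeal 𝓙 := by
  refine ⟨isEffCartier_left_of_mul 𝓘 𝓙 h, isEffCartier_left_of_mul 𝓙 𝓘 ?_⟩
  intro x
  obtain ⟨U, hx, f, hf, hU⟩ := h x
  refine ⟨U, hx, f, hf, ?_⟩
  have hU' : 𝓘.ideal U * 𝓙.ideal U = Ideal.span {f} := hU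
  show 𝓙.ideal U * 𝓘.ideal U = Ideal.span {f}
  rw [mul_comm]; exact hU'

end Groth.Agent.Lib.helper26.CartMul
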