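import Mathlib
import Groth.Agent.Lib.helper26.CartDim

universe u
open AlgebraicGeometry CategoryTheory Topology TopologicalSpace

namespace Groth.Agent.Lib.helper26.CartNotIn

open Groth.Agent.Lib.helper26.Haupt Groth.Agent.Lib.helper7

/-- a local ring with a nonzerodivisor in its maximal ideal has dimension at least one. -/
theorem one_le_dim_of_nzd {A : Type u} [CommRing A] [IsLocalRing A] (t : A)
    (ht : t ∈ nonZeroDivisors A) (htm : t ∈ IsLocalRing.maximalIdeal A) :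
    1 ≤ ringKrullDim A := by
  by_contra hcon
  have h0 : ringKrullDim A ≤ 0 := by
    have hlt : ringKrullDim A < 1 := not_le.mp hcon
    have h0' : (0 : WithBot ℕ∞) ≤ ringKrullDim A := ringKrullDim_nonneg_of_nontrivial
    rcases TensorDim.eq_top_or_exists_nat _ h0' with htop | ⟨r, hr⟩
    · rw [htop] at hlt; exact absurd hlt (by simp)
    · rw [hr] at hlt ⊢
      have : r < 1 := by exact_mod_cast hlt
      have : r = 0 := by omega
      subst this; simp
  haveI : Ring.KrullDimLE 0 A := (Ring.krullDimLE_iff).mpr (by simpa using h0)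
  have hnil : t ∈ nilradical A := by
    rw [Ring.KrullDimLE.nilradical_eq_maximalIdeal]; exact htm
  obtain ⟨n, hn⟩ := hnil
  have hpow : t ^ n ∈ nonZeroDivisors A := pow_mem ht n
  rw [hn] at hpow
  exact zero_notMem_nonZeroDivisors hpow

variable {X : Scheme.{u}}

theorem one_le_dim_stalk (𝓘 : X.IdealSheafData) (h𝓘 : BlowUp.IsEffCartierIdeal 𝓘) (y : X)
    (hy : y ∈ 𝓘.support) : 1 ≤ ringKrullDim (X.presheaf.stalk y) := by
  obtain ⟨U, hyU, f, hfnzd, hf⟩ := h𝓘 y
  have hle := (mem_support_iff_le 𝓘 U y hyU).mp hy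
  have hfq : f ∈ (U.2.primeIdealOf ⟨y, hyU⟩).asIdeal := hle (by rw [hf]; exact Ideal.subset_span rfl)
  letI := X.presheaf.algebra_section_stalk (U := U.1) ⟨y, hyU⟩
  haveI := U.2.isLocalization_stalk ⟨y, hyU⟩
  refine one_le_dim_of_nzd (algebraMap Γ(X, U.1) (X.presheaf.stalk y) f) ?_ ?_
  · exact IsLocalization.map_nonZeroDivisors_le (U.2.primeIdealOf ⟨y, hyU⟩).asIdeal.primeCompl _
      (Submonoid.mem_map_of_mem _ hfnzd)
  · rw [← IsLocalization.AtPrime.to_map_mem_maximal_iff (X.presheaf.stalk y)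
      (U.2.primeIdealOf ⟨y, hyU⟩).asIdeal] at hfq
    exact hfq

theorem main {X Z : Scheme.{u}}
    [IsLocallyNoetherian X] (𝓘 : X.IdealSheafData) (hY : BlowUp.IsEffCartierIdeal 𝓘)
    (i : Z ⟶ X) [IsClosedImmersion i] [IsIntegral Z]
    (hprop : ∀ ζ : ↥X, ζ ∈ (𝓘.support : Set ↥X) ∩ Set.range i.base →
        (∀ ζ' : ↥X, ζ' ∈ (𝓘.support : Set ↥X) ∩ Set.range i.base → ζ' ⤳ ζ → ζ' = ζ) →
        ringKrullDim ↑(X.presheaf.stalk ζ) =
          (⨅ y : (𝓘.support : Set ↥X), ringKrullDim ↑(X.presheaf.stalk y.1)) +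
            ringKrullDim ↑(X.presheaf.stalk (i (genericPoint ↥Z)))) :
    ¬ Set.range i.base ⊆ (𝓘.support : Set ↥X) := by
  intro hsub
  have hmem : i (genericPoint ↥Z) ∈ (𝓘.support : Set ↥X) ∩ Set.range i.base :=
    ⟨hsub ⟨_, rfl⟩, ⟨_, rfl⟩⟩
  have hmax : ∀ ζ' : ↥X, ζ' ∈ (𝓘.support : Set ↥X) ∩ Set.range i.base →
      ζ' ⤳ i (genericPoint ↥Z) → ζ' = i (genericPoint ↥Z) := by
    rintro ζ' ⟨-, z', rfl⟩ hsp
    have h1 : genericPoint ↥Z ⤳ z' := genericPoint_specializes z'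
    have h2 : i (genericPoint ↥Z) ⤳ i z' := h1.map i.continuous
    exact (hsp.antisymm h2).eq
  have heq := hprop _ hmem hmax
  have hc : (1 : WithBot ℕ∞) ≤ ⨅ y : (𝓘.support : Set ↥X), ringKrullDim ↑(X.presheaf.stalk y.1) :=
    le_iInf fun y => one_le_dim_stalk 𝓘 hY y.1 y.2
  have hfin : ringKrullDim ↑(X.presheaf.stalk (i (genericPoint ↥Z))) < ⊤ := ringKrullDim_lt_top
  have h0 : (0 : WithBot ℕ∞) ≤ ringKrullDim ↑(X.presheaf.stalk (i (genericPoint ↥Z))) :=
    ringKrullDim_nonneg_of_nontrivial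
  rcases TensorDim.eq_top_or_exists_nat _ h0 with htop | ⟨r, hr⟩
  · rw [htop] at hfin; exact lt_irrefl _ hfin
  · have h1 : 1 + ringKrullDim ↑(X.presheaf.stalk (i (genericPoint ↥Z))) ≤
        ringKrullDim ↑(X.presheaf.stalk (i (genericPoint ↥Z))) := by
      conv_rhs => rw [heq]
      exact add_le_add_left hc _
    rw [hr] at h1
    have : 1 + r ≤ r := by exact_mod_cast h1
    omega

end Groth.Agent.Lib.helper26.CartNotIn
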