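import Mathlib
import Groth.Agent.Lib.helper26.CartCompl
import Groth.Agent.Lib.helper6.IdealComap
import Groth.Prelude.Def_W4c6modpairsegaMP

universe u
open AlgebraicGeometry CategoryTheory Topology TopologicalSpace

namespace Groth.Agent.Lib.helper26.EffPre

open Groth.Agent.Lib.helper26.CartCompl Groth.Agent.Lib.helper6

variable {X X' : Scheme.{u}}

theorem principal_comap (I : X.IdealSheafData) (hI : BlowUp.IsEffCartierIdeal I) (f : X' ⟶ X)
    (x' : X') : ∃ U' : X'.affineOpens, x' ∈ U'.1 ∧ ∃ t' : Γ(X', U'.1),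
      (I.comap f).ideal U' = Ideal.span {t'} := by
  obtain ⟨U, hxU, t, -, ht⟩ := hI (f x')
  obtain ⟨_, ⟨U', hU', rfl⟩, hx, hUV⟩ := (X'.isBasis_affineOpens).exists_subset_of_mem_open
    (show x' ∈ ((f ⁻¹ᵁ U.1 : X'.Opens) : Set X') from hxU) (f ⁻¹ᵁ U.1).isOpen
  refine ⟨⟨U', hU'⟩, hx, (f.appLE U.1 U' hUV).hom t, ?_⟩
  rw [comap_ideal_of_le f I ⟨U', hU'⟩ U hUV, ht, Ideal.map_span, Set.image_singleton]

theorem compl_eq (I : X.IdealSheafData) (f : X' ⟶ X) :
    f ⁻¹ᵁ ModPair.interior I = (I.comap f).support.compl := by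
  ext y
  simp [ModPair.interior, Scheme.IdealSheafData.support_comap]

/-- general form: `J` locally principal with scheme-theoretically dense complement. -/
theorem main_aux (J : X'.IdealSheafData)
    (hJ : ∀ x' : X', ∃ U' : X'.affineOpens, x' ∈ U'.1 ∧ ∃ t' : Γ(X', U'.1),
      J.ideal U' = Ideal.span {t'})
    (V : X'.Opens) (hV : V = J.support.compl) [IsSchemeTheoreticallyDominant V.ι] :
    (∀ W : X'.Opens, IsSchemeTheoreticallyDominant
        (X'.homOfLE (inf_le_right : V ⊓ W ≤ W))) ∧ BlowUp.IsEffCartierIdeal J := by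
  subst hV
  have hLP : Curv2.IsLocPrincipal J := by
    intro x _
    obtain ⟨U, hxU, t, ht⟩ := hJ x
    exact ⟨U, hxU, t, ht⟩
  haveI : IsAffineHom (Scheme.Opens.ι J.support.compl) := isAffineHom_compl_of_locPrincipal J hLP
  constructor
  · intro W
    exact IsSchemeTheoreticallyDominant.of_isPullback
      (f := (Scheme.Opens.ι J.support.compl)) (g := W.ι) (isPullback_opens_inf _ _)
  · intro x'
    obtain ⟨U, hxU, t, ht⟩ := hJ x'
    refine ⟨U, hxU, t, ?_, ht⟩
    rw [mem_nonZeroDivisors_iff_right]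
    intro s hs
    have hinj := Scheme.Hom.app_injective (Scheme.Opens.ι J.support.compl) U.1
    rw [Scheme.Opens.ι_app] at hinj
    have hopen : (Scheme.Opens.ι (X := X') J.support.compl) ''ᵁ
        ((Scheme.Opens.ι (X := X') J.support.compl) ⁻¹ᵁ U.1) = X'.basicOpen t := by
      rw [← compl_inf_eq_basicOpen J U t ht, Scheme.Hom.image_preimage_eq_opensRange_inf,
        Scheme.Opens.opensRange_ι]
    have h12 : (Scheme.Opens.ι (X := X') J.support.compl) ''ᵁ
        ((Scheme.Opens.ι (X := X') J.support.compl) ⁻¹ᵁ U.1) ≤ X'.basicOpen t := hopen.le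
    haveI := U.2.isLocalization_basicOpen t
    have hs3 : algebraMap Γ(X', U.1) Γ(X', X'.basicOpen t) s = 0 := by
      rw [IsLocalization.map_eq_zero_iff (Submonoid.powers t)]
      exact ⟨⟨t, 1, pow_one t⟩, by rw [mul_comm]; exact hs⟩
    have hcomp : X'.presheaf.map (homOfLE (x := (Scheme.Opens.ι (X := X') J.support.compl) ''ᵁ
            ((Scheme.Opens.ι (X := X') J.support.compl) ⁻¹ᵁ U.1))
            (Set.image_preimage_subset _ _)).op =
          X'.presheaf.map (homOfLE (X'.basicOpen_le t)).op ≫ X'.presheaf.map (homOfLE h12).op := by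
      rw [← Functor.map_comp]; rfl
    have key : (X'.presheaf.map (homOfLE (x := (Scheme.Opens.ι (X := X') J.support.compl) ''ᵁ
            ((Scheme.Opens.ι (X := X') J.support.compl) ⁻¹ᵁ U.1))
            (Set.image_preimage_subset _ _)).op).hom s = 0 := by
      rw [hcomp, CommRingCat.hom_comp, RingHom.comp_apply]
      exact (congrArg (X'.presheaf.map (homOfLE h12).op).hom hs3).trans (map_zero _)
    apply hinj
    rw [map_zero]
    exact key

theorem main (I : X.IdealSheafData) (hI : BlowUp.IsEffCartierIdeal I) (f : X' ⟶ X)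
    [IsSchemeTheoreticallyDominant (f ⁻¹ᵁ ModPair.interior I).ι] :
    (∀ W : X'.Opens, IsSchemeTheoreticallyDominant
        (X'.homOfLE (inf_le_right : f ⁻¹ᵁ ModPair.interior I ⊓ W ≤ W))) ∧
      BlowUp.IsEffCartierIdeal (I.comap f) :=
  main_aux (I.comap f) (principal_comap I hI f) _ (compl_eq I f)

end Groth.Agent.Lib.helper26.EffPre
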