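import Mathlib
import Groth.Agent.Lib.helper26.EffPre

universe u
open AlgebraicGeometry CategoryTheory Topology TopologicalSpace CategoryTheory.Limits

namespace Groth.Agent.Lib.helper26.FlatCart

open Groth.Agent.Lib.helper26.CartCompl Groth.Agent.Lib.helper6 Groth.Agent.Lib.helper26.EffPre

variable {X X' : Scheme.{u}}

/-- Flat pullback of an effective Cartier ideal is effective Cartier. -/
theorem effCartier_comap_of_flat (I : X.IdealSheafData) (hI : BlowUp.IsEffCartierIdeal I)
    (f : X' ⟶ X) [Flat f] : BlowUp.IsEffCartierIdeal (I.comap f) := by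
  intro x'
  obtain ⟨U, hxU, t, htn, ht⟩ := hI (f x')
  obtain ⟨_, ⟨U', hU', rfl⟩, hx, hUV⟩ := (X'.isBasis_affineOpens).exists_subset_of_mem_open
    (show x' ∈ ((f ⁻¹ᵁ U.1 : X'.Opens) : Set X') from hxU) (f ⁻¹ᵁ U.1).isOpen
  refine ⟨⟨U', hU'⟩, hx, (f.appLE U.1 U' hUV).hom t, ?_, ?_⟩
  · have hflat : (f.appLE U.1 U' hUV).hom.Flat :=
      HasRingHomProperty.appLE (P := @Flat) f inferInstance U ⟨U', hU'⟩ hUV
    letI := (f.appLE U.1 U' hUV).hom.toAlgebra
    haveI : Module.Flat Γ(X, U.1) Γ(X', U') := hflat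
    have hreg := Module.Flat.isSMulRegular_of_nonZeroDivisors (M := Γ(X', U')) htn
    rw [mem_nonZeroDivisors_iff_right]
    intro s hs
    apply hreg
    show t • s = t • (0 : Γ(X', U'))
    rw [smul_zero, Algebra.smul_def, mul_comm]
    exact hs
  · rw [comap_ideal_of_le f I ⟨U', hU'⟩ U hUV, ht, Ideal.map_span, Set.image_singleton]

theorem dominant_of_eq (V W : X.Opens) (h : V = W) [IsSchemeTheoreticallyDominant W.ι] :
    IsSchemeTheoreticallyDominant V.ι := by
  subst h; infer_instance

theorem main {S T X : Scheme.{u}} (IS : S.IdealSheafData)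
    (IT : T.IdealSheafData) (IX : X.IdealSheafData)
    (hX : BlowUp.IsEffCartierIdeal IX)
    (p : X ⟶ S) (hp : ModPair.IsAmbient IX IS p) (f : T ⟶ S) (hf : ModPair.IsMinimal IT IS f)
    [Flat f] :
    IsSchemeTheoreticallyDominant (ModPair.prodInterior p f IX IT).ι ∧
      IsIso (ModPair.mprodι p f IX IT) ∧
      BlowUp.IsEffCartierIdeal (IX.comap (pullback.fst p f)) := by
  haveI : Flat (pullback.fst p f) := MorphismProperty.pullback_fst _ _ inferInstance
  have hE := effCartier_comap_of_flat IX hX (pullback.fst p f)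
  have hle : (pullback.fst p f) ⁻¹ᵁ ModPair.interior IX ≤
      (pullback.snd p f) ⁻¹ᵁ ModPair.interior IT := by
    intro z hz hz'
    apply hz
    have h1 : (pullback.snd p f) z ∈ IT.support := hz'
    rw [hf, Scheme.IdealSheafData.support_comap] at h1
    have h2 : f ((pullback.snd p f) z) ∈ IS.support := h1
    have h3 : f ((pullback.snd p f) z) = p ((pullback.fst p f) z) := by
      rw [← Scheme.Hom.comp_apply, ← Scheme.Hom.comp_apply, pullback.condition]
    rw [h3] at h2
    have h4 : (pullback.fst p f) z ∈ (IS.comap p).support := by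
      rw [Scheme.IdealSheafData.support_comap]; exact h2
    exact Scheme.IdealSheafData.support_antitone hp h4
  have heq : ModPair.prodInterior p f IX IT = (IX.comap (pullback.fst p f)).support.compl := by
    rw [← compl_eq]
    exact inf_eq_left.mpr hle
  haveI := dominant_compl_of_effCartier _ hE
  haveI hdom : IsSchemeTheoreticallyDominant (ModPair.prodInterior p f IX IT).ι :=
    dominant_of_eq _ _ heq
  refine ⟨hdom, ?_, hE⟩
  exact (Scheme.isIso_subschemeι_iff_eq_bot _).mpr hdom.ker_eq_bot

end Groth.Agent.Lib.helper26.FlatCart
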