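import Mathlib
import Groth.Prelude

universe u
open AlgebraicGeometry CategoryTheory RingTheory.Sequence

namespace Groth.Agent.Lib.helper26.RegImmComp



/-- algebraic core: composition of surjections with kernels generated by weakly regular sequences. -/
theorem comp_core {R S T : Type*} [CommRing R] [CommRing S] [CommRing T] [Nontrivial T]
    (φ : R →+* S) (hφ : Function.Surjective φ) (ψ : S →+* T)
    (a : List R) (b : List S) (ha : IsWeaklyRegular R a) (hka : RingHom.ker φ = Ideal.ofList a)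
    (hb : IsWeaklyRegular S b) (hkb : RingHom.ker ψ = Ideal.ofList b) :
    ∃ c : List R, IsRegular R c ∧ RingHom.ker (ψ.comp φ) = Ideal.ofList c := by
  classical
  set b' : List R := b.map (Function.surjInv hφ) with hb'
  have hb'map : b'.map φ = b := by
    rw [hb', List.map_map]
    conv_rhs => rw [← List.map_id b]
    apply List.map_congr_left
    intro x _
    exact Function.surjInv_eq hφ x
  have hker : RingHom.ker (ψ.comp φ) = Ideal.ofList (a ++ b') := by
    rw [← RingHom.comap_ker, hkb, ← hb'map, ← Ideal.map_ofList,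
      Ideal.comap_map_of_surjective φ hφ, Ideal.ofList_append, sup_comm]
    congr 1
  refine ⟨a ++ b', ⟨?_, ?_⟩, hker⟩
  · rw [isWeaklyRegular_append_iff]
    refine ⟨ha, ?_⟩
    letI := φ.toAlgebra
    have hsurj : Function.Surjective (Algebra.linearMap R S) := hφ
    have hk : (Ideal.ofList a • ⊤ : Submodule R R) = LinearMap.ker (Algebra.linearMap R S) := by
      ext x
      rw [smul_eq_mul, Ideal.mul_top, ← hka]
      rfl
    let e : (R ⧸ (Ideal.ofList a • ⊤ : Submodule R R)) ≃ₗ[R] S :=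
      (Submodule.quotEquivOfEq _ _ hk).trans
        ((Algebra.linearMap R S).quotKerEquivOfSurjective hsurj)
    rw [e.isWeaklyRegular_congr b', ← isWeaklyRegular_map_algebraMap_iff S S b']
    show IsWeaklyRegular S (b'.map φ)
    rw [hb'map]
    exact hb
  · rw [smul_eq_mul, Ideal.mul_top, ← hker]
    exact (RingHom.ker_ne_top _).symm


variable {X Y Z : Scheme.{u}}


theorem flat_res {U U' : X.Opens} (hU : IsAffineOpen U) (hU' : IsAffineOpen U') (e : U' ≤ U) :
    (X.presheaf.map (homOfLE e).op).hom.Flat := by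
  have h := HasRingHomProperty.appLE (P := @Flat) (𝟙 X) inferInstance ⟨U, hU⟩ ⟨U', hU'⟩ e
  have h2 : ((𝟙 X : X ⟶ X).appLE U U' e).hom = (X.presheaf.map (homOfLE e).op).hom := by
    simp [Scheme.Hom.appLE]
    rfl
  rw [← h2]
  exact h

theorem shrink (𝓘 : X.IdealSheafData) {U U' : X.Opens} (hU : IsAffineOpen U)
    (hU' : IsAffineOpen U') (e : U' ≤ U) (rs : List Γ(X, U))
    (hw : IsWeaklyRegular Γ(X, U) rs) (hk : 𝓘.ideal ⟨U, hU⟩ = Ideal.ofList rs) :
    IsWeaklyRegular Γ(X, U') (rs.map (X.presheaf.map (homOfLE e).op).hom) ∧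
      𝓘.ideal ⟨U', hU'⟩ = Ideal.ofList (rs.map (X.presheaf.map (homOfLE e).op).hom) := by
  constructor
  · letI := (X.presheaf.map (homOfLE e).op).hom.toAlgebra
    haveI : Module.Flat Γ(X, U) Γ(X, U') := flat_res hU hU' e
    exact IsWeaklyRegular.of_flat hw
  · have h := 𝓘.map_ideal (U := ⟨U', hU'⟩) (V := ⟨U, hU⟩) e
    rw [← h, hk, Ideal.map_ofList]
    rfl


theorem main (i : Z ⟶ Y) (j : Y ⟶ X)
    (hi : Mor2.IsRegularClosedImmersion i) (hj : Mor2.IsRegularClosedImmersion j) :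
    Mor2.IsRegularClosedImmersion (i ≫ j) := by
  obtain ⟨hci, hi⟩ := hi
  obtain ⟨hcj, hj⟩ := hj
  haveI := hci
  haveI := hcj
  refine ⟨inferInstance, ?_⟩
  intro z
  obtain ⟨V, hV, hzV, b, hb, hkb⟩ := hi z
  obtain ⟨U, hU, hzU, a, ha, hka⟩ := hj (i z)
  obtain ⟨V'', hV''o, hV''⟩ := j.isEmbedding.isInducing.isOpen_iff.1 V.2
  have hzV'' : j (i z) ∈ V'' := by
    have : i z ∈ j ⁻¹' V'' := by rw [hV'']; exact hzV
    exact this
  obtain ⟨_, ⟨U', hU', rfl⟩, hzU', hU'le⟩ := X.isBasis_affineOpens.exists_subset_of_mem_open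
    (show j (i z) ∈ (U ⊓ ⟨V'', hV''o⟩ : X.Opens) from ⟨hzU, hzV''⟩) (U ⊓ ⟨V'', hV''o⟩).isOpen
  have hU'' : IsAffineOpen U' := hU'
  have hU'U : U' ≤ U := fun x hx => (hU'le hx).1
  have hV' : IsAffineOpen (j ⁻¹ᵁ U') := hU''.preimage j
  have hV'V : j ⁻¹ᵁ U' ≤ V := by
    intro y hy
    have h2 : j y ∈ V'' := (hU'le hy).2
    have : y ∈ j ⁻¹' V'' := h2
    rw [hV''] at this
    exact this
  obtain ⟨ha', hka'⟩ := shrink j.ker hU hU'' hU'U a ha.1 hka
  obtain ⟨hb', hkb'⟩ := shrink i.ker hV hV' hV'V b hb.1 hkb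
  haveI : Nonempty ↥(i ⁻¹ᵁ (j ⁻¹ᵁ U')) := ⟨⟨z, hzU'⟩⟩
  rw [Scheme.Hom.ker_apply] at hka' hkb'
  obtain ⟨c, hc, hkc⟩ := comp_core (j.app U').hom (j.app_surjective U' hU'')
    (i.app (j ⁻¹ᵁ U')).hom _ _ ha' hka' hb' hkb'
  refine ⟨U', hU'', hzU', c, hc, ?_⟩
  rw [Scheme.Hom.ker_apply, ← hkc]
  rfl

end Groth.Agent.Lib.helper26.RegImmComp
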