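import Mathlib
import Groth.Agent.Lib.helper26.FlatCart
import Groth.Agent.Lib.helper26.RegImmComp

universe u
open AlgebraicGeometry CategoryTheory Topology TopologicalSpace CategoryTheory.Limits

namespace Groth.Agent.Lib.helper26.CartProd

open Groth.Agent.Lib.helper26.CartCompl Groth.Agent.Lib.helper6 Groth.Agent.Lib.helper26.EffPre
  Groth.Agent.Lib.helper26.FlatCart

variable {X : Scheme.{u}}

/-- restricting a principal chart to a smaller affine open. -/
theorem shrink_principal (I : X.IdealSheafData) {U U' : X.Opens} (hU : IsAffineOpen U)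
    (hU' : IsAffineOpen U') (e : U' ≤ U) (t : Γ(X, U)) (ht : I.ideal ⟨U, hU⟩ = Ideal.span {t}) :
    I.ideal ⟨U', hU'⟩ = Ideal.span {(X.presheaf.map (homOfLE e).op).hom t} := by
  have h := I.map_ideal (U := ⟨U', hU'⟩) (V := ⟨U, hU⟩) e
  rw [← h, ht, Ideal.map_span, Set.image_singleton]
  rfl

theorem shrink_nzd {U U' : X.Opens} (hU : IsAffineOpen U)
    (hU' : IsAffineOpen U') (e : U' ≤ U) (t : Γ(X, U)) (ht : t ∈ nonZeroDivisors Γ(X, U)) :
    (X.presheaf.map (homOfLE e).op).hom t ∈ nonZeroDivisors Γ(X, U') := by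
  letI := (X.presheaf.map (homOfLE e).op).hom.toAlgebra
  haveI : Module.Flat Γ(X, U) Γ(X, U') := RegImmComp.flat_res hU hU' e
  have hreg := Module.Flat.isSMulRegular_of_nonZeroDivisors (M := Γ(X, U')) ht
  rw [mem_nonZeroDivisors_iff_right]
  intro s hs
  apply hreg
  show t • s = t • (0 : Γ(X, U'))
  rw [smul_zero, Algebra.smul_def, mul_comm]
  exact hs

theorem exists_affine_le_inf (U₁ U₂ : X.Opens) (z : X) (h1 : z ∈ U₁) (h2 : z ∈ U₂) :
    ∃ W : X.Opens, IsAffineOpen W ∧ z ∈ W ∧ W ≤ U₁ ∧ W ≤ U₂ := by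
  obtain ⟨_, ⟨W, hW, rfl⟩, hz, hWU⟩ := (X.isBasis_affineOpens).exists_subset_of_mem_open
    (show z ∈ ((U₁ ⊓ U₂ : X.Opens) : Set X) from ⟨h1, h2⟩) (U₁ ⊓ U₂).isOpen
  exact ⟨W, hW, hz, fun y hy => (hWU hy).1, fun y hy => (hWU hy).2⟩

/-- A locally principal ideal sheaf containing an effective Cartier one is effective Cartier. -/
theorem effCartier_of_le_principal (A B : X.IdealSheafData) (hA : BlowUp.IsEffCartierIdeal A)
    (hAB : A ≤ B)
    (hB : ∀ z : X, ∃ U : X.affineOpens, z ∈ U.1 ∧ ∃ s : Γ(X, U.1), B.ideal U = Ideal.span {s}) :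
    BlowUp.IsEffCartierIdeal B := by
  intro z
  obtain ⟨U₁, hz1, a, han, ha⟩ := hA z
  obtain ⟨U₂, hz2, s, hs⟩ := hB z
  obtain ⟨W, hW, hzW, e1, e2⟩ := exists_affine_le_inf U₁.1 U₂.1 z hz1 hz2
  have ha' := shrink_principal A U₁.2 hW e1 a ha
  have hs' := shrink_principal B U₂.2 hW e2 s hs
  have han' := shrink_nzd U₁.2 hW e1 a han
  refine ⟨⟨W, hW⟩, hzW, _, ?_, hs'⟩
  have hmem : (X.presheaf.map (homOfLE e1).op).hom a ∈ B.ideal ⟨W, hW⟩ :=
    hAB ⟨W, hW⟩ (by rw [ha']; exact Ideal.subset_span rfl)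
  rw [hs', Ideal.mem_span_singleton'] at hmem
  obtain ⟨b, hb⟩ := hmem
  rw [mem_nonZeroDivisors_iff_right]
  intro c hc
  apply (mem_nonZeroDivisors_iff_right.mp han') c
  rw [← hb]
  generalize (X.presheaf.map (homOfLE e2).op).hom s = s' at hc ⊢
  calc c * (b * s') = b * (c * s') := by ring
    _ = 0 := by rw [hc, mul_zero]

/-- The product of two effective Cartier ideals is effective Cartier. -/
theorem effCartier_mul (A C : X.IdealSheafData) (hA : BlowUp.IsEffCartierIdeal A)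
    (hC : BlowUp.IsEffCartierIdeal C) : BlowUp.IsEffCartierIdeal (A * C) := by
  intro z
  obtain ⟨U₁, hz1, a, han, ha⟩ := hA z
  obtain ⟨U₂, hz2, c, hcn, hc⟩ := hC z
  obtain ⟨W, hW, hzW, e1, e2⟩ := exists_affine_le_inf U₁.1 U₂.1 z hz1 hz2
  have ha' := shrink_principal A U₁.2 hW e1 a ha
  have hc' := shrink_principal C U₂.2 hW e2 c hc
  have han' := shrink_nzd U₁.2 hW e1 a han
  have hcn' := shrink_nzd U₂.2 hW e2 c hcn
  refine ⟨⟨W, hW⟩, hzW, _, mul_mem han' hcn', ?_⟩
  show A.ideal ⟨W, hW⟩ * C.ideal ⟨W, hW⟩ = _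
  rw [ha', hc', Ideal.span_singleton_mul_span_singleton]

theorem main {X T S : Scheme.{u}}
    (IS : S.IdealSheafData) (IX : X.IdealSheafData) (IT : T.IdealSheafData)
    (hS : BlowUp.IsEffCartierIdeal IS)
    (f : X ⟶ S) (g : T ⟶ S)
    (hf : ModPair.IsAmbient IX IS f)
    (h₁ : BlowUp.IsEffCartierIdeal (IX.comap (pullback.fst f g)))
    (h₂ : BlowUp.IsEffCartierIdeal (IT.comap (pullback.snd f g))) :
    BlowUp.IsEffCartierIdeal (IS.comap (pullback.fst f g ≫ f)) ∧
      IsIso (ModPair.mprodι f g IX IT) := by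
  constructor
  · refine effCartier_of_le_principal (IX.comap (pullback.fst f g)) _ h₁ ?_
      (principal_comap IS hS (pullback.fst f g ≫ f))
    rw [Scheme.IdealSheafData.comap_comp]
    exact Scheme.IdealSheafData.comap_mono _ hf
  · have hE := effCartier_mul _ _ h₁ h₂
    have heq : ModPair.prodInterior f g IX IT =
        (IX.comap (pullback.fst f g) * IT.comap (pullback.snd f g)).support.compl := by
      rw [Scheme.IdealSheafData.support_mul]
      unfold ModPair.prodInterior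
      rw [compl_eq, compl_eq]
      ext z
      simp
    haveI := dominant_compl_of_effCartier _ hE
    haveI hdom : IsSchemeTheoreticallyDominant (ModPair.prodInterior f g IX IT).ι :=
      dominant_of_eq _ _ heq
    exact (Scheme.isIso_subschemeι_iff_eq_bot _).mpr hdom.ker_eq_bot

end Groth.Agent.Lib.helper26.CartProd
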