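import Mathlib
import Groth.Agent.Lib.helper26.CartCompl
import Groth.Agent.Lib.helper6.IdealComap
import Groth.Agent.Lib.helper7.DimSch3

universe u
open AlgebraicGeometry CategoryTheory Topology TopologicalSpace IsLocalRing

namespace Groth.Agent.Lib.helper26.CartPull

open Groth.Agent.Lib.helper26.Haupt Groth.Agent.Lib.helper7 Groth.Agent.Lib.helper26.CartCompl

/-- in a reduced ring, an element outside every minimal prime is a non-zero-divisor. -/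
theorem mem_nonZeroDivisors_of_forall_minimalPrimes {B : Type u} [CommRing B] [IsReduced B] (b : B)
    (h : ∀ q ∈ minimalPrimes B, b ∉ q) : b ∈ nonZeroDivisors B := by
  rw [mem_nonZeroDivisors_iff_right]
  intro c hc
  by_contra hc0
  have hrad : c ∉ (⊥ : Ideal B).radical := by
    intro hmem
    obtain ⟨n, hn⟩ := hmem
    exact hc0 (IsReduced.eq_zero c ⟨n, hn⟩)
  rw [← Ideal.sInf_minimalPrimes, Ideal.mem_sInf] at hrad
  push Not at hrad
  obtain ⟨q, hq, hcq⟩ := hrad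
  have hqp : q.IsPrime := hq.1.1
  have : c * b ∈ q := by rw [hc]; exact q.zero_mem
  rcases hqp.mem_or_mem this with h1 | h1
  · exact hcq h1
  · exact h q hq h1

variable {X Y : Scheme.{u}}

theorem isEffCartier_comap_of_reduced_generic_avoid [IsReduced X] (f : X ⟶ Y)
    (𝓘 : Y.IdealSheafData) (hD : BlowUp.IsEffCartierIdeal 𝓘)
    (h : ∀ ξ : ↥X, (∀ y : ↥X, y ⤳ ξ → y = ξ) → f ξ ∉ 𝓘.support) :
    BlowUp.IsEffCartierIdeal (𝓘.comap f) := by
  intro x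
  obtain ⟨V, hV, g, hg, hgV⟩ := hD (f x)
  obtain ⟨_, ⟨U, hU, rfl⟩, hxU, hUV⟩ := X.isBasis_affineOpens.exists_subset_of_mem_open
    (show x ∈ f ⁻¹ᵁ V.1 from hV) (f ⁻¹ᵁ V.1).isOpen
  have hU' : IsAffineOpen U := hU
  refine ⟨⟨U, hU⟩, hxU, (f.appLE V.1 U hUV).hom g, ?_, ?_⟩
  · apply mem_nonZeroDivisors_of_forall_minimalPrimes
    intro q hq hgq
    obtain ⟨ξ, hξ⟩ := DimSch.exists_primeIdealOf_eq hU' ⟨q, hq.1.1⟩
    have hmax : ∀ η : X, η ⤳ (ξ : X) → η = ξ := by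
      rw [← DimSch.primeIdealOf_mem_minimalPrimes_iff hU' ξ, hξ]
      exact hq
    have hfξ := h ξ.1 hmax
    have hfξV : f ξ.1 ∈ V.1 := hUV ξ.2
    have hbo : f ξ.1 ∈ Y.basicOpen g := by
      rw [← compl_inf_eq_basicOpen 𝓘 V g hgV]
      exact ⟨hfξ, hfξV⟩
    have hξbo : ξ.1 ∈ X.basicOpen ((f.appLE V.1 U hUV).hom g) := by
      rw [Scheme.basicOpen_appLE]
      exact ⟨ξ.2, hbo⟩
    rw [DimSch.mem_basicOpen_iff hU' ξ.1 ξ.2, show (⟨ξ.1, ξ.2⟩ : U) = ξ from rfl, hξ] at hξbo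
    exact hξbo hgq
  · rw [Groth.Agent.Lib.helper6.comap_ideal_of_le f 𝓘 ⟨U, hU⟩ V hUV, hgV, Ideal.map_span,
      Set.image_singleton]

end Groth.Agent.Lib.helper26.CartPull
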