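import Mathlib
import Groth.Agent.Lib.helper26.StalkQuot
import Groth.Agent.Lib.helper26.DimFun5
import Groth.Agent.Lib.helper9.Depth24
import Groth.Agent.Lib.helper9.Depth21
import Groth.Prelude.Def_BlowUp2

universe u
open AlgebraicGeometry CategoryTheory Topology TopologicalSpace IsLocalRing Pointwise

namespace Groth.Agent.Lib.helper26.CartSk

open Groth.Agent.Lib.helper9.Depth

theorem sk_quotient (A : Type u) [CommRing A] [IsLocalRing A] [IsNoetherianRing A] (k : ℕ)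
    (hA : min (k : WithBot ℕ∞) (ringKrullDim A) ≤ ((LocCoh.depth A A : ℕ∞) : WithBot ℕ∞))
    (g : A) (hg : g ∈ nonZeroDivisors A) (hgm : g ∈ maximalIdeal A)
    (B : Type u) [CommRing B] [IsLocalRing B] (e : (A ⧸ Ideal.span {g}) ≃+* B) :
    min ((k - 1 : ℕ) : WithBot ℕ∞) (ringKrullDim B) ≤
      ((LocCoh.depth B B : ℕ∞) : WithBot ℕ∞) := by
  have hne : Ideal.span {g} ≠ (⊤ : Ideal A) := by
    intro h
    rw [Ideal.span_singleton_eq_top] at h
    exact (IsLocalRing.mem_maximalIdeal g).1 hgm h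
  haveI : Nontrivial (A ⧸ Ideal.span {g}) := Ideal.Quotient.nontrivial_iff.2 hne
  haveI : IsNoetherianRing B := isNoetherianRing_of_ringEquiv _ e
  have hdim : ringKrullDim B + 1 = ringKrullDim A := by
    rw [ringKrullDim_eq_of_ringEquiv e.symm]
    exact ringKrullDim_quotient_span_singleton_succ_eq_ringKrullDim_of_mem_nonZeroDivisors hg hgm
  have hreg : IsSMulRegular A g := Module.Flat.isSMulRegular_of_nonZeroDivisors hg
  have h : Ideal.span {g} = g • (⊤ : Ideal A) := by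
    simp [← Submodule.ideal_span_singleton_smul]
  have d1 : LocCoh.depth B B = LocCoh.depth (A ⧸ Ideal.span {g}) (A ⧸ Ideal.span {g}) :=
    depth_eq_of_addEquiv e.symm e.symm.toAddEquiv (fun r y => by
      simp only [smul_eq_mul]; exact map_mul e.symm r y)
  have d2 : LocCoh.depth (A ⧸ Ideal.span {g}) (A ⧸ Ideal.span {g}) =
      LocCoh.depth A (A ⧸ Ideal.span {g}) :=
    (depth_eq_of_surjective (R' := A) (S' := A ⧸ Ideal.span {g}) (N := A ⧸ Ideal.span {g})
      Ideal.Quotient.mk_surjective).symm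
  have d3 : LocCoh.depth A (A ⧸ Ideal.span {g}) = LocCoh.depth A (QuotSMulTop g A) :=
    depth_eq_of_addEquiv (RingEquiv.refl A)
      (Submodule.quotEquivOfEq (Ideal.span {g}) (g • (⊤ : Submodule A A)) h).toAddEquiv
      (fun r y => by simp)
  have d4 : LocCoh.depth A (QuotSMulTop g A) + 1 = LocCoh.depth A A :=
    idealDepth_quotSMulTop_add_one (smul_top_ne_top_of_le_maximalIdeal A le_rfl) hgm hreg
  rw [d1, d2, d3]
  rw [← d4, ← hdim] at hA
  obtain ⟨b, hb⟩ := Groth.Agent.Lib.helper26.DimFun5.exists_nat_dim B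
  rw [hb] at hA ⊢
  cases hm : LocCoh.depth A (QuotSMulTop g A) with
  | top => simp
  | coe m =>
    rw [hm] at hA
    have hA' : min (k : WithBot ℕ∞) ((b + 1 : ℕ) : WithBot ℕ∞) ≤
        (((m + 1 : ℕ) : ℕ∞) : WithBot ℕ∞) := by
      push_cast
      exact hA
    have e3 := (natCast_min_le_iff k (b + 1) (m + 1)).mp hA'
    have e4 : min (k - 1) b ≤ m := by omega
    exact (natCast_min_le_iff (k - 1) b m).mpr e4

theorem sk_effCartier (X : Scheme.{u}) [IsLocallyNoetherian X] (k : ℕ)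
    (hX : ∀ x : ↥X, min (k : WithBot ℕ∞) (ringKrullDim (X.presheaf.stalk x)) ≤
      ((LocCoh.depth (X.presheaf.stalk x) (X.presheaf.stalk x) : ℕ∞) : WithBot ℕ∞))
    (𝓘 : X.IdealSheafData) (h𝓘 : BlowUp.IsEffCartierIdeal 𝓘) (d : ↥𝓘.subscheme) :
    min ((k - 1 : ℕ) : WithBot ℕ∞) (ringKrullDim (𝓘.subscheme.presheaf.stalk d)) ≤
      ((LocCoh.depth (𝓘.subscheme.presheaf.stalk d) (𝓘.subscheme.presheaf.stalk d) : ℕ∞) :
        WithBot ℕ∞) := by
  obtain ⟨U, hxU, g, hg, hgU⟩ := h𝓘 (𝓘.subschemeι d)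
  have hgx := Groth.Agent.Lib.helper26.MulDiv.germ_mem_nonZeroDivisors U _ hxU g hg
  have hxs : 𝓘.subschemeι d ∈ 𝓘.support := by
    rw [← SetLike.mem_coe, ← 𝓘.range_subschemeι]
    exact ⟨d, rfl⟩
  have hgm : X.presheaf.germ U.1 (𝓘.subschemeι d) hxU g ∈
      maximalIdeal (X.presheaf.stalk (𝓘.subschemeι d)) :=
    (IsLocalRing.mem_maximalIdeal _).2
      (Groth.Agent.Lib.helper26.MulDiv.not_isUnit_germ_of_mem_support 𝓘 U _ hxU hxs g
        (hgU ▸ Ideal.subset_span rfl))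
  have hI : (𝓘.ideal U).map (X.presheaf.germ U.1 (𝓘.subschemeι d) hxU).hom =
      Ideal.span {X.presheaf.germ U.1 (𝓘.subschemeι d) hxU g} := by
    rw [hgU, Ideal.map_span, Set.image_singleton]
  exact sk_quotient (X.presheaf.stalk (𝓘.subschemeι d)) k (hX _) _ hgx hgm _
    ((Ideal.quotEquivOfEq hI.symm).trans
      (Groth.Agent.Lib.helper26.StalkQuot.stalkEquiv 𝓘 d U hxU))

end Groth.Agent.Lib.helper26.CartSk
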