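import Mathlib
import Groth.Prelude.Def_W4stkchowintpicEnv

universe u
open AlgebraicGeometry CategoryTheory Topology TopologicalSpace IsLocalRing Limits

namespace Groth.Agent.Lib.helper26.ComplDecomp

/-- A `K`-point `t` of `P` whose composite with `h : P ⟶ X'` is the canonical point of `x'`
(up to an isomorphism `κ(x') ≅ K`) gives a point over `x'` with surjective residue field map. -/
theorem surjective_residueFieldMap_of_section {P X' : Scheme.{u}} (h : P ⟶ X') (x' : X')
    (K : Type u) [Field K] (j : X'.residueField x' ⟶ .of K) (hj : Function.Surjective j.hom)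
    (t : Spec (.of K) ⟶ P)
    (ht : t ≫ h = Spec.map j ≫ X'.fromSpecResidueField x') :
    h (t (closedPoint K)) = x' ∧
      Function.Surjective (h.residueFieldMap (t (closedPoint K))).hom := by
  have h1 : (Scheme.SpecToEquivOfField K X') (t ≫ h) = ⟨x', j⟩ := by
    rw [ht]
    exact (Scheme.SpecToEquivOfField K X').right_inv ⟨x', j⟩
  rw [Scheme.SpecToEquivOfField_eq_iff] at h1
  obtain ⟨e, he⟩ := h1
  refine ⟨e, ?_⟩
  have h2 := Scheme.descResidueField_stalkClosedPointTo_comp (f := h) t
  simp only [Scheme.SpecToEquivOfField_apply_snd] at he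
  replace he := h2.symm.trans he
  set r := Scheme.descResidueField (Scheme.stalkClosedPointTo t) with hr
  have hrinj : Function.Injective r.hom := r.hom.injective
  have hsurj : Function.Surjective ((X'.residueFieldCongr e).hom ≫ j).hom := by
    rw [CommRingCat.hom_comp, RingHom.coe_comp]
    refine hj.comp ?_
    exact ((X'.residueFieldCongr e).commRingCatIsoToRingEquiv).surjective
  intro b
  obtain ⟨a, ha⟩ := hsurj (r.hom b)
  refine ⟨a, hrinj ?_⟩
  rw [← ha, ← he]
  rfl

/-- base change of a completely decomposed morphism is completely decomposed. -/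
theorem isCompletelyDecomposed_snd {X X' Y : Scheme.{u}} (f : Y ⟶ X) (g : X' ⟶ X)
    (hcd : Cyc.IsCompletelyDecomposed f) : Cyc.IsCompletelyDecomposed (pullback.snd f g) := by
  intro x'
  obtain ⟨y, hy, hsurj⟩ := hcd (g x')
  -- the inverse of the residue field isomorphism at `y`
  let φ : X.residueField (f y) ≃+* Y.residueField y :=
    RingEquiv.ofBijective (f.residueFieldMap y).hom ⟨(f.residueFieldMap y).hom.injective, hsurj⟩
  let ψ : Y.residueField y ⟶ X'.residueField x' :=
    CommRingCat.ofHom (φ.symm : Y.residueField y →+* X.residueField (f y)) ≫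
      (X.residueFieldCongr hy).hom ≫ g.residueFieldMap x'
  have hA : f.residueFieldMap y ≫
      CommRingCat.ofHom (φ.symm : Y.residueField y →+* X.residueField (f y)) = 𝟙 _ := by
    ext a
    exact φ.symm_apply_apply a
  have hψ : f.residueFieldMap y ≫ ψ = (X.residueFieldCongr hy).hom ≫ g.residueFieldMap x' := by
    simp only [ψ]
    rw [← Category.assoc, hA, Category.id_comp]
  let t1 : Spec (X'.residueField x') ⟶ Y := Spec.map ψ ≫ Y.fromSpecResidueField y
  let t2 : Spec (X'.residueField x') ⟶ X' := X'.fromSpecResidueField x'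
  have hcomm : t1 ≫ f = t2 ≫ g := by
    simp only [t1, t2, Category.assoc]
    rw [← Scheme.Hom.SpecMap_residueFieldMap_fromSpecResidueField,
      ← Scheme.Hom.SpecMap_residueFieldMap_fromSpecResidueField, ← Spec.map_comp_assoc, hψ,
      Spec.map_comp_assoc, Scheme.residueFieldCongr_fromSpecResidueField]
  let t : Spec (.of (X'.residueField x')) ⟶ pullback f g := pullback.lift t1 t2 hcomm
  have ht : t ≫ pullback.snd f g = Spec.map (𝟙 (X'.residueField x')) ≫
      X'.fromSpecResidueField x' := by
    rw [Spec.map_id, Category.id_comp]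
    exact pullback.lift_snd _ _ _
  obtain ⟨h1, h2⟩ := surjective_residueFieldMap_of_section (pullback.snd f g) x'
    (X'.residueField x') (𝟙 _) (fun b => ⟨b, rfl⟩) t ht
  exact ⟨_, h1, h2⟩

end Groth.Agent.Lib.helper26.ComplDecomp
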