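import Mathlib
import Groth.Agent.Lib.helper26.EffPre
import Groth.Agent.Lib.helper26.CartDim

universe u
open AlgebraicGeometry CategoryTheory Topology TopologicalSpace CategoryTheory.Limits

namespace Groth.Agent.Lib.helper26.ImgOpen

open Groth.Agent.Lib.helper26.CartCompl Groth.Agent.Lib.helper6 Groth.Agent.Lib.helper26.EffPre
  Groth.Agent.Lib.helper26.Haupt Groth.Agent.Lib.helper7

variable {S : Scheme.{u}}

/-- the kernel of the base change of a quasi-compact morphism along an open immersion. -/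
theorem ker_eq_comap_of_isPullback {X Y U V : Scheme.{u}}
    (f : X ⟶ Y) (f' : U ⟶ V) (iU : U ⟶ X) (iV : V ⟶ Y) [IsOpenImmersion iV]
    [QuasiCompact f] (H : IsPullback f' iU iV f) : f'.ker = f.ker.comap iV := by
  refine Scheme.IdealSheafData.ext ?_
  funext W
  rw [Scheme.ker_ideal_of_isPullback_of_isOpenImmersion f f' iU iV H W,
    Scheme.IdealSheafData.ideal_comap_of_isOpenImmersion]

theorem toImage_ker_eq_bot {X Y : Scheme.{u}} (f : X ⟶ Y) [QuasiCompact f] :
    f.toImage.ker = ⊥ := by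
  refine Scheme.IdealSheafData.ext_of_iSup_eq_top
    (fun U : Y.affineOpens => ⟨f.imageι ⁻¹ᵁ U.1, U.2.preimage f.imageι⟩) ?_ ?_
  · rw [eq_top_iff]
    intro z _
    obtain ⟨_, ⟨U, hU, rfl⟩, hzU, -⟩ := Y.isBasis_affineOpens.exists_subset_of_mem_open
      (Set.mem_univ (f.imageι z)) isOpen_univ
    exact Opens.mem_iSup.mpr ⟨⟨U, hU⟩, hzU⟩
  · intro U
    rw [Scheme.Hom.ker_apply, Scheme.IdealSheafData.ideal_bot]
    exact (RingHom.injective_iff_ker_eq_bot _).mp (f.toImage_app_injective U)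

theorem image_props (V : S.Opens) [QuasiCompact V.ι] {V' : Scheme.{u}}
    (g : V' ⟶ (V : Scheme.{u})) [IsClosedImmersion g] :
    IsSchemeTheoreticallyDominant ((g ≫ V.ι).imageι ⁻¹ᵁ V).ι ∧
      IsOpenImmersion (g ≫ V.ι).toImage ∧
      Set.range (g ≫ V.ι).toImage.base = (g ≫ V.ι).imageι.base ⁻¹' (V : Set S) := by
  -- the restriction of the closed immersion `imageι` over `V`
  haveI : IsClosedImmersion ((g ≫ V.ι).imageι ∣_ V) :=
    MorphismProperty.of_isPullback (isPullback_morphismRestrict (g ≫ V.ι).imageι V).flip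
      inferInstance
  have hk1 : ((g ≫ V.ι).imageι ∣_ V).ker = (g ≫ V.ι).ker.comap V.ι := by
    rw [ker_eq_comap_of_isPullback (g ≫ V.ι).imageι ((g ≫ V.ι).imageι ∣_ V) _ V.ι
      (isPullback_morphismRestrict (g ≫ V.ι).imageι V)]
    congr 1
    exact Scheme.IdealSheafData.ker_subschemeι _
  have hpb : IsPullback g (𝟙 V') V.ι (g ≫ V.ι) :=
    IsPullback.of_vert_isIso_mono ⟨by simp⟩
  have hk2 : g.ker = (g ≫ V.ι).ker.comap V.ι :=
    ker_eq_comap_of_isPullback (g ≫ V.ι) g (𝟙 V') V.ι hpb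
  -- the comparison morphism
  let φ : V' ⟶ ((g ≫ V.ι).imageι ⁻¹ᵁ V : Scheme.{u}) :=
    IsClosedImmersion.lift ((g ≫ V.ι).imageι ∣_ V) g (by rw [hk1, hk2])
  have hφ : φ ≫ ((g ≫ V.ι).imageι ∣_ V) = g := IsClosedImmersion.lift_fac _ _ _
  haveI : IsIso φ := IsClosedImmersion.isIso_of_ker_eq g ((g ≫ V.ι).imageι ∣_ V) φ hφ
    (by rw [hk1, hk2])
  have hfac : (g ≫ V.ι).toImage = φ ≫ ((g ≫ V.ι).imageι ⁻¹ᵁ V).ι := by
    rw [← cancel_mono (g ≫ V.ι).imageι, Scheme.Hom.toImage_imageι, Category.assoc,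
      ← morphismRestrict_ι, ← Category.assoc, hφ]
  refine ⟨?_, ?_, ?_⟩
  · rw [isSchemeTheoreticallyDominant_iff, eq_bot_iff]
    have h1 := Scheme.Hom.le_ker_comp φ ((g ≫ V.ι).imageι ⁻¹ᵁ V).ι
    rw [← hfac, toImage_ker_eq_bot] at h1
    exact h1
  · rw [hfac]; infer_instance
  · rw [hfac]
    ext z
    constructor
    · rintro ⟨v, rfl⟩
      exact (φ v).2
    · intro hz
      obtain ⟨v, hv⟩ := (ConcreteCategory.bijective_of_isIso φ.base).2 ⟨z, hz⟩
      exact ⟨v, by
        show ((g ≫ V.ι).imageι ⁻¹ᵁ V).ι (φ v) = z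
        rw [show φ v = ⟨z, hz⟩ from hv]; rfl⟩

/-- every point has a generization outside the support of an effective Cartier ideal. -/
theorem exists_generization_notMem (𝓘 : S.IdealSheafData) (h𝓘 : BlowUp.IsEffCartierIdeal 𝓘)
    (t : S) : ∃ η : S, η ⤳ t ∧ η ∉ 𝓘.support := by
  by_cases ht : t ∈ 𝓘.support
  swap
  · exact ⟨t, specializes_rfl, ht⟩
  obtain ⟨U, htU, f, hfnzd, hf⟩ := h𝓘 t
  set q := U.2.primeIdealOf ⟨t, htU⟩ with hq
  obtain ⟨q₀, hq₀, hq₀le⟩ := Ideal.exists_minimalPrimes_le (I := ⊥) (J := q.asIdeal) bot_le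
  obtain ⟨η, hη⟩ := helper7.DimSch.exists_primeIdealOf_eq U.2 ⟨q₀, hq₀.1.1⟩
  refine ⟨η, ?_, ?_⟩
  · rw [← helper7.DimSch.primeIdealOf_le_iff U.2 η ⟨t, htU⟩, hη]
    exact hq₀le
  · intro hmem
    have hle := (mem_support_iff_le 𝓘 U η η.2).mp hmem
    have hfq : f ∈ q₀ := by
      have h1 := hle (by rw [hf]; exact Ideal.subset_span rfl)
      have h2 : (U.2.primeIdealOf ⟨η.1, η.2⟩).asIdeal = q₀ := by
        have : (⟨η.1, η.2⟩ : U.1) = η := rfl
        rw [this, hη]
      rw [h2] at h1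
      exact h1
    exact notMem_nonZeroDivisors_of_mem_mem_minimalPrimes hfq hq₀ hfnzd

theorem main {S : Scheme.{u}} (I : S.IdealSheafData)
    (hI : BlowUp.IsEffCartierIdeal I) {ι : Type u} (V : ι → Scheme.{u})
    (g : ∀ i, V i ⟶ (ModPair.interior I : Scheme.{u})) [∀ i, IsClosedImmersion (g i)]
    (hsurj : ∀ u : (ModPair.interior I : Scheme.{u}), ∃ (i : ι) (v : V i), (g i).base v = u) :
    (∀ s : S, ∃ (i : ι) (v : (g i ≫ (ModPair.interior I).ι).image),
        (g i ≫ (ModPair.interior I).ι).imageι.base v = s) ∧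
      (∀ i, BlowUp.IsEffCartierIdeal (I.comap (g i ≫ (ModPair.interior I).ι).imageι)) ∧
      ∀ i, IsOpenImmersion (g i ≫ (ModPair.interior I).ι).toImage ∧
        Set.range (g i ≫ (ModPair.interior I).ι).toImage.base =
          (g i ≫ (ModPair.interior I).ι).imageι.base ⁻¹' (ModPair.interior I : Set S) := by
  haveI : IsAffineHom (ModPair.interior I).ι :=
    CartCompl.isAffineHom_compl_of_locPrincipal I (CartCompl.isLocPrincipal_of_effCartier I hI)
  haveI : QuasiCompact (ModPair.interior I).ι := inferInstance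
  refine ⟨?_, ?_, ?_⟩
  · intro s
    obtain ⟨η, hηs, hη⟩ := exists_generization_notMem I hI s
    have hηU : η ∈ ModPair.interior I := hη
    obtain ⟨i, v, hv⟩ := hsurj ⟨η, hηU⟩
    refine ⟨i, ?_⟩
    have hrange : Set.range (g i ≫ (ModPair.interior I).ι).imageι.base =
        closure (Set.range (g i ≫ (ModPair.interior I).ι).base) := by
      rw [Scheme.Hom.imageι, Scheme.IdealSheafData.range_subschemeι, Scheme.Hom.support_ker]
    have hs : s ∈ Set.range (g i ≫ (ModPair.interior I).ι).imageι.base := by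
      rw [hrange]
      refine hηs.mem_closed isClosed_closure (subset_closure ⟨v, ?_⟩)
      show (ModPair.interior I).ι ((g i) v) = η
      rw [show (g i) v = ⟨η, hηU⟩ from hv]
      rfl
    exact hs
  · intro i
    haveI := (image_props (ModPair.interior I) (g i)).1
    exact (EffPre.main I hI _).2
  · intro i
    exact (image_props (ModPair.interior I) (g i)).2

end Groth.Agent.Lib.helper26.ImgOpen
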