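import Mathlib
import Groth.Agent.Lib.helper26.CartProd

universe u
open AlgebraicGeometry CategoryTheory Topology TopologicalSpace CategoryTheory.Limits

namespace Groth.Agent.Lib.helper26.MinOpen

open Groth.Agent.Lib.helper26.CartCompl Groth.Agent.Lib.helper6 Groth.Agent.Lib.helper26.EffPre
  Groth.Agent.Lib.helper26.FlatCart Groth.Agent.Lib.helper26.CartProd

theorem isUnit_of_span_eq {R : Type*} [CommRing R] (k b : R) (hk : k ∈ nonZeroDivisors R)
    (h : Ideal.span {b * k} = Ideal.span {k}) : IsUnit b := by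
  have hmem : k ∈ Ideal.span {b * k} := by rw [h]; exact Ideal.subset_span rfl
  rw [Ideal.mem_span_singleton'] at hmem
  obtain ⟨c, hc⟩ := hmem
  have h1 : (c * b - 1) * k = 0 := by rw [sub_mul, one_mul, mul_assoc, hc, sub_self]
  have h2 : c * b - 1 = 0 := (mem_nonZeroDivisors_iff_right.mp hk) _ h1
  exact IsUnit.of_mul_eq_one c (by rw [mul_comm]; exact sub_eq_zero.mp h2)

theorem nzd_of_span_eq {R : Type*} [CommRing R] (i k : R) (hi : i ∈ nonZeroDivisors R)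
    (h : Ideal.span {k} = Ideal.span {i}) : k ∈ nonZeroDivisors R := by
  have hmem : i ∈ Ideal.span {k} := by rw [h]; exact Ideal.subset_span rfl
  rw [Ideal.mem_span_singleton'] at hmem
  obtain ⟨v, hv⟩ := hmem
  rw [mem_nonZeroDivisors_iff_right]
  intro c hc
  apply (mem_nonZeroDivisors_iff_right.mp hi) c
  rw [← hv]
  calc c * (v * k) = v * (c * k) := by ring
    _ = 0 := by rw [hc, mul_zero]

theorem span_eq_of_isUnit {R : Type*} [CommRing R] (k b : R) (hb : IsUnit b) :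
    Ideal.span {b * k} = Ideal.span {k} := by
  obtain ⟨u, rfl⟩ := hb
  exact Ideal.span_singleton_mul_left_unit u.isUnit k

variable {Y : Scheme.{u}}

/-- the open locus where two ideal sheaves agree (union of the affine opens on which the ideals
agree). -/
def eqLocus (J K' : Y.IdealSheafData) : Y.Opens :=
  ⨆ W : {W : Y.affineOpens // J.ideal W = K'.ideal W}, W.1.1

theorem le_eqLocus (J K' : Y.IdealSheafData) (W : Y.affineOpens) (h : J.ideal W = K'.ideal W) :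
    W.1 ≤ eqLocus J K' :=
  le_iSup (fun W : {W : Y.affineOpens // J.ideal W = K'.ideal W} => W.1.1) ⟨W, h⟩

theorem eqLocus_inf_chart (J K' : Y.IdealSheafData) {W₀ : Y.Opens} (hW₀ : IsAffineOpen W₀)
    (j k b : Γ(Y, W₀)) (hj : J.ideal ⟨W₀, hW₀⟩ = Ideal.span {j})
    (hk : K'.ideal ⟨W₀, hW₀⟩ = Ideal.span {k}) (hkn : k ∈ nonZeroDivisors Γ(Y, W₀))
    (hjk : j = b * k) : eqLocus J K' ⊓ W₀ = Y.basicOpen b := by
  apply le_antisymm
  · rintro y ⟨hy1, hy2⟩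
    obtain ⟨⟨W, hW⟩, hyW⟩ := Opens.mem_iSup.mp hy1
    obtain ⟨W₁, hW₁, hyW₁, e1, e2⟩ := exists_affine_le_inf W.1 W₀ y hyW hy2
    have h1 : J.ideal ⟨W₁, hW₁⟩ = K'.ideal ⟨W₁, hW₁⟩ := by
      rw [← J.map_ideal (U := ⟨W₁, hW₁⟩) (V := W) e1, ← K'.map_ideal (U := ⟨W₁, hW₁⟩) (V := W) e1,
        hW]
    have hj' := shrink_principal J hW₀ hW₁ e2 j hj
    have hk' := shrink_principal K' hW₀ hW₁ e2 k hk
    have hkn' := shrink_nzd hW₀ hW₁ e2 k hkn
    rw [hj', hk', hjk, map_mul] at h1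
    have hunit := isUnit_of_span_eq _ _ hkn' h1
    have hb : Y.basicOpen ((Y.presheaf.map (homOfLE e2).op).hom b) = W₁ :=
      Y.basicOpen_of_isUnit hunit
    have hb2 : Y.basicOpen ((Y.presheaf.map (homOfLE e2).op).hom b) = W₁ ⊓ Y.basicOpen b :=
      Y.basicOpen_res b (homOfLE e2).op
    have : y ∈ W₁ ⊓ Y.basicOpen b := by rw [← hb2, hb]; exact hyW₁
    exact this.2
  · refine le_inf ?_ (Y.basicOpen_le b)
    have e : Y.basicOpen b ≤ W₀ := Y.basicOpen_le b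
    have hD : IsAffineOpen (Y.basicOpen b) := hW₀.basicOpen b
    have hj' := shrink_principal J hW₀ hD e j hj
    have hk' := shrink_principal K' hW₀ hD e k hk
    have hunit : IsUnit ((Y.presheaf.map (homOfLE e).op).hom b) :=
      Y.toRingedSpace.isUnit_res_basicOpen b
    refine le_eqLocus J K' ⟨Y.basicOpen b, hD⟩ ?_
    rw [hj', hk', hjk, map_mul]
    exact span_eq_of_isUnit _ _ hunit

theorem comap_eqLocus (J K' : Y.IdealSheafData) :
    J.comap (eqLocus J K').ι = K'.comap (eqLocus J K').ι := by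
  set U := eqLocus J K' with hUdef
  have hpre : ∀ W : {W : Y.affineOpens // J.ideal W = K'.ideal W}, IsAffineOpen (U.ι ⁻¹ᵁ W.1.1) :=
    fun W => W.1.2.preimage_of_isOpenImmersion U.ι
      (by rw [Scheme.Opens.opensRange_ι]; exact le_eqLocus J K' W.1 W.2)
  refine Scheme.IdealSheafData.ext_of_iSup_eq_top
    (fun W : {W : Y.affineOpens // J.ideal W = K'.ideal W} => ⟨U.ι ⁻¹ᵁ W.1.1, hpre W⟩) ?_ ?_
  · rw [eq_top_iff]
    rintro ⟨y, hy⟩ -
    obtain ⟨W, hyW⟩ := Opens.mem_iSup.mp hy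
    exact Opens.mem_iSup.mpr ⟨W, hyW⟩
  · intro W
    rw [comap_ideal_of_le U.ι J ⟨U.ι ⁻¹ᵁ W.1.1, hpre W⟩ W.1 le_rfl,
      comap_ideal_of_le U.ι K' ⟨U.ι ⁻¹ᵁ W.1.1, hpre W⟩ W.1 le_rfl, W.2]

theorem isAffineHom_eqLocus (J K' : Y.IdealSheafData) (hJ : BlowUp.IsEffCartierIdeal J)
    (hK' : BlowUp.IsEffCartierIdeal K') (hle : J ≤ K') :
    IsAffineHom (eqLocus J K').ι := by
  apply isAffineHom_of_forall_exists_isAffineOpen
  intro y
  obtain ⟨U₁, hy1, j, -, hj⟩ := hJ y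
  obtain ⟨U₂, hy2, k, hkn, hk⟩ := hK' y
  obtain ⟨W₀, hW₀, hyW₀, e1, e2⟩ := exists_affine_le_inf U₁.1 U₂.1 y hy1 hy2
  have hj' := shrink_principal J U₁.2 hW₀ e1 j hj
  have hk' := shrink_principal K' U₂.2 hW₀ e2 k hk
  have hkn' := shrink_nzd U₂.2 hW₀ e2 k hkn
  have hmem : (Y.presheaf.map (homOfLE e1).op).hom j ∈ K'.ideal ⟨W₀, hW₀⟩ :=
    hle ⟨W₀, hW₀⟩ (by rw [hj']; exact Ideal.subset_span rfl)
  rw [hk', Ideal.mem_span_singleton'] at hmem
  obtain ⟨b, hb⟩ := hmem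
  refine ⟨W₀, hyW₀, hW₀, ?_⟩
  apply isAffineOpen_preimage_of_inf
  rw [eqLocus_inf_chart J K' hW₀ _ _ b hj' hk' hkn' hb.symm]
  exact hW₀.basicOpen b

theorem range_subset_eqLocus {X : Scheme.{u}} (I : X.IdealSheafData) (J K' : Y.IdealSheafData)
    (hI : BlowUp.IsEffCartierIdeal I) (hJ : BlowUp.IsEffCartierIdeal J)
    (hK' : BlowUp.IsEffCartierIdeal K') (hle : J ≤ K') (f : X ⟶ Y)
    (h1 : I = J.comap f) (h2 : I = K'.comap f) :
    Set.range f.base ⊆ (eqLocus J K' : Set Y) := by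
  rintro _ ⟨x, rfl⟩
  obtain ⟨U₁, hy1, j, -, hj⟩ := hJ (f x)
  obtain ⟨U₂, hy2, k, hkn, hk⟩ := hK' (f x)
  obtain ⟨W₀, hW₀, hyW₀, e1, e2⟩ := exists_affine_le_inf U₁.1 U₂.1 (f x) hy1 hy2
  have hj' := shrink_principal J U₁.2 hW₀ e1 j hj
  have hk' := shrink_principal K' U₂.2 hW₀ e2 k hk
  have hkn' := shrink_nzd U₂.2 hW₀ e2 k hkn
  have hmem : (Y.presheaf.map (homOfLE e1).op).hom j ∈ K'.ideal ⟨W₀, hW₀⟩ :=
    hle ⟨W₀, hW₀⟩ (by rw [hj']; exact Ideal.subset_span rfl)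
  rw [hk', Ideal.mem_span_singleton'] at hmem
  obtain ⟨b, hb⟩ := hmem
  generalize (Y.presheaf.map (homOfLE e1).op).hom j = j' at hj' hb
  generalize (Y.presheaf.map (homOfLE e2).op).hom k = k' at hk' hkn' hb
  obtain ⟨V₁, hx1, i, hin, hi⟩ := hI x
  obtain ⟨V, hV, hxV, e3, e4⟩ := exists_affine_le_inf V₁.1 (f ⁻¹ᵁ W₀) x hx1 hyW₀
  have hi' := shrink_principal I V₁.2 hV e3 i hi
  have hin' := shrink_nzd V₁.2 hV e3 i hin
  generalize (X.presheaf.map (homOfLE e3).op).hom i = i' at hi' hin'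
  have hIj : I.ideal ⟨V, hV⟩ = Ideal.span {(f.appLE W₀ V e4).hom j'} := by
    rw [h1, comap_ideal_of_le f J ⟨V, hV⟩ ⟨W₀, hW₀⟩ e4, hj', Ideal.map_span, Set.image_singleton]
  have hIk : I.ideal ⟨V, hV⟩ = Ideal.span {(f.appLE W₀ V e4).hom k'} := by
    rw [h2, comap_ideal_of_le f K' ⟨V, hV⟩ ⟨W₀, hW₀⟩ e4, hk', Ideal.map_span, Set.image_singleton]
  have hkn'' : (f.appLE W₀ V e4).hom k' ∈ nonZeroDivisors Γ(X, V) :=
    nzd_of_span_eq i' _ hin' (hIk.symm.trans hi')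
  have hspan : Ideal.span {(f.appLE W₀ V e4).hom b * (f.appLE W₀ V e4).hom k'} =
      Ideal.span {(f.appLE W₀ V e4).hom k'} := by
    rw [← map_mul, hb, ← hIj, hIk]
  have hunit := isUnit_of_span_eq _ _ hkn'' hspan
  have hbo := Scheme.basicOpen_appLE f V W₀ e4 b
  have hx2 : x ∈ V ⊓ f ⁻¹ᵁ (Y.basicOpen b) := by
    rw [← hbo, X.basicOpen_of_isUnit hunit]; exact hxV
  have hyb : f x ∈ Y.basicOpen b := hx2.2
  rw [← eqLocus_inf_chart J K' hW₀ _ _ b hj' hk' hkn' hb.symm] at hyb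
  exact hyb.1

theorem main {X Y Z : Scheme.{u}}
    (I : X.IdealSheafData) (J : Y.IdealSheafData) (K : Z.IdealSheafData)
    (hI : BlowUp.IsEffCartierIdeal I) (hJ : BlowUp.IsEffCartierIdeal J)
    (hK : BlowUp.IsEffCartierIdeal K) (f : X ⟶ Y) (g : Y ⟶ Z)
    (hf : ModPair.IsAmbient I J f) (hg : ModPair.IsAmbient J K g)
    (hfg : ModPair.IsMinimal I K (f ≫ g)) :
    ModPair.IsMinimal I J f ∧
      ∃ U : Y.Opens, QuasiCompact U.ι ∧ Set.range f.base ⊆ (U : Set Y) ∧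
        ModPair.IsMinimal (J.comap U.ι) K (U.ι ≫ g) := by
  have hK' : BlowUp.IsEffCartierIdeal (K.comap g) :=
    effCartier_of_le_principal J _ hJ hg (principal_comap K hK g)
  have h2 : I = (K.comap g).comap f := by
    rw [← Scheme.IdealSheafData.comap_comp]; exact hfg
  have h1 : I = J.comap f :=
    le_antisymm hf (by rw [h2]; exact Scheme.IdealSheafData.comap_mono _ hg)
  refine ⟨h1, eqLocus J (K.comap g), ?_, ?_, ?_⟩
  · haveI := isAffineHom_eqLocus J (K.comap g) hJ hK' hg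
    infer_instance
  · exact range_subset_eqLocus I J (K.comap g) hI hJ hK' hg f h1 h2
  · show J.comap _ = K.comap (_ ≫ g)
    rw [Scheme.IdealSheafData.comap_comp]
    exact comap_eqLocus J _

end Groth.Agent.Lib.helper26.MinOpen
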