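import Mathlib
import Groth.Agent.Lib.helper26.MinOpen

universe u
open AlgebraicGeometry CategoryTheory Topology TopologicalSpace CategoryTheory.Limits

namespace Groth.Agent.Lib.helper26.LimCart

open Groth.Agent.Lib.helper26.CartCompl Groth.Agent.Lib.helper6 Groth.Agent.Lib.helper26.EffPre
  Groth.Agent.Lib.helper26.FlatCart Groth.Agent.Lib.helper26.CartProd
  Groth.Agent.Lib.helper26.MinOpen

variable {X : Scheme.{u}}

/-- A principal generator of an effective Cartier ideal on an affine open is a nonzerodivisor. -/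
theorem nzd_of_effCartier_principal (𝓘 : X.IdealSheafData) (h𝓘 : BlowUp.IsEffCartierIdeal 𝓘)
    {U : X.Opens} (hU : IsAffineOpen U) (t : Γ(X, U)) (ht : 𝓘.ideal ⟨U, hU⟩ = Ideal.span {t}) :
    t ∈ nonZeroDivisors Γ(X, U) := by
  rw [mem_nonZeroDivisors_iff_right]
  intro s hs
  refine X.IsSheaf.section_ext fun y hy => ?_
  obtain ⟨U₁, hy1, a, han, ha⟩ := h𝓘 y
  obtain ⟨W, hW, hyW, e1, e2⟩ := exists_affine_le_inf U₁.1 U y hy1 hy
  have ha' := shrink_principal 𝓘 U₁.2 hW e1 a ha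
  have ht' := shrink_principal 𝓘 hU hW e2 t ht
  have han' := shrink_nzd U₁.2 hW e1 a han
  have htn' : (X.presheaf.map (homOfLE e2).op).hom t ∈ nonZeroDivisors Γ(X, W) :=
    nzd_of_span_eq _ _ han' (ht'.symm.trans ha')
  refine ⟨W, e2, hyW, ?_⟩
  rw [map_zero]
  apply (mem_nonZeroDivisors_iff_right.mp htn')
  rw [← map_mul, hs, map_zero]

/-- effective Cartier-ness can be checked on an open neighbourhood. -/
theorem chart_of_open (𝓙 : X.IdealSheafData) (W : X.Opens) (x : X) (hx : x ∈ W)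
    (h : BlowUp.IsEffCartierIdeal (𝓙.comap W.ι)) :
    ∃ U : X.affineOpens, x ∈ U.1 ∧
      ∃ f : Γ(X, U.1), f ∈ nonZeroDivisors Γ(X, U.1) ∧ 𝓙.ideal U = Ideal.span {f} := by
  obtain ⟨V, hxV, t, htn, ht⟩ := h ⟨x, hx⟩
  refine ⟨⟨W.ι ''ᵁ V.1, V.2.image_of_isOpenImmersion W.ι⟩, ⟨⟨x, hx⟩, hxV, rfl⟩,
    (W.ι.appIso V.1).inv.hom t, ?_, ?_⟩
  · rw [mem_nonZeroDivisors_iff_right]
    intro s hs
    have h1 : (W.ι.appIso V.1).hom.hom s * t = 0 := by
      have := congrArg (W.ι.appIso V.1).hom.hom hs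
      rw [map_mul, map_zero] at this
      rw [← this]
      congr 1
      exact (congrArg (fun φ => φ.hom t) (W.ι.appIso V.1).inv_hom_id).symm
    have h2 := (mem_nonZeroDivisors_iff_right.mp htn) _ h1
    have h3 := congrArg (W.ι.appIso V.1).inv.hom h2
    rw [map_zero] at h3
    rw [← h3]
    exact (congrArg (fun φ => φ.hom s) (W.ι.appIso V.1).hom_inv_id).symm
  · have h1 := Scheme.IdealSheafData.ideal_comap_of_isOpenImmersion 𝓙 W.ι V
    rw [ht] at h1
    have hsurj : Function.Surjective (W.ι.appIso V.1).inv.hom := by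
      intro b
      exact ⟨(W.ι.appIso V.1).hom.hom b,
        congrArg (fun φ => φ.hom b) (W.ι.appIso V.1).hom_inv_id⟩
    have h2 := congrArg (Ideal.map (W.ι.appIso V.1).inv.hom) h1
    rw [Ideal.map_comap_of_surjective _ hsurj, Ideal.map_span, Set.image_singleton] at h2
    exact h2.symm

section affine

variable {K : Type u} [SmallCategory K] [IsCofiltered K] (D : K ⥤ Scheme.{u}) (c : Cone D)
  (hc : IsLimit c) [∀ k, IsAffine (D.obj k)]

/-- the projection with its domain displayed as `c.pt`. -/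
abbrev proj (k : K) : c.pt ⟶ D.obj k := c.π.app k

include hc in
theorem nzd_appTop_of_isLimit (j₀ : K) (t₀ : Γ(D.obj j₀, ⊤))
    (h : ∀ (k : K) (f : k ⟶ j₀), (D.map f).appTop.hom t₀ ∈ nonZeroDivisors Γ(D.obj k, ⊤)) :
    (proj D c j₀).appTop.hom t₀ ∈ nonZeroDivisors Γ(c.pt, ⊤) := by
  rw [mem_nonZeroDivisors_iff_right]
  intro s' hs'
  obtain ⟨j, sj, rfl⟩ := exists_appTop_π_eq_of_isAffine_of_isLimit D c hc s'
  -- common refinement
  let k := IsCofiltered.min j j₀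
  let a : k ⟶ j := IsCofiltered.minToLeft j j₀
  let b : k ⟶ j₀ := IsCofiltered.minToRight j j₀
  have hπj : proj D c j = proj D c k ≫ D.map a := (c.w a).symm
  have hπj₀ : proj D c j₀ = proj D c k ≫ D.map b := (c.w b).symm
  have e1 : (proj D c j).appTop.hom sj = (proj D c k).appTop.hom ((D.map a).appTop.hom sj) := by
    rw [hπj, Scheme.Hom.comp_appTop]; rfl
  have e2 : (proj D c j₀).appTop.hom t₀ = (proj D c k).appTop.hom ((D.map b).appTop.hom t₀) := by
    rw [hπj₀, Scheme.Hom.comp_appTop]; rfl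
  have hzero : (proj D c k).appTop.hom ((D.map a).appTop.hom sj * (D.map b).appTop.hom t₀) = 0 := by
    rw [map_mul, ← e1, ← e2]; exact hs'
  obtain ⟨l, g, hl⟩ := exists_appTop_map_eq_zero_of_isAffine_of_isLimit D c hc k _ hzero
  have hl' : (D.map g).appTop.hom ((D.map a).appTop.hom sj) *
      (D.map (g ≫ b)).appTop.hom t₀ = 0 := by
    have : (D.map (g ≫ b)).appTop.hom t₀ = (D.map g).appTop.hom ((D.map b).appTop.hom t₀) := by
      rw [D.map_comp, Scheme.Hom.comp_appTop]; rfl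
    rw [this, ← map_mul]; exact hl
  have h0 := (mem_nonZeroDivisors_iff_right.mp (h l (g ≫ b))) _ hl'
  have hπk : proj D c k = proj D c l ≫ D.map g := (c.w g).symm
  change (proj D c j).appTop.hom sj = 0
  rw [e1, hπk, Scheme.Hom.comp_appTop]
  change (proj D c l).appTop.hom ((D.map g).appTop.hom ((D.map a).appTop.hom sj)) = 0
  rw [h0, map_zero]

include hc in
theorem effCartier_of_isLimit_affine (J : ∀ k, (D.obj k).IdealSheafData)
    (hJ : ∀ k, BlowUp.IsEffCartierIdeal (J k))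
    (hmin : ∀ (k l : K) (f : k ⟶ l), J k = (J l).comap (D.map f)) (j₀ : K)
    (t₀ : Γ(D.obj j₀, ⊤)) (ht₀ : (J j₀).ideal ⟨⊤, isAffineOpen_top _⟩ = Ideal.span {t₀}) :
    BlowUp.IsEffCartierIdeal ((J j₀).comap (proj D c j₀)) := by
  haveI : IsAffine c.pt := Scheme.isAffine_of_isLimit c hc
  intro x
  refine ⟨⟨⊤, isAffineOpen_top _⟩, trivial, (proj D c j₀).appTop.hom t₀, ?_, ?_⟩
  · apply nzd_appTop_of_isLimit D c hc j₀ t₀
    intro k f
    apply nzd_of_effCartier_principal (J k) (hJ k) (isAffineOpen_top _)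
    rw [hmin k j₀ f, comap_ideal_top_of_isAffine, ht₀, Ideal.map_span, Set.image_singleton]
  · rw [comap_ideal_top_of_isAffine, ht₀, Ideal.map_span, Set.image_singleton]

end affine

theorem main {I : Type u} [SmallCategory I] [IsCofiltered I] (D : I ⥤ Scheme.{u}) (c : Cone D)
    (hc : IsLimit c) [∀ (i j : I) (t : i ⟶ j), IsAffineHom (D.map t)]
    (J : ∀ i, (D.obj i).IdealSheafData) (hJ : ∀ i, BlowUp.IsEffCartierIdeal (J i))
    (hmin : ∀ (i j : I) (t : i ⟶ j), ModPair.IsMinimal (J i) (J j) (D.map t)) (i : I) :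
    BlowUp.IsEffCartierIdeal ((J i).comap (proj D c i)) := by
  intro x
  obtain ⟨U, hxU, t, -, ht⟩ := hJ i ((proj D c i) x)
  refine chart_of_open _ ((proj D c i) ⁻¹ᵁ U.1) x hxU ?_
  haveI : ∀ j, IsAffine ((opensDiagram D i U.1).obj j) := fun j => U.2.preimage _
  haveI : IsAffine (↑(D.map (𝟙 i) ⁻¹ᵁ U.1) : Scheme.{u}) := U.2.preimage _
  have hU' : D.map (𝟙 i) ⁻¹ᵁ U.1 = U.1 := by rw [D.map_id]; rfl
  have e : (⊤ : (↑(D.map (𝟙 i) ⁻¹ᵁ U.1) : Scheme.{u}).Opens) ≤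
      (D.map (𝟙 i) ⁻¹ᵁ U.1).ι ⁻¹ᵁ U.1 := by
    intro z _
    have h2 : z.1 ∈ D.map (𝟙 i) ⁻¹ᵁ U.1 := z.2
    exact hU'.le h2
  have hJ' : ∀ k : Over i, BlowUp.IsEffCartierIdeal ((J k.left).comap (D.map k.hom ⁻¹ᵁ U.1).ι) := by
    intro k
    haveI : Flat (D.map k.hom ⁻¹ᵁ U.1).ι := inferInstance
    exact effCartier_comap_of_flat _ (hJ k.left) _
  have hmin' : ∀ (k l : Over i) (f : k ⟶ l), (J k.left).comap (D.map k.hom ⁻¹ᵁ U.1).ι =
      ((J l.left).comap (D.map l.hom ⁻¹ᵁ U.1).ι).comap ((opensDiagram D i U.1).map f) := by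
    intro k l f
    show (J k.left).comap _ = ((J l.left).comap _).comap ((D.map f.left).resLE _ _ _)
    rw [← Scheme.IdealSheafData.comap_comp, Scheme.Hom.resLE_comp_ι,
      Scheme.IdealSheafData.comap_comp, ← hmin k.left l.left f.left]
  have ht₀ : ((J i).comap (D.map (𝟙 i) ⁻¹ᵁ U.1).ι).ideal ⟨⊤, isAffineOpen_top _⟩ =
      Ideal.span {((D.map (𝟙 i) ⁻¹ᵁ U.1).ι.appLE U.1 ⊤ e).hom t} := by
    rw [comap_ideal_of_le (D.map (𝟙 i) ⁻¹ᵁ U.1).ι (J i) ⟨⊤, isAffineOpen_top _⟩ U e, ht,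
      Ideal.map_span, Set.image_singleton]
  have key := effCartier_of_isLimit_affine (opensDiagram D i U.1) (opensCone D c i U.1)
    (isLimitOpensCone D c hc i U.1)
    (fun k => (J k.left).comap ((D.map k.hom ⁻¹ᵁ U.1).ι)) hJ' hmin' (Over.mk (𝟙 i))
    (((D.map (𝟙 i) ⁻¹ᵁ U.1).ι.appLE U.1 ⊤ e).hom t) ht₀
  have heq : ((J i).comap (proj D c i)).comap ((proj D c i) ⁻¹ᵁ U.1).ι =
      ((J i).comap (D.map (𝟙 i) ⁻¹ᵁ U.1).ι).comap
        (proj (opensDiagram D i U.1) (opensCone D c i U.1) (Over.mk (𝟙 i))) := by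
    rw [← Scheme.IdealSheafData.comap_comp, ← Scheme.IdealSheafData.comap_comp]
    congr 1
    exact (Scheme.Hom.resLE_comp_ι _ _).symm
  rw [heq]
  exact key

end Groth.Agent.Lib.helper26.LimCart
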