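import Mathlib
import Groth.Agent.Lib.helper26.ImgOpen
import Groth.Agent.Lib.helper26.LimCart

universe u
open AlgebraicGeometry CategoryTheory Topology TopologicalSpace CategoryTheory.Limits

namespace Groth.Agent.Lib.helper26.CoprodImg

open Groth.Agent.Lib.helper26.CartCompl Groth.Agent.Lib.helper26.EffPre
  Groth.Agent.Lib.helper26.ImgOpen

/-- effective Cartier-ness can be checked after pulling back along an open immersion. -/
theorem chart_of_openImm {X W : Scheme.{u}} (𝓙 : X.IdealSheafData) (j : W ⟶ X)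
    [IsOpenImmersion j] (w : W) (h : BlowUp.IsEffCartierIdeal (𝓙.comap j)) :
    ∃ U : X.affineOpens, j w ∈ U.1 ∧
      ∃ f : Γ(X, U.1), f ∈ nonZeroDivisors Γ(X, U.1) ∧ 𝓙.ideal U = Ideal.span {f} := by
  obtain ⟨V, hxV, t, htn, ht⟩ := h w
  refine ⟨⟨j ''ᵁ V.1, V.2.image_of_isOpenImmersion j⟩, ⟨w, hxV, rfl⟩,
    (j.appIso V.1).inv.hom t, ?_, ?_⟩
  · rw [mem_nonZeroDivisors_iff_right]
    intro s hs
    have h1 : (j.appIso V.1).hom.hom s * t = 0 := by
      have := congrArg (j.appIso V.1).hom.hom hs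
      rw [map_mul, map_zero] at this
      rw [← this]
      congr 1
      exact (congrArg (fun φ => φ.hom t) (j.appIso V.1).inv_hom_id).symm
    have h2 := (mem_nonZeroDivisors_iff_right.mp htn) _ h1
    have h3 := congrArg (j.appIso V.1).inv.hom h2
    rw [map_zero] at h3
    rw [← h3]
    exact (congrArg (fun φ => φ.hom s) (j.appIso V.1).hom_inv_id).symm
  · have h1 := Scheme.IdealSheafData.ideal_comap_of_isOpenImmersion 𝓙 j V
    rw [ht] at h1
    have hsurj : Function.Surjective (j.appIso V.1).inv.hom := by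
      intro b
      exact ⟨(j.appIso V.1).hom.hom b,
        congrArg (fun φ => φ.hom b) (j.appIso V.1).hom_inv_id⟩
    have h2 := congrArg (Ideal.map (j.appIso V.1).inv.hom) h1
    rw [Ideal.map_comap_of_surjective _ hsurj, Ideal.map_span, Set.image_singleton] at h2
    exact h2.symm

theorem isIso_stalkMap_of_comp {A B C : Scheme.{u}} (f : A ⟶ B) (g : B ⟶ C) (a : A)
    [h1 : IsIso ((f ≫ g).stalkMap a)] [h2 : IsIso (f.stalkMap a)] : IsIso (g.stalkMap (f a)) := by
  rw [Scheme.Hom.stalkMap_comp] at h1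
  exact @IsIso.of_isIso_comp_right _ _ _ _ _ (g.stalkMap (f a)) (f.stalkMap a) h2 h1

variable {X : Scheme.{u}}

/-- one clopen piece of the interior: its scheme-theoretic image in `X`. -/
theorem piece_props (I : X.IdealSheafData) (hI : BlowUp.IsEffCartierIdeal I) (U₀ U₁ : X.Opens)
    (hU : U₀ ⊔ U₁ = ModPair.interior I) (hd : Disjoint U₀ U₁) :
    BlowUp.IsEffCartierIdeal (I.comap U₀.ι.imageι) ∧ IsOpenImmersion U₀.ι.toImage ∧
      Set.range U₀.ι.toImage.base = U₀.ι.imageι.base ⁻¹' (ModPair.interior I : Set X) := by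
  haveI : IsAffineHom (ModPair.interior I).ι :=
    CartCompl.isAffineHom_compl_of_locPrincipal I (CartCompl.isLocPrincipal_of_effCartier I hI)
  haveI : QuasiCompact (ModPair.interior I).ι := inferInstance
  have h₀ : U₀ ≤ ModPair.interior I := hU ▸ le_sup_left
  haveI : IsClosedImmersion (X.homOfLE h₀) := by
    apply IsClosedImmersion.of_isPreimmersion
    have : Set.range (X.homOfLE h₀) =
        ((ModPair.interior I).ι ⁻¹ᵁ U₁ : (ModPair.interior I : Scheme.{u}).Opens).1ᶜ := by
      ext v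
      constructor
      · rintro ⟨u, rfl⟩
        intro hv
        have h1 : ((X.homOfLE h₀) u).1 = u.1 := by
          have := congrArg (fun φ : (U₀ : Scheme.{u}) ⟶ X => φ u) (X.homOfLE_ι h₀)
          exact this
        have h2 : u.1 ∈ U₁ := by rw [← h1]; exact hv
        exact (Set.disjoint_iff.mp (by simpa [disjoint_iff, Opens.ext_iff,
          Set.disjoint_iff_inter_eq_empty] using hd) ⟨u.2, h2⟩).elim
      · intro hv
        have hv' : v.1 ∈ U₀ ⊔ U₁ := by rw [hU]; exact v.2
        rcases hv' with hv' | hv'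
        · refine ⟨⟨v.1, hv'⟩, ?_⟩
          apply Subtype.ext
          have := congrArg (fun φ : (U₀ : Scheme.{u}) ⟶ X => φ ⟨v.1, hv'⟩) (X.homOfLE_ι h₀)
          exact this
        · exact (hv hv').elim
    rw [this]
    exact ((ModPair.interior I).ι ⁻¹ᵁ U₁).2.isClosed_compl
  have key : ∀ f : (U₀ : Scheme.{u}) ⟶ X, f = X.homOfLE h₀ ≫ (ModPair.interior I).ι →
      BlowUp.IsEffCartierIdeal (I.comap f.imageι) ∧ IsOpenImmersion f.toImage ∧
      Set.range f.toImage.base = f.imageι.base ⁻¹' (ModPair.interior I : Set X) := by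
    rintro f rfl
    have h := image_props (ModPair.interior I) (X.homOfLE h₀)
    haveI := h.1
    exact ⟨(EffPre.main I hI _).2, h.2⟩
  exact key _ (X.homOfLE_ι h₀).symm

theorem main (I : X.IdealSheafData) (hI : BlowUp.IsEffCartierIdeal I) (U₀ U₁ : X.Opens)
    (hU : U₀ ⊔ U₁ = ModPair.interior I) (hd : Disjoint U₀ U₁) :
    BlowUp.IsEffCartierIdeal (I.comap (coprod.desc U₀.ι.imageι U₁.ι.imageι)) ∧
      ModPair.IsAdmBlowup (I.comap (coprod.desc U₀.ι.imageι U₁.ι.imageι)) I
        (coprod.desc U₀.ι.imageι U₁.ι.imageι) := by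
  obtain ⟨hE₀, hO₀, hR₀⟩ := piece_props I hI U₀ U₁ hU hd
  obtain ⟨hE₁, hO₁, hR₁⟩ := piece_props I hI U₁ U₀ (by rw [sup_comm]; exact hU) hd.symm
  haveI := hO₀
  haveI := hO₁
  set c := coprod.desc U₀.ι.imageι U₁.ι.imageι with hc
  have hinl : coprod.inl ≫ c = U₀.ι.imageι := coprod.inl_desc _ _
  have hinr : coprod.inr ≫ c = U₁.ι.imageι := coprod.inr_desc _ _
  have hcl : ∀ z₀, c ((coprod.inl : U₀.ι.image ⟶ U₀.ι.image ⨿ U₁.ι.image) z₀) =
      U₀.ι.imageι z₀ := fun z₀ => congrArg (fun φ : U₀.ι.image ⟶ X => φ z₀) hinl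
  have hcr : ∀ z₁, c ((coprod.inr : U₁.ι.image ⟶ U₀.ι.image ⨿ U₁.ι.image) z₁) =
      U₁.ι.imageι z₁ := fun z₁ => congrArg (fun φ : U₁.ι.image ⟶ X => φ z₁) hinr
  have hdisj : ∀ x : X, x ∈ U₀ → x ∈ U₁ → False := by
    intro x h0 h1
    have : x ∈ U₀ ⊓ U₁ := ⟨h0, h1⟩
    rw [hd.eq_bot] at this
    exact this
  -- points over the interior come from `U₀` resp. `U₁`
  have hpre₀ : ∀ z₀ : U₀.ι.image, U₀.ι.imageι z₀ ∈ ModPair.interior I →
      ∃ u : U₀, U₀.ι.toImage u = z₀ := by
    intro z₀ h
    have : z₀ ∈ Set.range U₀.ι.toImage.base := by rw [hR₀]; exact h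
    exact this
  have hpre₁ : ∀ z₁ : U₁.ι.image, U₁.ι.imageι z₁ ∈ ModPair.interior I →
      ∃ u : U₁, U₁.ι.toImage u = z₁ := by
    intro z₁ h
    have : z₁ ∈ Set.range U₁.ι.toImage.base := by rw [hR₁]; exact h
    exact this
  have hti₀ : ∀ u : U₀, U₀.ι.imageι (U₀.ι.toImage u) = u.1 := fun u =>
    congrArg (fun φ : (U₀ : Scheme.{u}) ⟶ X => φ u) (Scheme.Hom.toImage_imageι U₀.ι)
  have hti₁ : ∀ u : U₁, U₁.ι.imageι (U₁.ι.toImage u) = u.1 := fun u =>
    congrArg (fun φ : (U₁ : Scheme.{u}) ⟶ X => φ u) (Scheme.Hom.toImage_imageι U₁.ι)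
  refine ⟨?_, rfl, ?_, ?_⟩
  · intro z
    obtain ⟨(z₀ | z₁), rfl⟩ := (coprodMk _ _).surjective z
    · rw [coprodMk_inl]
      exact chart_of_openImm (I.comap c) coprod.inl z₀ (by
        rw [← Scheme.IdealSheafData.comap_comp, hinl]; exact hE₀)
    · rw [coprodMk_inr]
      exact chart_of_openImm (I.comap c) coprod.inr z₁ (by
        rw [← Scheme.IdealSheafData.comap_comp, hinr]; exact hE₁)
  · haveI : IsFinite c := by rw [hc]; infer_instance
    infer_instance
  · rw [isIso_iff_isIso_stalkMap]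
    constructor
    · apply TopCat.isIso_of_bijective_of_isClosedMap
      · constructor
        · intro z z' hzz
          have h1 : c z.1 = c z'.1 := by
            rw [← morphismRestrict_base_coe c _ z, ← morphismRestrict_base_coe c _ z']
            exact congrArg Subtype.val hzz
          have hz : c z.1 ∈ ModPair.interior I := z.2
          have hz' : c z'.1 ∈ ModPair.interior I := z'.2
          apply Subtype.ext
          obtain ⟨(z₀ | z₁), e⟩ := (coprodMk _ _).surjective z.1
          · obtain ⟨(z₀' | z₁'), e'⟩ := (coprodMk _ _).surjective z'.1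
            · rw [coprodMk_inl] at e e'
              rw [← e, ← e', hcl, hcl] at h1
              rw [← e, ← e', U₀.ι.imageι.isClosedEmbedding.injective h1]
            · rw [coprodMk_inl] at e
              rw [coprodMk_inr] at e'
              rw [← e, hcl] at h1 hz
              rw [← e', hcr] at h1 hz'
              obtain ⟨u, rfl⟩ := hpre₀ z₀ hz
              obtain ⟨u', rfl⟩ := hpre₁ z₁' hz'
              rw [hti₀, hti₁] at h1
              exact (hdisj u.1 u.2 (h1 ▸ u'.2)).elim
          · obtain ⟨(z₀' | z₁'), e'⟩ := (coprodMk _ _).surjective z'.1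
            · rw [coprodMk_inr] at e
              rw [coprodMk_inl] at e'
              rw [← e, hcr] at h1 hz
              rw [← e', hcl] at h1 hz'
              obtain ⟨u, rfl⟩ := hpre₁ z₁ hz
              obtain ⟨u', rfl⟩ := hpre₀ z₀' hz'
              rw [hti₀, hti₁] at h1
              exact (hdisj u'.1 u'.2 (h1 ▸ u.2)).elim
            · rw [coprodMk_inr] at e e'
              rw [← e, ← e', hcr, hcr] at h1
              rw [← e, ← e', U₁.ι.imageι.isClosedEmbedding.injective h1]
        · intro v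
          have hv : v.1 ∈ U₀ ⊔ U₁ := by rw [hU]; exact v.2
          rcases hv with hv | hv
          · have h2 : c ((coprod.inl : U₀.ι.image ⟶ U₀.ι.image ⨿ U₁.ι.image)
                (U₀.ι.toImage ⟨v.1, hv⟩)) = v.1 := by rw [hcl, hti₀]
            refine ⟨⟨_, show c _ ∈ ModPair.interior I by rw [h2]; exact v.2⟩, ?_⟩
            apply Subtype.ext
            rw [morphismRestrict_base_coe]
            exact h2
          · have h2 : c ((coprod.inr : U₁.ι.image ⟶ U₀.ι.image ⨿ U₁.ι.image)
                (U₁.ι.toImage ⟨v.1, hv⟩)) = v.1 := by rw [hcr, hti₁]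
            refine ⟨⟨_, show c _ ∈ ModPair.interior I by rw [h2]; exact v.2⟩, ?_⟩
            apply Subtype.ext
            rw [morphismRestrict_base_coe]
            exact h2
      · haveI : IsFinite c := by rw [hc]; infer_instance
        exact (c ∣_ ModPair.interior I).isClosedMap
    · intro z
      have hst : ∀ w : (U₀.ι.image ⨿ U₁.ι.image : Scheme.{u}), c w ∈ ModPair.interior I →
          IsIso (c.stalkMap w) := by
        intro w hw
        obtain ⟨(z₀ | z₁), rfl⟩ := (coprodMk _ _).surjective w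
        · rw [coprodMk_inl] at hw ⊢
          rw [hcl] at hw
          obtain ⟨u, rfl⟩ := hpre₀ z₀ hw
          haveI : IsIso ((U₀.ι.toImage ≫ U₀.ι.imageι).stalkMap u) := by
            rw [Scheme.Hom.toImage_imageι]; infer_instance
          haveI : IsIso (U₀.ι.imageι.stalkMap (U₀.ι.toImage u)) :=
            isIso_stalkMap_of_comp U₀.ι.toImage U₀.ι.imageι u
          haveI : IsIso ((coprod.inl ≫ c).stalkMap (U₀.ι.toImage u)) := by
            rw [hinl]; infer_instance
          exact isIso_stalkMap_of_comp coprod.inl c (U₀.ι.toImage u)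
        · rw [coprodMk_inr] at hw ⊢
          rw [hcr] at hw
          obtain ⟨u, rfl⟩ := hpre₁ z₁ hw
          haveI : IsIso ((U₁.ι.toImage ≫ U₁.ι.imageι).stalkMap u) := by
            rw [Scheme.Hom.toImage_imageι]; infer_instance
          haveI : IsIso (U₁.ι.imageι.stalkMap (U₁.ι.toImage u)) :=
            isIso_stalkMap_of_comp U₁.ι.toImage U₁.ι.imageι u
          haveI : IsIso ((coprod.inr ≫ c).stalkMap (U₁.ι.toImage u)) := by
            rw [hinr]; infer_instance
          exact isIso_stalkMap_of_comp coprod.inr c (U₁.ι.toImage u)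
      have h3 := hst z.1 z.2
      exact ((MorphismProperty.isomorphisms CommRingCat).arrow_mk_iso_iff
        (morphismRestrictStalkMap c _ z)).mpr h3

end Groth.Agent.Lib.helper26.CoprodImg
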