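import Mathlib
import Groth.Agent.Lib.helper26.CoprodImg

universe u
open AlgebraicGeometry CategoryTheory Topology TopologicalSpace CategoryTheory.Limits

namespace Groth.Agent.Lib.helper26.PairCoprod

open Groth.Agent.Lib.helper26.ImgOpen Groth.Agent.Lib.helper26.CoprodImg

variable {σ : Type u} (Xf : σ → Scheme.{u})

example (i : σ) : IsOpenImmersion (Sigma.ι Xf i) := inferInstance

/-- ideal sheaves on a coproduct can be compared summand by summand. -/
theorem le_of_comap_sigmaι_le (J K : (∐ Xf).IdealSheafData)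
    (h : ∀ i, J.comap (Sigma.ι Xf i) ≤ K.comap (Sigma.ι Xf i)) : J ≤ K := by
  refine Scheme.IdealSheafData.le_of_iSup_eq_top
    (fun p : Σ i, (Xf i).affineOpens =>
      ⟨Sigma.ι Xf p.1 ''ᵁ p.2.1, p.2.2.image_of_isOpenImmersion _⟩) ?_ ?_
  · rw [eq_top_iff]
    intro z _
    obtain ⟨⟨i, x⟩, rfl⟩ := (sigmaMk Xf).surjective z
    rw [sigmaMk_mk]
    obtain ⟨_, ⟨V, hV, rfl⟩, hxV, -⟩ := (Xf i).isBasis_affineOpens.exists_subset_of_mem_open
      (Set.mem_univ x) isOpen_univ
    exact Opens.mem_iSup.mpr ⟨⟨i, ⟨V, hV⟩⟩, ⟨x, hxV, rfl⟩⟩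
  · rintro ⟨i, V⟩
    have h1 := Scheme.IdealSheafData.ideal_comap_of_isOpenImmersion J (Sigma.ι Xf i) V
    have h2 := Scheme.IdealSheafData.ideal_comap_of_isOpenImmersion K (Sigma.ι Xf i) V
    have h3 := h i V
    rw [h1, h2] at h3
    have hsurj : Function.Surjective ((Sigma.ι Xf i).appIso V.1).inv.hom := by
      intro b
      exact ⟨((Sigma.ι Xf i).appIso V.1).hom.hom b,
        congrArg (fun φ => φ.hom b) ((Sigma.ι Xf i).appIso V.1).hom_inv_id⟩
    exact (Ideal.comap_le_comap_iff_of_surjective _ hsurj _ _).mp h3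

variable (If : ∀ i, (Xf i).IdealSheafData)

/-- the disjoint union of the closed subschemes. -/
noncomputable abbrev hmap : (∐ fun i => ((If i).subscheme : Scheme.{u})) ⟶ ∐ Xf :=
  Limits.Sigma.map (fun i => (If i).subschemeι)

theorem isPullback_hmap (i : σ) :
    IsPullback (If i).subschemeι (Sigma.ι (fun i => ((If i).subscheme : Scheme.{u})) i)
      (Sigma.ι Xf i) (hmap Xf If) := by
  apply IsOpenImmersion.isPullback
  · exact Limits.Sigma.ι_map (fun i => (If i).subschemeι) i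
  · ext z
    obtain ⟨⟨j, z'⟩, rfl⟩ := (sigmaMk (fun i => ((If i).subscheme : Scheme.{u}))).surjective z
    rw [sigmaMk_mk]
    have hz : (hmap Xf If) (Sigma.ι (fun i => ((If i).subscheme : Scheme.{u})) j z') =
        Sigma.ι Xf j ((If j).subschemeι z') :=
      congrArg (fun φ : ((If j).subscheme : Scheme.{u}) ⟶ ∐ Xf => φ z')
        (Limits.Sigma.ι_map (fun i => (If i).subschemeι) j)
    constructor
    · rintro ⟨x, hx⟩
      have hx' : Sigma.ι Xf i x = Sigma.ι Xf j ((If j).subschemeι z') := hx.trans hz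
      obtain rfl : i = j := by
        have := (sigmaι_eq_iff Xf i j x _).mp hx'
        exact congrArg Sigma.fst this
      exact ⟨z', rfl⟩
    · rintro ⟨w, hw⟩
      obtain rfl : i = j := by
        have := (sigmaι_eq_iff (fun i => ((If i).subscheme : Scheme.{u})) i j w z').mp hw
        exact congrArg Sigma.fst this
      exact ⟨(If i).subschemeι z', hz.symm⟩

instance quasiCompact_hmap : QuasiCompact (hmap Xf If) := by
  rw [IsZariskiLocalAtTarget.iff_of_openCover (P := @QuasiCompact) (sigmaOpenCover Xf)]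
  intro i
  have sq := (isPullback_hmap Xf If i).flip
  have e : pullback.snd (hmap Xf If) (Sigma.ι Xf i) = sq.isoPullback.inv ≫ (If i).subschemeι :=
    (sq.isoPullback_inv_snd).symm
  show QuasiCompact (pullback.snd (hmap Xf If) (Sigma.ι Xf i))
  rw [e]
  infer_instance

/-- the modulus on the coproduct. -/
noncomputable abbrev Jmod : (∐ Xf).IdealSheafData := (hmap Xf If).ker

theorem Jmod_comap (i : σ) : (Jmod Xf If).comap (Sigma.ι Xf i) = If i := by
  rw [← ker_eq_comap_of_isPullback (hmap Xf If) (If i).subschemeι _ (Sigma.ι Xf i)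
    (isPullback_hmap Xf If i)]
  exact Scheme.IdealSheafData.ker_subschemeι _

theorem Jmod_effCartier (hIf : ∀ i, BlowUp.IsEffCartierIdeal (If i)) :
    BlowUp.IsEffCartierIdeal (Jmod Xf If) := by
  intro z
  obtain ⟨⟨i, x⟩, rfl⟩ := (sigmaMk Xf).surjective z
  rw [sigmaMk_mk]
  exact chart_of_openImm (Jmod Xf If) (Sigma.ι Xf i) x (by rw [Jmod_comap]; exact hIf i)

open ModPair

/-- the coproduct cocone of a family of modulus pairs. -/
theorem exists_colimit (F : Discrete σ ⥤ ModPair.Pair.{u}) :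
    ∃ c : Cocone F, Nonempty (IsColimit c) ∧
      Nonempty (IsColimit (ModPair.Pair.forget.{u}.mapCocone c)) := by
  let Xg : σ → Scheme.{u} := fun i => (F.obj ⟨i⟩).total
  let Ig : ∀ i, (Xg i).IdealSheafData := fun i => (F.obj ⟨i⟩).mod
  have hIg : ∀ i, BlowUp.IsEffCartierIdeal (Ig i) := fun i => (F.obj ⟨i⟩).isEffCartier
  let P : ModPair.Pair.{u} := ⟨∐ Xg, Jmod Xg Ig, Jmod_effCartier Xg Ig hIg⟩
  let leg : ∀ i : Discrete σ, F.obj i ⟶ P := fun i =>
    ⟨Sigma.ι Xg i.as, by
      change Ig i.as ≤ (Jmod Xg Ig).comap (Sigma.ι Xg i.as)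
      rw [Jmod_comap]⟩
  let c : Cocone F := ⟨P, Discrete.natTrans leg⟩
  refine ⟨c, ⟨?_⟩, ⟨?_⟩⟩
  · refine
      { desc := fun s => ⟨Sigma.desc (fun i => (s.ι.app ⟨i⟩).hom), ?_⟩
        fac := ?_
        uniq := ?_ }
    · change Jmod Xg Ig ≤ s.pt.mod.comap _
      apply le_of_comap_sigmaι_le
      intro i
      rw [Jmod_comap, ← Scheme.IdealSheafData.comap_comp, Sigma.ι_desc]
      exact (s.ι.app ⟨i⟩).cond
    · rintro s ⟨i⟩
      apply ModPair.Pair.Hom.ext
      exact Sigma.ι_desc _ _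
    · intro s m hm
      apply ModPair.Pair.Hom.ext
      refine Sigma.hom_ext _ _ (fun i => ?_)
      rw [Sigma.ι_desc]
      exact congrArg ModPair.Pair.Hom.hom (hm ⟨i⟩)
  · refine
      { desc := fun s => Sigma.desc (fun i => s.ι.app ⟨i⟩)
        fac := ?_
        uniq := ?_ }
    · rintro s ⟨i⟩
      exact Sigma.ι_desc _ _
    · intro s m hm
      refine Sigma.hom_ext _ _ (fun i => ?_)
      rw [Sigma.ι_desc]
      exact hm ⟨i⟩

theorem main (σ : Type u) :
    HasColimitsOfShape (Discrete σ) ModPair.Pair.{u} ∧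
      PreservesColimitsOfShape (Discrete σ) ModPair.Pair.forget.{u} := by
  constructor
  · refine ⟨fun F => ?_⟩
    obtain ⟨c, ⟨hc⟩, -⟩ := exists_colimit F
    exact ⟨⟨⟨c, hc⟩⟩⟩
  · refine ⟨fun {F} => ?_⟩
    obtain ⟨c, ⟨hc⟩, ⟨hc'⟩⟩ := exists_colimit F
    exact preservesColimit_of_preserves_colimit_cocone hc hc'

end Groth.Agent.Lib.helper26.PairCoprod
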