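import Mathlib
import Groth.Agent.Lib.helper26.CartCompl
import Groth.Prelude.Def_W4c6modpairsegaMP

universe u
open AlgebraicGeometry CategoryTheory Topology TopologicalSpace CategoryTheory.Limits

namespace Groth.Agent.Lib.helper26.RCF

open ModPair

variable {X Y Z : Scheme.{u}}

/-- two morphisms agreeing on a scheme-theoretically dense part and over a separated morphism
are equal. -/
theorem ext_of_schDominant_of_isSeparated {W : Scheme.{u}} {f g : X ⟶ Y}
    (s : Y ⟶ Z) [IsSeparated s] (h : f ≫ s = g ≫ s)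
    (ι : W ⟶ X) [QuasiCompact ι] [IsSchemeTheoreticallyDominant ι] (hU : ι ≫ f = ι ≫ g) :
    f = g := by
  let X' : Over Z := Over.mk (f ≫ s)
  let Y' : Over Z := Over.mk s
  let U' : Over Z := Over.mk (ι ≫ f ≫ s)
  let f' : X' ⟶ Y' := Over.homMk f
  let g' : X' ⟶ Y' := Over.homMk g
  let ι' : U' ⟶ X' := Over.homMk ι
  have : IsSeparated Y'.hom := ‹_›
  have hfac : (equalizer.lift ι' (by ext1; exact hU : ι' ≫ f' = ι' ≫ g')).left ≫
      (equalizer.ι f' g').left = ι := by
    rw [← Over.comp_left, equalizer.lift_ι]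
    rfl
  have hker : (equalizer.ι f' g').left.ker = ⊥ := by
    rw [eq_bot_iff]
    have h1 := Scheme.Hom.le_ker_comp
      (equalizer.lift ι' (by ext1; exact hU : ι' ≫ f' = ι' ≫ g')).left (equalizer.ι f' g').left
    rw [hfac, (isSchemeTheoreticallyDominant_iff ι).mp inferInstance] at h1
    exact h1
  have : IsIso (equalizer.ι f' g').left :=
    IsClosedImmersion.isIso_iff_ker_eq_bot.mpr hker
  rw [← cancel_epi (equalizer.ι f' g').left]
  exact congr($(equalizer.condition f' g').left)

/-- an ambient morphism maps the interior into the interior. -/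
theorem ambient_maps_interior {I : X.IdealSheafData} {J : Y.IdealSheafData} {f : X ⟶ Y}
    (hf : ModPair.IsAmbient I J f) (x : X) (hx : x ∈ ModPair.interior I) :
    f x ∈ ModPair.interior J := by
  intro hfx
  apply hx
  have h1 : x ∈ (J.comap f).support := by
    rw [Scheme.IdealSheafData.support_comap]
    exact hfx
  exact Scheme.IdealSheafData.support_antitone hf h1

/-- for a minimal morphism the preimage of the interior is the interior. -/
theorem preimage_interior_of_minimal {I : X.IdealSheafData} {J : Y.IdealSheafData} {f : X ⟶ Y}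
    (hf : ModPair.IsMinimal I J f) : f ⁻¹ᵁ ModPair.interior J = ModPair.interior I := by
  rw [hf]
  ext x
  show f x ∉ J.support ↔ x ∉ (J.comap f).support
  rw [Scheme.IdealSheafData.support_comap]
  rfl

open Groth.Agent.Lib.helper26.CartCompl

theorem adm_id (P : ModPair.Pair.{u}) : ModPair.Pair.admBlowup (𝟙 P) := by
  refine ⟨(Scheme.IdealSheafData.comap_id P.mod).symm, ?_, ?_⟩
  · show IsProper (𝟙 P.total)
    infer_instance
  · show IsIso ((𝟙 P.total) ∣_ ModPair.interior P.mod)
    rw [morphismRestrict_id]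
    exact IsIso.id _

theorem adm_comp {P Q R : ModPair.Pair.{u}} (f : P ⟶ Q) (g : Q ⟶ R)
    (hf : ModPair.Pair.admBlowup f) (hg : ModPair.Pair.admBlowup g) :
    ModPair.Pair.admBlowup (f ≫ g) := by
  obtain ⟨hf1, hf2, hf3⟩ := hf
  obtain ⟨hg1, hg2, hg3⟩ := hg
  refine ⟨?_, ?_, ?_⟩
  · show P.mod = R.mod.comap (f.hom ≫ g.hom)
    rw [Scheme.IdealSheafData.comap_comp]
    have h1 : P.mod = Q.mod.comap f.hom := hf1
    have h2 : Q.mod = R.mod.comap g.hom := hg1
    rw [← h2]
    exact h1
  · show IsProper (f.hom ≫ g.hom)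
    haveI : IsProper f.hom := hf2
    haveI : IsProper g.hom := hg2
    infer_instance
  · show IsIso ((f.hom ≫ g.hom) ∣_ ModPair.interior R.mod)
    rw [morphismRestrict_comp]
    have hB : IsIso (g.hom ∣_ ModPair.interior R.mod) := hg3
    have hA : IsIso (f.hom ∣_ g.hom ⁻¹ᵁ ModPair.interior R.mod) := by
      rw [preimage_interior_of_minimal hg1]
      exact hf3
    exact IsIso.comp_isIso' hA hB

instance : (ModPair.Pair.admBlowup.{u}).IsMultiplicative where
  id_mem := adm_id
  comp_mem := adm_comp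

theorem adm_ext {P Q R : ModPair.Pair.{u}} (f₁ f₂ : P ⟶ Q) (s : Q ⟶ R)
    (hs : ModPair.Pair.admBlowup s) (h : f₁ ≫ s = f₂ ≫ s) : f₁ = f₂ := by
  obtain ⟨hs1, hs2, hs3⟩ := hs
  haveI : IsProper s.hom := hs2
  haveI : IsIso (s.hom ∣_ ModPair.interior R.mod) := hs3
  haveI : IsAffineHom (ModPair.interior P.mod).ι :=
    isAffineHom_compl_of_locPrincipal P.mod (isLocPrincipal_of_effCartier P.mod P.isEffCartier)
  haveI : IsSchemeTheoreticallyDominant (ModPair.interior P.mod).ι :=
    dominant_compl_of_effCartier P.mod P.isEffCartier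
  have h' : f₁.hom ≫ s.hom = f₂.hom ≫ s.hom := congrArg ModPair.Pair.Hom.hom h
  apply ModPair.Pair.Hom.ext
  refine ext_of_schDominant_of_isSeparated s.hom h' (ModPair.interior P.mod).ι ?_
  -- both restrictions factor through the open over which `s` is an isomorphism
  have hr : ∀ (f : P ⟶ Q), Set.range ((ModPair.interior P.mod).ι ≫ f.hom) ⊆
      Set.range (s.hom ⁻¹ᵁ ModPair.interior R.mod).ι := by
    intro f
    rintro _ ⟨x, rfl⟩
    rw [Scheme.Opens.range_ι]
    have := ambient_maps_interior (f ≫ s).cond x.1 x.2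
    exact this
  have key : ∀ (f : P ⟶ Q),
      IsOpenImmersion.lift (s.hom ⁻¹ᵁ ModPair.interior R.mod).ι _ (hr f) ≫
        (s.hom ∣_ ModPair.interior R.mod) ≫ (ModPair.interior R.mod).ι =
      (ModPair.interior P.mod).ι ≫ f.hom ≫ s.hom := by
    intro f
    rw [morphismRestrict_ι, IsOpenImmersion.lift_fac_assoc, Category.assoc]
  have h3 : IsOpenImmersion.lift (s.hom ⁻¹ᵁ ModPair.interior R.mod).ι _ (hr f₁) =
      IsOpenImmersion.lift (s.hom ⁻¹ᵁ ModPair.interior R.mod).ι _ (hr f₂) := by
    rw [← cancel_mono (s.hom ∣_ ModPair.interior R.mod),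
      ← cancel_mono (ModPair.interior R.mod).ι, Category.assoc, Category.assoc, key f₁, key f₂, h']
  have h4 := congrArg (fun φ => φ ≫ (s.hom ⁻¹ᵁ ModPair.interior R.mod).ι) h3
  simpa using h4

end Groth.Agent.Lib.helper26.RCF
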