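import Mathlib
import Groth.Agent.Lib.helper26.PairCoprod
import Groth.Agent.Lib.helper26.RCF

universe u
open AlgebraicGeometry CategoryTheory Topology TopologicalSpace CategoryTheory.Limits

namespace Groth.Agent.Lib.helper26.CoprodStab

open Groth.Agent.Lib.helper26.ImgOpen Groth.Agent.Lib.helper26.CoprodImg
  Groth.Agent.Lib.helper26.PairCoprod Groth.Agent.Lib.helper26.RCF ModPair

/-- isomorphisms of modulus pairs are admissible blow-ups. -/
theorem adm_of_isIso {P Q : ModPair.Pair.{u}} (f : P ⟶ Q) [IsIso f] :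
    ModPair.Pair.admBlowup f := by
  haveI : IsIso f.hom := (inferInstance : IsIso (ModPair.Pair.forget.map f))
  refine ⟨?_, ?_, ?_⟩
  · apply le_antisymm f.cond
    have h1 : (Q.mod.comap f.hom) ≤ (P.mod.comap (inv f).hom).comap f.hom :=
      Scheme.IdealSheafData.comap_mono f.hom (inv f).cond
    rw [← Scheme.IdealSheafData.comap_comp] at h1
    have h2 : f.hom ≫ (inv f).hom = 𝟙 P.total := congrArg ModPair.Pair.Hom.hom (IsIso.hom_inv_id f)
    rw [h2, Scheme.IdealSheafData.comap_id] at h1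
    exact h1
  · show IsProper f.hom
    infer_instance
  · show IsIso (f.hom ∣_ ModPair.interior Q.mod)
    infer_instance

instance : (ModPair.Pair.admBlowup.{u}).RespectsIso :=
  MorphismProperty.respectsIso_of_isStableUnderComposition (fun _ _ f (hf : IsIso f) =>
    adm_of_isIso f)

variable {σ : Type u} (Xa Xb : σ → Scheme.{u}) (g : ∀ i, Xa i ⟶ Xb i)

theorem isPullback_smap (i : σ) :
    IsPullback (g i) (Sigma.ι Xa i) (Sigma.ι Xb i) (Limits.Sigma.map g) := by
  apply IsOpenImmersion.isPullback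
  · exact Limits.Sigma.ι_map g i
  · ext z
    obtain ⟨⟨j, z'⟩, rfl⟩ := (sigmaMk Xa).surjective z
    rw [sigmaMk_mk]
    have hz : (Limits.Sigma.map g) (Sigma.ι Xa j z') = Sigma.ι Xb j (g j z') :=
      congrArg (fun φ : Xa j ⟶ ∐ Xb => φ z') (Limits.Sigma.ι_map g j)
    constructor
    · rintro ⟨x, hx⟩
      have hx' : Sigma.ι Xb i x = Sigma.ι Xb j (g j z') := hx.trans hz
      obtain rfl : i = j := by
        have := (sigmaι_eq_iff Xb i j x _).mp hx'
        exact congrArg Sigma.fst this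
      exact ⟨z', rfl⟩
    · rintro ⟨w, hw⟩
      obtain rfl : i = j := by
        have := (sigmaι_eq_iff Xa i j w z').mp hw
        exact congrArg Sigma.fst this
      exact ⟨g i z', hz.symm⟩

theorem smap_apply (i : σ) (x : Xa i) :
    (Limits.Sigma.map g) (Sigma.ι Xa i x) = Sigma.ι Xb i (g i x) :=
  congrArg (fun φ : Xa i ⟶ ∐ Xb => φ x) (Limits.Sigma.ι_map g i)

theorem isProper_smap [∀ i, IsProper (g i)] : IsProper (Limits.Sigma.map g) := by
  rw [IsZariskiLocalAtTarget.iff_of_openCover (P := @IsProper) (sigmaOpenCover Xb)]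
  intro i
  have sq := (isPullback_smap Xa Xb g i).flip
  have e : pullback.snd (Limits.Sigma.map g) (Sigma.ι Xb i) = sq.isoPullback.inv ≫ g i :=
    (sq.isoPullback_inv_snd).symm
  show IsProper (pullback.snd (Limits.Sigma.map g) (Sigma.ι Xb i))
  rw [e]
  infer_instance

variable (Ia : ∀ i, (Xa i).IdealSheafData) (Ib : ∀ i, (Xb i).IdealSheafData)

theorem smap_minimal (hmin : ∀ i, ModPair.IsMinimal (Ia i) (Ib i) (g i)) :
    Jmod Xa Ia = (Jmod Xb Ib).comap (Limits.Sigma.map g) := by
  have key : ∀ i, (Jmod Xa Ia).comap (Sigma.ι Xa i) =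
      ((Jmod Xb Ib).comap (Limits.Sigma.map g)).comap (Sigma.ι Xa i) := by
    intro i
    rw [Jmod_comap, ← Scheme.IdealSheafData.comap_comp, Limits.Sigma.ι_map,
      Scheme.IdealSheafData.comap_comp, Jmod_comap]
    exact hmin i
  apply le_antisymm
  · exact le_of_comap_sigmaι_le Xa _ _ (fun i => le_of_eq (key i))
  · exact le_of_comap_sigmaι_le Xa _ _ (fun i => le_of_eq (key i).symm)

theorem mem_interior_Jmod_iff (i : σ) (y : Xb i) :
    Sigma.ι Xb i y ∈ ModPair.interior (Jmod Xb Ib) ↔ y ∈ ModPair.interior (Ib i) := by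
  show Sigma.ι Xb i y ∉ (Jmod Xb Ib).support ↔ y ∉ (Ib i).support
  rw [← Jmod_comap Xb Ib i, Scheme.IdealSheafData.support_comap]
  rfl

theorem smap_isIso_restrict [∀ i, IsProper (g i)]
    (hiso : ∀ i, IsIso (g i ∣_ ModPair.interior (Ib i))) :
    IsIso (Limits.Sigma.map g ∣_ ModPair.interior (Jmod Xb Ib)) := by
  haveI := hiso
  haveI : IsProper (Limits.Sigma.map g) := isProper_smap Xa Xb g
  -- pointwise consequences of `hiso`
  have hinj : ∀ i (x x' : Xa i), g i x ∈ ModPair.interior (Ib i) → g i x = g i x' → x = x' := by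
    intro i x x' hx hxx
    have hx' : g i x' ∈ ModPair.interior (Ib i) := hxx ▸ hx
    have hb := (ConcreteCategory.bijective_of_isIso (g i ∣_ ModPair.interior (Ib i)).base).1
    have : (⟨x, hx⟩ : ↥(g i ⁻¹ᵁ ModPair.interior (Ib i))) = ⟨x', hx'⟩ := by
      apply hb
      apply Subtype.ext
      show ((g i ∣_ ModPair.interior (Ib i)) ⟨x, hx⟩).1 = ((g i ∣_ ModPair.interior (Ib i)) ⟨x', hx'⟩).1
      rw [morphismRestrict_base_coe, morphismRestrict_base_coe]
      exact hxx
    exact congrArg Subtype.val this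
  have hsurj : ∀ i (y : Xb i), y ∈ ModPair.interior (Ib i) → ∃ x, g i x = y := by
    intro i y hy
    obtain ⟨z, hz⟩ :=
      (ConcreteCategory.bijective_of_isIso (g i ∣_ ModPair.interior (Ib i)).base).2 ⟨y, hy⟩
    refine ⟨z.1, ?_⟩
    have := congrArg Subtype.val hz
    rw [← morphismRestrict_base_coe (g i) _ z]
    exact this
  have hstalk : ∀ i (x : Xa i), g i x ∈ ModPair.interior (Ib i) → IsIso ((g i).stalkMap x) := by
    intro i x hx
    have h1 : IsIso ((g i ∣_ ModPair.interior (Ib i)).stalkMap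
        (⟨x, hx⟩ : ↥(g i ⁻¹ᵁ ModPair.interior (Ib i)))) := inferInstance
    exact ((MorphismProperty.isomorphisms CommRingCat).arrow_mk_iso_iff
      (morphismRestrictStalkMap (g i) (ModPair.interior (Ib i))
        (⟨x, hx⟩ : ↥(g i ⁻¹ᵁ ModPair.interior (Ib i))))).mp h1
  rw [isIso_iff_isIso_stalkMap]
  constructor
  · apply TopCat.isIso_of_bijective_of_isClosedMap
    · constructor
      · intro z z' hzz
        have h1 : Limits.Sigma.map g z.1 = Limits.Sigma.map g z'.1 := by
          rw [← morphismRestrict_base_coe (Limits.Sigma.map g) _ z,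
            ← morphismRestrict_base_coe (Limits.Sigma.map g) _ z']
          exact congrArg Subtype.val hzz
        have hz : Limits.Sigma.map g z.1 ∈ ModPair.interior (Jmod Xb Ib) := z.2
        apply Subtype.ext
        obtain ⟨⟨i, x⟩, e⟩ := (sigmaMk Xa).surjective z.1
        obtain ⟨⟨j, x'⟩, e'⟩ := (sigmaMk Xa).surjective z'.1
        rw [sigmaMk_mk] at e e'
        rw [← e, ← e', smap_apply, smap_apply] at h1
        rw [← e, smap_apply, mem_interior_Jmod_iff] at hz
        have h2 := (sigmaι_eq_iff Xb i j _ _).mp h1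
        obtain rfl : i = j := congrArg Sigma.fst h2
        have h3 : g i x = g i x' := eq_of_heq (Sigma.mk.inj h2).2
        rw [← e, ← e', hinj i x x' hz h3]
      · intro v
        obtain ⟨⟨i, y⟩, e⟩ := (sigmaMk Xb).surjective v.1
        rw [sigmaMk_mk] at e
        have hy : y ∈ ModPair.interior (Ib i) := by
          rw [← mem_interior_Jmod_iff Xb Ib i y, e]; exact v.2
        obtain ⟨x, hx⟩ := hsurj i y hy
        have h2 : Limits.Sigma.map g (Sigma.ι Xa i x) = v.1 := by
          rw [smap_apply, hx, e]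
        refine ⟨⟨Sigma.ι Xa i x, show Limits.Sigma.map g _ ∈ ModPair.interior (Jmod Xb Ib) by
          rw [h2]; exact v.2⟩, ?_⟩
        apply Subtype.ext
        rw [morphismRestrict_base_coe]
        exact h2
    · exact (Limits.Sigma.map g ∣_ ModPair.interior (Jmod Xb Ib)).isClosedMap
  · intro z
    have hst : ∀ w : (∐ Xa : Scheme.{u}),
        Limits.Sigma.map g w ∈ ModPair.interior (Jmod Xb Ib) →
          IsIso ((Limits.Sigma.map g).stalkMap w) := by
      intro w hw
      obtain ⟨⟨i, x⟩, rfl⟩ := (sigmaMk Xa).surjective w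
      rw [sigmaMk_mk] at hw ⊢
      rw [smap_apply, mem_interior_Jmod_iff] at hw
      haveI : IsIso ((g i).stalkMap x) := hstalk i x hw
      haveI : IsIso ((Sigma.ι Xa i ≫ Limits.Sigma.map g).stalkMap x) := by
        rw [Limits.Sigma.ι_map, Scheme.Hom.stalkMap_comp]
        have hA : IsIso ((Sigma.ι Xb i).stalkMap (g i x)) := inferInstance
        exact IsIso.comp_isIso' hA (hstalk i x hw)
      exact isIso_stalkMap_of_comp (Sigma.ι Xa i) (Limits.Sigma.map g) x
    have h3 := hst z.1 z.2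
    exact ((MorphismProperty.isomorphisms CommRingCat).arrow_mk_iso_iff
      (morphismRestrictStalkMap (Limits.Sigma.map g) _ z)).mpr h3

theorem smap_adm (hadm : ∀ i, ModPair.IsAdmBlowup (Ia i) (Ib i) (g i)) :
    ModPair.IsAdmBlowup (Jmod Xa Ia) (Jmod Xb Ib) (Limits.Sigma.map g) := by
  haveI : ∀ i, IsProper (g i) := fun i => (hadm i).2.1
  exact ⟨smap_minimal Xa Xb g Ia Ib (fun i => (hadm i).1), isProper_smap Xa Xb g,
    smap_isIso_restrict Xa Xb g Ib (fun i => (hadm i).2.2)⟩

section cocone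

variable {σ : Type u} (F : Discrete σ ⥤ ModPair.Pair.{u})

/-- total spaces of the family. -/
noncomputable abbrev Xg (i : σ) : Scheme.{u} := (F.obj ⟨i⟩).total
/-- moduli of the family. -/
noncomputable abbrev Ig (i : σ) : (Xg F i).IdealSheafData := (F.obj ⟨i⟩).mod

/-- the explicit coproduct of a family of modulus pairs. -/
noncomputable abbrev coprodPair : ModPair.Pair.{u} :=
  ⟨∐ Xg F, Jmod (Xg F) (Ig F), Jmod_effCartier _ _ (fun i => (F.obj ⟨i⟩).isEffCartier)⟩

/-- the explicit coproduct cocone. -/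
noncomputable def coprodCocone : Cocone F :=
  ⟨coprodPair F, Discrete.natTrans (fun i => ⟨Sigma.ι (Xg F) i.as, by
      change Ig F i.as ≤ (Jmod (Xg F) (Ig F)).comap (Sigma.ι (Xg F) i.as)
      rw [Jmod_comap]⟩)⟩

/-- the explicit coproduct cocone is a colimit. -/
noncomputable def coprodIsColimit : IsColimit (coprodCocone F) where
  desc s := ⟨Sigma.desc (fun i => (s.ι.app ⟨i⟩).hom), by
    change Jmod (Xg F) (Ig F) ≤ s.pt.mod.comap _
    apply le_of_comap_sigmaι_le
    intro i
    rw [Jmod_comap, ← Scheme.IdealSheafData.comap_comp, Sigma.ι_desc]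
    exact (s.ι.app ⟨i⟩).cond⟩
  fac := by
    rintro s ⟨i⟩
    apply ModPair.Pair.Hom.ext
    exact Sigma.ι_desc _ _
  uniq := by
    intro s m hm
    apply ModPair.Pair.Hom.ext
    refine Sigma.hom_ext _ _ (fun i => ?_)
    rw [Sigma.ι_desc]
    exact congrArg ModPair.Pair.Hom.hom (hm ⟨i⟩)

end cocone

theorem stable (σ : Type u) :
    (ModPair.Pair.admBlowup.{u}).IsStableUnderColimitsOfShape (Discrete σ) where
  condition X₁ X₂ c₁ c₂ h₁ h₂ f hf φ hφ := by
    let e₁ := IsColimit.coconePointUniqueUpToIso (coprodIsColimit X₁) h₁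
    let e₂ := IsColimit.coconePointUniqueUpToIso (coprodIsColimit X₂) h₂
    let m : coprodPair X₁ ⟶ coprodPair X₂ :=
      (coprodIsColimit X₁).desc ⟨coprodPair X₂, f ≫ (coprodCocone X₂).ι⟩
    have hφm : φ = e₁.inv ≫ m ≫ e₂.hom := by
      apply h₁.hom_ext
      intro j
      rw [hφ j, IsColimit.comp_coconePointUniqueUpToIso_inv_assoc, IsColimit.fac_assoc]
      show f.app j ≫ c₂.ι.app j = (f.app j ≫ (coprodCocone X₂).ι.app j) ≫ e₂.hom
      rw [Category.assoc, IsColimit.comp_coconePointUniqueUpToIso_hom]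
    have hm : ModPair.Pair.admBlowup m := by
      have hmhom : m.hom = Limits.Sigma.map (fun i => (f.app ⟨i⟩).hom) := by
        refine Sigma.hom_ext _ _ (fun i => ?_)
        rw [Limits.Sigma.ι_map]
        exact congrArg ModPair.Pair.Hom.hom ((coprodIsColimit X₁).fac _ ⟨i⟩)
      show ModPair.IsAdmBlowup (Jmod (Xg X₁) (Ig X₁)) (Jmod (Xg X₂) (Ig X₂)) m.hom
      rw [hmhom]
      exact smap_adm _ _ _ _ _ (fun i => hf ⟨i⟩)
    rw [hφm]
    exact (MorphismProperty.cancel_left_of_respectsIso _ e₁.inv _).mpr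
      ((MorphismProperty.cancel_right_of_respectsIso _ m e₂.hom).mpr hm)

end Groth.Agent.Lib.helper26.CoprodStab
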