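import Mathlib

universe v₁ v₂ u₁ u₂
open CategoryTheory CategoryTheory.Limits CategoryTheory.Functor

namespace Groth.Agent.Lib.helper26.LocCoprod

section adj
variable {J : Type*} [Category J] {C : Type*} [Category C] {L : (J ⥤ C) ⥤ C}
  (adj : L ⊣ Functor.const J)

/-- The colimit cocone obtained from a left adjoint of the constant functor. -/
noncomputable def coconeOfAdj (F : J ⥤ C) : Cocone F where
  pt := L.obj F
  ι := adj.unit.app F

/-- The cocones defined by `coconeOfAdj` are colimit cocones. -/
noncomputable def isColimitCoconeOfAdj (F : J ⥤ C) : IsColimit (coconeOfAdj adj F) where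
  desc s := (adj.homEquiv _ _).symm s.ι
  fac s j := by
    have h := (adj.homEquiv F s.pt).apply_symm_apply s.ι
    rw [adj.homEquiv_unit] at h
    exact NatTrans.congr_app h j
  uniq s m hm := by
    apply (adj.homEquiv _ _).injective
    rw [Equiv.apply_symm_apply, adj.homEquiv_unit]
    ext j
    exact hm j

end adj

variable {C : Type u₁} {D : Type u₂} [Category.{v₁} C] [Category.{v₂} D] (L : C ⥤ D)
  (W : MorphismProperty C) [L.IsLocalization W]

variable (J : Type) [HasCoproductsOfShape J C] [W.IsStableUnderCoproductsOfShape J]

lemma inverts : (W.functorCategory (Discrete J)).IsInvertedBy (colim ⋙ L) :=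
  fun _ _ f hf => Localization.inverts L W _ (MorphismProperty.colimMap f hf)

variable [W.ContainsIdentities] [Finite J]

noncomputable abbrev colimitFunctor : (Discrete J ⥤ D) ⥤ D :=
  Localization.lift _ (inverts L W J) ((whiskeringRight (Discrete J) C D).obj L)

noncomputable def compColimitFunctorIso :
    ((whiskeringRight (Discrete J) C D).obj L) ⋙ colimitFunctor L W J ≅ colim ⋙ L := by
  apply Localization.fac

instance :
    CatCommSq (Functor.const (Discrete J)) L
      ((whiskeringRight (Discrete J) C D).obj L) (Functor.const (Discrete J)) where
  iso := (Functor.compConstIso _ _).symm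

noncomputable instance :
    CatCommSq colim ((whiskeringRight (Discrete J) C D).obj L) L (colimitFunctor L W J) where
  iso := (compColimitFunctorIso L W J).symm

noncomputable def adj : colimitFunctor L W J ⊣ Functor.const _ :=
  colimConstAdj.localization ((whiskeringRight (Discrete J) C D).obj L)
    (W.functorCategory (Discrete J)) L W (colimitFunctor L W J) (Functor.const _)

lemma adj_unit_app (F : Discrete J ⥤ C) :
    (adj L W J).unit.app (F ⋙ L) =
      whiskerRight (colimConstAdj.unit.app F) L ≫
        (Functor.compConstIso (Discrete J) L).inv.app (colim.obj F) ≫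
        (Functor.const (Discrete J)).map ((compColimitFunctorIso L W J).inv.app F) := by
  apply colimConstAdj.localization_unit_app

noncomputable def isColimitMapCocone (F : Discrete J ⥤ C) :
    IsColimit (L.mapCocone (colimit.cocone F)) :=
  IsColimit.ofIsoColimit (isColimitCoconeOfAdj (adj L W J) (F ⋙ L))
    (Cocone.ext ((compColimitFunctorIso L W J).app F) (by
      intro j
      simp [coconeOfAdj, adj_unit_app, colimConstAdj]))

include L in
lemma hasCoproductsOfShape (W : MorphismProperty C) [L.IsLocalization W]
    [W.IsStableUnderCoproductsOfShape J] [W.ContainsIdentities] : HasCoproductsOfShape J D :=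
  hasColimitsOfShape_iff_isRightAdjoint_const.2 (adj L W J).isRightAdjoint

lemma preservesCoproductsOfShape (W : MorphismProperty C) [L.IsLocalization W]
    [W.IsStableUnderCoproductsOfShape J] [W.ContainsIdentities] :
    PreservesColimitsOfShape (Discrete J) L where
  preservesColimit {F} := preservesColimit_of_preserves_colimit_cocone (colimit.isColimit F)
    (isColimitMapCocone L W J F)

end Groth.Agent.Lib.helper26.LocCoprod
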