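import Mathlib
import Groth.Agent.Lib.helper26.CoprodStab
import Groth.Agent.Lib.helper26.LocCoprod

universe u
open AlgebraicGeometry CategoryTheory CategoryTheory.Limits

namespace Groth.Agent.Lib.helper26.CoprodLoc

open Groth.Agent.Lib.helper26

theorem main :
    HasBinaryCoproducts (ModPair.Pair.admBlowup.{u}).Localization ∧
      PreservesColimitsOfShape (Discrete WalkingPair) (ModPair.Pair.admBlowup.{u}).Q := by
  haveI : HasColimitsOfShape (Discrete WalkingPair) ModPair.Pair.{u} :=
    haveI := (PairCoprod.main (ULift.{u} WalkingPair)).1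
    hasColimitsOfShape_of_equivalence (Discrete.equivalence Equiv.ulift)
  haveI : (ModPair.Pair.admBlowup.{u}).IsStableUnderCoproductsOfShape WalkingPair := by
    show (ModPair.Pair.admBlowup.{u}).IsStableUnderColimitsOfShape (Discrete WalkingPair)
    rw [MorphismProperty.isStableUnderColimitsOfShape_iff_colimitsOfShape_le,
      ← MorphismProperty.colimitsOfShape_eq_of_equivalence _
        (Discrete.equivalence (Equiv.ulift.{u} (α := WalkingPair)))]
    exact (MorphismProperty.isStableUnderColimitsOfShape_iff_colimitsOfShape_le _ _).mp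
      (CoprodStab.stable _)
  exact ⟨LocCoprod.hasCoproductsOfShape (L := (ModPair.Pair.admBlowup.{u}).Q)
      (J := WalkingPair) (W := ModPair.Pair.admBlowup.{u}),
    LocCoprod.preservesCoproductsOfShape (L := (ModPair.Pair.admBlowup.{u}).Q)
      (J := WalkingPair) (W := ModPair.Pair.admBlowup.{u})⟩

end Groth.Agent.Lib.helper26.CoprodLoc
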