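import Mathlib
import Groth.Agent.Lib.helper26.ImgOpen
import Groth.Agent.Lib.helper26.RCF
import Groth.Prelude.Def_W4stkflatp2Cpct

universe u
open AlgebraicGeometry CategoryTheory Topology TopologicalSpace CategoryTheory.Limits

namespace Groth.Agent.Lib.helper26.CpctRCF

open Groth.Agent.Lib.helper26.ImgOpen Groth.Agent.Lib.helper26.RCF

theorem exists_iso_to_preimage {P U₀ : Scheme.{u}} (V : P.Opens) [QuasiCompact V.ι]
    (γ : U₀ ⟶ (V : Scheme.{u})) [IsClosedImmersion γ] :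
    ∃ k : U₀ ⟶ (((γ ≫ V.ι).imageι ⁻¹ᵁ V : (γ ≫ V.ι).image.Opens) : Scheme.{u}),
      IsIso k ∧ k ≫ ((γ ≫ V.ι).imageι ⁻¹ᵁ V).ι = (γ ≫ V.ι).toImage := by
  obtain ⟨-, hO, hR⟩ := image_props V γ
  haveI := hO
  have hsub : Set.range (γ ≫ V.ι).toImage ⊆ Set.range ((γ ≫ V.ι).imageι ⁻¹ᵁ V).ι := by
    rw [Scheme.Opens.range_ι]
    exact hR.le
  refine ⟨IsOpenImmersion.lift _ _ hsub, ?_, IsOpenImmersion.lift_fac _ _ hsub⟩
  have hfac := IsOpenImmersion.lift_fac ((γ ≫ V.ι).imageι ⁻¹ᵁ V).ι _ hsub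
  haveI : IsOpenImmersion (IsOpenImmersion.lift ((γ ≫ V.ι).imageι ⁻¹ᵁ V).ι _ hsub ≫
      ((γ ≫ V.ι).imageι ⁻¹ᵁ V).ι) := by rw [hfac]; exact hO
  haveI : IsOpenImmersion (IsOpenImmersion.lift ((γ ≫ V.ι).imageι ⁻¹ᵁ V).ι _ hsub) :=
    IsOpenImmersion.of_comp _ ((γ ≫ V.ι).imageι ⁻¹ᵁ V).ι
  rw [isIso_iff_isOpenImmersion_and_epi_base]
  refine ⟨inferInstance, ?_⟩
  rw [TopCat.epi_iff_surjective]
  intro z
  have hz : z.1 ∈ Set.range (γ ≫ V.ι).toImage := by rw [hR]; exact z.2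
  obtain ⟨y, hy⟩ := hz
  refine ⟨y, ?_⟩
  apply Subtype.ext
  have := congrArg (fun φ : U₀ ⟶ (γ ≫ V.ι).image => φ y) hfac
  exact this.trans hy

variable {S : Scheme.{u}}

theorem restr_id (A : Cpct.Pair S) : Cpct.restr (𝟙 A) = 𝟙 _ :=
  congrArg CommaMorphism.left ((Cpct.openOver (S := S)).map_id A)

theorem restr_comp {A B C : Cpct.Pair S} (f : A ⟶ B) (g : B ⟶ C) :
    Cpct.restr (f ≫ g) = Cpct.restr f ≫ Cpct.restr g :=
  congrArg CommaMorphism.left ((Cpct.openOver (S := S)).map_comp f g)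

instance : (Cpct.isoOpen S).IsMultiplicative where
  id_mem A := by
    show IsIso (Cpct.restr (𝟙 A))
    rw [restr_id]; infer_instance
  comp_mem f g hf hg := by
    show IsIso (Cpct.restr (f ≫ g))
    rw [restr_comp]
    exact IsIso.comp_isIso' hf hg

theorem restr_ι {A B : Cpct.Pair S} (f : A ⟶ B) :
    Cpct.restr f ≫ B.U.ι = A.U.ι ≫ f.bar.left :=
  Scheme.Hom.resLE_comp_ι _ _

/-- the closure of a closed subscheme of an open of a proper `S`-scheme, as a compactification. -/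
noncomputable abbrev closurePair (P : Over S) [IsProper P.hom] (V : P.left.Opens) [QuasiCompact V.ι]
    {U₀ : Scheme.{u}} [CompactSpace U₀] (γ : U₀ ⟶ (V : Scheme.{u})) [IsClosedImmersion γ] :
    Cpct.Pair S where
  bar := Over.mk ((γ ≫ V.ι).imageι ≫ P.hom)
  U := (γ ≫ V.ι).imageι ⁻¹ᵁ V
  isProper := by
    show IsProper ((γ ≫ V.ι).imageι ≫ P.hom)
    infer_instance
  isCompact := by
    obtain ⟨k, hk, -⟩ := exists_iso_to_preimage V γ
    rw [isCompact_iff_compactSpace]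
    haveI := hk
    exact (k.homeomorph).compactSpace

theorem quasiCompact_U [QuasiSeparatedSpace S] (A : Cpct.Pair S) : QuasiCompact A.U.ι := by
  haveI : IsProper A.bar.hom := A.isProper
  haveI : QuasiSeparatedSpace A.bar.left := quasiSeparatedSpace_of_quasiSeparated A.bar.hom
  haveI : CompactSpace (A.U : Scheme.{u}) := isCompact_iff_compactSpace.mp A.isCompact
  infer_instance

theorem cpct_ext [QuasiSeparatedSpace S] {A B C : Cpct.Pair S} (f₁ f₂ : A ⟶ B) (s : B ⟶ C)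
    (hs : Cpct.isoOpen S s) (h : f₁ ≫ s = f₂ ≫ s) :
    ∃ (D : Cpct.Pair S) (t : D ⟶ A) (_ : Cpct.isoOpen S t), t ≫ f₁ = t ≫ f₂ := by
  haveI : IsProper A.bar.hom := A.isProper
  haveI : IsProper B.bar.hom := B.isProper
  haveI : QuasiCompact A.U.ι := quasiCompact_U A
  haveI : CompactSpace (A.U : Scheme.{u}) := isCompact_iff_compactSpace.mp A.isCompact
  haveI : IsIso (Cpct.restr s) := hs
  have hr : Cpct.restr f₁ = Cpct.restr f₂ := by
    rw [← cancel_mono (Cpct.restr s), ← restr_comp, ← restr_comp, h]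
  let D : Cpct.Pair S := closurePair A.bar A.U (𝟙 _)
  let t : D ⟶ A := ⟨Over.homMk (𝟙 _ ≫ A.U.ι).imageι rfl, fun x hx => hx⟩
  obtain ⟨k, hk, hk'⟩ := exists_iso_to_preimage A.U (𝟙 (A.U : Scheme.{u}))
  haveI := hk
  refine ⟨D, t, ?_, ?_⟩
  · show IsIso (Cpct.restr t)
    have h1 : k ≫ Cpct.restr t = 𝟙 _ := by
      rw [← cancel_mono A.U.ι, Category.assoc, restr_ι]
      show k ≫ ((𝟙 _ ≫ A.U.ι).imageι ⁻¹ᵁ A.U).ι ≫ (𝟙 _ ≫ A.U.ι).imageι = 𝟙 _ ≫ A.U.ι
      rw [← Category.assoc, hk', Scheme.Hom.toImage_imageι]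
    haveI : IsIso (k ≫ Cpct.restr t) := by rw [h1]; infer_instance
    exact IsIso.of_isIso_comp_left k (Cpct.restr t)
  · apply Cpct.Pair.Hom.ext
    apply Over.OverMorphism.ext
    show (𝟙 _ ≫ A.U.ι).imageι ≫ f₁.bar.left = (𝟙 _ ≫ A.U.ι).imageι ≫ f₂.bar.left
    haveI : QuasiCompact (𝟙 (A.U : Scheme.{u}) ≫ A.U.ι) := by rw [Category.id_comp]; infer_instance
    haveI : QuasiCompact ((𝟙 (A.U : Scheme.{u}) ≫ A.U.ι).toImage ≫ (𝟙 _ ≫ A.U.ι).imageι) := by
      rw [Scheme.Hom.toImage_imageι]; infer_instance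
    haveI : QuasiCompact (𝟙 (A.U : Scheme.{u}) ≫ A.U.ι).toImage :=
      QuasiCompact.of_comp _ (𝟙 _ ≫ A.U.ι).imageι
    haveI : IsSchemeTheoreticallyDominant (𝟙 (A.U : Scheme.{u}) ≫ A.U.ι).toImage :=
      (isSchemeTheoreticallyDominant_iff _).mpr (toImage_ker_eq_bot _)
    refine ext_of_schDominant_of_isSeparated B.bar.hom ?_ (𝟙 (A.U : Scheme.{u}) ≫ A.U.ι).toImage ?_
    · rw [Category.assoc, Category.assoc, Over.w, Over.w]
    · rw [← Category.assoc, ← Category.assoc, Scheme.Hom.toImage_imageι, Category.id_comp,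
        ← restr_ι, ← restr_ι, hr]

theorem cpct_rightFraction [QuasiSeparatedSpace S] ⦃A B : Cpct.Pair S⦄
    (φ : (Cpct.isoOpen S).LeftFraction A B) :
    ∃ ψ : (Cpct.isoOpen S).RightFraction A B, ψ.s ≫ φ.f = ψ.f ≫ φ.s := by
  obtain ⟨a, s, hs⟩ := φ
  rename_i C
  haveI : IsIso (Cpct.restr s) := hs
  haveI : IsProper A.bar.hom := A.isProper
  haveI : IsProper B.bar.hom := B.isProper
  haveI : IsProper C.bar.hom := C.isProper
  haveI : IsProper s.bar.left := by
    haveI : IsProper (s.bar.left ≫ C.bar.hom) := by rw [Over.w]; infer_instance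
    exact IsProper.of_comp s.bar.left C.bar.hom
  let P : Over S := Over.mk (pullback.fst a.bar.left s.bar.left ≫ A.bar.hom)
  haveI : IsProper P.hom := by
    show IsProper (pullback.fst a.bar.left s.bar.left ≫ A.bar.hom)
    infer_instance
  let V : P.left.Opens := pullback.fst a.bar.left s.bar.left ⁻¹ᵁ A.U
  haveI : QuasiCompact A.U.ι := quasiCompact_U A
  haveI : QuasiCompact V.ι :=
    MorphismProperty.of_isPullback
      (isPullback_morphismRestrict (pullback.fst a.bar.left s.bar.left) A.U) inferInstance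
  haveI : CompactSpace (A.U : Scheme.{u}) := isCompact_iff_compactSpace.mp A.isCompact
  let σ : (A.U : Scheme.{u}) ⟶ pullback a.bar.left s.bar.left :=
    pullback.lift A.U.ι (Cpct.restr a ≫ inv (Cpct.restr s) ≫ B.U.ι) (by
      rw [← restr_ι a, Category.assoc, Category.assoc, ← restr_ι s, IsIso.inv_hom_id_assoc])
  have hσ1 : σ ≫ pullback.fst a.bar.left s.bar.left = A.U.ι := pullback.lift_fst _ _ _
  have hσ2 : σ ≫ pullback.snd a.bar.left s.bar.left =
      Cpct.restr a ≫ inv (Cpct.restr s) ≫ B.U.ι := pullback.lift_snd _ _ _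
  have hσ : Set.range σ ⊆ Set.range V.ι := by
    rw [Scheme.Opens.range_ι]
    rintro _ ⟨x, rfl⟩
    show (pullback.fst a.bar.left s.bar.left) (σ x) ∈ A.U
    have h : (pullback.fst a.bar.left s.bar.left) (σ x) = x.1 :=
      congrArg (fun ψ : (A.U : Scheme.{u}) ⟶ A.bar.left => ψ x) hσ1
    rw [h]; exact x.2
  let γ : (A.U : Scheme.{u}) ⟶ (V : Scheme.{u}) := IsOpenImmersion.lift V.ι σ hσ
  have hγ : γ ≫ V.ι = σ := IsOpenImmersion.lift_fac _ _ _
  haveI : IsClosedImmersion γ := by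
    have h1 : γ ≫ (pullback.fst a.bar.left s.bar.left ∣_ A.U) = 𝟙 _ := by
      rw [← cancel_mono A.U.ι, Category.assoc, morphismRestrict_ι, ← Category.assoc, hγ, hσ1,
        Category.id_comp]
    haveI : IsClosedImmersion (γ ≫ (pullback.fst a.bar.left s.bar.left ∣_ A.U)) := by
      rw [h1]; infer_instance
    exact IsClosedImmersion.of_comp γ (pullback.fst a.bar.left s.bar.left ∣_ A.U)
  obtain ⟨k, hk, hk'⟩ := exists_iso_to_preimage V γ
  haveI := hk
  let D : Cpct.Pair S := closurePair P V γ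
  have hw : pullback.snd a.bar.left s.bar.left ≫ B.bar.hom =
      pullback.fst a.bar.left s.bar.left ≫ A.bar.hom := by
    rw [← Over.w s.bar, ← Category.assoc, ← pullback.condition, Category.assoc, Over.w]
  let t : D ⟶ A := ⟨Over.homMk ((γ ≫ V.ι).imageι ≫ pullback.fst a.bar.left s.bar.left)
    (by simp [D, P]), fun x hx => hx⟩
  have hle : ∀ x, x ∈ D.U →
      ((γ ≫ V.ι).imageι ≫ pullback.snd a.bar.left s.bar.left) x ∈ B.U := by
    intro x hx
    obtain ⟨y, hy⟩ := (ConcreteCategory.bijective_of_isIso k.base).2 ⟨x, hx⟩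
    have h1 : (γ ≫ V.ι).toImage y = x := by
      have := congrArg (fun ψ : (A.U : Scheme.{u}) ⟶ (γ ≫ V.ι).image => ψ y) hk'
      refine this.symm.trans ?_
      show (k y).1 = x
      rw [show k y = ⟨x, hx⟩ from hy]
    have h2 : (γ ≫ V.ι).imageι x = σ y := by
      rw [← h1]
      have := congrArg (fun ψ : (A.U : Scheme.{u}) ⟶ pullback a.bar.left s.bar.left => ψ y)
        ((Scheme.Hom.toImage_imageι (γ ≫ V.ι)).trans hγ)
      exact this
    show (pullback.snd a.bar.left s.bar.left) ((γ ≫ V.ι).imageι x) ∈ B.U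
    rw [h2]
    have h3 : (pullback.snd a.bar.left s.bar.left) (σ y) =
        (B.U.ι) ((Cpct.restr a ≫ inv (Cpct.restr s)) y) :=
      congrArg (fun ψ : (A.U : Scheme.{u}) ⟶ B.bar.left => ψ y)
        (hσ2.trans (Category.assoc _ _ _).symm)
    rw [h3]
    exact ((Cpct.restr a ≫ inv (Cpct.restr s)) y).2
  let b : D ⟶ B := ⟨Over.homMk ((γ ≫ V.ι).imageι ≫ pullback.snd a.bar.left s.bar.left)
    (by simp [D, P, hw]), hle⟩
  have ht : Cpct.isoOpen S t := by
    show IsIso (Cpct.restr t)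
    have h1 : k ≫ Cpct.restr t = 𝟙 _ := by
      rw [← cancel_mono A.U.ι, Category.assoc, restr_ι]
      show k ≫ ((γ ≫ V.ι).imageι ⁻¹ᵁ V).ι ≫
        ((γ ≫ V.ι).imageι ≫ pullback.fst a.bar.left s.bar.left) = 𝟙 _ ≫ A.U.ι
      rw [← Category.assoc k, hk', ← Category.assoc, Scheme.Hom.toImage_imageι, hγ, hσ1,
        Category.id_comp]
    haveI : IsIso (k ≫ Cpct.restr t) := by rw [h1]; infer_instance
    exact IsIso.of_isIso_comp_left k (Cpct.restr t)
  refine ⟨⟨t, ht, b⟩, ?_⟩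
  apply Cpct.Pair.Hom.ext
  apply Over.OverMorphism.ext
  show ((γ ≫ V.ι).imageι ≫ pullback.fst a.bar.left s.bar.left) ≫ a.bar.left =
    ((γ ≫ V.ι).imageι ≫ pullback.snd a.bar.left s.bar.left) ≫ s.bar.left
  rw [Category.assoc, Category.assoc, pullback.condition]

theorem main (S : Scheme.{u}) [CompactSpace S] [QuasiSeparatedSpace S] :
    (Cpct.isoOpen S).HasRightCalculusOfFractions where
  exists_rightFraction := cpct_rightFraction
  ext := fun _ _ _ f₁ f₂ s hs h => cpct_ext f₁ f₂ s hs h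

end Groth.Agent.Lib.helper26.CpctRCF
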