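import Groth.Agent.Lib.helper26.MinPrimeProd2
import Groth.Prelude.Def_Curv2
import Groth.Prelude.Def_Found

set_option autoImplicit false
universe u

namespace Groth.Agent.Lib.helper26.DeltaInv

open Groth.Agent.Lib.helper26.MinPrimeProd

variable {A : Type u} [CommRing A]

lemma deltaInv_eq_zero_iff_surj :
    Curv2.deltaInv A = 0 ↔
      ∀ x : FractionRing A, IsIntegral A x → ∃ a : A, algebraMap A (FractionRing A) a = x := by
  unfold Curv2.deltaInv
  rw [Module.length_eq_zero_iff, Submodule.Quotient.subsingleton_iff, eq_top_iff]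
  constructor
  · intro h x hx
    obtain ⟨a, ha⟩ := h (show (⟨x, hx⟩ : integralClosure A (FractionRing A)) ∈ ⊤ from trivial)
    exact ⟨a, congrArg Subtype.val ha⟩
  · intro h x _
    obtain ⟨a, ha⟩ := h x.1 x.2
    exact ⟨a, Subtype.ext ha⟩

/-- The total fraction ring of a reduced one-dimensional Noetherian local ring is `L A`. -/
lemma exists_algEquiv_fractionRing [IsLocalRing A] [IsNoetherianRing A] [IsReduced A]
    (hdim : ringKrullDim A = 1) : Nonempty (FractionRing A ≃ₐ[A] L A) := by
  obtain ⟨f, hf, hav⟩ := exists_avoid hdim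
  obtain ⟨e₁⟩ := (algEquiv_iff hdim f hf).1 hav
  haveI := (isLocalization_nonZeroDivisors_iff hdim (Or.inr inferInstance) f hf).1 hav
  exact ⟨(IsLocalization.algEquiv (nonZeroDivisors A) (Localization.Away f)
    (FractionRing A)).symm.trans e₁⟩

lemma subsingleton_P_of_surj [IsLocalRing A] [IsNoetherianRing A] [IsReduced A]
    (hdim : ringKrullDim A = 1)
    (hs : ∀ x : FractionRing A, IsIntegral A x → ∃ a : A, algebraMap A (FractionRing A) a = x) :
    Subsingleton (P A) := by
  classical
  obtain ⟨e⟩ := exists_algEquiv_fractionRing hdim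
  refine ⟨fun p q => ?_⟩
  by_contra hpq
  set ε : L A := Pi.single p 1 with hε
  have hidem : ε * ε = ε := by
    rw [hε, ← Pi.single_mul, mul_one]
  have hint : IsIntegral A (e.symm ε) := by
    refine ⟨Polynomial.X ^ 2 - Polynomial.X, ?_, ?_⟩
    · exact Polynomial.monic_X_pow_sub (by simp)
    · rw [Polynomial.eval₂_sub, Polynomial.eval₂_pow, Polynomial.eval₂_X, pow_two, ← map_mul,
        hidem, sub_self]
  obtain ⟨a, ha⟩ := hs _ hint
  have ha' : algebraMap A (L A) a = ε := by
    have := congrArg e ha
    rwa [AlgEquiv.commutes, AlgEquiv.apply_symm_apply] at this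
  have hap : algebraMap A (Localization.AtPrime p.1.asIdeal) a = 1 := by
    have := congrFun ha' p
    rwa [hε, Pi.single_eq_same] at this
  have haq : algebraMap A (Localization.AtPrime q.1.asIdeal) a = 0 := by
    have := congrFun ha' q
    rwa [hε, Pi.single_eq_of_ne (Ne.symm hpq)] at this
  by_cases hau : IsUnit a
  · have := hau.map (algebraMap A (Localization.AtPrime q.1.asIdeal))
    rw [haq] at this
    exact not_isUnit_zero this
  · have ham : a ∈ IsLocalRing.maximalIdeal A := (IsLocalRing.mem_maximalIdeal a).2 hau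
    have hu : IsUnit (a - 1) := by
      have h1 : IsUnit (1 - a) := by
        by_contra h
        have h2 : (1 - a) ∈ IsLocalRing.maximalIdeal A := (IsLocalRing.mem_maximalIdeal _).2 h
        have h3 : (1 : A) ∈ IsLocalRing.maximalIdeal A := by
          have := Ideal.add_mem _ h2 ham
          rwa [sub_add_cancel] at this
        exact (IsLocalRing.maximalIdeal.isMaximal A).ne_top ((Ideal.eq_top_iff_one _).2 h3)
      have : a - 1 = -(1 - a) := by ring
      rw [this]
      exact h1.neg
    have h0 : algebraMap A (Localization.AtPrime p.1.asIdeal) (a - 1) = 0 := by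
      rw [map_sub, hap, map_one, sub_self]
    have := hu.map (algebraMap A (Localization.AtPrime p.1.asIdeal))
    rw [h0] at this
    exact not_isUnit_zero this

theorem deltaInv_eq_zero_iff_dvr (A : Type u) [CommRing A] [IsLocalRing A]
    [IsReduced A] (hN : CAlg.IsNagata A) (hdim : ringKrullDim A = 1) :
    Curv2.deltaInv A = 0 ↔ ∃ _ : IsDomain A, IsDiscreteValuationRing A := by
  haveI : IsNoetherianRing A := hN.1
  rw [deltaInv_eq_zero_iff_surj]
  constructor
  · intro hs
    haveI := subsingleton_P_of_surj hdim hs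
    -- unique minimal prime is zero
    have hbot : (⊥ : Ideal A).IsPrime := by
      obtain ⟨⟨p, hp⟩⟩ := Ideal.nonempty_minimalPrimes (I := (⊥ : Ideal A)) bot_ne_top
      have hp' : p ∈ minimalPrimes A := hp
      have hall : ∀ q ∈ minimalPrimes A, q = p := by
        intro q hq
        have := Subsingleton.elim (⟨⟨q, hq.1.1⟩, hq⟩ : P A) ⟨⟨p, hp'.1.1⟩, hp'⟩
        exact congrArg (fun z : P A => z.1.asIdeal) this
      have hsInf : sInf (minimalPrimes A) = p := by
        apply le_antisymm
        · exact sInf_le hp'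
        · refine le_sInf (fun q hq => ?_)
          rw [hall q hq]
      have hnil : sInf (minimalPrimes A) = (⊥ : Ideal A) := by
        rw [minimalPrimes, Ideal.sInf_minimalPrimes]
        exact nilradical_eq_zero A
      rw [← hnil, hsInf]
      exact hp'.1.1
    haveI : IsDomain A := IsDomain.of_bot_isPrime A
    refine ⟨inferInstance, ?_⟩
    have hic : IsIntegrallyClosed A :=
      (isIntegrallyClosed_iff (FractionRing A)).2 (fun {x} hx => hs x hx)
    haveI : Ring.KrullDimLE 1 A := Ring.krullDimLE_iff.2 (by rw [hdim]; exact le_rfl)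
    have hnf : ¬ IsField A := by
      intro hf
      have := ringKrullDim_eq_zero_of_isField hf
      rw [hdim] at this
      exact one_ne_zero this
    have hm0 : IsLocalRing.maximalIdeal A ≠ ⊥ := IsLocalRing.isField_iff_maximalIdeal_eq.not.mp hnf
    have h : IsDiscreteValuationRing A ↔
        (IsIntegrallyClosed A ∧ ∃! P : Ideal A, P ≠ ⊥ ∧ P.IsPrime) :=
      (IsDiscreteValuationRing.TFAE A hnf).out 0 3
    refine h.2 ⟨hic, IsLocalRing.maximalIdeal A, ⟨hm0, inferInstance⟩, ?_⟩
    rintro Q ⟨hQ0, hQ⟩
    exact IsLocalRing.eq_maximalIdeal (hQ.isMaximal_of_ne_bot hQ0)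
  · rintro ⟨hD, hDVR⟩ x hx
    have hic : IsIntegrallyClosed A := inferInstance
    exact (isIntegrallyClosed_iff (FractionRing A)).1 hic hx

end Groth.Agent.Lib.helper26.DeltaInv
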