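import Mathlib
import Groth.Agent.Lib.helper14.Catenary
import Groth.Prelude.Def_Found

universe u

namespace Groth.Agent.Lib.helper26.UCLoc

open Groth.Agent

theorem isCatenary_of_surjective {A B : Type u} [CommRing A] [CommRing B] (φ : A →+* B)
    (hφ : Function.Surjective φ) (hA : CAlg.IsCatenary A) : CAlg.IsCatenary B := by
  refine H14.isCatenary_of_embedding (PrimeSpectrum.comap φ) ?_ ?_ hA
  · intro a b
    change a.asIdeal.comap _ ≤ b.asIdeal.comap _ ↔ a.asIdeal ≤ b.asIdeal
    exact Ideal.comap_le_comap_iff_of_surjective _ hφ _ _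
  · intro a b y h1 _
    have : y ∈ Set.range (PrimeSpectrum.comap φ) := by
      rw [_root_.range_comap_of_surjective _ _ hφ]
      intro x hx
      apply h1.le
      change φ x ∈ a.asIdeal
      rw [RingHom.mem_ker.mp hx]
      exact Ideal.zero_mem _
    exact this

theorem isCatenary_of_isLocalization {A : Type u} [CommRing A] (M : Submonoid A) (B : Type u)
    [CommRing B] [Algebra A B] [IsLocalization M B] (hA : CAlg.IsCatenary A) :
    CAlg.IsCatenary B := by
  refine H14.isCatenary_of_embedding (PrimeSpectrum.comap (algebraMap A B)) ?_ ?_ hA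
  · intro a b
    change a.asIdeal.comap _ ≤ b.asIdeal.comap _ ↔ a.asIdeal ≤ b.asIdeal
    exact (IsLocalization.orderEmbedding M B).le_iff_le
  · intro a b y _ h2
    have : y ∈ Set.range (PrimeSpectrum.comap (algebraMap A B)) := by
      rw [PrimeSpectrum.localization_comap_range B M]
      have hb : PrimeSpectrum.comap (algebraMap A B) b ∈
          Set.range (PrimeSpectrum.comap (algebraMap A B)) := ⟨b, rfl⟩
      rw [PrimeSpectrum.localization_comap_range B M] at hb
      exact Set.disjoint_of_subset_right h2.le hb
    exact this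

attribute [local instance] MvPolynomial.algebraMvPolynomial in
theorem isUniversallyCatenary_of_isLocalization {R : Type u} [CommRing R] (M : Submonoid R)
    (R' : Type u) [CommRing R'] [Algebra R R'] [IsLocalization M R']
    (h : CAlg.IsUniversallyCatenary R) : CAlg.IsUniversallyCatenary R' := by
  haveI := h.1
  refine ⟨IsLocalization.isNoetherianRing M R' h.1, ?_⟩
  intro S' _ _ hS'
  obtain ⟨n, φ, hφ⟩ := Algebra.FiniteType.iff_quotient_mvPolynomial''.mp hS'
  have hP : CAlg.IsCatenary (MvPolynomial (Fin n) R) := h.2 _ inferInstance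
  have hP' : CAlg.IsCatenary (MvPolynomial (Fin n) R') :=
    isCatenary_of_isLocalization (M.map (MvPolynomial.C (σ := Fin n))) _ hP
  exact isCatenary_of_surjective φ.toRingHom hφ hP'

end Groth.Agent.Lib.helper26.UCLoc
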