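import Mathlib
import Groth.Agent.Lib.helper26.UCLoc
import Groth.Agent.Lib.helper26.UCLocal
import Groth.Agent.Lib.helper26.RegCodim
import Groth.Agent.Lib.helper26.DimFormSch2
import Groth.Agent.Lib.helper7.StalkBC
import Groth.Agent.Lib.helper7.DimSch14

universe u
open AlgebraicGeometry CategoryTheory Topology TopologicalSpace CategoryTheory.Limits

namespace Groth.Agent.Lib.helper26.DimFormLoc

open Groth.Agent.Lib.helper7 Groth.Agent.Lib.helper26.DimIneq

/-- residue field maps are bijective when the stalk map is surjective. -/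
theorem residueFieldMap_bijective {X Y : Scheme.{u}} (f : X ⟶ Y) (x : X)
    (h : Function.Surjective (f.stalkMap x)) : Function.Bijective (f.residueFieldMap x) := by
  refine ⟨(f.residueFieldMap x).hom.injective, ?_⟩
  intro b
  obtain ⟨s, rfl⟩ := IsLocalRing.residue_surjective b
  obtain ⟨t, rfl⟩ := h s
  refine ⟨Y.residue (f x) t, ?_⟩
  have := congrArg (fun φ => φ.hom t) (Scheme.residue_residueFieldMap f x)
  exact this

theorem ringKrullDim_stalk_eq_of_bijective {X' X : Scheme.{u}} (g : X' ⟶ X) (z' : X')
    (h : Function.Bijective (g.stalkMap z')) :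
    ringKrullDim (X'.presheaf.stalk z') = ringKrullDim (X.presheaf.stalk (g z')) :=
  (ringKrullDim_eq_of_ringEquiv (RingEquiv.ofBijective (g.stalkMap z').hom h)).symm

theorem trdeg_residue_square {X' X Y' Y : Scheme.{u}} (g : X' ⟶ X) (f' : X' ⟶ Y') (f : X ⟶ Y)
    (j : Y' ⟶ Y) (w : g ≫ f = f' ≫ j) (z' : X')
    (hg : Function.Bijective (g.residueFieldMap z'))
    (hj : Function.Bijective (j.residueFieldMap (f' z'))) :
    @Algebra.trdeg (Y'.residueField (f' z')) (X'.residueField z') _ _
      (f'.residueFieldMap z').hom.toAlgebra =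
    @Algebra.trdeg (Y.residueField (f (g z'))) (X.residueField (g z')) _ _
      (f.residueFieldMap (g z')).hom.toAlgebra := by
  letI := (f'.residueFieldMap z').hom.toAlgebra
  letI := (f.residueFieldMap (g z')).hom.toAlgebra
  have h0 : (g ≫ f) z' = (f' ≫ j) z' := by rw [w]
  have hcomm : f.residueFieldMap (g z') ≫ g.residueFieldMap z' =
      (Y.residueFieldCongr h0).hom ≫ j.residueFieldMap (f' z') ≫ f'.residueFieldMap z' := by
    have e1 : (g ≫ f).residueFieldMap z' = f.residueFieldMap (g z') ≫ g.residueFieldMap z' :=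
      Scheme.residueFieldMap_comp g f z'
    have e2 : (f' ≫ j).residueFieldMap z' = j.residueFieldMap (f' z') ≫ f'.residueFieldMap z' :=
      Scheme.residueFieldMap_comp f' j z'
    have e3 : (g ≫ f).residueFieldMap z' =
        (Y.residueFieldCongr h0).hom ≫ (f' ≫ j).residueFieldMap z' :=
      Scheme.Hom.residueFieldMap_congr w z'
    exact e1.symm.trans (e3.trans (congrArg (fun t => (Y.residueFieldCongr h0).hom ≫ t) e2))
  have hσ : Function.Bijective ((Y.residueFieldCongr h0).hom ≫ j.residueFieldMap (f' z')).hom := by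
    rw [CommRingCat.hom_comp]
    exact hj.comp (ConcreteCategory.bijective_of_isIso (Y.residueFieldCongr h0).hom)
  symm
  refine DimSch.trdeg_eq_of_ringEquiv (RingEquiv.ofBijective _ hσ)
    (RingEquiv.ofBijective (g.residueFieldMap z').hom hg) ?_
  ext a
  have := congrArg (fun φ => φ.hom a) hcomm
  exact this.symm

/-- a space with an inducing map to an irreducible sober space hitting the generic point is
irreducible, and the preimage point is generic. -/
theorem irreducible_of_isInducing {X' X : Type*} [TopologicalSpace X'] [TopologicalSpace X]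
    [IrreducibleSpace X] [QuasiSober X] (g : X' → X) (hg : IsInducing g) (ξ' : X')
    (hξ' : g ξ' = genericPoint X) :
    IrreducibleSpace X' ∧ IsGenericPoint ξ' (⊤ : Set X') := by
  have hcl : closure ({ξ'} : Set X') = Set.univ := by
    rw [Set.eq_univ_iff_forall]
    intro z'
    rw [← specializes_iff_mem_closure, ← hg.specializes_iff, hξ']
    exact genericPoint_specializes _
  refine ⟨(irreducibleSpace_def X').mpr ?_, hcl⟩
  have := (isIrreducible_singleton (x := ξ')).closure
  rw [hcl] at this
  exact this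

/-- the relation expressing the dimension formula at `a` with generic data at `b`. -/
def Formula {X Y : Scheme.{u}} (f : X ⟶ Y) (a b : X) : Prop :=
  ∃ (hq hp : ℕ∞), ringKrullDim (X.presheaf.stalk a) = hq ∧
    ringKrullDim (Y.presheaf.stalk (f a)) = hp ∧
    (hq : Cardinal.{u}) + @Algebra.trdeg (Y.residueField (f a)) (X.residueField a) _ _
      (f.residueFieldMap a).hom.toAlgebra = (hp : Cardinal.{u}) +
      @Algebra.trdeg (Y.residueField (f b)) (X.residueField b) _ _
      (f.residueFieldMap b).hom.toAlgebra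

theorem core {X Y X' Y' : Scheme.{u}} [IsLocallyNoetherian Y'] [IrreducibleSpace X']
    [IrreducibleSpace Y'] (f : X ⟶ Y) (j : Y' ⟶ Y) (g : X' ⟶ X) (f' : X' ⟶ Y')
    [LocallyOfFiniteType f'] [IsDominant f'] (w : g ≫ f = f' ≫ j)
    (hY' : ∀ y' : Y', CAlg.IsUniversallyCatenary (Y'.presheaf.stalk y'))
    (hg : ∀ z' : X', Function.Bijective (g.stalkMap z'))
    (hj : ∀ y' : Y', Function.Bijective (j.stalkMap y')) (x' : X') :
    Formula f (g x') (g (genericPoint X')) := by
  obtain ⟨hq, hp, e1, e2, hform⟩ := stalk_dim_eq_of_irreducible hY' f' x'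
  have hpt : ∀ z' : X', j (f' z') = f (g z') := by
    intro z'
    have : (f' ≫ j) z' = (g ≫ f) z' := by rw [w]
    exact this
  refine ⟨hq, hp, ?_, ?_, ?_⟩
  · rw [← ringKrullDim_stalk_eq_of_bijective g x' (hg x')]; exact e1
  · rw [← congrArg (fun p => ringKrullDim (Y.presheaf.stalk p)) (hpt x'),
      ← ringKrullDim_stalk_eq_of_bijective j (f' x') (hj (f' x'))]
    exact e2
  · rw [← trdeg_residue_square g f' f j w x'
        (residueFieldMap_bijective g x' (hg x').2)
        (residueFieldMap_bijective j (f' x') (hj (f' x')).2),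
      ← trdeg_residue_square g f' f j w (genericPoint X')
        (residueFieldMap_bijective g _ (hg _).2)
        (residueFieldMap_bijective j _ (hj _).2)]
    exact hform

theorem formula_local {X Y : Scheme.{u}} [IsLocallyNoetherian Y] [IrreducibleSpace X]
    [IrreducibleSpace Y] (f : X ⟶ Y) [LocallyOfFiniteType f] [IsDominant f] (x : X)
    (hcat : CAlg.IsUniversallyCatenary (Y.presheaf.stalk (f x))) :
    Formula f x (genericPoint X) := by
  haveI : IsNoetherianRing (Y.presheaf.stalk (f x)) := hcat.1
  haveI : Flat (Y.fromSpecStalk (f x)) := StalkBC.flat_fromSpecStalk Y (f x)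
  haveI : Flat (pullback.fst f (Y.fromSpecStalk (f x))) :=
    MorphismProperty.pullback_fst _ _ inferInstance
  haveI : IsPreimmersion (pullback.fst f (Y.fromSpecStalk (f x))) :=
    MorphismProperty.pullback_fst _ _ inferInstance
  haveI : LocallyOfFiniteType (pullback.snd f (Y.fromSpecStalk (f x))) :=
    MorphismProperty.pullback_snd _ _ inferInstance
  have hY' : ∀ y' : Spec (Y.presheaf.stalk (f x)),
      CAlg.IsUniversallyCatenary ((Spec (Y.presheaf.stalk (f x))).presheaf.stalk y') := by
    intro y'
    have hsp : Y.fromSpecStalk (f x) y' ⤳ f x := by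
      have : Y.fromSpecStalk (f x) y' ∈ Set.range (Y.fromSpecStalk (f x)) := ⟨y', rfl⟩
      rw [Scheme.range_fromSpecStalk] at this; exact this
    letI := (Y.presheaf.stalkSpecializes hsp).hom.toAlgebra
    obtain ⟨T, hT⟩ := RegCodim.isLocalization_stalkSpecializes hsp
    have h1 : CAlg.IsUniversallyCatenary (Y.presheaf.stalk (Y.fromSpecStalk (f x) y')) :=
      UCLoc.isUniversallyCatenary_of_isLocalization T _ hcat
    exact UCLocal.isUniversallyCatenary_of_ringEquiv
      (RingEquiv.ofBijective ((Y.fromSpecStalk (f x)).stalkMap y').hom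
        (StalkBC.bijective_stalkMap (Y.fromSpecStalk (f x)) y')) h1
  obtain ⟨η', hη'⟩ : ∃ η' : Spec (Y.presheaf.stalk (f x)),
      Y.fromSpecStalk (f x) η' = genericPoint Y := by
    have : genericPoint Y ∈ Set.range (Y.fromSpecStalk (f x)) := by
      rw [Scheme.range_fromSpecStalk]; exact genericPoint_specializes (f x)
    exact this
  have hfξ : f (genericPoint X) = genericPoint Y := map_genericPoint f
  obtain ⟨ξ', hξ'1, hξ'2⟩ := Scheme.Pullback.exists_preimage_pullback (f := f)
    (g := Y.fromSpecStalk (f x)) (genericPoint X) η' (by rw [hfξ, hη'])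
  obtain ⟨x', hx'1, hx'2⟩ := Scheme.Pullback.exists_preimage_pullback (f := f)
    (g := Y.fromSpecStalk (f x)) x (IsLocalRing.closedPoint (Y.presheaf.stalk (f x)))
    (by rw [Scheme.fromSpecStalk_closedPoint])
  obtain ⟨hirrY', hgenY'⟩ := irreducible_of_isInducing (Y.fromSpecStalk (f x))
    (Y.fromSpecStalk (f x)).isEmbedding.isInducing η' hη'
  obtain ⟨hirrX', hgenX'⟩ := irreducible_of_isInducing (pullback.fst f (Y.fromSpecStalk (f x)))
    (pullback.fst f (Y.fromSpecStalk (f x))).isEmbedding.isInducing ξ' hξ'1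
  haveI := hirrY'
  haveI := hirrX'
  have hgX' : genericPoint ↥(pullback f (Y.fromSpecStalk (f x))) = ξ' :=
    (genericPoint_spec _).eq hgenX'
  haveI : IsDominant (pullback.snd f (Y.fromSpecStalk (f x))) := ⟨by
    rw [DenseRange, dense_iff_closure_eq, ← Set.univ_subset_iff]
    calc (Set.univ : Set (Spec (Y.presheaf.stalk (f x)))) = closure {η'} := hgenY'.symm
      _ ⊆ closure (Set.range (pullback.snd f (Y.fromSpecStalk (f x)))) :=
        closure_mono (Set.singleton_subset_iff.mpr ⟨ξ', hξ'2⟩)⟩
  have key := core f (Y.fromSpecStalk (f x)) (pullback.fst f (Y.fromSpecStalk (f x)))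
    (pullback.snd f (Y.fromSpecStalk (f x))) pullback.condition hY'
    (fun z' => StalkBC.bijective_stalkMap _ z')
    (fun y' => StalkBC.bijective_stalkMap _ y') x'
  rw [hgX', hx'1, hξ'1] at key
  exact key

end Groth.Agent.Lib.helper26.DimFormLoc
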