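import Mathlib
import Groth.Agent.Lib.helper26.DimFormLoc

universe u
open AlgebraicGeometry CategoryTheory Topology TopologicalSpace CategoryTheory.Limits

namespace Groth.Agent.Lib.helper26.DimFormLoc

open Groth.Agent.Lib.helper7 Groth.Agent.Lib.helper26.DimIneq

theorem trdeg_transport {X Y : Scheme.{u}} (f : X ⟶ Y) (a x : X) (ha : a = x) (m : Cardinal.{u})
    (h : @Algebra.trdeg (Y.residueField (f a)) (X.residueField a) _ _
      (f.residueFieldMap a).hom.toAlgebra = m) :
    @Algebra.trdeg (Y.residueField (f x)) (X.residueField x) _ _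
      (f.residueFieldMap x).hom.toAlgebra = m := by
  subst ha; exact h

theorem main {X Y : Scheme.{u}} [IrreducibleSpace X] [IrreducibleSpace Y]
    [IsLocallyNoetherian Y] (f : X ⟶ Y) [LocallyOfFiniteType f] [IsDominant f] (x : X)
    (hcat : CAlg.IsUniversallyCatenary (Y.presheaf.stalk (f.base x)))
    (h : FlatMor.fibreDimAt f x = topologicalKrullDim ↥(f.fiber (genericPoint Y))) :
    ringKrullDim (X.presheaf.stalk x) =
        ringKrullDim (Y.presheaf.stalk (f.base x)) +
          ringKrullDim ((f.fiber (f.base x)).presheaf.stalk (f.asFiber x)) := by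
  obtain ⟨hq, hp, e1, e2, hform⟩ := formula_local f x hcat
  obtain ⟨n, hn, hfib⟩ := topologicalKrullDim_generic_fiber f
  letI inst : (f.fiber (f x)).Over (Spec (CommRingCat.of (Y.residueField (f x)))) :=
    ⟨f.fiberToSpecResidueField (f x)⟩
  haveI : LocallyOfFiniteType ((f.fiber (f x)) ↘ Spec (CommRingCat.of (Y.residueField (f x)))) :=
    (MorphismProperty.pullback_snd _ _ inferInstance :
      LocallyOfFiniteType (f.fiberToSpecResidueField (f x)))
  have hloc := DimSch.localDim_eq_stalk_add_trdegNat (Y.residueField (f x)) (f.fiber (f x))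
    (f.asFiber x)
  obtain ⟨b, hb⟩ := DimSch.exists_ringKrullDim_stalk_eq_nat (Y.residueField (f x)) (f.fiber (f x))
    (f.asFiber x)
  have hz := DimSch.trdeg_residueFieldMap_eq_fiberTrdegNat f (f x) (f.asFiber x)
  have hz' := trdeg_transport f _ x (Scheme.Hom.fiberι_asFiber f x) _ hz
  set t := DimSch.fiberTrdegNat f (f x) (f.asFiber x) with ht
  have hfd : FlatMor.fibreDimAt f x = ((b + t : ℕ) : WithBot ℕ∞) := by
    unfold FlatMor.fibreDimAt
    rw [hloc, hb]
    push_cast
    rfl
  rw [hfd, hfib] at h
  have hbt : b + t = n := by exact_mod_cast h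
  rw [hz', hn] at hform
  haveI : IsNoetherianRing (Y.presheaf.stalk (f x)) := hcat.1
  have hpfin : ringKrullDim (Y.presheaf.stalk (f x)) < ⊤ := ringKrullDim_lt_top
  rw [e1, e2, hb]
  induction hp using ENat.recTopCoe with
  | top => rw [e2] at hpfin; exact absurd hpfin (lt_irrefl _)
  | coe p =>
    induction hq using ENat.recTopCoe with
    | top =>
      exfalso
      have h1 : (Cardinal.aleph0 : Cardinal.{u}) ≤ ((⊤ : ℕ∞) : Cardinal.{u}) + (t : Cardinal.{u}) := by
        rw [Cardinal.ofENat_top]; exact le_self_add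
      rw [hform] at h1
      have h2 : ((p : ℕ∞) : Cardinal.{u}) + (n : Cardinal.{u}) < Cardinal.aleph0 := by
        rw [Cardinal.ofENat_nat]
        exact_mod_cast Cardinal.nat_lt_aleph0 (p + n)
      exact absurd h1 (not_le.mpr h2)
    | coe q =>
      have h3 : q + t = p + n := by
        rw [Cardinal.ofENat_nat, Cardinal.ofENat_nat] at hform
        exact_mod_cast hform
      have h4 : q = p + b := by omega
      subst h4
      push_cast
      rfl

end Groth.Agent.Lib.helper26.DimFormLoc
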