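import Mathlib
import Groth.Agent.Lib.helper26.DimFun4

universe u
open AlgebraicGeometry CategoryTheory Topology TopologicalSpace IsLocalRing

namespace Groth.Agent.Lib.helper26.DimFun6

open Groth.Agent.Lib.helper26.DimJac Groth.Agent.Lib.helper26.DimPts Groth.Agent.Lib.helper26.DimFun4

theorem topologicalKrullDim_le_zero_of_subsingleton (T : Type*) [TopologicalSpace T]
    [Subsingleton T] : topologicalKrullDim T ≤ 0 := by
  haveI : Subsingleton (IrreducibleCloseds T) := ⟨fun a b => IrreducibleCloseds.ext (by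
    ext t
    constructor
    · intro _
      obtain ⟨s, hs⟩ := b.isIrreducible'.1
      rwa [Subsingleton.elim t s]
    · intro _
      obtain ⟨s, hs⟩ := a.isIrreducible'.1
      rwa [Subsingleton.elim t s])⟩
  exact Order.krullDim_nonpos_of_subsingleton

variable {X : Scheme.{u}}

theorem stalk_dim_le_zero_of_maximal (ξ : X) (hmax : ∀ z : X, z ⤳ ξ → z = ξ) :
    ringKrullDim (X.presheaf.stalk ξ) ≤ 0 := by
  rw [← dim_generizations_eq ξ]
  haveI : Subsingleton ↥{t : X | t ⤳ ξ} :=
    ⟨fun a b => Subtype.ext ((hmax a.1 a.2).trans (hmax b.1 b.2).symm)⟩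
  exact topologicalKrullDim_le_zero_of_subsingleton _

/-- the local ring at a maximal point of a locally Noetherian scheme has finite length. -/
theorem length_stalk_lt_top_of_maximal [IsLocallyNoetherian X] (ξ : X)
    (hmax : ∀ z : X, z ⤳ ξ → z = ξ) :
    Module.length (X.presheaf.stalk ξ) (X.presheaf.stalk ξ) < ⊤ := by
  have h0 := stalk_dim_le_zero_of_maximal ξ hmax
  haveI : Ring.KrullDimLE 0 (X.presheaf.stalk ξ) := by
    rw [Ring.krullDimLE_iff]; exact h0
  haveI : IsArtinianRing (X.presheaf.stalk ξ) := IsNoetherianRing.isArtinianRing_of_krullDimLE_zero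
  rw [lt_top_iff_ne_top, Module.length_ne_top_iff]
  exact isFiniteLength_iff_isNoetherian_isArtinian.mpr ⟨inferInstance, inferInstance⟩

theorem maximal_of_delta_eq {Z : Scheme.{u}} (δ : X → ℤ) (hδ : Cyc.IsDimFun X δ) (i : Z ⟶ X)
    (hinj : Function.Injective i) (k : ℤ) (hZ : ∀ z : Z, δ (i z) ≤ k) (ξ : Z)
    (hξ : δ (i ξ) = k) : ∀ z : Z, z ⤳ ξ → z = ξ := by
  intro z hz
  have h1 : i z ⤳ i ξ := hz.map i.continuous
  by_contra hne
  have hne' : i z ≠ i ξ := fun h => hne (hinj h)
  have hlt : i ξ < i z := by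
    rw [lt_iff_le_not_ge]
    exact ⟨Scheme.le_iff_specializes.mpr h1,
      fun h => hne' (h1.antisymm (Scheme.le_iff_specializes.mp h)).eq⟩
  have := dimFun_lt hδ hlt
  have := hZ z
  omega

end Groth.Agent.Lib.helper26.DimFun6
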