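import Groth.Agent.Lib.helper26.GlueDVR
import Mathlib.RingTheory.Valuation.LocalSubring
import Mathlib.RingTheory.DiscreteValuationRing.TFAE

set_option autoImplicit false
universe u

namespace Groth.Agent.Lib.helper26.DvrDom

open Groth.Agent.Lib.helper26.KrullAkizuki

/-- A valuation subring of `K` containing a one-dimensional Noetherian domain with fraction field
`K` and not equal to `K` is a DVR (Krull–Akizuki). -/
theorem isDiscreteValuationRing_of_le {K : Type u} [Field K] (A : Subring K) [IsFractionRing A K]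
    [IsNoetherianRing A] (hdim : ringKrullDim A = 1) (O : ValuationSubring K)
    (hAO : A ≤ O.toSubring) (c : K) (hc0 : c ≠ 0) (hc : c ∈ O.nonunits) :
    IsDiscreteValuationRing O := by
  haveI : Ring.KrullDimLE 1 A := Ring.krullDimLE_iff.2 (by rw [hdim]; exact le_rfl)
  letI : Algebra A O := (Subring.inclusion hAO).toAlgebra
  haveI : IsScalarTower A O K := IsScalarTower.of_algebraMap_eq (fun _ => rfl)
  haveI : IsNoetherianRing O := krullAkizuki A K K O (fun x y h => Subtype.ext h)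
  have hnf : ¬ IsField O := by
    intro hF
    have hcO : c ∈ O := O.nonunits_subset hc
    obtain ⟨w, hw⟩ := hF.mul_inv_cancel (a := (⟨c, hcO⟩ : O)) (fun h => hc0 (congrArg Subtype.val h))
    have h1 : c * (w : K) = 1 := congrArg Subtype.val hw
    have h2 : c⁻¹ = w := (eq_inv_of_mul_eq_one_right h1).symm ▸ rfl
    rw [ValuationSubring.mem_nonunits_iff_exists_mem_maximalIdeal] at hc
    obtain ⟨hcO', hcm⟩ := hc
    apply (IsLocalRing.mem_maximalIdeal _).1 hcm
    rw [isUnit_iff_exists_inv]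
    exact ⟨w, Subtype.ext h1⟩
  have h : IsDiscreteValuationRing O ↔ ValuationRing O :=
    (IsDiscreteValuationRing.TFAE O hnf).out 0 1
  exact h.2 inferInstance


/-- Stacks-style criterion: `A ⊔ B ≠ ⊤` iff some DVR of `K` contains both. -/
theorem sup_ne_top_iff (K : Type u) [Field K]
    (A : Subring K) [IsFractionRing A K] (B : Subring K) [IsNoetherianRing A]
    (hdim : ringKrullDim A = 1) :
    A ⊔ B ≠ ⊤ ↔ ∃ O : ValuationSubring K, IsDiscreteValuationRing O ∧ A ≤ O.toSubring ∧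
      B ≤ O.toSubring := by
  constructor
  · intro hne
    -- pick z ∉ A ⊔ B
    obtain ⟨z, hz⟩ : ∃ z : K, z ∉ A ⊔ B := by
      by_contra h
      push Not at h
      exact hne (eq_top_iff.2 (fun z _ => h z))
    obtain ⟨a₁, a₂, ha₂, hza⟩ := IsFractionRing.div_surjective (A := A) z
    have ha₂0 : a₂ ≠ 0 := nonZeroDivisors.ne_zero ha₂
    have ha₂K : (a₂ : K) ≠ 0 := fun h => ha₂0 (Subtype.ext h)
    have hleA : A ≤ A ⊔ B := le_sup_left
    -- `a₂` is a nonunit of `C = A ⊔ B`
    have hnu : ¬ IsUnit (⟨a₂, hleA a₂.2⟩ : ↥(A ⊔ B)) := by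
      intro hu
      obtain ⟨w, hw⟩ := hu.exists_right_inv
      have h1 : (a₂ : K) * (w : K) = 1 := congrArg Subtype.val hw
      apply hz
      have : z = (a₁ : K) * (w : K) := by
        rw [← hza]
        change (a₁ : K) / (a₂ : K) = _
        rw [div_eq_iff ha₂K, mul_assoc, mul_comm (w : K), h1, mul_one]
      rw [this]
      exact Subring.mul_mem _ (hleA a₁.2) w.2
    have hI : Ideal.span {(⟨a₂, hleA a₂.2⟩ : ↥(A ⊔ B))} ≠ ⊤ := by
      rwa [Ne, Ideal.span_singleton_eq_top]
    obtain ⟨O, hCO, hO⟩ := Ideal.image_subset_nonunits_valuationSubring _ hI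
    have hc : (a₂ : K) ∈ O.nonunits :=
      hO ⟨⟨a₂, hleA a₂.2⟩, Ideal.subset_span rfl, rfl⟩
    refine ⟨O, ?_, hleA.trans hCO, (le_sup_right : B ≤ A ⊔ B).trans hCO⟩
    exact isDiscreteValuationRing_of_le A hdim O (hleA.trans hCO) _ ha₂K hc
  · rintro ⟨O, hO, hAO, hBO⟩ htop
    have hle : A ⊔ B ≤ O.toSubring := sup_le hAO hBO
    rw [htop, top_le_iff] at hle
    haveI : IsDiscreteValuationRing ↥O.toSubring := hO
    obtain ⟨π, hπm, hπ0⟩ := Submodule.exists_mem_ne_zero_of_ne_bot
      (IsDiscreteValuationRing.not_a_field ↥O.toSubring)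
    have hπK : (π : K) ≠ 0 := fun h => hπ0 (Subtype.ext h)
    have hinv : (π : K)⁻¹ ∈ O.toSubring := ((SetLike.ext_iff.1 hle) ((π : K)⁻¹)).2 trivial
    have hunit : IsUnit π := by
      rw [isUnit_iff_exists_inv]
      refine ⟨⟨(π : K)⁻¹, hinv⟩, ?_⟩
      apply Subtype.ext
      change (π : K) * (π : K)⁻¹ = 1
      exact mul_inv_cancel₀ hπK
    exact (IsLocalRing.mem_maximalIdeal _).1 hπm hunit

end Groth.Agent.Lib.helper26.DvrDom
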