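import Mathlib

set_option autoImplicit false

namespace Groth.Agent.Lib.helper26.DvrOut

open IsLocalRing

/-- integral closedness passes to localizations. -/
theorem mem_range_of_isIntegral_localization {A B : Type*} [CommRing A] [CommRing B] [Algebra A B]
    (hic : ∀ b : B, IsIntegral A b → b ∈ (algebraMap A B).range)
    (M : Submonoid A) (AM BM : Type*) [CommRing AM] [CommRing BM] [Algebra A AM] [Algebra B BM]
    [Algebra A BM] [Algebra AM BM] [IsScalarTower A AM BM] [IsScalarTower A B BM]
    [IsLocalization M AM] [IsLocalization (Algebra.algebraMapSubmonoid B M) BM]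
    (x : BM) (hx : IsIntegral AM x) : x ∈ (algebraMap AM BM).range := by
  obtain ⟨⟨m₂, hm₂⟩, hm₂x⟩ := IsIntegral.exists_multiple_integral_of_isLocalization M x hx
  obtain ⟨⟨b, ⟨_, m₁, hm₁, rfl⟩⟩, e⟩ := IsLocalization.surj (Algebra.algebraMapSubmonoid B M) x
  simp only [Submonoid.smul_def, Algebra.smul_def] at hm₂x
  simp only at e
  have h1 : IsIntegral A (algebraMap B BM (m₂ • b)) := by
    have : algebraMap B BM (m₂ • b) = algebraMap A BM m₂ * x * algebraMap A BM m₁ := by
      rw [Algebra.smul_def, map_mul, ← e, ← IsScalarTower.algebraMap_apply,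
        ← IsScalarTower.algebraMap_apply]
      ring
    rw [this]
    exact hm₂x.mul isIntegral_algebraMap
  obtain ⟨m₃, hm₃, hm₃b⟩ := IsLocalization.exists_isIntegral_smul_of_isIntegral_map (Sₘ := BM)
    M (x := m₂ • b) h1
  obtain ⟨a, ha⟩ := hic _ hm₃b
  have hmem : m₃ * m₂ * m₁ ∈ M := mul_mem (mul_mem hm₃ hm₂) hm₁
  refine ⟨IsLocalization.mk' AM a ⟨m₃ * m₂ * m₁, hmem⟩, ?_⟩
  have hu : IsUnit (algebraMap A BM (m₃ * m₂ * m₁)) := by
    rw [IsScalarTower.algebraMap_apply A AM BM]
    exact (IsLocalization.map_units AM ⟨m₃ * m₂ * m₁, hmem⟩).map _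
  apply hu.mul_left_injective
  dsimp only
  have h2 : algebraMap AM BM (IsLocalization.mk' AM a ⟨m₃ * m₂ * m₁, hmem⟩) *
      algebraMap A BM (m₃ * m₂ * m₁) = algebraMap A BM a := by
    rw [IsScalarTower.algebraMap_apply A AM BM, ← map_mul, IsLocalization.mk'_spec_mk,
      ← IsScalarTower.algebraMap_apply]
  rw [h2, IsScalarTower.algebraMap_apply A B BM, ha, Algebra.smul_def, Algebra.smul_def, map_mul,
    map_mul, ← e, ← IsScalarTower.algebraMap_apply, ← IsScalarTower.algebraMap_apply,
    map_mul, map_mul, ← IsScalarTower.algebraMap_apply]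
  ring

/-- prime avoidance: a height one prime of a Noetherian ring contains an element avoiding all
minimal primes. -/
theorem exists_mem_forall_notMem_minimalPrimes {A : Type*} [CommRing A] [IsNoetherianRing A]
    (q : Ideal A) [q.IsPrime] (hq : q.height = 1) :
    ∃ g ∈ q, ∀ p ∈ minimalPrimes A, g ∉ p := by
  have hfin : (minimalPrimes A).Finite := minimalPrimes.finite_of_isNoetherianRing A
  by_contra hcon
  push Not at hcon
  have hsub : (q : Set A) ⊆ ⋃ p ∈ (↑hfin.toFinset : Set (Ideal A)), ((fun p => p) p : Set A) := by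
    intro g hg
    obtain ⟨p, hp, hgp⟩ := hcon g hg
    exact Set.mem_iUnion₂.2 ⟨p, by simpa using hp, hgp⟩
  obtain ⟨p, hp, hqp⟩ := (Ideal.subset_union_prime (R := A) (f := fun p => p) ⊥ ⊥
    (fun p hp _ _ => (hfin.mem_toFinset.1 hp).1.1)).1 hsub
  have hp' := hfin.mem_toFinset.1 hp
  haveI := hp'.1.1
  have h0 : p.height = 0 := Ideal.height_eq_zero_iff.2 hp'
  have : q.height ≤ p.height := Ideal.height_mono hqp
  rw [hq, h0] at this
  exact absurd this (by simp)

/-- the key step: if no prime of `C` lies over the height one prime `q`, then some `h ∉ q` is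
divisible by `g` in `C`. -/
theorem exists_mul_eq {A C : Type*} [CommRing A] [CommRing C] (φ : A →+* C)
    (q : Ideal A) [q.IsPrime] (hq : q.height = 1)
    (g : A) (hg : ∀ p ∈ minimalPrimes A, g ∉ p)
    (hφ : ∀ P : Ideal C, P.IsPrime → P.comap φ ≠ q) :
    ∃ h, h ∉ q ∧ ∃ c, φ g * c = φ h := by
  by_contra hcon
  push Not at hcon
  have hle : (Ideal.span {φ g}).comap φ ≤ q := by
    intro h hh
    by_contra hhq
    rw [Ideal.mem_comap, Ideal.mem_span_singleton'] at hh
    obtain ⟨c, hc⟩ := hh
    exact hcon h hhq c (by rw [mul_comm]; exact hc)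
  obtain ⟨q₀, hq₀, hq₀q⟩ := Ideal.exists_minimalPrimes_le hle
  obtain ⟨P, hP, hgP, hPq₀⟩ := Ideal.exists_comap_eq_of_mem_minimalPrimes φ q₀ hq₀
  have := hq₀.1.1
  have hgq₀ : g ∈ q₀ := by
    rw [← hPq₀, Ideal.mem_comap]
    exact hgP (Ideal.subset_span rfl)
  have hne : q₀ ≠ q := fun h => hφ P hP (hPq₀.trans h)
  have hlt : q₀ < q := lt_of_le_of_ne hq₀q hne
  have : q.FiniteHeight := by
    rw [Ideal.finiteHeight_iff]
    right
    rw [hq]; simp
  have h1 := Ideal.height_strict_mono_of_isPrime_of_isPrime hlt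
  rw [hq] at h1
  have h0 : q₀.height = 0 := by
    exact ENat.lt_one_iff_eq_zero.1 h1
  exact hg q₀ (Ideal.height_eq_zero_iff.1 h0) hgq₀


section local_

variable {R : Type*} [CommRing R] [IsLocalRing R] [IsNoetherianRing R]

theorem eq_maximalIdeal_or_mem_minimalPrimes (hdim : ringKrullDim R = 1) (P : Ideal R)
    [P.IsPrime] : P = maximalIdeal R ∨ P ∈ minimalPrimes R := by
  by_cases hP : P = maximalIdeal R
  · exact Or.inl hP
  right
  have hlt : P < maximalIdeal R := lt_of_le_of_ne (le_maximalIdeal Ideal.IsPrime.ne_top') hP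
  have h1 := Ideal.height_strict_mono_of_isPrime_of_isPrime hlt
  have h2 : ((maximalIdeal R).height : WithBot ℕ∞) = 1 := by
    rw [IsLocalRing.maximalIdeal_height_eq_ringKrullDim, hdim]
  have h3 : (maximalIdeal R).height = 1 := by exact_mod_cast h2
  rw [h3] at h1
  exact Ideal.height_eq_zero_iff.1 (ENat.lt_one_iff_eq_zero.1 h1)

variable [IsReduced R]

theorem exists_isDVR_of_local (hdim : ringKrullDim R = 1) (g : R) (hgm : g ∈ maximalIdeal R)
    (hg : ∀ p ∈ minimalPrimes R, g ∉ p)
    (S : Type*) [CommRing S] [Algebra R S] [IsLocalization.Away g S]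
    (hic : ∀ x : S, IsIntegral R x → x ∈ (algebraMap R S).range) :
    ∃ _ : IsDomain R, IsDiscreteValuationRing R := by
  classical
  have hSred : IsReduced S :=
    isReduced_of_injective (IsLocalization.algEquiv (Submonoid.powers g) S (Localization.Away g))
      (AlgEquiv.injective _)
  -- F1
  have F1 : ∀ P : Ideal R, P.IsPrime → g ∉ P → P ∈ minimalPrimes R := by
    intro P hP hgP
    rcases eq_maximalIdeal_or_mem_minimalPrimes hdim P with h | h
    · exact absurd (h ▸ hgm) hgP
    · exact h
  have hcomap : ∀ P' : Ideal S, P'.IsPrime → P'.comap (algebraMap R S) ∈ minimalPrimes R := by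
    intro P' hP'
    refine F1 _ (Ideal.IsPrime.comap _) ?_
    intro hmem
    rw [Ideal.mem_comap] at hmem
    exact hP'.ne_top (Ideal.eq_top_of_isUnit_mem _ hmem
      (IsLocalization.map_units S (⟨g, Submonoid.mem_powers g⟩ : Submonoid.powers g)))
  have F2 : ∀ P₁ P₂ : Ideal S, P₁.IsPrime → P₂.IsPrime → P₁ ≤ P₂ → P₁ = P₂ := by
    intro P₁ P₂ h₁ h₂ hle
    have e : P₁.comap (algebraMap R S) = P₂.comap (algebraMap R S) := by
      have hm2 := hcomap P₂ h₂
      have hm1 := hcomap P₁ h₁
      exact le_antisymm (Ideal.comap_mono hle) (hm2.2 hm1.1 (Ideal.comap_mono hle))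
    rw [← IsLocalization.map_under (Submonoid.powers g) S P₁,
      ← IsLocalization.map_under (Submonoid.powers g) S P₂, Ideal.under_def, Ideal.under_def, e]
  have hmapprime : ∀ p ∈ minimalPrimes R, (p.map (algebraMap R S)).IsPrime ∧
      (p.map (algebraMap R S)).comap (algebraMap R S) = p := by
    intro p hp
    have hd : Disjoint (Submonoid.powers g : Set R) (p : Set R) := by
      haveI := hp.1.1
      exact (Ideal.disjoint_powers_iff_notMem_of_isPrime g).2 (hg p hp)
    exact ⟨IsLocalization.isPrime_of_isPrime_disjoint _ S p hp.1.1 hd,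
      IsLocalization.under_map_of_isPrime_disjoint _ S hp.1.1 hd⟩
  have hfin : (minimalPrimes R).Finite := minimalPrimes.finite_of_isNoetherianRing R
  -- uniqueness of the minimal prime
  have huniq : ∀ q₁ ∈ minimalPrimes R, ∀ q₂ ∈ minimalPrimes R, q₁ = q₂ := by
    intro q₁ hq₁ q₂ hq₂
    by_contra hne
    set I : Ideal S := q₁.map (algebraMap R S) with hI
    set F : Finset (Ideal R) := hfin.toFinset.erase q₁ with hF
    set J : Ideal S := F.inf (fun p => p.map (algebraMap R S)) with hJ
    have hIprime := (hmapprime q₁ hq₁).1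
    have hq₂F : q₂ ∈ F := Finset.mem_erase.2 ⟨fun h => hne h.symm, hfin.mem_toFinset.2 hq₂⟩
    have hJq₂ : J ≤ q₂.map (algebraMap R S) := Finset.inf_le hq₂F
    have hsup : I ⊔ J = ⊤ := by
      by_contra hne'
      obtain ⟨𝔐, h𝔐, hle⟩ := Ideal.exists_le_maximal _ hne'
      have hI𝔐 : I = 𝔐 := F2 I 𝔐 hIprime h𝔐.isPrime (le_sup_left.trans hle)
      have hJI : J ≤ I := hI𝔐 ▸ (le_sup_right.trans hle)
      obtain ⟨p, hpF, hpI⟩ := (Ideal.IsPrime.inf_le' hIprime).1 hJI
      have hpmin : p ∈ minimalPrimes R := hfin.mem_toFinset.1 (Finset.mem_of_mem_erase hpF)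
      have hpI' := F2 _ _ (hmapprime p hpmin).1 hIprime hpI
      have : p = q₁ := by
        rw [← (hmapprime p hpmin).2, hpI', (hmapprime q₁ hq₁).2]
      exact (Finset.mem_erase.1 hpF).1 this
    have hinf : I ⊓ J = ⊥ := by
      rw [eq_bot_iff]
      intro x hx
      have hxnil : x ∈ nilradical S := by
        rw [nilradical_eq_sInf, Ideal.mem_sInf]
        intro P' hP'
        have hP'' : P'.IsPrime := hP'
        have hm := hcomap P' hP''
        rw [← IsLocalization.map_under (Submonoid.powers g) S P', Ideal.under_def]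
        by_cases hpq : P'.comap (algebraMap R S) = q₁
        · rw [hpq]; exact hx.1
        · have : P'.comap (algebraMap R S) ∈ F :=
            Finset.mem_erase.2 ⟨hpq, hfin.mem_toFinset.2 hm⟩
          exact (Finset.inf_le (f := fun p : Ideal R => p.map (algebraMap R S)) this) hx.2
      rw [nilradical_eq_zero] at hxnil
      exact hxnil
    obtain ⟨a, ha, b, hb, hab⟩ := Submodule.mem_sup.1 (hsup ▸ Submodule.mem_top : (1 : S) ∈ I ⊔ J)
    have hab0 : a * b = 0 := by
      have : a * b ∈ I ⊓ J := ⟨Ideal.mul_mem_right _ _ ha, Ideal.mul_mem_left _ _ hb⟩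
      rw [hinf] at this
      exact this
    have haa : a * a = a := by
      have : a * a = a * (a + b) - a * b := by ring
      rw [this, hab, hab0]; ring
    have haint : IsIntegral R a := by
      refine ⟨Polynomial.X ^ 2 - Polynomial.X, ?_, ?_⟩
      · exact Polynomial.monic_X_pow_sub (by simp)
      · simp [pow_two, haa]
    obtain ⟨r, hr⟩ := hic a haint
    rcases IsLocalRing.isUnit_or_isUnit_one_sub_self r with hu | hu
    · have : IsUnit a := hr ▸ hu.map (algebraMap R S)
      exact hIprime.ne_top (Ideal.eq_top_of_isUnit_mem _ ha this)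
    · have h1 : algebraMap R S (1 - r) = b := by
        rw [map_sub, map_one]
        have : algebraMap R S r = a := hr
        rw [this, ← hab]; ring
      have : IsUnit b := h1 ▸ hu.map (algebraMap R S)
      exact (hmapprime q₂ hq₂).1.ne_top (Ideal.eq_top_of_isUnit_mem _ (hJq₂ hb) this)
  -- domain
  obtain ⟨q₀, hq₀, -⟩ := Ideal.exists_minimalPrimes_le (I := (⊥ : Ideal R))
    (J := maximalIdeal R) bot_le
  have hq₀' : q₀ ∈ minimalPrimes R := hq₀
  have hmineq : minimalPrimes R = {q₀} := by
    ext p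
    simp only [Set.mem_singleton_iff]
    exact ⟨fun hp => huniq p hp q₀ hq₀', fun hp => hp ▸ hq₀'⟩
  have hq₀bot : q₀ = ⊥ := by
    have h1 : sInf (minimalPrimes R) = (⊥ : Ideal R).radical := Ideal.sInf_minimalPrimes
    rw [hmineq, sInf_singleton] at h1
    rw [h1]
    exact Ideal.radical_bot_of_isReduced
  haveI hbotprime : (⊥ : Ideal R).IsPrime := hq₀bot ▸ hq₀'.1.1
  haveI hdom : IsDomain R := IsDomain.of_bot_isPrime R
  have hminbot : ∀ p ∈ minimalPrimes R, p = ⊥ := fun p hp => (huniq p hp q₀ hq₀').trans hq₀bot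
  have hg0 : g ≠ 0 := fun h => hg ⊥ (hq₀bot ▸ hq₀') (h ▸ Submodule.zero_mem _)
  have hinjS : Function.Injective (algebraMap R S) :=
    IsLocalization.injective S (M := Submonoid.powers g)
      (powers_le_nonZeroDivisors_of_noZeroDivisors hg0)
  haveI hfrac : IsFractionRing R S := by
    refine IsLocalization.of_le (M := Submonoid.powers g) (S := S) (nonZeroDivisors R)
      (powers_le_nonZeroDivisors_of_noZeroDivisors hg0) ?_
    intro r hr
    by_contra hnu
    obtain ⟨𝔐, h𝔐, hmem⟩ := exists_max_ideal_of_mem_nonunits hnu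
    have := hminbot _ (hcomap 𝔐 h𝔐.isPrime)
    have hr0 : r ∈ 𝔐.comap (algebraMap R S) := hmem
    rw [this] at hr0
    exact nonZeroDivisors.ne_zero hr hr0
  have hicR : IsIntegrallyClosed R := by
    rw [isIntegrallyClosed_iff S]
    intro x hx
    exact hic x hx
  have hnf : ¬ IsField R := by
    intro hf
    have := ringKrullDim_eq_zero_of_isField hf
    rw [hdim] at this
    exact one_ne_zero this
  have hmbot : maximalIdeal R ≠ ⊥ := IsLocalRing.isField_iff_maximalIdeal_eq.not.mp hnf
  have huq : ∃! P : Ideal R, P ≠ ⊥ ∧ P.IsPrime := by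
    refine ⟨maximalIdeal R, ⟨hmbot, inferInstance⟩, ?_⟩
    rintro P ⟨hPbot, hPprime⟩
    rcases eq_maximalIdeal_or_mem_minimalPrimes hdim P with h | h
    · exact h
    · exact absurd (hminbot P h) hPbot
  have htfae : IsDiscreteValuationRing R ↔
      (IsIntegrallyClosed R ∧ ∃! P : Ideal R, P ≠ ⊥ ∧ P.IsPrime) :=
    (IsDiscreteValuationRing.TFAE R hnf).out 0 3
  exact ⟨hdom, htfae.2 ⟨hicR, huq⟩⟩

end local_

/-- the algebraic heart of Stacks 0AXP. -/
theorem exists_isDVR_atPrime {A B : Type*} [CommRing A] [CommRing B] [Algebra A B]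
    [IsNoetherianRing A] [IsReduced A]
    (hinj : Function.Injective (algebraMap A B))
    (hic : ∀ b : B, IsIntegral A b → b ∈ (algebraMap A B).range)
    (q : Ideal A) [q.IsPrime] (hq : q.height = 1)
    (g : A) (hgq : g ∈ q) (hgmin : ∀ p ∈ minimalPrimes A, g ∉ p)
    (h : A) (hh : h ∉ q) (b : B) (hb : algebraMap A B g * b = algebraMap A B h) :
    ∃ _ : IsDomain (Localization.AtPrime q), IsDiscreteValuationRing (Localization.AtPrime q) := by
  set R := Localization.AtPrime q with hR
  set C := Localization (Algebra.algebraMapSubmonoid B q.primeCompl) with hC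
  set g' : R := algebraMap A R g with hg'
  haveI : IsNoetherianRing R := IsLocalization.isNoetherianRing q.primeCompl R inferInstance
  have hdim : ringKrullDim R = 1 := by
    rw [IsLocalization.AtPrime.ringKrullDim_eq_height q R, hq]; rfl
  have hgm : g' ∈ maximalIdeal R := (IsLocalization.AtPrime.to_map_mem_maximal_iff R q g).2 hgq
  have hg : ∀ p ∈ minimalPrimes R, g' ∉ p := by
    intro p hp hgp
    have h1 : p ∈ (Ideal.map (algebraMap A R) (⊥ : Ideal A)).minimalPrimes := by
      rw [Ideal.map_bot]; exact hp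
    rw [IsLocalization.minimalPrimes_map q.primeCompl R] at h1
    exact hgmin _ h1 hgp
  have hinjRC : Function.Injective (algebraMap R C) :=
    localizationAlgebra_injective (Rₘ := R) (Sₘ := C) hinj
  have hunit : IsUnit (algebraMap R C g') := by
    have h1 : algebraMap R C g' * algebraMap B C b = algebraMap B C (algebraMap A B h) := by
      rw [hg', ← IsScalarTower.algebraMap_apply A R C, IsScalarTower.algebraMap_apply A B C,
        ← map_mul, hb]
    have h2 : IsUnit (algebraMap B C (algebraMap A B h)) :=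
      IsLocalization.map_units C (⟨algebraMap A B h, ⟨h, hh, rfl⟩⟩ :
        Algebra.algebraMapSubmonoid B q.primeCompl)
    rw [← h1] at h2
    exact isUnit_of_mul_isUnit_left h2
  let S := Localization.Away g'
  let ψ : S →+* C := IsLocalization.Away.lift g' hunit
  have hψ : ∀ r : R, ψ (algebraMap R S r) = algebraMap R C r :=
    fun r => IsLocalization.Away.lift_eq g' hunit r
  have hψinj : Function.Injective ψ := by
    rw [injective_iff_map_eq_zero]
    intro x hx
    obtain ⟨⟨r, s⟩, e⟩ := IsLocalization.surj (Submonoid.powers g') x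
    have h1 : algebraMap R C r = 0 := by
      rw [← hψ, ← e, map_mul, hx, zero_mul]
    have h2 : r = 0 := hinjRC (h1.trans (map_zero _).symm)
    rw [h2, map_zero] at e
    exact (IsLocalization.map_units S s).mul_left_eq_zero.1 e
  refine exists_isDVR_of_local hdim g' hgm hg S ?_
  intro x hx
  have h1 : IsIntegral R (ψ x) := by
    letI : Algebra S C := ψ.toAlgebra
    haveI : IsScalarTower R S C := IsScalarTower.of_algebraMap_eq (fun r => (hψ r).symm)
    exact hx.algebraMap (B := C)
  obtain ⟨r, hr⟩ := mem_range_of_isIntegral_localization hic q.primeCompl R C (ψ x) h1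
  refine ⟨r, hψinj ?_⟩
  rw [hψ]; exact hr

end Groth.Agent.Lib.helper26.DvrOut
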