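import Mathlib

set_option autoImplicit false
universe u

namespace Groth.Agent.Lib.helper26.FgAlgClosure

open scoped IntermediateField.algebraAdjoinAdjoin

section
variable {F E : Type*} [Field F] [Field E] [Algebra F E]

/-- elements of the algebraic closure of `F` in `E` that are `F`-linearly independent stay
linearly independent over the polynomial ring generated by an algebraically independent family. -/
theorem linearIndependent_adjoin {ι : Type*} (x : ι → E) (hx : AlgebraicIndependent F x)
    {κ : Type*} [Fintype κ] (m : κ → algebraicClosure F E) (hm : LinearIndependent F m) :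
    LinearIndependent (Algebra.adjoin F (Set.range x)) (fun j => (m j : E)) := by
  classical
  rw [Fintype.linearIndependent_iff]
  intro c hc
  have hxM : AlgebraicIndependent (algebraicClosure F E) x := hx.algebraicClosure
  have hrange : ∀ j, ∃ P : MvPolynomial ι F, MvPolynomial.aeval x P = (c j : E) := by
    intro j
    have h1 : ∀ y : E, y ∈ Algebra.adjoin F (Set.range x) →
        ∃ P : MvPolynomial ι F, MvPolynomial.aeval x P = y := by
      intro y hy
      rw [Algebra.adjoin_range_eq_range_aeval] at hy
      exact hy
    exact h1 _ (c j).2
  choose P hP using hrange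
  let Q : MvPolynomial ι (algebraicClosure F E) :=
    ∑ j, MvPolynomial.C (m j) * MvPolynomial.map (algebraMap F (algebraicClosure F E)) (P j)
  have hQ : MvPolynomial.aeval x Q = 0 := by
    simp only [Q, map_sum, map_mul, MvPolynomial.aeval_C, MvPolynomial.aeval_map_algebraMap]
    rw [← hc]
    refine Finset.sum_congr rfl (fun j _ => ?_)
    rw [hP j, mul_comm]
    rfl
  have hQ0 : Q = 0 := by
    have := (algebraicIndependent_iff_injective_aeval.1 hxM)
    exact this (hQ.trans (map_zero _).symm)
  have hcoeff : ∀ d j, MvPolynomial.coeff d (P j) = 0 := by
    intro d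
    have h1 : ∑ j, MvPolynomial.coeff d (P j) • m j = 0 := by
      have h2 := congrArg (MvPolynomial.coeff d) hQ0
      simp only [Q, MvPolynomial.coeff_sum, MvPolynomial.coeff_C_mul, MvPolynomial.coeff_map,
        MvPolynomial.coeff_zero] at h2
      rw [← h2]
      refine Finset.sum_congr rfl (fun j _ => ?_)
      rw [Algebra.smul_def, mul_comm]
    exact fun j => (Fintype.linearIndependent_iff.1 hm) _ h1 j
  intro j
  have hPj : P j = 0 := by
    ext d
    rw [hcoeff d j, MvPolynomial.coeff_zero]
  apply Subtype.ext
  rw [← hP j, hPj, map_zero]
  rfl

/-- a finitely generated field extension is finite over the field generated by a suitable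
algebraically independent subfamily of the generators. -/
theorem exists_finite_over_adjoin (s : Finset E)
    (hs : IntermediateField.adjoin F (s : Set E) = ⊤) :
    ∃ t : Set E, t ⊆ (s : Set E) ∧ AlgebraicIndependent F ((↑) : t → E) ∧
      FiniteDimensional (IntermediateField.adjoin F t) E := by
  classical
  haveI : Algebra.IsAlgebraic (Algebra.adjoin F (s : Set E)) E := by
    constructor
    intro e
    have he : e ∈ IntermediateField.adjoin F (s : Set E) := by rw [hs]; trivial
    obtain ⟨r, hr, d, hd, rfl⟩ := IntermediateField.mem_adjoin_iff_div.1 he
    by_cases hd0 : d = 0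
    · rw [hd0, div_zero]; exact isAlgebraic_zero
    · refine ⟨Polynomial.C (⟨d, hd⟩ : Algebra.adjoin F (s : Set E)) * Polynomial.X -
        Polynomial.C ⟨r, hr⟩, ?_, ?_⟩
      · intro h0
        have := congrArg (fun p => Polynomial.coeff p 1) h0
        simp only [Polynomial.coeff_sub, Polynomial.coeff_C_mul, Polynomial.coeff_X_one, mul_one,
          Polynomial.coeff_C, one_ne_zero, if_false, sub_zero, Polynomial.coeff_zero] at this
        exact hd0 (congrArg Subtype.val this)
      · simp only [map_sub, map_mul, Polynomial.aeval_C, Polynomial.aeval_X]
        show d * (r / d) - r = 0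
        field_simp
        ring
  obtain ⟨t, hts, ht⟩ := exists_isTranscendenceBasis_subset (R := F) (s : Set E)
  refine ⟨t, hts, ht.1, ?_⟩
  haveI halg : Algebra.IsAlgebraic (IntermediateField.adjoin F t) E := by
    have := ht.isAlgebraic_field
    rwa [Subtype.range_coe] at this
  haveI : Finite (s : Set E) := s.finite_toSet
  have hfin : FiniteDimensional (IntermediateField.adjoin F t)
      (IntermediateField.adjoin (IntermediateField.adjoin F t) (s : Set E)) :=
    IntermediateField.finiteDimensional_adjoin (fun x _ => (halg.isAlgebraic x).isIntegral)
  have htop : IntermediateField.adjoin (IntermediateField.adjoin F t) (s : Set E) = ⊤ := by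
    rw [eq_top_iff]
    intro e _
    have he : e ∈ IntermediateField.adjoin F (s : Set E) := by rw [hs]; trivial
    have hle : IntermediateField.adjoin F (s : Set E) ≤
        (IntermediateField.adjoin (IntermediateField.adjoin F t) (s : Set E)).restrictScalars F := by
      rw [IntermediateField.adjoin_le_iff]
      intro y hy
      exact IntermediateField.subset_adjoin _ _ hy
    exact hle he
  rw [htop] at hfin
  exact Module.Finite.equiv (IntermediateField.topEquiv
    (F := IntermediateField.adjoin F t) (E := E)).toLinearEquiv

/-- the algebraic closure of `F` in a finitely generated field extension is finite over `F`. -/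
theorem finiteDimensional_algebraicClosure_of_fg (s : Finset E)
    (hs : IntermediateField.adjoin F (s : Set E) = ⊤) :
    FiniteDimensional F (algebraicClosure F E) := by
  classical
  obtain ⟨t, -, hx, hfin⟩ := exists_finite_over_adjoin s hs
  rw [FiniteDimensional, ← Module.rank_lt_aleph0_iff]
  refine lt_of_le_of_lt (rank_le (n := Module.finrank (IntermediateField.adjoin F t) E) ?_)
    (Cardinal.nat_lt_aleph0 _)
  intro S hS
  have h1 := linearIndependent_adjoin ((↑) : t → E) hx (fun j : S => (j : algebraicClosure F E)) hS
  rw [Subtype.range_coe] at h1
  rw [LinearIndependent.iff_fractionRing (Algebra.adjoin F t) (IntermediateField.adjoin F t)] at h1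
  have h2 := h1.fintype_card_le_finrank
  simpa using h2

end

end Groth.Agent.Lib.helper26.FgAlgClosure
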