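import Mathlib
import Groth.Prelude.Def_Found
import Groth.Agent.Lib.helper26.FgAlgClosure

set_option autoImplicit false
universe u

namespace Groth.Agent.Lib.helper26.FinNag

attribute [local instance] FractionRing.liftAlgebra

/-- A domain `B` of finite type over a Noetherian N-2 domain `A` (with `A → B` injective): the
integral closure of `A` in `B` is finite. -/
theorem finite_integralClosure_of_isN2 (A B : Type u) [CommRing A] [IsDomain A]
    [IsNoetherianRing A] (hA : CAlg.IsN2 A) [CommRing B] [IsDomain B] [Algebra A B]
    [Algebra.FiniteType A B] (hinj : Function.Injective (algebraMap A B)) :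
    Module.Finite A (integralClosure A B) := by
  classical
  haveI : FaithfulSMul A B := (faithfulSMul_iff_algebraMap_injective A B).2 hinj
  haveI : FaithfulSMul A (FractionRing B) := by
    rw [faithfulSMul_iff_algebraMap_injective, IsScalarTower.algebraMap_eq A B (FractionRing B)]
    exact (IsFractionRing.injective B (FractionRing B)).comp hinj
  obtain ⟨T, hT⟩ := (Algebra.FiniteType.out : (⊤ : Subalgebra A B).FG)
  let s : Finset (FractionRing B) := T.image (algebraMap B (FractionRing B))
  have hB : ∀ b : B, algebraMap B (FractionRing B) b ∈
      IntermediateField.adjoin (FractionRing A) (s : Set (FractionRing B)) := by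
    intro b
    have hb : b ∈ Algebra.adjoin A (T : Set B) := by rw [hT]; trivial
    induction hb using Algebra.adjoin_induction with
    | mem x hx =>
      apply IntermediateField.subset_adjoin
      simp only [s, Finset.coe_image]
      exact ⟨x, hx, rfl⟩
    | algebraMap a =>
      rw [← IsScalarTower.algebraMap_apply A B (FractionRing B),
        IsScalarTower.algebraMap_apply A (FractionRing A) (FractionRing B)]
      exact IntermediateField.algebraMap_mem _ _
    | add x y _ _ hx hy => rw [map_add]; exact add_mem hx hy
    | mul x y _ _ hx hy => rw [map_mul]; exact mul_mem hx hy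
  have hs : IntermediateField.adjoin (FractionRing A) (s : Set (FractionRing B)) = ⊤ := by
    rw [eq_top_iff]
    intro e _
    obtain ⟨b, b', -, rfl⟩ := IsFractionRing.div_surjective (A := B) e
    exact div_mem (hB b) (hB b')
  haveI hfd := FgAlgClosure.finiteDimensional_algebraicClosure_of_fg s hs
  have hfin : Module.Finite A (integralClosure A (algebraicClosure (FractionRing A) (FractionRing B))) :=
    hA (algebraicClosure (FractionRing A) (FractionRing B)) hfd
  have hmem : ∀ b : B, IsIntegral A b → algebraMap B (FractionRing B) b ∈
      algebraicClosure (FractionRing A) (FractionRing B) := by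
    intro b hb
    rw [mem_algebraicClosure_iff']
    exact (hb.map (IsScalarTower.toAlgHom A B (FractionRing B))).tower_top
  haveI htow : IsScalarTower A (algebraicClosure (FractionRing A) (FractionRing B))
      (FractionRing B) := IsScalarTower.of_algebraMap_eq (fun a => rfl)
  have hint : ∀ (b : B) (hb : IsIntegral A b),
      IsIntegral A (⟨algebraMap B (FractionRing B) b, hmem b hb⟩ :
        algebraicClosure (FractionRing A) (FractionRing B)) := by
    intro b hb
    rw [← isIntegral_algHom_iff (IsScalarTower.toAlgHom A
      (algebraicClosure (FractionRing A) (FractionRing B)) (FractionRing B))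
      (algebraMap (algebraicClosure (FractionRing A) (FractionRing B)) (FractionRing B)).injective]
    exact hb.map (IsScalarTower.toAlgHom A B (FractionRing B))
  let j : integralClosure A B →ₗ[A]
      integralClosure A (algebraicClosure (FractionRing A) (FractionRing B)) :=
    { toFun := fun b => ⟨⟨algebraMap B (FractionRing B) b.1, hmem b.1 b.2⟩, hint b.1 b.2⟩
      map_add' := fun x y => by
        apply Subtype.ext; apply Subtype.ext
        simp
      map_smul' := fun a x => by
        apply Subtype.ext; apply Subtype.ext
        simp only [Algebra.smul_def, RingHom.id_apply]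
        show algebraMap B (FractionRing B) (algebraMap A B a * x.1) =
          algebraMap A (FractionRing B) a * algebraMap B (FractionRing B) x.1
        rw [map_mul, ← IsScalarTower.algebraMap_apply A B (FractionRing B)] }
  have hj : Function.Injective j := by
    intro x y hxy
    apply Subtype.ext
    apply IsFractionRing.injective B (FractionRing B)
    exact Subtype.ext_iff.1 (Subtype.ext_iff.1 hxy)
  exact Module.Finite.of_injective j hj

/-- a domain of finite type over a Nagata ring: the integral closure of the base is finite. -/
theorem finite_integralClosure_domain (R : Type u) [CommRing R] (hR : CAlg.IsNagata R)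
    (B : Type u) [CommRing B] [IsDomain B] [Algebra R B] [Algebra.FiniteType R B] :
    Module.Finite R (integralClosure R B) := by
  haveI := hR.1
  haveI hp : (RingHom.ker (algebraMap R B)).IsPrime := RingHom.ker_isPrime _
  have hN2 : CAlg.IsN2 (R ⧸ RingHom.ker (algebraMap R B)) := hR.2 _
  letI algAB : Algebra (R ⧸ RingHom.ker (algebraMap R B)) B :=
    (RingHom.kerLift (algebraMap R B)).toAlgebra
  haveI : IsScalarTower R (R ⧸ RingHom.ker (algebraMap R B)) B :=
    IsScalarTower.of_algebraMap_eq (fun r => rfl)
  have hinj : Function.Injective (algebraMap (R ⧸ RingHom.ker (algebraMap R B)) B) :=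
    RingHom.kerLift_injective _
  haveI : Algebra.FiniteType (R ⧸ RingHom.ker (algebraMap R B)) B :=
    Algebra.FiniteType.of_restrictScalars_finiteType R _ B
  have h1 := finite_integralClosure_of_isN2 (R ⧸ RingHom.ker (algebraMap R B)) B hN2 hinj
  have h2 : ((integralClosure (R ⧸ RingHom.ker (algebraMap R B)) B).toSubmodule.restrictScalars
      R).FG := Submodule.FG.restrictScalars (Module.Finite.iff_fg.1 h1)
  have h3 : (integralClosure R B).toSubmodule ≤
      (integralClosure (R ⧸ RingHom.ker (algebraMap R B)) B).toSubmodule.restrictScalars R := by
    intro b hb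
    exact IsIntegral.tower_top (A := R ⧸ RingHom.ker (algebraMap R B)) hb
  exact Module.Finite.of_fg (Submodule.FG.of_le h2 h3)

/-- integral closure in a ring embedding into a finite product. -/
theorem finite_integralClosure_of_pi {A : Type*} [CommRing A] [IsNoetherianRing A] {T : Type*}
    [CommRing T] [Algebra A T] {J : Type*} [Finite J] (B : J → Type*) [∀ j, CommRing (B j)]
    [∀ j, Algebra A (B j)] (ρ : ∀ j, T →ₐ[A] B j) (hinj : ∀ t, (∀ j, ρ j t = 0) → t = 0)
    (hfin : ∀ j, Module.Finite A (integralClosure A (B j))) :
    Module.Finite A (integralClosure A T) := by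
  let φ : integralClosure A T →ₗ[A] (∀ j, integralClosure A (B j)) :=
    { toFun := fun t j => ⟨ρ j t.1, t.2.map (ρ j)⟩
      map_add' := fun x y => by
        funext j; apply Subtype.ext; simp
      map_smul' := fun a x => by
        funext j; apply Subtype.ext; simp }
  have hφ : Function.Injective φ := by
    intro x y hxy
    apply Subtype.ext
    rw [← sub_eq_zero]
    apply hinj
    intro j
    rw [map_sub, sub_eq_zero]
    exact congrArg Subtype.val (congrFun hxy j)
  exact Module.Finite.of_injective φ hφ

/-- a reduced algebra of finite type over a Nagata ring: the integral closure of the base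
is finite. -/
theorem finite_integralClosure_of_isNagata (R : Type u) [CommRing R] (hR : CAlg.IsNagata R)
    (S : Type u) [CommRing S] [IsReduced S] [Algebra R S] [Algebra.FiniteType R S] :
    Module.Finite R (integralClosure R S) := by
  haveI := hR.1
  haveI : IsNoetherianRing S := Algebra.FiniteType.isNoetherianRing R S
  haveI : Finite (minimalPrimes S) := minimalPrimes.finite_of_isNoetherianRing S
  refine finite_integralClosure_of_pi (J := minimalPrimes S) (fun q => S ⧸ q.1)
    (fun q => Ideal.Quotient.mkₐ R q.1) ?_ ?_
  · intro t ht
    have h1 : t ∈ sInf (minimalPrimes S) := by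
      rw [Submodule.mem_sInf]
      intro q hq
      exact Ideal.Quotient.eq_zero_iff_mem.1 (ht ⟨q, hq⟩)
    rw [minimalPrimes, Ideal.sInf_minimalPrimes] at h1
    have h2 : t ∈ nilradical S := h1
    rw [nilradical_eq_zero] at h2
    exact h2
  · intro q
    haveI : q.1.IsPrime := Ideal.minimalPrimes_isPrime q.2
    haveI : Algebra.FiniteType R (S ⧸ q.1) :=
      Algebra.FiniteType.of_surjective (Ideal.Quotient.mkₐ R q.1)
        (Ideal.Quotient.mkₐ_surjective R q.1)
    exact finite_integralClosure_domain R hR (S ⧸ q.1)

end Groth.Agent.Lib.helper26.FinNag
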