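import Mathlib
import Groth.Prelude.Def_Found
import Groth.Agent.Lib.helper26.NormAff2

set_option autoImplicit false
universe u
open CategoryTheory CategoryTheory.Limits AlgebraicGeometry

namespace Groth.Agent.Lib.helper26.NormAff

theorem finite_integralClosure_of_isN2 (A L : Type u) [CommRing A] [IsDomain A] [Field L]
    [Algebra A L] [IsFractionRing A L] (h : CAlg.IsN2 A) :
    Module.Finite A (integralClosure A L) := by
  haveI : FaithfulSMul A L := (faithfulSMul_iff_algebraMap_injective A L).2
    (IsFractionRing.injective A L)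
  letI := FractionRing.liftAlgebra A L
  haveI := FractionRing.isScalarTower_liftAlgebra (R := A) (K := L)
  apply h L
  apply Module.Finite.of_surjective (Algebra.linearMap (FractionRing A) L)
  intro l
  obtain ⟨a, s, hs, rfl⟩ := IsFractionRing.div_surjective (A := A) l
  refine ⟨algebraMap A _ a / algebraMap A _ s, ?_⟩
  simp only [Algebra.linearMap_apply, map_div₀, ← IsScalarTower.algebraMap_apply]

section fin
variable (X : Scheme.{u}) [IsIntegral X] [QuasiCompact (gen X)] [QuasiSeparated (gen X)]

/-- the normalization is finite as soon as all chart rings are finite. -/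
theorem isFinite_of_chart
    (h : ∀ U : X.affineOpens, (U.1 : Set X).Nonempty →
      letI := ((gen X).app U.1).hom.toAlgebra
      Module.Finite Γ(X, U.1) (integralClosure Γ(X, U.1)
        Γ(Spec (X.presheaf.stalk (genericPoint X)), gen X ⁻¹ᵁ U.1))) :
    IsFinite (gen X).fromNormalization := by
  refine ⟨fun U hU => ?_⟩
  letI := ((gen X).app U).hom.toAlgebra
  rw [(gen X).fromNormalization_app hU, CommRingCat.hom_comp]
  refine RingHom.Finite.comp (RingHom.Finite.of_surjective _
    (ConcreteCategory.bijective_of_isIso ((gen X).normalizationObjIso hU).inv).2) ?_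
  show Module.Finite Γ(X, U) (integralClosure Γ(X, U)
        Γ(Spec (X.presheaf.stalk (genericPoint X)), gen X ⁻¹ᵁ U))
  by_cases hne : (U : Set X).Nonempty
  · exact h ⟨U, hU⟩ hne
  · have hbot : U = ⊥ := by
      ext x
      simp only [TopologicalSpace.Opens.coe_bot, Set.mem_empty_iff_false, iff_false]
      exact fun hx => hne ⟨x, hx⟩
    have h1 : Subsingleton Γ(X, U) := by
      rw [hbot]; infer_instance
    have h2 : Subsingleton Γ(Spec (X.presheaf.stalk (genericPoint X)), gen X ⁻¹ᵁ U) := by
      rw [← subsingleton_iff_zero_eq_one, ← map_one (algebraMap Γ(X, U) _),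
        ← map_zero (algebraMap Γ(X, U) _)]
      exact congrArg _ (Subsingleton.elim _ _)
    have h3 : Subsingleton (integralClosure Γ(X, U)
        Γ(Spec (X.presheaf.stalk (genericPoint X)), gen X ⁻¹ᵁ U)) :=
      ⟨fun a b => Subtype.ext (Subsingleton.elim _ _)⟩
    infer_instance

end fin

end Groth.Agent.Lib.helper26.NormAff
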