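import Mathlib

set_option autoImplicit false
universe u

namespace Groth.Agent.Lib.helper26.NormGen

theorem height_eq_one_of_integral {A B : Type*} [CommRing A] [IsDomain A] [CommRing B]
    [IsDomain B] [Algebra A B] [Algebra.IsIntegral A B]
    (hinj : Function.Injective (algebraMap A B)) (q : Ideal B) [q.IsPrime] (h : (q.comap (algebraMap A B)).height = 1) : q.height = 1 := by
  apply le_antisymm
  · have : q.height ≤ ((1 : ℕ) : ℕ∞) := by
      rw [Ideal.height_le_iff]
      intro q' hq' hlt
      have h1 : q'.comap (algebraMap A B) < q.comap (algebraMap A B) :=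
        Ideal.IsIntegral.comap_lt_comap (R := A) hlt
      haveI : (q'.comap (algebraMap A B)).IsPrime := Ideal.comap_isPrime _ _
      have h2 : (q'.comap (algebraMap A B)).height < 1 := by
        rw [← h]
        haveI : (q'.comap (algebraMap A B)).FiniteHeight := by
          refine ⟨Or.inr ?_⟩
          have := Ideal.height_mono h1.le
          rw [h] at this
          exact ne_top_of_le_ne_top (by simp) this
        exact Ideal.height_strict_mono_of_isPrime h1
      have h3 : (q'.comap (algebraMap A B)).height = 0 := by
        rwa [ENat.lt_one_iff_eq_zero] at h2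
      rw [Ideal.height_eq_zero_iff_eq_bot] at h3
      have h4 : q' = ⊥ := Ideal.eq_bot_of_comap_eq_bot (R := A) h3
      rw [h4, Ideal.height_bot]
      exact zero_lt_one
    simpa using this
  · rw [Order.one_le_iff_pos, pos_iff_ne_zero, Ne, Ideal.height_eq_zero_iff_eq_bot]
    intro hq
    apply Ideal.ne_bot_of_height_eq_one h
    rw [hq, eq_bot_iff]
    intro a ha
    rw [Ideal.mem_comap, Ideal.mem_bot] at ha
    rw [Ideal.mem_bot]
    exact hinj (ha.trans (map_zero _).symm)

end Groth.Agent.Lib.helper26.NormGen
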