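import Mathlib
import Groth.Prelude.Def_Found
import Groth.Agent.Lib.helper26.NormalLocus

set_option autoImplicit false
universe u

namespace Groth.Agent.Lib.helper26.N1Crit

open Groth.Agent.Lib.helper26.NormalLocus

section
variable {R : Type u} [CommRing R] [IsDomain R]

local notation "K" => FractionRing R

/-- elements of the integral closure with denominator `f ^ n`. -/
def I (f : R) (n : ℕ) : Submodule R K where
  carrier := {x | IsIntegral R x ∧ ∃ a : R, algebraMap R K (f ^ n) * x = algebraMap R K a}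
  add_mem' := by
    rintro x y ⟨hx, a, ha⟩ ⟨hy, b, hb⟩
    exact ⟨hx.add hy, a + b, by rw [mul_add, ha, hb, map_add]⟩
  zero_mem' := ⟨isIntegral_zero, 0, by rw [mul_zero, map_zero]⟩
  smul_mem' := by
    rintro c x ⟨hx, a, ha⟩
    refine ⟨?_, c * a, ?_⟩
    · rw [Algebra.smul_def]
      exact isIntegral_algebraMap.mul hx
    · rw [Algebra.smul_def, mul_left_comm, ha, map_mul]

lemma mem_I {f : R} {n : ℕ} {x : K} :
    x ∈ I f n ↔ IsIntegral R x ∧ ∃ a : R, algebraMap R K (f ^ n) * x = algebraMap R K a := Iff.rfl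

lemma I_mono (f : R) {n m : ℕ} (h : n ≤ m) : I f n ≤ I f m := by
  rintro x ⟨hx, a, ha⟩
  obtain ⟨d, rfl⟩ := Nat.exists_eq_add_of_le h
  refine ⟨hx, f ^ d * a, ?_⟩
  rw [pow_add, map_mul, map_mul, ← ha]
  ring

lemma mul_mem_I {f : R} (hf : f ≠ 0) {n : ℕ} {x : K} (hx : x ∈ I f (n + 1)) :
    algebraMap R K f * x ∈ I f n := by
  obtain ⟨hx, a, ha⟩ := hx
  refine ⟨isIntegral_algebraMap.mul hx, a, ?_⟩
  rw [← ha, pow_succ, map_mul]
  ring

lemma mem_I_succ_of_mul_mem {f : R} {n : ℕ} {x : K} (hx : IsIntegral R x)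
    (h : algebraMap R K f * x ∈ I f n) : x ∈ I f (n + 1) := by
  obtain ⟨-, a, ha⟩ := h
  refine ⟨hx, a, ?_⟩
  rw [← ha, pow_succ, map_mul]
  ring

lemma I_fg [IsNoetherianRing R] {f : R} (hf : f ≠ 0) (n : ℕ) : (I f n).FG := by
  have hne : algebraMap R K (f ^ n) ≠ 0 := by
    intro h0
    have := (IsFractionRing.injective R K) (h0.trans (map_zero _).symm)
    exact pow_ne_zero n hf this
  have hle : I f n ≤ Submodule.span R {(algebraMap R K (f ^ n))⁻¹} := by
    rintro x ⟨-, a, ha⟩
    rw [Submodule.mem_span_singleton]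
    refine ⟨a, ?_⟩
    rw [Algebra.smul_def, ← ha]
    field_simp
  exact Submodule.FG.of_le (Submodule.fg_span_singleton _) hle

/-- the annihilators of the successive quotients. -/
def 𝔞 (f : R) (n : ℕ) : Ideal R where
  carrier := {s | ∀ x ∈ I f (n + 1), s • x ∈ I f n}
  add_mem' := by
    intro s t hs ht x hx
    rw [add_smul]
    exact (I f n).add_mem (hs x hx) (ht x hx)
  zero_mem' := by
    intro x _
    rw [zero_smul]
    exact (I f n).zero_mem
  smul_mem' := by
    intro c s hs x hx
    rw [smul_eq_mul, mul_smul]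
    exact (I f n).smul_mem c (hs x hx)

lemma 𝔞_mono (f : R) (hf : f ≠ 0) : Monotone (𝔞 f) := by
  refine monotone_nat_of_le_succ (fun n s hs x hx => ?_)
  have h1 : algebraMap R K f * x ∈ I f (n + 1) := mul_mem_I hf hx
  have h2 := hs _ h1
  have hx' : IsIntegral R (s • x) := by
    rw [Algebra.smul_def]
    exact isIntegral_algebraMap.mul hx.1
  apply mem_I_succ_of_mul_mem hx'
  rw [Algebra.smul_def] at h2 ⊢
  rw [mul_left_comm]
  exact h2

/-- the main stabilization argument. -/
theorem finite_of_local [IsNoetherianRing R] (f : R) (hf : f ≠ 0)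
    (hcover : ∀ x : K, IsIntegral R x → ∃ n, x ∈ I f n)
    (hloc : ∀ (m : Ideal R) [m.IsMaximal], ∃ n, ∀ x : K, IsIntegral R x →
      ∃ s : R, s ∉ m ∧ s • x ∈ I f n) :
    Module.Finite R (integralClosure R K) := by
  classical
  obtain ⟨N, hN⟩ := monotone_stabilizes_iff_noetherian.2 (inferInstance : IsNoetherian R R)
    ⟨𝔞 f, 𝔞_mono f hf⟩
  replace hN : ∀ m, N ≤ m → 𝔞 f N = 𝔞 f m := hN
  have htop : 𝔞 f N = ⊤ := by
    by_contra hne
    obtain ⟨m, hm, hle⟩ := Ideal.exists_le_maximal _ hne
    haveI := hm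
    obtain ⟨n0, hn0⟩ := hloc m
    set n := max N n0 with hn
    obtain ⟨S, hS⟩ := I_fg hf (n + 1)
    have hz : ∀ z ∈ S, ∃ s : R, s ∉ m ∧ s • z ∈ I f n := by
      intro z hz
      have hzI : z ∈ I f (n + 1) := by
        rw [← hS]; exact Submodule.subset_span hz
      obtain ⟨s, hs, hsz⟩ := hn0 z hzI.1
      exact ⟨s, hs, I_mono f (le_max_right _ _) hsz⟩
    choose! s hs hsz using hz
    have hprod : (∏ z ∈ S, s z) ∉ m := by
      intro hmem
      obtain ⟨z, hzS, hzm⟩ := (hm.isPrime.prod_mem_iff).1 hmem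
      exact hs z hzS hzm
    have hmem : (∏ z ∈ S, s z) ∈ 𝔞 f n := by
      intro x hx
      rw [← hS] at hx
      refine Submodule.span_induction (p := fun x _ => (∏ z ∈ S, s z) • x ∈ I f n)
        ?_ ?_ ?_ ?_ hx
      · intro z hzS
        obtain ⟨c, hc⟩ := Finset.dvd_prod_of_mem s hzS
        rw [hc, mul_comm, mul_smul]
        exact (I f n).smul_mem c (hsz z hzS)
      · rw [smul_zero]; exact (I f n).zero_mem
      · intro x y _ _ hx hy
        rw [smul_add]; exact (I f n).add_mem hx hy
      · intro c x _ hx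
        rw [smul_comm]; exact (I f n).smul_mem c hx
    have h3 : 𝔞 f n = 𝔞 f N := (hN n (le_max_left _ _)).symm
    rw [h3] at hmem
    exact hprod (hle hmem)
  have hstab : ∀ k, I f (N + k) = I f N := by
    intro k
    induction k with
    | zero => rfl
    | succ k ih =>
      refine le_antisymm ?_ (I_mono f (by omega))
      intro x hx
      have h1 : (1 : R) ∈ 𝔞 f (N + k) := by
        have : 𝔞 f (N + k) = ⊤ := by
          rw [← hN (N + k) (by omega)]
          exact htop
        rw [this]; trivial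
      have h2 := h1 x hx
      rw [one_smul, ih] at h2
      exact h2
  have hall : ∀ x : K, IsIntegral R x → x ∈ I f N := by
    intro x hx
    obtain ⟨n, hn⟩ := hcover x hx
    have := I_mono f (Nat.le_add_left n N) hn
    rw [hstab] at this
    exact this
  have hfg := I_fg hf N
  have heq : (integralClosure R K).toSubmodule = I f N := by
    ext x
    exact ⟨fun hx => hall x hx, fun hx => hx.1⟩
  rw [← heq] at hfg
  exact Module.Finite.of_fg hfg

end

end Groth.Agent.Lib.helper26.N1Crit
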