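import Mathlib
import Groth.Prelude.Def_Found
import Groth.Agent.Lib.helper26.N1CritA

set_option autoImplicit false
universe u

namespace Groth.Agent.Lib.helper26.N1Crit

open Groth.Agent.Lib.helper26.NormalLocus

section generic
variable {A Q : Type*} [CommRing A] [CommRing Q] [Algebra A Q]

lemma exists_finset_span (hfin : Module.Finite A (integralClosure A Q)) :
    ∃ T : Finset Q, (∀ t ∈ T, IsIntegral A t) ∧
      ∀ x : Q, IsIntegral A x → x ∈ Submodule.span A (T : Set Q) := by
  classical
  obtain ⟨T0, hT0⟩ := hfin.fg_top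
  refine ⟨T0.image Subtype.val, ?_, ?_⟩
  · intro t ht
    obtain ⟨y, -, rfl⟩ := Finset.mem_image.1 ht
    exact y.2
  · intro x hx
    have h1 : (⟨x, hx⟩ : integralClosure A Q) ∈ Submodule.span A (T0 : Set (integralClosure A Q)) := by
      rw [hT0]; trivial
    have h2 := Submodule.apply_mem_span_image_of_mem_span
      (integralClosure A Q).val.toLinearMap h1
    rw [Finset.coe_image]
    exact h2

lemma finite_of_forall_mem_span [IsNoetherianRing A] (T : Finset Q)
    (h : ∀ x : Q, IsIntegral A x → x ∈ Submodule.span A (T : Set Q)) :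
    Module.Finite A (integralClosure A Q) := by
  have hle : (integralClosure A Q).toSubmodule ≤ Submodule.span A (T : Set Q) :=
    fun x hx => h x hx
  exact Module.Finite.of_fg (Submodule.FG.of_le (Submodule.fg_span T.finite_toSet) hle)

lemma isN1_iff (D F : Type*) [CommRing D] [IsDomain D] [Field F] [Algebra D F]
    [IsFractionRing D F] :
    CAlg.IsN1 D ↔ Module.Finite D (integralClosure D F) := by
  let e : integralClosure D (FractionRing D) ≃ₐ[D] integralClosure D F :=
    AlgEquiv.mapIntegralClosure (FractionRing.algEquiv D F)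
  unfold CAlg.IsN1
  constructor
  · intro h
    exact Module.Finite.equiv e.toLinearEquiv
  · intro h
    exact Module.Finite.equiv e.symm.toLinearEquiv

end generic

section
variable {R : Type u} [CommRing R] [IsDomain R]

local notation "K" => FractionRing R

lemma cover_of_isIntegrallyClosed (f : R) (hf : f ≠ 0)
    (hn : IsIntegrallyClosed (Localization.Away f)) (x : K) (hx : IsIntegral R x) :
    ∃ n, x ∈ I f n := by
  obtain ⟨_, ⟨n, rfl⟩, a, ha⟩ := (isIntegrallyClosed_localization_iff (Submonoid.powers f)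
    (powers_le_nonZeroDivisors_of_noZeroDivisors hf)).1 hn x hx
  exact ⟨n, hx, a, ha⟩

/-- N-1 gives a normal basic open. -/
theorem exists_isIntegrallyClosed_away (h : CAlg.IsN1 R) :
    ∃ f : R, f ≠ 0 ∧ IsIntegrallyClosed (Localization.Away f) := by
  classical
  obtain ⟨T, -, hT⟩ := exists_finset_span (A := R) (Q := K) h
  obtain ⟨b, hb⟩ := IsLocalization.exist_integer_multiples_of_finset (nonZeroDivisors R) T
  have hb0 : (b : R) ≠ 0 := nonZeroDivisors.ne_zero b.2
  refine ⟨b, hb0, ?_⟩
  refine (isIntegrallyClosed_localization_iff (Submonoid.powers (b : R))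
    (powers_le_nonZeroDivisors_of_noZeroDivisors hb0)).2 (fun x hx => ?_)
  refine ⟨b, Submonoid.mem_powers _, ?_⟩
  have hx' := hT x hx
  refine Submodule.span_induction (p := fun x _ => ∃ a : R, algebraMap R K b * x = algebraMap R K a)
    ?_ ?_ ?_ ?_ hx'
  · intro t ht
    obtain ⟨a, ha⟩ := hb t ht
    exact ⟨a, by rw [ha, Algebra.smul_def]⟩
  · exact ⟨0, by rw [mul_zero, map_zero]⟩
  · rintro x y _ _ ⟨a, ha⟩ ⟨c, hc⟩
    exact ⟨a + c, by rw [mul_add, ha, hc, map_add]⟩
  · rintro c x _ ⟨a, ha⟩
    exact ⟨c * a, by rw [Algebra.smul_def, mul_left_comm, ha, map_mul]⟩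

variable (p : Ideal R) [p.IsPrime]

/-- `IsN1` of the localization in terms of the integral closure in `K`. -/
lemma isN1_atPrime_iff :
    CAlg.IsN1 (Localization.AtPrime p) ↔
      Module.Finite (Localization.AtPrime p) (integralClosure (Localization.AtPrime p) K) := by
  exact isN1_iff (Localization.AtPrime p) K

/-- localization of an `R`-submodule of `K`, as an `R_p`-submodule. -/
def J (W : Submodule R K) : Submodule (Localization.AtPrime p) K where
  carrier := {x | ∃ s : R, s ∉ p ∧ s • x ∈ W}
  add_mem' := by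
    rintro x y ⟨s, hs, hx⟩ ⟨t, ht, hy⟩
    refine ⟨s * t, fun h => (‹p.IsPrime›.mem_or_mem h).elim hs ht, ?_⟩
    rw [smul_add]
    refine W.add_mem ?_ ?_
    · rw [mul_comm, mul_smul]; exact W.smul_mem t hx
    · rw [mul_smul]; exact W.smul_mem s hy
  zero_mem' := ⟨1, fun h => ‹p.IsPrime›.ne_top ((Ideal.eq_top_iff_one _).2 h), by
    rw [smul_zero]; exact W.zero_mem⟩
  smul_mem' := by
    rintro c x ⟨s, hs, hx⟩
    obtain ⟨a, u, rfl⟩ := IsLocalization.exists_mk'_eq p.primeCompl c
    refine ⟨s * u, fun h => (‹p.IsPrime›.mem_or_mem h).elim hs u.2, ?_⟩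
    have h1 : algebraMap (Localization.AtPrime p) K (IsLocalization.mk' _ a u) *
        algebraMap R K (u : R) = algebraMap R K a := by
      rw [IsScalarTower.algebraMap_apply R (Localization.AtPrime p) K (u : R), ← map_mul,
        IsLocalization.mk'_spec, ← IsScalarTower.algebraMap_apply]
    have h2 : (s * (u : R)) • (IsLocalization.mk' (Localization.AtPrime p) a u • x) =
        a • (s • x) := by
      rw [Algebra.smul_def, Algebra.smul_def, Algebra.smul_def, Algebra.smul_def, map_mul, ← h1]
      ring
    rw [h2]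
    exact W.smul_mem a hx

lemma mem_J {W : Submodule R K} {x : K} : x ∈ J p W ↔ ∃ s : R, s ∉ p ∧ s • x ∈ W := Iff.rfl

/-- local finiteness gives local stabilization. -/
theorem local_stab (f : R) (hcover : ∀ x : K, IsIntegral R x → ∃ n, x ∈ I f n)
    (h : CAlg.IsN1 (Localization.AtPrime p)) :
    ∃ n, ∀ x : K, IsIntegral R x → ∃ s : R, s ∉ p ∧ s • x ∈ I f n := by
  classical
  rw [isN1_atPrime_iff] at h
  obtain ⟨T, hTint, hT⟩ := exists_finset_span h
  have hgen : ∀ t ∈ T, ∃ n, t ∈ J p (I f n) := by
    intro t ht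
    obtain ⟨u, hu⟩ := IsIntegral.exists_multiple_integral_of_isLocalization p.primeCompl t
      (hTint t ht)
    obtain ⟨n, hn⟩ := hcover _ hu
    exact ⟨n, (u : R), u.2, hn⟩
  choose! n hn using hgen
  refine ⟨T.sup n, fun x hx => ?_⟩
  have hx' : x ∈ Submodule.span (Localization.AtPrime p) (T : Set K) := hT x hx.tower_top
  have hle : Submodule.span (Localization.AtPrime p) (T : Set K) ≤ J p (I f (T.sup n)) := by
    rw [Submodule.span_le]
    intro t ht
    obtain ⟨s, hs, hst⟩ := hn t ht
    exact ⟨s, hs, I_mono f (Finset.le_sup (f := n) ht) hst⟩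
  exact hle hx'

/-- N-1 localizes. -/
theorem isN1_atPrime [IsNoetherianRing R] (h : CAlg.IsN1 R) :
    CAlg.IsN1 (Localization.AtPrime p) := by
  classical
  rw [isN1_atPrime_iff]
  obtain ⟨T, -, hT⟩ := exists_finset_span (A := R) (Q := K) h
  haveI : IsNoetherianRing (Localization.AtPrime p) :=
    IsLocalization.isNoetherianRing p.primeCompl _ inferInstance
  refine finite_of_forall_mem_span T (fun y hy => ?_)
  obtain ⟨u, hu⟩ := IsIntegral.exists_multiple_integral_of_isLocalization p.primeCompl y hy
  have h1 := hT _ hu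
  have h2 : (u : R) • y ∈ Submodule.span (Localization.AtPrime p) (T : Set K) := by
    have hle : Submodule.span R (T : Set K) ≤
        (Submodule.span (Localization.AtPrime p) (T : Set K)).restrictScalars R := by
      rw [Submodule.span_le]
      intro t ht
      exact Submodule.subset_span ht
    exact hle h1
  have hunit : IsUnit (algebraMap R (Localization.AtPrime p) (u : R)) :=
    IsLocalization.map_units _ u
  obtain ⟨v, hv⟩ := hunit
  have h3 : y = (↑v⁻¹ : Localization.AtPrime p) • ((u : R) • y) := by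
    rw [← algebraMap_smul (Localization.AtPrime p) (u : R) y, ← hv, smul_smul,
      Units.inv_mul, one_smul]
  rw [h3]
  exact Submodule.smul_mem _ _ h2

end

end Groth.Agent.Lib.helper26.N1Crit
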