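import Mathlib

set_option autoImplicit false
universe u

namespace Groth.Agent.Lib.helper26.PolyN2

open Polynomial

section field
variable {F F' Ω : Type*} [Field F] [Field F'] [Field Ω] [Algebra F' Ω]
  (p : ℕ) [ExpChar F' p]

/-- an element whose minimal polynomial over `F` becomes a `p^n`-th power of a separable
polynomial over `F'` is separable over `F'`. -/
theorem isSeparable_of_contraction (φ : F →+* F') (x : Ω) (m g : F[X]) (n : ℕ)
    (hexp : expand F (p ^ n) g = m) (hg : g.Separable)
    (hx : aeval x (m.map φ) = 0)
    (hcoeff : ∀ j, φ (g.coeff j) ∈ (iterateFrobenius F' p n).range) :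
    IsSeparable F' x := by
  have hmem : g.map φ ∈ (mapRingHom (iterateFrobenius F' p n)).range := by
    rw [mem_map_range]
    intro j
    rw [coeff_map]
    exact hcoeff j
  obtain ⟨g', hg'⟩ := hmem
  have hg'' : g'.map (iterateFrobenius F' p n) = g.map φ := hg'
  have hsep : g'.Separable := by
    rw [← separable_map (iterateFrobenius F' p n), hg'']
    exact hg.map
  have hpow : g' ^ p ^ n = m.map φ := by
    rw [← map_iterateFrobenius_expand, map_expand, hg'', ← map_expand, hexp]
  have hroot : aeval x g' = 0 := by
    have h1 : aeval x (g' ^ p ^ n) = 0 := by rw [hpow]; exact hx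
    rw [map_pow] at h1
    exact pow_eq_zero_iff (expChar_pow_pos F' p n).ne' |>.1 h1
  exact hsep.of_dvd (minpoly.dvd F' x hroot)

end field

end Groth.Agent.Lib.helper26.PolyN2
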