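import Mathlib
import Groth.Agent.Lib.helper26.PolyN2a

set_option autoImplicit false
universe u

namespace Groth.Agent.Lib.helper26.PolyN2

open Polynomial

section abstract
variable {P F L : Type u} [CommRing P] [IsDomain P] [IsNoetherianRing P] [IsIntegrallyClosed P]
  [Field F] [Algebra P F] [IsFractionRing P F] [Field L] [Algebra F L] [Algebra P L]
  [IsScalarTower P F L] [FiniteDimensional F L]

theorem finite_of_cover (p : ℕ) [ExpChar F p] (s : Finset L)
    (hspan : Submodule.span F (s : Set L) = ⊤) (hint : ∀ a ∈ s, IsIntegral P a) (n : ℕ) (g : L → F[X]) (na : L → ℕ)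
    (hg : ∀ a ∈ s, (g a).Separable ∧ expand F (p ^ na a) (g a) = minpoly F a)
    (hn : ∀ a ∈ s, na a ≤ n)
    (P' : Type u) [CommRing P'] [IsDomain P'] [IsNoetherianRing P'] [IsIntegrallyClosed P']
    (ψ : P →+* P') (inj : Function.Injective ψ) (fin : ψ.Finite)
    (pow : ∀ a ∈ s, ∀ j, ∃ w' : P', w' ^ (p ^ n) = ψ ((minpoly P a).coeff j)) :
    Module.Finite P (integralClosure P L) := by
  classical
  letI : Algebra P P' := ψ.toAlgebra
  haveI : Module.Finite P P' := fin
  let F' := FractionRing P'
  have hinj' : Function.Injective ((algebraMap P' F').comp ψ) :=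
    (IsFractionRing.injective P' F').comp inj
  let φ : F →+* F' := IsFractionRing.lift hinj'
  have hφ : ∀ r : P, φ (algebraMap P F r) = algebraMap P' F' (ψ r) :=
    fun r => IsFractionRing.lift_algebraMap hinj' r
  haveI : ExpChar F' p := expChar_of_injective_ringHom φ.injective p
  let Ω := AlgebraicClosure F'
  letI algFΩ : Algebra F Ω := ((algebraMap F' Ω).comp φ).toAlgebra
  have hFΩ : ∀ c : F, algebraMap F Ω c = algebraMap F' Ω (φ c) := fun c => rfl
  haveI : Algebra.IsAlgebraic F L := Algebra.IsAlgebraic.of_finite F L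
  let ι : L →ₐ[F] Ω := IsAlgClosed.lift
  let S : Set Ω := ι '' (s : Set L)
  let E : IntermediateField F' Ω := IntermediateField.adjoin F' S
  have hsepx : ∀ x ∈ S, IsSeparable F' x := by
    rintro x ⟨a, ha, rfl⟩
    obtain ⟨hgs, hge⟩ := hg a ha
    refine isSeparable_of_contraction p φ (ι a) (minpoly F a) (g a) (na a) hge hgs ?_ ?_
    · have h1 : aeval (ι a) ((minpoly F a).map φ) = aeval (ι a) (minpoly F a) := by
        rw [aeval_def, eval₂_map, aeval_def]
        rfl
      rw [h1, aeval_algHom_apply, minpoly.aeval, map_zero]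
    · intro j
      have hmin : minpoly F a = (minpoly P a).map (algebraMap P F) :=
        minpoly.isIntegrallyClosed_eq_field_fractions' F (hint a ha)
      have hc : (g a).coeff j = algebraMap P F ((minpoly P a).coeff (j * p ^ na a)) := by
        rw [← coeff_expand_mul (expChar_pow_pos F p (na a)) (g a) j, hge, hmin, coeff_map]
      obtain ⟨w', hw'⟩ := pow a ha (j * p ^ na a)
      obtain ⟨d, hd⟩ := Nat.exists_eq_add_of_le (hn a ha)
      refine ⟨algebraMap P' F' (w' ^ p ^ d), ?_⟩
      rw [hc, hφ, ← hw', iterateFrobenius_def, ← map_pow, ← pow_mul, hd, pow_add, mul_comm]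
  haveI : Algebra.IsSeparable F' E :=
    (IntermediateField.isSeparable_adjoin_iff_isSeparable F' Ω).2 hsepx
  haveI : Finite S := (s.finite_toSet.image ι).to_subtype
  haveI : FiniteDimensional F' E :=
    IntermediateField.finiteDimensional_adjoin (fun x hx => (hsepx x hx).isIntegral)
  have hfinC : Module.Finite P' (integralClosure P' E) :=
    IsIntegralClosure.finite P' F' E (integralClosure P' E)
  letI algPC : Algebra P (integralClosure P' E) :=
    ((algebraMap P' (integralClosure P' E)).comp ψ).toAlgebra
  haveI : IsScalarTower P P' (integralClosure P' E) :=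
    IsScalarTower.of_algebraMap_eq (fun _ => rfl)
  haveI : Module.Finite P (integralClosure P' E) := Module.Finite.trans P' _
  haveI : IsNoetherian P (integralClosure P' E) := isNoetherian_of_isNoetherianRing_of_finite P _
  -- membership
  have hmemE : ∀ x : L, ι x ∈ E := by
    intro x
    have hx : x ∈ Submodule.span F (s : Set L) := by rw [hspan]; trivial
    refine Submodule.span_induction (p := fun x _ => ι x ∈ E) ?_ ?_ ?_ ?_ hx
    · intro a ha
      exact IntermediateField.subset_adjoin F' S ⟨a, ha, rfl⟩
    · rw [map_zero]; exact E.zero_mem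
    · intro x y _ _ hx hy
      rw [map_add]; exact E.add_mem hx hy
    · intro c x _ hx
      rw [map_smul, Algebra.smul_def, hFΩ]
      exact E.mul_mem (E.algebraMap_mem _) hx
  have hcomp : ∀ r : P, ι (algebraMap P L r) = algebraMap P' Ω (ψ r) := by
    intro r
    rw [IsScalarTower.algebraMap_apply P F L, ι.commutes, hFΩ, hφ,
      ← IsScalarTower.algebraMap_apply P' F' Ω]
  have hintΩ : ∀ x : L, IsIntegral P x → IsIntegral P' (ι x) := by
    intro x hx
    refine IsIntegral.map_of_comp_eq ψ (ι : L →+* Ω) ?_ hx
    ext r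
    exact (hcomp r).symm
  have hintE : ∀ (x : L) (hx : IsIntegral P x), IsIntegral P' (⟨ι x, hmemE x⟩ : E) := by
    intro x hx
    have h1 : IsIntegral P' (algebraMap E Ω ⟨ι x, hmemE x⟩) := hintΩ x hx
    haveI : IsScalarTower P' E Ω := IsScalarTower.of_algebraMap_eq (fun r => rfl)
    exact (isIntegral_algebraMap_iff (algebraMap E Ω).injective).1 h1
  let j : integralClosure P L →ₗ[P] integralClosure P' E :=
    { toFun := fun x => ⟨⟨ι x.1, hmemE x.1⟩, hintE x.1 x.2⟩
      map_add' := fun x y => by
        apply Subtype.ext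
        apply Subtype.ext
        show ι ((x + y : integralClosure P L) : L) = ι x.1 + ι y.1
        rw [← map_add]
        rfl
      map_smul' := fun r x => by
        apply Subtype.ext
        apply Subtype.ext
        show ι ((r • x : integralClosure P L) : L) = algebraMap P' Ω (ψ r) * ι x.1
        rw [← hcomp, ← map_mul]
        congr 1
        show r • (x : L) = _
        rw [Algebra.smul_def] }
  have hj : Function.Injective j := by
    intro x y hxy
    apply Subtype.ext
    apply ι.toRingHom.injective
    exact congrArg (fun z : integralClosure P' E => ((z : E) : Ω)) hxy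
  exact Module.Finite.of_injective j hj

theorem finite_of_hcover (p : ℕ) [ExpChar F p]
    (hcover : ∀ (T : Finset P) (n : ℕ), ∃ (P' : Type u) (_ : CommRing P') (_ : IsDomain P')
      (_ : IsNoetherianRing P') (_ : IsIntegrallyClosed P') (ψ : P →+* P'),
      Function.Injective ψ ∧ ψ.Finite ∧ ∀ w ∈ T, ∃ w' : P', w' ^ (p ^ n) = ψ w) :
    Module.Finite P (integralClosure P L) := by
  classical
  obtain ⟨s0, b, hb_int⟩ := FiniteDimensional.exists_is_basis_integral P F L
  let s : Finset L := Finset.univ.image b
  have hspan : Submodule.span F (s : Set L) = ⊤ := by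
    rw [Finset.coe_image, Finset.coe_univ, Set.image_univ]
    exact b.span_eq
  have hint : ∀ a ∈ s, IsIntegral P a := by
    intro a ha
    obtain ⟨i, -, rfl⟩ := Finset.mem_image.1 ha
    exact hb_int i
  have hex : ∀ a : L, ∃ (g : F[X]) (m : ℕ), a ∈ s → g.Separable ∧ expand F (p ^ m) g = minpoly F a := by
    intro a
    by_cases ha : a ∈ s
    · have hirr : Irreducible (minpoly F a) :=
        minpoly.irreducible ((hint a ha).tower_top)
      obtain ⟨g, hgs, m, hm⟩ := hirr.hasSeparableContraction p
      exact ⟨g, m, fun _ => ⟨hgs, hm⟩⟩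
    · exact ⟨0, 0, fun h => (ha h).elim⟩
  choose g na hg using hex
  let n := s.sup na
  let T : Finset P := s.biUnion (fun a =>
    (Finset.range ((minpoly P a).natDegree + 1)).image (fun j => (minpoly P a).coeff j))
  obtain ⟨P', _, _, _, _, ψ, inj, fin, pow⟩ := hcover T n
  refine finite_of_cover p s hspan hint n g na hg (fun a ha => Finset.le_sup ha) P' ψ inj fin ?_
  intro a ha j
  by_cases hj : j ≤ (minpoly P a).natDegree
  · refine pow _ ?_
    rw [Finset.mem_biUnion]
    exact ⟨a, ha, Finset.mem_image.2 ⟨j, Finset.mem_range.2 (by omega), rfl⟩⟩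
  · refine ⟨0, ?_⟩
    rw [coeff_eq_zero_of_natDegree_lt (by omega), map_zero,
      zero_pow (expChar_pow_pos F p n).ne']

end abstract

end Groth.Agent.Lib.helper26.PolyN2
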