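import Mathlib
import Groth.Agent.Lib.helper26.PolyN2b

set_option autoImplicit false
universe u

namespace Groth.Agent.Lib.helper26.PolyN2

open MvPolynomial

section cover
variable {k k' : Type u} [Field k] [Field k'] [Algebra k k'] {σ : Type} [Finite σ]

/-- the Frobenius cover `k[X] → k'[X]`, `X ↦ X ^ q`. -/
noncomputable def ψ (q : ℕ) : MvPolynomial σ k →+* MvPolynomial σ k' :=
  (expand q : MvPolynomial σ k' →ₐ[k'] MvPolynomial σ k').toRingHom.comp
    (MvPolynomial.map (algebraMap k k'))

omit [Finite σ] in
lemma ψ_monomial (q : ℕ) (a : σ →₀ ℕ) (c : k) :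
    ψ (k' := k') q (monomial a c) = monomial (q • a) (algebraMap k k' c) := by
  show expand q (MvPolynomial.map (algebraMap k k') (monomial a c)) = _
  rw [map_monomial, expand_monomial]

omit [Finite σ] in
lemma ψ_C (q : ℕ) (c : k) : ψ (σ := σ) (k' := k') q (C c) = C (algebraMap k k' c) := by
  show expand q (MvPolynomial.map (algebraMap k k') (C c)) = _
  rw [map_C, expand_C]

omit [Finite σ] in
lemma ψ_X (q : ℕ) (i : σ) : ψ (k := k) (k' := k') q (X i) = X i ^ q := by
  show expand q (MvPolynomial.map (algebraMap k k') (X i)) = _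
  rw [map_X, expand_X]

omit [Finite σ] in
lemma ψ_injective {q : ℕ} (hq : 0 < q) : Function.Injective (ψ (σ := σ) (k := k) (k' := k') q) := by
  intro x y hxy
  have h1 : expand q (MvPolynomial.map (algebraMap k k') x) =
      expand q (MvPolynomial.map (algebraMap k k') y) := hxy
  exact MvPolynomial.map_injective _ (algebraMap k k').injective (expand_injective hq h1)

lemma ψ_finite [FiniteDimensional k k'] {q : ℕ} (hq : 0 < q) :
    (ψ (σ := σ) (k := k) (k' := k') q).Finite := by
  letI : Algebra (MvPolynomial σ k) (MvPolynomial σ k') := (ψ q).toAlgebra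
  show Module.Finite (MvPolynomial σ k) (MvPolynomial σ k')
  haveI : IsScalarTower k (MvPolynomial σ k) (MvPolynomial σ k') := by
    refine IsScalarTower.of_algebraMap_eq (fun c => ?_)
    show _ = ψ q (algebraMap k (MvPolynomial σ k) c)
    rw [MvPolynomial.algebraMap_eq, ψ_C]
    rfl
  haveI : Algebra.FiniteType k (MvPolynomial σ k') :=
    Algebra.FiniteType.trans (inferInstance : Algebra.FiniteType k k') inferInstance
  haveI : Algebra.FiniteType (MvPolynomial σ k) (MvPolynomial σ k') :=
    Algebra.FiniteType.of_restrictScalars_finiteType k _ _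
  haveI : Algebra.IsIntegral (MvPolynomial σ k) (MvPolynomial σ k') := by
    refine ⟨fun w => ?_⟩
    induction w using MvPolynomial.induction_on with
    | C c =>
      have h1 : IsIntegral k c := Algebra.IsIntegral.isIntegral c
      have h2 : IsIntegral k (C c : MvPolynomial σ k') :=
        h1.map (IsScalarTower.toAlgHom k k' (MvPolynomial σ k'))
      exact h2.tower_top
    | add x y hx hy => exact hx.add hy
    | mul_X x i hx =>
      refine hx.mul ?_
      refine IsIntegral.of_pow hq ?_
      have : (X i : MvPolynomial σ k') ^ q = algebraMap (MvPolynomial σ k) _ (X i) :=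
        (ψ_X q i).symm
      rw [this]
      exact isIntegral_algebraMap
  exact Algebra.IsIntegral.finite

omit [Finite σ] in
lemma exists_pow_eq_ψ (p n : ℕ) [ExpChar k' p] (w : MvPolynomial σ k)
    (hw : ∀ a ∈ w.support, ∃ β : k', β ^ (p ^ n) = algebraMap k k' (w.coeff a)) :
    ∃ w' : MvPolynomial σ k', w' ^ (p ^ n) = ψ (p ^ n) w := by
  classical
  have hex : ∀ a : σ →₀ ℕ, ∃ β : k', a ∈ w.support → β ^ (p ^ n) = algebraMap k k' (w.coeff a) := by
    intro a
    by_cases ha : a ∈ w.support
    · obtain ⟨β, hβ⟩ := hw a ha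
      exact ⟨β, fun _ => hβ⟩
    · exact ⟨0, fun h => (ha h).elim⟩
  choose β hβ using hex
  refine ⟨∑ a ∈ w.support, monomial a (β a), ?_⟩
  rw [sum_pow_char_pow]
  conv_rhs => rw [w.as_sum, map_sum]
  refine Finset.sum_congr rfl (fun a ha => ?_)
  rw [monomial_pow, ψ_monomial, hβ a ha]

end cover

section main
variable (k : Type u) [Field k] (σ : Type) [Finite σ]

theorem hcover_mvPolynomial (p : ℕ) [ExpChar k p] (T : Finset (MvPolynomial σ k)) (n : ℕ) :
    ∃ (P' : Type u) (_ : CommRing P') (_ : IsDomain P')
      (_ : IsNoetherianRing P') (_ : IsIntegrallyClosed P') (ψ : MvPolynomial σ k →+* P'),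
      Function.Injective ψ ∧ ψ.Finite ∧ ∀ w ∈ T, ∃ w' : P', w' ^ (p ^ n) = ψ w := by
  classical
  let B : Finset k := T.biUnion (fun w => w.support.image (fun a => w.coeff a))
  have hq : 0 < p ^ n := expChar_pow_pos k p n
  have hroot : ∀ c : k, ∃ z : AlgebraicClosure k, z ^ (p ^ n) = algebraMap k _ c :=
    fun c => IsAlgClosed.exists_pow_nat_eq _ hq
  choose r hr using hroot
  let S : Set (AlgebraicClosure k) := r '' (B : Set k)
  let k' : IntermediateField k (AlgebraicClosure k) := IntermediateField.adjoin k S
  haveI : Finite S := (B.finite_toSet.image r).to_subtype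
  haveI : FiniteDimensional k k' :=
    IntermediateField.finiteDimensional_adjoin (fun x _ => Algebra.IsIntegral.isIntegral x)
  haveI : ExpChar k' p := expChar_of_injective_algebraMap (algebraMap k k').injective p
  refine ⟨MvPolynomial σ k', inferInstance, inferInstance, inferInstance, inferInstance,
    ψ (p ^ n), ψ_injective hq, ψ_finite hq, fun w hw => ?_⟩
  refine exists_pow_eq_ψ p n w (fun a ha => ?_)
  have hmem : w.coeff a ∈ B := by
    rw [Finset.mem_biUnion]
    exact ⟨w, hw, Finset.mem_image.2 ⟨a, ha, rfl⟩⟩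
  refine ⟨⟨r (w.coeff a), IntermediateField.subset_adjoin k S ⟨_, hmem, rfl⟩⟩, ?_⟩
  apply Subtype.ext
  show r (w.coeff a) ^ (p ^ n) = _
  rw [hr]
  rfl

/-- polynomial rings over a field are N-2. -/
theorem finite_integralClosure_mvPolynomial (L : Type u) [Field L]
    [Algebra (MvPolynomial σ k) L] [Algebra (FractionRing (MvPolynomial σ k)) L]
    [IsScalarTower (MvPolynomial σ k) (FractionRing (MvPolynomial σ k)) L]
    [FiniteDimensional (FractionRing (MvPolynomial σ k)) L] :
    Module.Finite (MvPolynomial σ k) (integralClosure (MvPolynomial σ k) L) := by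
  haveI : ExpChar k (ringExpChar k) := inferInstance
  haveI : ExpChar (FractionRing (MvPolynomial σ k)) (ringExpChar k) :=
    expChar_of_injective_ringHom
      ((algebraMap (MvPolynomial σ k) (FractionRing (MvPolynomial σ k))).comp
        (MvPolynomial.C : k →+* MvPolynomial σ k)).injective _
  exact finite_of_hcover (F := FractionRing (MvPolynomial σ k)) (ringExpChar k)
    (hcover_mvPolynomial k σ (ringExpChar k))

end main

end Groth.Agent.Lib.helper26.PolyN2
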