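import Mathlib
import Groth.Agent.Lib.helper26.PolyN2c

set_option autoImplicit false
universe u

namespace Groth.Agent.Lib.helper26.PolyN2

attribute [local instance] FractionRing.liftAlgebra

/-- a domain of finite type over a field is N-2. -/
theorem finite_integralClosure_of_finiteType (k A K L : Type u) [Field k] [CommRing A] [IsDomain A]
    [Algebra k A] [Algebra.FiniteType k A] [Field K] [Field L] [Algebra A K] [IsFractionRing A K]
    [Algebra K L] [FiniteDimensional K L] [Algebra A L] [IsScalarTower A K L] :
    Module.Finite A (integralClosure A L) := by
  obtain ⟨d, g, hginj, hgfin⟩ := exists_finite_inj_algHom_of_fg k A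
  let P := MvPolynomial (Fin d) k
  letI algPA : Algebra P A := g.toRingHom.toAlgebra
  haveI : Module.Finite P A := hgfin
  haveI : Algebra.IsIntegral P A := Algebra.IsIntegral.of_finite P A
  have hAK : Function.Injective (algebraMap A K) := IsFractionRing.injective A K
  have hKL : Function.Injective (algebraMap K L) := (algebraMap K L).injective
  letI algPK : Algebra P K := ((algebraMap A K).comp g.toRingHom).toAlgebra
  letI algPL : Algebra P L := ((algebraMap A L).comp g.toRingHom).toAlgebra
  haveI : IsScalarTower P A K := IsScalarTower.of_algebraMap_eq (fun _ => rfl)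
  haveI : IsScalarTower P A L := IsScalarTower.of_algebraMap_eq (fun _ => rfl)
  haveI : IsScalarTower P K L := by
    refine IsScalarTower.of_algebraMap_eq (fun x => ?_)
    show algebraMap A L (g x) = algebraMap K L (algebraMap A K (g x))
    rw [← IsScalarTower.algebraMap_apply A K L]
  haveI : FaithfulSMul P A := (faithfulSMul_iff_algebraMap_injective P A).2 hginj
  haveI : FaithfulSMul P K :=
    (faithfulSMul_iff_algebraMap_injective P K).2 (hAK.comp hginj)
  haveI : FaithfulSMul P L := by
    refine (faithfulSMul_iff_algebraMap_injective P L).2 ?_
    intro x y hxy
    apply hginj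
    apply hAK
    apply hKL
    have h1 : algebraMap A L (g x) = algebraMap A L (g y) := hxy
    rw [IsScalarTower.algebraMap_apply A K L, IsScalarTower.algebraMap_apply A K L] at h1
    exact h1
  haveI : Algebra.IsAlgebraic P A := Algebra.IsIntegral.isAlgebraic
  haveI : Module.Finite (FractionRing P) K :=
    Module.Finite.of_isLocalization P A (nonZeroDivisors P)
  haveI : Module.Finite (FractionRing P) L := Module.Finite.trans K L
  have hfin : Module.Finite P (integralClosure P L) :=
    finite_integralClosure_mvPolynomial k (Fin d) L
  let e : integralClosure P L →ₗ[P] integralClosure A L :=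
    { toFun := fun x => ⟨x.1, x.2.tower_top⟩
      map_add' := fun _ _ => rfl
      map_smul' := fun r x => by
        apply Subtype.ext
        show r • (x : L) = r • (x : L)
        rfl }
  have he : Function.Surjective e := by
    intro y
    exact ⟨⟨y.1, isIntegral_trans y.1 y.2⟩, rfl⟩
  haveI : Module.Finite P (integralClosure A L) := Module.Finite.of_surjective e he
  exact Module.Finite.of_restrictScalars_finite P A _

end Groth.Agent.Lib.helper26.PolyN2
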