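import Mathlib
import Groth.Prelude.Def_Curv2
import Groth.Prelude.Def_Pi1
import Groth.Agent.Lib.helper26.NormAff3
import Groth.Agent.Lib.helper26.PolyN2d
import Groth.Agent.Lib.helper26.N1CritB

set_option autoImplicit false
universe u
open CategoryTheory CategoryTheory.Limits AlgebraicGeometry

namespace Groth.Agent.Lib.helper26.NormVar

open Groth.Agent.Lib.helper26.NormAff

/-- sections over an affine open of a scheme locally of finite type over a field form a
finite type algebra. -/
theorem exists_finiteType (k : Type u) [Field k] (X : Scheme.{u}) [X.Over (Spec (CommRingCat.of k))]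
    [LocallyOfFiniteType (X ↘ (Spec (CommRingCat.of k)))] (U : X.affineOpens) :
    ∃ φ : k →+* Γ(X, U.1), φ.FiniteType := by
  have h1 := (HasRingHomProperty.iff_appLE (P := @LocallyOfFiniteType)).mp
    (inferInstance : LocallyOfFiniteType (X ↘ (Spec (CommRingCat.of k))))
    ⟨⊤, isAffineOpen_top _⟩ U le_top
  refine ⟨(((X ↘ (Spec (CommRingCat.of k))).appLE ⊤ U.1 le_top).hom.comp
    (Scheme.ΓSpecIso (CommRingCat.of k)).inv.hom), ?_⟩
  refine RingHom.FiniteType.comp h1 ?_
  exact RingHom.FiniteType.of_surjective _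
    (ConcreteCategory.bijective_of_isIso (Scheme.ΓSpecIso (CommRingCat.of k)).inv).2

section fin

theorem finite_chart (k : Type u) [Field k] (X : Scheme.{u}) [X.Over (Spec (CommRingCat.of k))]
    [LocallyOfFiniteType (X ↘ (Spec (CommRingCat.of k)))] [IsIntegral X] (U : X.affineOpens) (hne : (U.1 : Set X).Nonempty) :
    letI := ((gen X).app U.1).hom.toAlgebra
    Module.Finite Γ(X, U.1) (integralClosure Γ(X, U.1)
      Γ(Spec (X.presheaf.stalk (genericPoint X)), gen X ⁻¹ᵁ U.1)) := by
  have hgen : genericPoint X ∈ U.1 := genericPoint_mem X U.1 hne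
  letI := ((gen X).app U.1).hom.toAlgebra
  letI := (isField_sec X U.1 hgen).toField
  haveI := isFractionRing_sec X U.1 U.2 hgen
  haveI : Nonempty U.1 := ⟨⟨_, hgen⟩⟩
  haveI : IsDomain Γ(X, U.1) := IsIntegral.component_integral U.1
  obtain ⟨φ, hφ⟩ := exists_finiteType k X U
  letI := φ.toAlgebra
  haveI : Algebra.FiniteType k Γ(X, U.1) := hφ
  exact PolyN2.finite_integralClosure_of_finiteType k Γ(X, U.1)
    Γ(Spec (X.presheaf.stalk (genericPoint X)), gen X ⁻¹ᵁ U.1)
    Γ(Spec (X.presheaf.stalk (genericPoint X)), gen X ⁻¹ᵁ U.1)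

theorem isFinite_fromNormalization (k : Type u) [Field k] (X : Scheme.{u})
    [X.Over (Spec (CommRingCat.of k))]
    [LocallyOfFiniteType (X ↘ (Spec (CommRingCat.of k)))] [IsIntegral X]
    [QuasiCompact (gen X)] [QuasiSeparated (gen X)] : IsFinite (gen X).fromNormalization :=
  isFinite_of_chart X (fun U hne => finite_chart k X U hne)

/-- over an affine open whose ring of sections is integrally closed, the normalization is an
isomorphism. -/
theorem isIso_restrict_of_isIntegrallyClosed (X : Scheme.{u}) [IsIntegral X]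
    [QuasiCompact (gen X)] [QuasiSeparated (gen X)] (V : X.affineOpens)
    (hne : (V.1 : Set X).Nonempty) (hic : IsIntegrallyClosed Γ(X, V.1)) :
    IsIso ((gen X).fromNormalization ∣_ V.1) := by
  haveI : IsAffineHom (gen X).fromNormalization := inferInstance
  refine (isIso_morphismRestrict_iff_isIso_app (f := (gen X).fromNormalization) V.2).2 ?_
  have happ := (gen X).fromNormalization_app V.2
  have hgen : genericPoint X ∈ V.1 := genericPoint_mem X V.1 hne
  letI := ((gen X).app V.1).hom.toAlgebra
  letI := (isField_sec X V.1 hgen).toField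
  haveI := isFractionRing_sec X V.1 V.2 hgen
  haveI : Nonempty V.1 := ⟨⟨_, hgen⟩⟩
  haveI : IsDomain Γ(X, V.1) := IsIntegral.component_integral V.1
  have hbij : Function.Bijective (algebraMap Γ(X, V.1) (integralClosure Γ(X, V.1)
      Γ(Spec (X.presheaf.stalk (genericPoint X)), gen X ⁻¹ᵁ V.1))) := by
    constructor
    · intro a b hab
      apply IsFractionRing.injective Γ(X, V.1)
        Γ(Spec (X.presheaf.stalk (genericPoint X)), gen X ⁻¹ᵁ V.1)
      exact congrArg Subtype.val hab
    · rintro ⟨b, hb⟩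
      obtain ⟨a, ha⟩ := IsIntegrallyClosed.isIntegral_iff.1 hb
      exact ⟨a, Subtype.ext ha⟩
  haveI : IsIso (CommRingCat.ofHom (algebraMap Γ(X, V.1) (integralClosure Γ(X, V.1)
      Γ(Spec (X.presheaf.stalk (genericPoint X)), gen X ⁻¹ᵁ V.1)))) := by
    rw [ConcreteCategory.isIso_iff_bijective]
    exact hbij
  rw [happ]
  infer_instance

theorem exists_iso_open (k : Type u) [Field k] (X : Scheme.{u})
    [X.Over (Spec (CommRingCat.of k))]
    [LocallyOfFiniteType (X ↘ (Spec (CommRingCat.of k)))] [IsIntegral X]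
    [QuasiCompact (gen X)] [QuasiSeparated (gen X)] :
    ∃ V : X.Opens, (V : Set X).Nonempty ∧ IsIso ((gen X).fromNormalization ∣_ V) := by
  obtain ⟨U, hgen⟩ := exists_affine_nhd X (genericPoint X)
  have hfin := finite_chart k X U ⟨_, hgen⟩
  letI := ((gen X).app U.1).hom.toAlgebra
  letI := (isField_sec X U.1 hgen).toField
  haveI := isFractionRing_sec X U.1 U.2 hgen
  haveI : Nonempty U.1 := ⟨⟨_, hgen⟩⟩
  haveI : IsDomain Γ(X, U.1) := IsIntegral.component_integral U.1
  have hN1 : CAlg.IsN1 Γ(X, U.1) := (N1Crit.isN1_iff Γ(X, U.1)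
    Γ(Spec (X.presheaf.stalk (genericPoint X)), gen X ⁻¹ᵁ U.1)).2 hfin
  obtain ⟨f, hf0, hf⟩ := N1Crit.exists_isIntegrallyClosed_away hN1
  have haff : IsAffineOpen (X.basicOpen f) := U.2.basicOpen f
  haveI : IsLocalization.Away f Γ(X, X.basicOpen f) := U.2.isLocalization_basicOpen f
  have hne : ((X.basicOpen f : X.Opens) : Set X).Nonempty := by
    by_contra hcon
    have hbot : X.basicOpen f = ⊥ := by
      ext x
      simp only [TopologicalSpace.Opens.coe_bot, Set.mem_empty_iff_false, iff_false]
      exact fun hx => hcon ⟨x, hx⟩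
    exact hf0 ((AlgebraicGeometry.basicOpen_eq_bot_iff f).1 hbot)
  have hic : IsIntegrallyClosed Γ(X, X.basicOpen f) :=
    IsIntegrallyClosed.of_equiv
      (IsLocalization.algEquiv (Submonoid.powers f) (Localization.Away f)
        Γ(X, X.basicOpen f)).toRingEquiv
  exact ⟨X.basicOpen f, hne, isIso_restrict_of_isIntegrallyClosed X ⟨_, haff⟩ hne hic⟩

end fin

end Groth.Agent.Lib.helper26.NormVar
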