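import Mathlib
import Groth.Prelude.Def_Pi1
import Groth.Agent.Lib.helper26.NormAff3
import Groth.Agent.Lib.helper26.PolyN2d
import Groth.Agent.Lib.helper26.NormVar
import Groth.Agent.Lib.helper26.NormGenAlg

set_option autoImplicit false
universe u
open CategoryTheory CategoryTheory.Limits AlgebraicGeometry

namespace Groth.Agent.Lib.helper26.NormGen

open Groth.Agent.Lib.helper26.NormAff

section general
variable {X Y : Scheme.{u}} (f : Y ⟶ X) [QuasiCompact f] [QuasiSeparated f]

theorem exists_point (U : X.affineOpens) (x' : f.normalization)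
    (hx' : f.fromNormalization x' ∈ U.1) :
    ∃ q, (f.normalizationOpenCover.f U) q = x' := by
  have h1 : x' ∈ f.fromNormalization ⁻¹ᵁ U.1 := hx'
  rw [f.fromNormalization_preimage U] at h1
  exact h1

theorem comm_point (U : X.affineOpens) (q) :
    f.fromNormalization ((f.normalizationOpenCover.f U) q) =
      U.2.fromSpec ((Spec.map (f.normalizationDiagramMap.app (.op U.1))) q) := by
  have h2 := f.ι_fromNormalization U
  have h3 := congrArg (fun g => g q) h2
  exact h3

theorem nonempty_stalk_equiv (U : X.affineOpens) (q) :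
    letI := (f.app U.1).hom.toAlgebra
    Nonempty (f.normalization.presheaf.stalk ((f.normalizationOpenCover.f U) q) ≃+*
      Localization.AtPrime (q : PrimeSpectrum (integralClosure Γ(X, U.1)
        Γ(Y, f ⁻¹ᵁ U.1))).asIdeal) := by
  letI := (f.app U.1).hom.toAlgebra
  exact ⟨(asIso ((f.normalizationOpenCover.f U).stalkMap q) ≪≫
    Spec.stalkIso _ q).commRingCatIsoToRingEquiv⟩

/-- the normalization is finite as soon as all chart rings are finite. -/
theorem isFinite_of_chart
    (h : ∀ U : X.affineOpens, (U.1 : Set X).Nonempty →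
      letI := (f.app U.1).hom.toAlgebra
      Module.Finite Γ(X, U.1) (integralClosure Γ(X, U.1) Γ(Y, f ⁻¹ᵁ U.1))) :
    IsFinite f.fromNormalization := by
  refine ⟨fun U hU => ?_⟩
  letI := (f.app U).hom.toAlgebra
  rw [f.fromNormalization_app hU, CommRingCat.hom_comp]
  refine RingHom.Finite.comp (RingHom.Finite.of_surjective _
    (ConcreteCategory.bijective_of_isIso (f.normalizationObjIso hU).inv).2) ?_
  show Module.Finite Γ(X, U) (integralClosure Γ(X, U) Γ(Y, f ⁻¹ᵁ U))
  by_cases hne : (U : Set X).Nonempty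
  · exact h ⟨U, hU⟩ hne
  · have hbot : U = ⊥ := by
      ext x
      simp only [TopologicalSpace.Opens.coe_bot, Set.mem_empty_iff_false, iff_false]
      exact fun hx => hne ⟨x, hx⟩
    have h1 : Subsingleton Γ(X, U) := by
      rw [hbot]; infer_instance
    have h2 : Subsingleton Γ(Y, f ⁻¹ᵁ U) := by
      rw [← subsingleton_iff_zero_eq_one, ← map_one (algebraMap Γ(X, U) _),
        ← map_zero (algebraMap Γ(X, U) _)]
      exact congrArg _ (Subsingleton.elim _ _)
    have h3 : Subsingleton (integralClosure Γ(X, U) Γ(Y, f ⁻¹ᵁ U)) :=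
      ⟨fun a b => Subtype.ext (Subsingleton.elim _ _)⟩
    infer_instance

end general

section field
variable (X : Scheme.{u}) [IsIntegral X] (K : Type u) [Field K] (φ : X.functionField →+* K)

/-- the morphism `Spec K ⟶ X` through the generic point. -/
noncomputable abbrev gK : Spec (CommRingCat.of K) ⟶ X :=
  Spec.map (CommRingCat.ofHom φ) ≫ X.fromSpecStalk (genericPoint X)

theorem preimage_eq_top (U : X.Opens) (h : genericPoint X ∈ U) : gK X K φ ⁻¹ᵁ U = ⊤ := by
  ext z
  simp only [Scheme.Hom.mem_preimage, TopologicalSpace.Opens.coe_top, Set.mem_univ, iff_true]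
  have hz : gK X K φ z ∈ Set.range (gen X) := ⟨Spec.map (CommRingCat.ofHom φ) z, rfl⟩
  rw [Scheme.range_fromSpecStalk] at hz
  exact hz.mem_open U.isOpen h

/-- sections of `Spec R` over an open equal to `⊤`. -/
noncomputable def secEquivTop (R : CommRingCat.{u}) (W : (Spec R).Opens) (hW : W = ⊤) :
    R ≃+* Γ(Spec R, W) :=
  haveI := isIso_map_top (Spec R) W hW
  ((Scheme.ΓSpecIso R).symm ≪≫
    asIso ((Spec R).presheaf.map (homOfLE (le_top : W ≤ ⊤)).op)).commRingCatIsoToRingEquiv

theorem isField_secK (U : X.Opens) (h : genericPoint X ∈ U) :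
    IsField Γ(Spec (CommRingCat.of K), gK X K φ ⁻¹ᵁ U) :=
  (secEquivTop (CommRingCat.of K) _ (preimage_eq_top X K φ U h)).toMulEquiv.symm.isField
    (Field.toIsField K)

/-- the map on sections induced by `Spec φ`. -/
noncomputable def ψ (U : X.Opens) :
    Γ(Spec (X.presheaf.stalk (genericPoint X)), gen X ⁻¹ᵁ U) →+*
      Γ(Spec (CommRingCat.of K), gK X K φ ⁻¹ᵁ U) :=
  ((Spec.map (CommRingCat.ofHom φ)).app (gen X ⁻¹ᵁ U)).hom

theorem ψ_comp (U : X.Opens) :
    (ψ X K φ U).comp ((gen X).app U).hom = ((gK X K φ).app U).hom := by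
  rfl

theorem ψ_finite (hφ : φ.Finite) (U : X.Opens) (h : genericPoint X ∈ U) :
    (ψ X K φ U).Finite := by
  haveI : IsFinite (Spec.map (CommRingCat.ofHom φ)) :=
    (IsFinite.SpecMap_iff (CommRingCat.ofHom φ)).2 hφ
  have haff : IsAffineOpen (gen X ⁻¹ᵁ U) := by
    rw [NormAff.preimage_eq_top X U h]
    exact isAffineOpen_top _
  exact IsFinite.finite_app (Spec.map (CommRingCat.ofHom φ)) _ haff

theorem chart_props (k : Type u) [Field k] [X.Over (Spec (CommRingCat.of k))]
    [LocallyOfFiniteType (X ↘ (Spec (CommRingCat.of k)))] (hφ : φ.Finite)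
    (U : X.affineOpens) (hne : (U.1 : Set X).Nonempty) :
    letI := ((gK X K φ).app U.1).hom.toAlgebra
    Module.Finite Γ(X, U.1) (integralClosure Γ(X, U.1)
        Γ(Spec (CommRingCat.of K), gK X K φ ⁻¹ᵁ U.1)) ∧
      IsDomain (integralClosure Γ(X, U.1) Γ(Spec (CommRingCat.of K), gK X K φ ⁻¹ᵁ U.1)) ∧
      IsIntegrallyClosed (integralClosure Γ(X, U.1)
        Γ(Spec (CommRingCat.of K), gK X K φ ⁻¹ᵁ U.1)) ∧
      Function.Injective (algebraMap Γ(X, U.1) (integralClosure Γ(X, U.1)
        Γ(Spec (CommRingCat.of K), gK X K φ ⁻¹ᵁ U.1))) := by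
  have hgen : genericPoint X ∈ U.1 := genericPoint_mem X U.1 hne
  letI algAL := ((gK X K φ).app U.1).hom.toAlgebra
  letI fL := (isField_secK X K φ U.1 hgen).toField
  letI algAK := ((gen X).app U.1).hom.toAlgebra
  letI fK := (isField_sec X U.1 hgen).toField
  haveI := isFractionRing_sec X U.1 U.2 hgen
  haveI : Nonempty U.1 := ⟨⟨_, hgen⟩⟩
  haveI : IsDomain Γ(X, U.1) := IsIntegral.component_integral U.1
  letI algKL : Algebra Γ(Spec (X.presheaf.stalk (genericPoint X)), gen X ⁻¹ᵁ U.1)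
      Γ(Spec (CommRingCat.of K), gK X K φ ⁻¹ᵁ U.1) := (ψ X K φ U.1).toAlgebra
  haveI : IsScalarTower Γ(X, U.1) Γ(Spec (X.presheaf.stalk (genericPoint X)), gen X ⁻¹ᵁ U.1)
      Γ(Spec (CommRingCat.of K), gK X K φ ⁻¹ᵁ U.1) :=
    IsScalarTower.of_algebraMap_eq (fun a => rfl)
  haveI : FiniteDimensional Γ(Spec (X.presheaf.stalk (genericPoint X)), gen X ⁻¹ᵁ U.1)
      Γ(Spec (CommRingCat.of K), gK X K φ ⁻¹ᵁ U.1) := ψ_finite X K φ hφ U.1 hgen
  obtain ⟨φk, hφk⟩ := NormVar.exists_finiteType k X U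
  letI := φk.toAlgebra
  haveI : Algebra.FiniteType k Γ(X, U.1) := hφk
  refine ⟨PolyN2.finite_integralClosure_of_finiteType k Γ(X, U.1)
    Γ(Spec (X.presheaf.stalk (genericPoint X)), gen X ⁻¹ᵁ U.1)
    Γ(Spec (CommRingCat.of K), gK X K φ ⁻¹ᵁ U.1), inferInstance,
    integralClosure.isIntegrallyClosedOfFiniteExtension
      Γ(Spec (X.presheaf.stalk (genericPoint X)), gen X ⁻¹ᵁ U.1), ?_⟩
  intro a b hab
  have h1 : algebraMap Γ(X, U.1) Γ(Spec (CommRingCat.of K), gK X K φ ⁻¹ᵁ U.1) a =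
      algebraMap Γ(X, U.1) Γ(Spec (CommRingCat.of K), gK X K φ ⁻¹ᵁ U.1) b :=
    congrArg Subtype.val hab
  rw [IsScalarTower.algebraMap_apply Γ(X, U.1)
      Γ(Spec (X.presheaf.stalk (genericPoint X)), gen X ⁻¹ᵁ U.1),
    IsScalarTower.algebraMap_apply Γ(X, U.1)
      Γ(Spec (X.presheaf.stalk (genericPoint X)), gen X ⁻¹ᵁ U.1)] at h1
  exact IsFractionRing.injective Γ(X, U.1)
      Γ(Spec (X.presheaf.stalk (genericPoint X)), gen X ⁻¹ᵁ U.1)
    ((algebraMap Γ(Spec (X.presheaf.stalk (genericPoint X)), gen X ⁻¹ᵁ U.1)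
      Γ(Spec (CommRingCat.of K), gK X K φ ⁻¹ᵁ U.1)).injective h1)

end field

section main
variable (k : Type u) [Field k] (X : Scheme.{u}) [X.Over (Spec (CommRingCat.of k))]
  [LocallyOfFiniteType (X ↘ (Spec (CommRingCat.of k)))] [IsIntegral X] (K : Type u) [Field K]
  (φ : X.functionField →+* K) (hφ : φ.Finite)
  [QuasiCompact (gK X K φ)] [QuasiSeparated (gK X K φ)]

include k hφ

theorem isFinite_fromNormalization : IsFinite (gK X K φ).fromNormalization :=
  isFinite_of_chart _ (fun U hne => (chart_props X K φ k hφ U hne).1)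

theorem isNormalScheme_normalization : Pi1.IsNormalScheme (gK X K φ).normalization := by
  intro y
  refine ⟨inferInstance, ?_⟩
  obtain ⟨U, hxU⟩ := exists_affine_nhd X ((gK X K φ).fromNormalization y)
  obtain ⟨q, rfl⟩ := exists_point (gK X K φ) U y hxU
  obtain ⟨e⟩ := nonempty_stalk_equiv (gK X K φ) U q
  obtain ⟨-, hdom, hic, -⟩ := chart_props X K φ k hφ U ⟨_, hxU⟩
  letI := ((gK X K φ).app U.1).hom.toAlgebra
  exact @NormAff.isIntegrallyClosed_loc _ _ hdom hic q _ _ e

theorem dim_closed_point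
    (hX : ∀ x : X, IsClosed ({x} : Set X) → ringKrullDim (X.presheaf.stalk x) = 1)
    (x' : (gK X K φ).normalization) (hx' : IsClosed ({x'} : Set (gK X K φ).normalization)) :
    ringKrullDim ((gK X K φ).normalization.presheaf.stalk x') = 1 := by
  haveI := isFinite_fromNormalization k X K φ hφ
  have hcl : IsClosed ({(gK X K φ).fromNormalization x'} : Set X) := by
    have := (gK X K φ).fromNormalization.isClosedMap _ hx'
    rwa [Set.image_singleton] at this
  have hdim := hX _ hcl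
  obtain ⟨U, hxU⟩ := exists_affine_nhd X ((gK X K φ).fromNormalization x')
  obtain ⟨q, rfl⟩ := exists_point (gK X K φ) U x' hxU
  obtain ⟨e⟩ := nonempty_stalk_equiv (gK X K φ) U q
  obtain ⟨hfin, hdom, hic, hinj⟩ := chart_props X K φ k hφ U ⟨_, hxU⟩
  letI := ((gK X K φ).app U.1).hom.toAlgebra
  rw [ringKrullDim_eq_of_ringEquiv e, IsLocalization.AtPrime.ringKrullDim_eq_height q.asIdeal]
  have hcomm := comm_point (gK X K φ) U q
  rw [hcomm] at hdim hxU
  have hloc := U.2.isLocalization_stalk' _ hxU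
  rw [@IsLocalization.AtPrime.ringKrullDim_eq_height _ _
    ((Spec.map ((gK X K φ).normalizationDiagramMap.app (.op U.1))) q).asIdeal _ _ _
    (TopCat.Presheaf.algebra_section_stalk X.presheaf ⟨_, hxU⟩) hloc] at hdim
  have hp1 : ((Spec.map ((gK X K φ).normalizationDiagramMap.app (.op U.1))) q).asIdeal.height
      = 1 := by exact_mod_cast hdim
  have hgen : genericPoint X ∈ U.1 := genericPoint_mem X U.1 ⟨_, hxU⟩
  haveI : Nonempty U.1 := ⟨⟨_, hgen⟩⟩
  haveI : IsDomain Γ(X, U.1) := IsIntegral.component_integral U.1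
  haveI hqp : q.asIdeal.IsPrime := q.isPrime
  have : q.asIdeal.height = 1 := @height_eq_one_of_integral Γ(X, U.1)
    (integralClosure Γ(X, U.1) Γ(Spec (CommRingCat.of K), gK X K φ ⁻¹ᵁ U.1)) _ _ _ _ _ _
    hinj q.asIdeal hqp hp1
  rw [this]; rfl

end main

end Groth.Agent.Lib.helper26.NormGen
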