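import Mathlib
import Groth.Prelude.Def_Found
import Groth.Agent.Lib.helper26.FinNag
import Groth.Agent.Lib.helper26.NormGen
import Groth.Agent.Lib.helper26.PolyN2d

set_option autoImplicit false
universe u
open CategoryTheory CategoryTheory.Limits AlgebraicGeometry

namespace Groth.Agent.Lib.helper26.FinNag

theorem finite_chart_of_nagata {X S : Scheme.{u}} (f : X ⟶ S) [LocallyOfFiniteType f]
    [QuasiCompact f] [IsReduced X] (U : S.affineOpens) (hU : CAlg.IsNagata Γ(S, U.1)) :
    letI := (f.app U.1).hom.toAlgebra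
    Module.Finite Γ(S, U.1) (integralClosure Γ(S, U.1) Γ(X, f ⁻¹ᵁ U.1)) := by
  letI algT := (f.app U.1).hom.toAlgebra
  haveI := hU.1
  have hc : IsCompact ((f ⁻¹ᵁ U.1 : X.Opens) : Set X) := f.isCompact_preimage U.2.isCompact
  obtain ⟨s, hsfin, hs⟩ := isCompact_iff_finite_and_eq_biUnion_affineOpens.1 hc
  haveI : Finite s := hsfin
  have hle : ∀ j : s, j.1.1 ≤ f ⁻¹ᵁ U.1 := by
    intro j
    rw [hs]
    exact le_iSup₂ (f := fun (i : X.affineOpens) (_ : i ∈ s) => (i : X.Opens)) j.1 j.2
  letI algB : ∀ j : s, Algebra Γ(S, U.1) Γ(X, j.1.1) := fun j =>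
    (f.appLE U.1 j.1.1 (hle j)).hom.toAlgebra
  let ρ : ∀ j : s, Γ(X, f ⁻¹ᵁ U.1) →ₐ[Γ(S, U.1)] Γ(X, j.1.1) := fun j =>
    { (X.presheaf.map (homOfLE (hle j)).op).hom with
      commutes' := fun a => rfl }
  refine finite_integralClosure_of_pi (J := s) (fun j => Γ(X, j.1.1)) ρ ?_ ?_
  · intro t ht
    refine TopCat.Sheaf.eq_of_locally_eq' X.sheaf (fun j : s => j.1.1) (f ⁻¹ᵁ U.1)
      (fun j => homOfLE (hle j)) ?_ t 0 ?_
    · rw [hs]
      refine iSup₂_le (fun i hi => ?_)
      exact le_iSup (fun j : s => (j.1.1 : X.Opens)) ⟨i, hi⟩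
    · intro j
      rw [map_zero]
      exact ht j
  · intro j
    haveI : IsReduced Γ(X, j.1.1) := inferInstance
    haveI : Algebra.FiniteType Γ(S, U.1) Γ(X, j.1.1) :=
      (HasRingHomProperty.iff_appLE (P := @LocallyOfFiniteType)).mp
        (inferInstance : LocallyOfFiniteType f) U j.1 (hle j)
    exact finite_integralClosure_of_isNagata Γ(S, U.1) hU Γ(X, j.1.1)

theorem isFinite_fromNormalization_of_nagata {X S : Scheme.{u}} (f : X ⟶ S)
    [LocallyOfFiniteType f] [QuasiCompact f] [QuasiSeparated f] [IsReduced X]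
    (hS : ∀ U : S.affineOpens, CAlg.IsNagata Γ(S, U)) :
    IsFinite f.fromNormalization :=
  NormGen.isFinite_of_chart f (fun U _ => finite_chart_of_nagata f U (hS U))

/-- algebras of finite type over a field are Nagata. -/
theorem isNagata_of_finiteType_field (k A : Type u) [Field k] [CommRing A] [Algebra k A]
    [Algebra.FiniteType k A] : CAlg.IsNagata A := by
  refine ⟨Algebra.FiniteType.isNoetherianRing k A, fun p _ => ?_⟩
  intro L _ _ _ _ hfd
  haveI : Algebra.FiniteType k (A ⧸ p) :=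
    Algebra.FiniteType.of_surjective (Ideal.Quotient.mkₐ k p) (Ideal.Quotient.mkₐ_surjective k p)
  exact PolyN2.finite_integralClosure_of_finiteType k (A ⧸ p) (FractionRing (A ⧸ p)) L

theorem isFinite_fromNormalization_of_field (k : Type u) [Field k] (X : Scheme.{u})
    [X.Over (Spec (CommRingCat.of k))] [LocallyOfFiniteType (X ↘ (Spec (CommRingCat.of k)))]
    (Y : Scheme.{u}) [Y.Over (Spec (CommRingCat.of k))]
    [LocallyOfFiniteType (Y ↘ (Spec (CommRingCat.of k)))] [IsReduced Y]
    (f : Y ⟶ X) [f.IsOver (Spec (CommRingCat.of k))] [QuasiCompact f] [QuasiSeparated f] :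
    IsFinite f.fromNormalization := by
  haveI : LocallyOfFiniteType (f ≫ (X ↘ (Spec (CommRingCat.of k)))) := by
    rw [(Scheme.Hom.isOver_iff (Spec (CommRingCat.of k))).1
      (inferInstance : f.IsOver (Spec (CommRingCat.of k)))]
    infer_instance
  haveI : LocallyOfFiniteType f := locallyOfFiniteType_of_comp f (X ↘ (Spec (CommRingCat.of k)))
  refine isFinite_fromNormalization_of_nagata f (fun U => ?_)
  obtain ⟨φ, hφ⟩ := NormVar.exists_finiteType k X U
  letI := φ.toAlgebra
  haveI : Algebra.FiniteType k Γ(X, U.1) := hφ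
  exact isNagata_of_finiteType_field k Γ(X, U.1)

end Groth.Agent.Lib.helper26.FinNag
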