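import Mathlib
import Groth.Prelude.Def_Found
import Groth.Agent.Lib.helper26.DvrOutAlg
import Groth.Agent.Lib.helper26.FinNagSch

set_option autoImplicit false
universe u
open CategoryTheory CategoryTheory.Limits AlgebraicGeometry

namespace Groth.Agent.Lib.helper26.DvrOut

/-- pure algebra: a unit in `R[1/x]` coming from `y : R` divides a power of `x`. -/
theorem exists_mul_eq_pow_of_isUnit {R S : Type*} [CommRing R] [CommRing S] [Algebra R S]
    (x : R) [IsLocalization.Away x S] (y : R) (hy : IsUnit (algebraMap R S y)) :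
    ∃ (n : ℕ) (b : R), y * b = x ^ n := by
  obtain ⟨u, hu⟩ := hy.exists_right_inv
  obtain ⟨⟨b, ⟨_, n, rfl⟩⟩, e⟩ := IsLocalization.surj (Submonoid.powers x) u
  simp only at e
  have h1 : algebraMap R S (y * b) = algebraMap R S (x ^ n) := by
    rw [map_mul, ← e, ← mul_assoc, hu, one_mul]
  obtain ⟨⟨_, m, rfl⟩, hm⟩ := (IsLocalization.eq_iff_exists (Submonoid.powers x) S).1 h1
  simp only at hm
  refine ⟨m + n, x ^ m * b, ?_⟩
  rw [pow_add, ← hm]; ring

/-- if `g` divides `h` locally on a qcqs open `W`, then `g` divides a power of `h` on `W`. -/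
theorem exists_mul_eq_pow_of_locally {Y : Scheme.{u}} (W : Y.Opens) (hc : IsCompact (W : Set Y))
    (hqs : IsQuasiSeparated (W : Set Y)) (g h : Γ(Y, W))
    (hloc : ∀ y ∈ W, ∃ (V : Y.Opens) (hV : V ≤ W), y ∈ V ∧ ∃ c : Γ(Y, V),
      Y.presheaf.map (homOfLE hV).op g * c = Y.presheaf.map (homOfLE hV).op h) :
    ∃ (n : ℕ) (b : Γ(Y, W)), g * b = h ^ n := by
  haveI := isLocalization_basicOpen_of_qcqs hc hqs h
  refine exists_mul_eq_pow_of_isUnit (S := Γ(Y, Y.basicOpen h)) h g ?_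
  have hle : Y.basicOpen h ≤ Y.basicOpen g := by
    intro y hy
    have hyW : y ∈ W := Y.basicOpen_le h hy
    obtain ⟨V, hV, hyV, c, hc⟩ := hloc y hyW
    rw [Y.mem_basicOpen h y hyW] at hy
    rw [Y.mem_basicOpen g y hyW]
    have h1 := congrArg (Y.presheaf.germ V y hyV) hc
    rw [map_mul, TopCat.Presheaf.germ_res_apply, TopCat.Presheaf.germ_res_apply] at h1
    rw [← h1] at hy
    exact isUnit_of_mul_isUnit_left hy
  have h2 : algebraMap Γ(Y, W) Γ(Y, Y.basicOpen h) g =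
      Y.presheaf.map (homOfLE hle).op (Y.presheaf.map (homOfLE (Y.basicOpen_le g)).op g) := by
    rw [RingHom.algebraMap_toAlgebra, ← CommRingCat.comp_apply, ← Functor.map_comp]
    rfl
  rw [h2]
  exact (RingedSpace.isUnit_res_basicOpen _ g).map _

section
variable {X Y : Scheme.{u}} (f : Y ⟶ X) [QuasiCompact f] [QuasiSeparated f]

theorem fromSpec_toNormalization (U : X.affineOpens) (V : Y.Opens) (hV : IsAffineOpen V)
    (hle : V ≤ f ⁻¹ᵁ U.1) :
    letI := (f.app U.1).hom.toAlgebra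
    hV.fromSpec ≫ f.toNormalization =
      Spec.map (Y.presheaf.map (homOfLE hle).op) ≫
      Spec.map (CommRingCat.ofHom (integralClosure Γ(X, U.1) Γ(Y, f ⁻¹ᵁ U.1)).val.toRingHom) ≫
        f.normalizationOpenCover.f U := by
  letI := (f.app U.1).hom.toAlgebra
  rw [IsAffineOpen.fromSpec, Category.assoc, ← Scheme.homOfLE_ι Y hle, Category.assoc,
    f.ι_toNormalization U, ← Scheme.Opens.toSpecΓ_SpecMap_presheaf_map_assoc,
    ← IsAffineOpen.isoSpec_hom hV, Iso.inv_hom_id_assoc]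

end

section main
variable {X Y : Scheme.{u}} (f : Y ⟶ X) [LocallyOfFiniteType f] [QuasiCompact f]
  [QuasiSeparated f] [IsReduced Y]

set_option maxHeartbeats 1600000 in
theorem exists_isDVR_stalk
    (hX : ∀ U : X.affineOpens, CAlg.IsNagata Γ(X, U))
    (x' : ↥f.normalization) (hdim : ringKrullDim (f.normalization.presheaf.stalk x') = 1)
    (hx' : x' ∉ Set.range f.toNormalization.base) :
    ∃ _ : IsDomain (f.normalization.presheaf.stalk x'),
      IsDiscreteValuationRing (f.normalization.presheaf.stalk x') := by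
  classical
  obtain ⟨U, hU, hxU⟩ : ∃ U : X.Opens, IsAffineOpen U ∧ f.fromNormalization x' ∈ U := by
    obtain ⟨_, ⟨U, hU, rfl⟩, hx, -⟩ := (X.isBasis_affineOpens).exists_subset_of_mem_open
      (Set.mem_univ (f.fromNormalization x')) isOpen_univ
    exact ⟨U, hU, hx⟩
  let UU : X.affineOpens := ⟨U, hU⟩
  letI algT := (f.app U).hom.toAlgebra
  obtain ⟨q, hq⟩ := NormGen.exists_point f UU x' hxU
  obtain ⟨e⟩ := NormGen.nonempty_stalk_equiv f UU q
  subst hq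
  haveI : IsNoetherianRing Γ(X, U) := (hX UU).1
  haveI hfinA : Module.Finite Γ(X, U) (integralClosure Γ(X, U) Γ(Y, f ⁻¹ᵁ U)) :=
    FinNag.finite_chart_of_nagata f UU (hX UU)
  haveI : IsNoetherianRing (integralClosure Γ(X, U) Γ(Y, f ⁻¹ᵁ U)) :=
    IsNoetherianRing.of_finite Γ(X, U) _
  haveI : IsReduced Γ(Y, f ⁻¹ᵁ U) := inferInstance
  haveI : IsReduced (integralClosure Γ(X, U) Γ(Y, f ⁻¹ᵁ U)) :=
    isReduced_of_injective (integralClosure Γ(X, U) Γ(Y, f ⁻¹ᵁ U)).val Subtype.val_injective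
  have hinj : Function.Injective (algebraMap (integralClosure Γ(X, U) Γ(Y, f ⁻¹ᵁ U))
      Γ(Y, f ⁻¹ᵁ U)) := Subtype.val_injective
  have hic : ∀ b : Γ(Y, f ⁻¹ᵁ U), IsIntegral (integralClosure Γ(X, U) Γ(Y, f ⁻¹ᵁ U)) b →
      b ∈ (algebraMap (integralClosure Γ(X, U) Γ(Y, f ⁻¹ᵁ U)) Γ(Y, f ⁻¹ᵁ U)).range := by
    intro b hb
    have : IsIntegral Γ(X, U) b := isIntegral_trans b hb
    exact ⟨⟨b, this⟩, rfl⟩
  let qq : PrimeSpectrum (integralClosure Γ(X, U) Γ(Y, f ⁻¹ᵁ U)) := q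
  let q' : Ideal (integralClosure Γ(X, U) Γ(Y, f ⁻¹ᵁ U)) := qq.asIdeal
  haveI hq'prime : q'.IsPrime := qq.isPrime
  have e' : f.normalization.presheaf.stalk ((f.normalizationOpenCover.f UU) q) ≃+*
      Localization.AtPrime q' := e
  have hq1 : q'.height = 1 := by
    have h1 := ringKrullDim_eq_of_ringEquiv e'
    rw [hdim, IsLocalization.AtPrime.ringKrullDim_eq_height q'] at h1
    exact_mod_cast h1.symm
  obtain ⟨g, hgq, hgmin⟩ := exists_mem_forall_notMem_minimalPrimes q' hq1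
  -- the finite affine cover
  have hc : IsCompact ((f ⁻¹ᵁ U : Y.Opens) : Set Y) := f.isCompact_preimage hU.isCompact
  have hqs : IsQuasiSeparated ((f ⁻¹ᵁ U : Y.Opens) : Set Y) :=
    f.isQuasiSeparated_preimage hU.isQuasiSeparated
  obtain ⟨s, hsfin, hs⟩ := isCompact_iff_finite_and_eq_biUnion_affineOpens.1 hc
  have hle : ∀ j ∈ s, j.1 ≤ f ⁻¹ᵁ U := by
    intro j hj
    rw [hs]
    exact le_iSup₂ (f := fun (i : Y.affineOpens) (_ : i ∈ s) => (i : Y.Opens)) j hj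
  -- local divisibility
  have hlocal : ∀ j : s, ∃ h, h ∉ q' ∧ ∃ c : Γ(Y, j.1.1),
      Y.presheaf.map (homOfLE (hle j.1 j.2)).op (g : Γ(Y, f ⁻¹ᵁ U)) * c =
        Y.presheaf.map (homOfLE (hle j.1 j.2)).op (h : Γ(Y, f ⁻¹ᵁ U)) := by
    rintro ⟨j, hj⟩
    let φ : (integralClosure Γ(X, U) Γ(Y, f ⁻¹ᵁ U)) →+* Γ(Y, j.1) :=
      (Y.presheaf.map (homOfLE (hle j hj)).op).hom.comp
        (integralClosure Γ(X, U) Γ(Y, f ⁻¹ᵁ U)).val.toRingHom
    refine exists_mul_eq φ q' hq1 g hgmin ?_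
    intro P hP hPq
    apply hx'
    refine ⟨j.2.fromSpec ⟨P, hP⟩, ?_⟩
    have h1 := congrArg (fun k => k.base (⟨P, hP⟩ : PrimeSpectrum Γ(Y, j.1)))
      (fromSpec_toNormalization f UU j.1 j.2 (hle j hj))
    have h2 : (Spec.map (CommRingCat.ofHom
        (integralClosure Γ(X, U) Γ(Y, f ⁻¹ᵁ U)).val.toRingHom))
        ((Spec.map (Y.presheaf.map (homOfLE (hle j hj)).op))
          (⟨P, hP⟩ : PrimeSpectrum Γ(Y, j.1))) = q :=
      PrimeSpectrum.ext (x := ⟨Ideal.comap φ P, inferInstance⟩) (y := qq) hPq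
    refine h1.trans ?_
    show (f.normalizationOpenCover.f UU) ((Spec.map (CommRingCat.ofHom
        (integralClosure Γ(X, U) Γ(Y, f ⁻¹ᵁ U)).val.toRingHom))
        ((Spec.map (Y.presheaf.map (homOfLE (hle j hj)).op))
          (⟨P, hP⟩ : PrimeSpectrum Γ(Y, j.1)))) = _
    rw [h2]
  choose hh hhq cc hcc using hlocal
  letI : Fintype s := hsfin.fintype
  set h : (integralClosure Γ(X, U) Γ(Y, f ⁻¹ᵁ U)) := ∏ j : s, hh j with hh_def
  have hhq' : h ∉ q' := by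
    rw [hh_def, Ideal.IsPrime.prod_mem_iff]
    rintro ⟨j, -, hj⟩
    exact hhq j hj
  have hloc : ∀ y ∈ f ⁻¹ᵁ U, ∃ (V : Y.Opens) (hV : V ≤ f ⁻¹ᵁ U), y ∈ V ∧ ∃ c : Γ(Y, V),
      Y.presheaf.map (homOfLE hV).op (g : Γ(Y, f ⁻¹ᵁ U)) * c =
        Y.presheaf.map (homOfLE hV).op (h : Γ(Y, f ⁻¹ᵁ U)) := by
    intro y hy
    rw [hs] at hy
    obtain ⟨j, hj, hyj⟩ : ∃ j ∈ s, y ∈ j.1 := by
      simpa using hy
    refine ⟨j.1, hle j hj, hyj, cc ⟨j, hj⟩ * Y.presheaf.map (homOfLE (hle j hj)).op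
      ((∏ i ∈ Finset.univ.erase (⟨j, hj⟩ : s), hh i :
        (integralClosure Γ(X, U) Γ(Y, f ⁻¹ᵁ U))) : Γ(Y, f ⁻¹ᵁ U)), ?_⟩
    rw [← mul_assoc, hcc ⟨j, hj⟩, ← map_mul]
    congr 1
    rw [hh_def, ← Finset.mul_prod_erase Finset.univ hh (Finset.mem_univ (⟨j, hj⟩ : s))]
    rfl
  obtain ⟨n, b, hb⟩ := exists_mul_eq_pow_of_locally (f ⁻¹ᵁ U) hc hqs
    (g : Γ(Y, f ⁻¹ᵁ U)) (h : Γ(Y, f ⁻¹ᵁ U)) hloc
  obtain ⟨hdom, hdvr⟩ := exists_isDVR_atPrime hinj hic q' hq1 g hgq hgmin (h ^ n)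
    (fun hmem => hhq' (Ideal.IsPrime.mem_of_pow_mem hq'prime n hmem)) b
    (by rw [map_pow]; exact hb)
  haveI := hdom
  haveI := hdvr
  haveI hdom' : IsDomain (f.normalization.presheaf.stalk ((f.normalizationOpenCover.f UU) q)) :=
    e'.toMulEquiv.isDomain _
  exact ⟨hdom', IsDiscreteValuationRing.RingEquivClass.isDiscreteValuationRing e'.symm⟩

end main

end Groth.Agent.Lib.helper26.DvrOut
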