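import Mathlib
import Groth.Agent.Lib.helper26.DimPts
import Groth.Prelude.Def_Flat

universe u
open AlgebraicGeometry CategoryTheory Topology TopologicalSpace

namespace Groth.Agent.Lib.helper26.EtDim

open Groth.Agent.Lib.helper26.DimPts

variable {X Y : Scheme.{u}}

theorem locallyQuasiFinite_of_etale (f : X ⟶ Y) [Etale f] : LocallyQuasiFinite f := by
  rw [HasRingHomProperty.iff_appLE (P := @LocallyQuasiFinite)]
  intro U V e
  have h : (f.appLE U.1 V.1 e).hom.Etale := Etale.etale_appLE f U.2 V.2 e
  algebraize [(f.appLE U.1 V.1 e).hom]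
  change Algebra.QuasiFinite _ _
  infer_instance

/-- points in the same fibre of a locally quasi-finite morphism are incomparable. -/
theorem eq_of_specializes_of_map_eq (f : X ⟶ Y) [LocallyQuasiFinite f] {a b : X} (h : a ⤳ b)
    (hf : f.base a = f.base b) : a = b := by
  have hd := (f.isDiscrete_preimage_singleton (f.base b)).to_subtype
  have ha : a ∈ f.base ⁻¹' {f.base b} := hf
  have hb : b ∈ f.base ⁻¹' {f.base b} := rfl
  have h' : (⟨a, ha⟩ : ↥(f.base ⁻¹' {f.base b})) ⤳ ⟨b, hb⟩ := (subtype_specializes_iff _ _).mpr h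
  exact congrArg Subtype.val h'.eq

theorem strictMono_of_locallyQuasiFinite (f : X ⟶ Y) [LocallyQuasiFinite f] :
    StrictMono f.base := by
  intro a b hab
  rw [lt_iff_le_not_ge] at hab ⊢
  obtain ⟨h1, h2⟩ := hab
  rw [Scheme.le_iff_specializes] at h1 h2
  rw [Scheme.le_iff_specializes, Scheme.le_iff_specializes]
  refine ⟨h1.map f.base.hom.continuous, fun h3 => h2 ?_⟩
  have heq : f.base b = f.base a := (h1.map f.base.hom.continuous).antisymm h3 |>.eq
  have := eq_of_specializes_of_map_eq f h1 heq
  rw [this]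

/-- lifting of chains along a generalizing map. -/
theorem exists_lift_ltSeries (f : X ⟶ Y) (hg : GeneralizingMap f.base) (U : Set X)
    (hU : IsOpen U) :
    ∀ (n : ℕ) (q : LTSeries Y), q.length = n → q.head ∈ f.base '' U →
      ∃ p : LTSeries X, p.length = n ∧ (∀ i, p i ∈ U) ∧ f.base p.last = q.last := by
  intro n
  induction n with
  | zero =>
    intro q hq hh
    obtain ⟨u, hu, hfu⟩ := hh
    refine ⟨RelSeries.singleton _ u, rfl, fun i => by simpa using hu, ?_⟩
    have : q.last = q.head := by
      unfold RelSeries.last RelSeries.head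
      congr 1
      ext
      simp [hq]
    rw [this]
    simpa using hfu
  | succ n ih =>
    intro q hq hh
    have hne : q.length ≠ 0 := by omega
    obtain ⟨p', hp'l, hp'U, hp'last⟩ := ih q.eraseLast (by simp [hq]) (by simpa using hh)
    have hlt : q.eraseLast.last < q.last := RelSeries.eraseLast_last_rel_last q hne
    rw [lt_iff_le_not_ge, Scheme.le_iff_specializes, Scheme.le_iff_specializes] at hlt
    obtain ⟨h1, h2⟩ := hlt
    rw [← hp'last] at h1
    obtain ⟨u, hu, hfu⟩ := hg h1
    have hlt' : p'.last < u := by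
      rw [lt_iff_le_not_ge, Scheme.le_iff_specializes, Scheme.le_iff_specializes]
      refine ⟨hu, fun h3 => h2 ?_⟩
      have := h3.map f.base.hom.continuous
      rwa [hfu, hp'last] at this
    refine ⟨p'.snoc u hlt', by simp [hp'l], ?_, by simpa using hfu⟩
    intro i
    have hmem : (p'.snoc u hlt') i ∈ p'.snoc u hlt' := ⟨i, rfl⟩
    rw [RelSeries.mem_snoc] at hmem
    rcases hmem with ⟨j, hj⟩ | hmem
    · rw [← hj]; exact hp'U j
    · rw [hmem]
      exact hu.mem_open hU (hp'U _)

theorem dim_image_eq (f : X ⟶ Y) [LocallyQuasiFinite f] (hg : GeneralizingMap f.base)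
    (ho : IsOpenMap f.base) (U : Set X) (hU : IsOpen U) :
    topologicalKrullDim ↥U = topologicalKrullDim ↥(f.base '' U) := by
  have : QuasiSober ↥U := hU.isOpenEmbedding_subtypeVal.quasiSober
  have : QuasiSober ↥(f.base '' U) := (ho U hU).isOpenEmbedding_subtypeVal.quasiSober
  rw [topologicalKrullDim_eq_krullDim_subtype, topologicalKrullDim_eq_krullDim_subtype]
  apply le_antisymm
  · refine krullDim_subtype_le U _ fun p hp => ?_
    have := length_le_krullDim_subtype (f.base '' U)
      (p.map f.base (strictMono_of_locallyQuasiFinite f)) (fun i => ⟨p i, hp i, rfl⟩)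
    simpa using this
  · refine krullDim_subtype_le (f.base '' U) _ fun q hq => ?_
    obtain ⟨p, hpl, hpU, -⟩ := exists_lift_ltSeries f hg U hU q.length q rfl (hq 0)
    rw [← hpl]
    exact length_le_krullDim_subtype U p hpU

/-- the local dimension is invariant under étale morphisms. -/
theorem localDim_eq_of_etale (f : X ⟶ Y) [Etale f] (x : X) :
    FlatMor.localDim X x = FlatMor.localDim Y (f.base x) := by
  have := locallyQuasiFinite_of_etale f
  have hg : GeneralizingMap f.base := Flat.generalizingMap f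
  have ho : IsOpenMap f.base := f.isOpenMap
  unfold FlatMor.localDim
  apply le_antisymm
  · refine le_iInf fun V => ?_
    let W : {W : Opens X // x ∈ W} := ⟨f ⁻¹ᵁ V.1, V.2⟩
    refine (iInf_le _ W).trans ?_
    change topologicalKrullDim ↥((f ⁻¹ᵁ V.1 : Opens X) : Set X) ≤ _
    have hd := dim_image_eq f hg ho ((f ⁻¹ᵁ V.1 : Opens X) : Set X) (f ⁻¹ᵁ V.1).2
    rw [hd]
    have hsub : f.base '' ((f ⁻¹ᵁ V.1 : Opens X) : Set X) ⊆ (V.1 : Set Y) := by
      rintro _ ⟨a, ha, rfl⟩
      exact ha
    exact (IsEmbedding.inclusion hsub).isInducing.topologicalKrullDim_le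
  · refine le_iInf fun W => ?_
    let V : {V : Opens Y // f.base x ∈ V} := ⟨⟨f.base '' (W.1 : Set X), ho _ W.1.2⟩, ⟨x, W.2, rfl⟩⟩
    refine (iInf_le _ V).trans ?_
    change topologicalKrullDim ↥(f.base '' (W.1 : Set X)) ≤ _
    have hd := dim_image_eq f hg ho (W.1 : Set X) W.1.2
    rw [← hd]

end Groth.Agent.Lib.helper26.EtDim
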