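import Mathlib

/-!
# Dimension shifting for `Ext` along a short exact sequence with projective middle term
-/

namespace Groth.Agent.Lib.helper26.ExtShift

open CategoryTheory Abelian

universe w v u

variable {C : Type u} [Category.{v} C] [Abelian C] [HasExt.{w} C]

theorem subsingleton_ext_succ_of_projective {S : ShortComplex C} (hS : S.ShortExact)
    [Projective S.X₂] (Y : C) (i : ℕ) (h : Subsingleton (Ext.{w} S.X₁ Y (i + 1))) :
    Subsingleton (Ext.{w} S.X₃ Y (i + 2)) := by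
  refine subsingleton_of_forall_eq 0 (fun x₃ => ?_)
  have h0 : (Ext.mk₀ S.g).comp x₃ (zero_add (i + 2)) = 0 := Ext.eq_zero_of_projective _
  obtain ⟨x₁, rfl⟩ := Ext.contravariant_sequence_exact₃ hS Y x₃ h0 (n₀ := i + 1) (by omega)
  rw [Subsingleton.elim x₁ 0, Ext.comp_zero]

theorem subsingleton_ext_one_of_projective {S : ShortComplex C} (hS : S.ShortExact)
    [Projective S.X₂] (Y : C) (h : ∀ φ : S.X₁ ⟶ Y, ∃ ψ : S.X₂ ⟶ Y, S.f ≫ ψ = φ) :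
    Subsingleton (Ext.{w} S.X₃ Y 1) := by
  refine subsingleton_of_forall_eq 0 (fun x₃ => ?_)
  have h0 : (Ext.mk₀ S.g).comp x₃ (zero_add 1) = 0 := Ext.eq_zero_of_projective _
  obtain ⟨x₁, rfl⟩ := Ext.contravariant_sequence_exact₃ hS Y x₃ h0 (n₀ := 0) (by omega)
  obtain ⟨φ, rfl⟩ := Ext.mk₀_bijective.{w} S.X₁ Y |>.2 x₁
  obtain ⟨ψ, rfl⟩ := h φ
  rw [← Ext.mk₀_comp_mk₀]
  exact hS.extClass_comp_assoc _

theorem exists_extension_of_subsingleton_ext_one {S : ShortComplex C} (hS : S.ShortExact)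
    (Y : C) (h : Subsingleton (Ext.{w} S.X₃ Y 1)) (φ : S.X₁ ⟶ Y) :
    ∃ ψ : S.X₂ ⟶ Y, S.f ≫ ψ = φ := by
  have h0 : hS.extClass.comp (Ext.mk₀ φ) (add_zero 1) = 0 := Subsingleton.elim _ _
  obtain ⟨x₂, hx₂⟩ := Ext.contravariant_sequence_exact₁ hS Y (Ext.mk₀ φ) (by omega) h0
  obtain ⟨ψ, rfl⟩ := Ext.mk₀_bijective.{w} S.X₂ Y |>.2 x₂
  refine ⟨ψ, ?_⟩
  rw [Ext.mk₀_comp_mk₀] at hx₂
  exact (Ext.mk₀_bijective.{w} S.X₁ Y).1 hx₂

end Groth.Agent.Lib.helper26.ExtShift
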