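import Mathlib
import Groth.Agent.Lib.helper7.DimSch16
import Groth.Agent.Lib.helper7.DimSch15

universe u
open AlgebraicGeometry CategoryTheory Topology TopologicalSpace IsLocalRing Limits

namespace Groth.Agent.Lib.helper26.FibBC

open Groth.Agent.Lib.helper7.DimSch

set_option backward.isDefEq.respectTransparency false in
/-- generalization of helper7's `fiber_components_dim_baseChange` to an arbitrary cartesian
square. -/
theorem fiber_components_dim_of_isPullback {X S X' S' : Scheme.{u}} (f : X ⟶ S)
    [LocallyOfFiniteType f] (g : S' ⟶ S) (g' : X' ⟶ X) (f' : X' ⟶ S') (hsq : IsPullback g' f' f g)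
    (y' : S') (n : ℕ)
    (hfib : ∀ Z ∈ irreducibleComponents (f.fiber (g y') : Type u),
      topologicalKrullDim Z = (n : WithBot ℕ∞))
    (Z' : Set (f'.fiber y'))
    (hZ' : Z' ∈ irreducibleComponents (f'.fiber y' : Type u)) :
    topologicalKrullDim Z' = (n : WithBot ℕ∞) := by
  have hpb := isPullback_fiberToSpecResidueField_of_isPullback hsq y'
  letI : Algebra (IsLocalRing.ResidueField ↑(S.presheaf.stalk (g y'))) ↑(S'.residueField y') :=
    (g.residueFieldMap y').hom.toAlgebra
  haveI : LocallyOfFiniteType (f.fiberToSpecResidueField (g y')) :=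
    (MorphismProperty.pullback_snd _ _ inferInstance :
      LocallyOfFiniteType (f.fiberToSpecResidueField (g y')))
  let e : f'.fiber y' ≅ pullback (f.fiberToSpecResidueField (g y'))
      (Spec.map (CommRingCat.ofHom (algebraMap
        (IsLocalRing.ResidueField ↑(S.presheaf.stalk (g y'))) ↑(S'.residueField y')))) :=
    hpb.isoPullback
  have hZc : IsClosed Z' := isClosed_of_mem_irreducibleComponents Z' hZ'
  obtain ⟨z', hz'⟩ := QuasiSober.sober hZ'.1 hZc
  have hmax := (closure_mem_irreducibleComponents_iff z').mp (by rw [hz'.def]; exact hZ')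
  have hmax' := forall_specializes_homeomorph e.hom.homeomorph z' hmax
  have hcomp := (closure_mem_irreducibleComponents_iff (e.hom.homeomorph z')).mpr hmax'
  have hset := Groth.Agent.Lib.helper7.TensorDim.image_topologicalKrullDim_irreducibleComponents_pullback
    (k := IsLocalRing.ResidueField ↑(S.presheaf.stalk (g y'))) (K := S'.residueField y')
    (f.fiberToSpecResidueField (g y'))
  have hmem : topologicalKrullDim ↥(closure ({e.hom.homeomorph z'} : Set _)) ∈
      (fun Z : Set ↥(f.fiber (g y')) => topologicalKrullDim ↥Z) ''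
        irreducibleComponents ↥(f.fiber (g y')) := by
    rw [← hset]
    exact ⟨_, hcomp, rfl⟩
  obtain ⟨Z, hZ, hZdim⟩ := hmem
  have h1 : topologicalKrullDim ↥Z' = topologicalKrullDim ↥(closure ({z'} : Set _)) := by
    rw [hz'.def]
  rw [h1, topologicalKrullDim_closure_singleton_homeomorph e.hom.homeomorph z', ← hZdim]
  exact hfib Z hZ

theorem localDim_fiber_congr {X S : Scheme.{u}} (f : X ⟶ S) {s1 s2 : S} (h : s1 = s2)
    (z1 : f.fiber s1) (z2 : f.fiber s2) (hz : f.fiberι s1 z1 = f.fiberι s2 z2) :
    FlatMor.localDim ↥(f.fiber s1) z1 = FlatMor.localDim ↥(f.fiber s2) z2 := by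
  subst h
  have : z1 = z2 := (f.fiberι s1).isEmbedding.injective hz
  rw [this]

set_option backward.isDefEq.respectTransparency false in
/-- local dimension of fibres is invariant under base change (at a point of the fibre). -/
theorem localDim_fiber_of_isPullback {X S X' S' : Scheme.{u}} (f : X ⟶ S)
    [LocallyOfFiniteType f] (g : S' ⟶ S) (g' : X' ⟶ X) (f' : X' ⟶ S') (hsq : IsPullback g' f' f g)
    (y' : S') (z' : f'.fiber y') :
    ∃ z : f.fiber (g y'), f.fiberι (g y') z = g' (f'.fiberι y' z') ∧
      FlatMor.localDim ↥(f'.fiber y') z' = FlatMor.localDim ↥(f.fiber (g y')) z := by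
  have hpb := isPullback_fiberToSpecResidueField_of_isPullback hsq y'
  letI : Algebra (IsLocalRing.ResidueField ↑(S.presheaf.stalk (g y'))) ↑(S'.residueField y') :=
    (g.residueFieldMap y').hom.toAlgebra
  haveI : LocallyOfFiniteType (f.fiberToSpecResidueField (g y')) :=
    (MorphismProperty.pullback_snd _ _ inferInstance :
      LocallyOfFiniteType (f.fiberToSpecResidueField (g y')))
  let e : f'.fiber y' ≅ pullback (f.fiberToSpecResidueField (g y'))
      (Spec.map (CommRingCat.ofHom (algebraMap
        (IsLocalRing.ResidueField ↑(S.presheaf.stalk (g y'))) ↑(S'.residueField y')))) :=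
    hpb.isoPullback
  set ρ : f'.fiber y' ⟶ f.fiber (g y') :=
    pullback.map _ _ _ _ g' (Spec.map (g.residueFieldMap y')) g hsq.w.symm (by simp) with hρ
  have heρ : e.hom ≫ pullback.fst _ _ = ρ := hpb.isoPullback_hom_fst
  have hρι : ρ ≫ f.fiberι (g y') = f'.fiberι y' ≫ g' := by
    rw [hρ]
    exact pullback.lift_fst _ _ _
  refine ⟨ρ z', congrArg (fun φ : f'.fiber y' ⟶ X => φ z') hρι, ?_⟩
  rw [localDim_homeomorph e.hom.homeomorph z']
  have h2 := localDim_pullback_field_aux (f.fiberToSpecResidueField (g y'))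
    (Spec.map (CommRingCat.ofHom (algebraMap
        (IsLocalRing.ResidueField ↑(S.presheaf.stalk (g y'))) ↑(S'.residueField y')))) rfl
    (e.hom.homeomorph z')
  rw [h2]
  congr 1
  exact congrArg (fun φ : f'.fiber y' ⟶ f.fiber (g y') => φ z') heρ

theorem fibreDimAt_of_isPullback {X S X' S' : Scheme.{u}} (f : X ⟶ S)
    [LocallyOfFiniteType f] (g : S' ⟶ S) (g' : X' ⟶ X) (f' : X' ⟶ S') (hsq : IsPullback g' f' f g)
    (x' : X') : FlatMor.fibreDimAt f' x' = FlatMor.fibreDimAt f (g' x') := by
  unfold FlatMor.fibreDimAt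
  obtain ⟨z, hz1, hz2⟩ := localDim_fiber_of_isPullback f g g' f' hsq (f' x') (f'.asFiber x')
  rw [hz2]
  have hw : g (f' x') = f (g' x') := (congrArg (fun φ : X' ⟶ S => φ x') hsq.w).symm
  apply localDim_fiber_congr f hw
  rw [hz1, f'.fiberι_asFiber, f.fiberι_asFiber]

end Groth.Agent.Lib.helper26.FibBC
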