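import Mathlib
import Groth.Prelude
import Groth.Agent.Lib.helper26.DimIneqSch
import Groth.Agent.Lib.helper7.DimSch13

universe u
open AlgebraicGeometry CategoryTheory Topology TopologicalSpace Cardinal

namespace Groth.Agent.Lib.helper26.FibBound

/-- transcendence degree of a residue ring extension is bounded by the number of generators. -/
theorem trdeg_quot_le {A B : Type u} [CommRing A] [CommRing B] [Algebra A B]
    (s : Finset B) (hs : Algebra.adjoin A (s : Set B) = ⊤)
    (p : Ideal A) (q : Ideal B) [q.IsPrime] [q.LiesOver p] :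
    Algebra.trdeg (A ⧸ p) (B ⧸ q) ≤ (s.card : Cardinal.{u}) := by
  classical
  set t : Set (B ⧸ q) := (Ideal.Quotient.mk q) '' (s : Set B) with ht
  have htop : Algebra.adjoin (A ⧸ p) t = ⊤ := by
    rw [eq_top_iff]
    rintro x -
    obtain ⟨b, rfl⟩ := Ideal.Quotient.mk_surjective x
    have hb : b ∈ Algebra.adjoin A (s : Set B) := by rw [hs]; trivial
    induction hb using Algebra.adjoin_induction with
    | mem x hx => exact Algebra.subset_adjoin ⟨x, hx, rfl⟩
    | algebraMap r =>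
      have : Ideal.Quotient.mk q (algebraMap A B r) =
          algebraMap (A ⧸ p) (B ⧸ q) (Ideal.Quotient.mk p r) := rfl
      rw [this]
      exact Subalgebra.algebraMap_mem _ _
    | add x y _ _ hx hy => rw [map_add]; exact Subalgebra.add_mem _ hx hy
    | mul x y _ _ hx hy => rw [map_mul]; exact Subalgebra.mul_mem _ hx hy
  haveI : Algebra.IsAlgebraic (Algebra.adjoin (A ⧸ p) t) (B ⧸ q) := by
    refine ⟨fun x => ?_⟩
    have hx : x ∈ Algebra.adjoin (A ⧸ p) t := by rw [htop]; trivial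
    exact isAlgebraic_algebraMap (⟨x, hx⟩ : Algebra.adjoin (A ⧸ p) t)
  refine (Algebra.IsAlgebraic.trdeg_le_cardinalMk (A ⧸ p) t).trans ?_
  calc #t ≤ #(s : Set B) := Cardinal.mk_image_le
    _ = (s.card : Cardinal) := by simp

variable {X Y : Scheme.{u}}

theorem main [CompactSpace Y] (f : X ⟶ Y) [LocallyOfFiniteType f] [QuasiCompact f] :
    ∃ n : ℕ, ∀ y : Y, topologicalKrullDim ↥(f.fiber y) ≤ n := by
  classical
  haveI : CompactSpace X := QuasiCompact.compactSpace_of_compactSpace f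
  -- local data
  have hloc : ∀ x : X, ∃ (U : X.Opens) (n : ℕ), x ∈ U ∧ ∀ x' : X, x' ∈ U →
      @Algebra.trdeg (Y.residueField (f x')) (X.residueField x') _ _
        (f.residueFieldMap x').hom.toAlgebra ≤ (n : Cardinal.{u}) := by
    intro x
    obtain ⟨_, ⟨V, hV, rfl⟩, hsV, -⟩ := Y.isBasis_affineOpens.exists_subset_of_mem_open
      (Set.mem_univ (f x)) isOpen_univ
    obtain ⟨_, ⟨U, hU, rfl⟩, hxU, hUV⟩ := X.isBasis_affineOpens.exists_subset_of_mem_open
      (show x ∈ ((f ⁻¹ᵁ V : X.Opens) : Set X) from hsV) (f ⁻¹ᵁ V).isOpen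
    have e : U ≤ f ⁻¹ᵁ V := hUV
    have hV' : IsAffineOpen V := hV
    have hU' : IsAffineOpen U := hU
    letI : Algebra Γ(Y, V) Γ(X, U) := (f.appLE V U e).hom.toAlgebra
    haveI : Algebra.FiniteType Γ(Y, V) Γ(X, U) := f.finiteType_appLE hV' hU' e
    obtain ⟨s, hs⟩ := (Algebra.FiniteType.out : (⊤ : Subalgebra Γ(Y, V) Γ(X, U)).FG)
    refine ⟨U, s.card, hxU, ?_⟩
    intro x' hx'
    set q := (hU'.primeIdealOf ⟨x', hx'⟩).asIdeal with hq
    set p := (hV'.primeIdealOf ⟨f x', e hx'⟩).asIdeal with hp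
    haveI : q.LiesOver p := ⟨by
      rw [Ideal.under_def]
      exact (congrArg PrimeSpectrum.asIdeal
        (IsAffineOpen.comap_primeIdealOf_appLE (f := f) V hV' U hU' e hx')).symm⟩
    rw [Groth.Agent.Lib.helper26.DimIneq.trdeg_residueField_eq f hV' hU' e x' hx' p]
    exact trdeg_quot_le s hs p q
  choose U n hxU hbound using hloc
  obtain ⟨t, ht⟩ := isCompact_univ.elim_finite_subcover (fun x => ((U x : X.Opens) : Set X))
    (fun x => (U x).isOpen) (fun x _ => Set.mem_iUnion.2 ⟨x, hxU x⟩)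
  refine ⟨t.sup n, ?_⟩
  intro y
  rw [Groth.Agent.Lib.helper7.DimSch.topologicalKrullDim_fiber f y]
  refine iSup_le fun z => ?_
  have hz := Groth.Agent.Lib.helper7.DimSch.trdeg_residueFieldMap_eq_fiberTrdegNat f y z
  obtain ⟨x₀, hx₀⟩ := Set.mem_iUnion.1 (ht (Set.mem_univ (f.fiberι y z)))
  obtain ⟨hx₀t, hmem⟩ := Set.mem_iUnion.1 hx₀
  have h1 := hbound x₀ (f.fiberι y z) hmem
  rw [hz] at h1
  have h2 : Groth.Agent.Lib.helper7.DimSch.fiberTrdegNat f y z ≤ n x₀ := by exact_mod_cast h1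
  have h3 : n x₀ ≤ t.sup n := Finset.le_sup hx₀t
  exact_mod_cast h2.trans h3

end Groth.Agent.Lib.helper26.FibBound
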