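import Mathlib
import Groth.Agent.Lib.helper26.CatHt2
import Groth.Agent.Lib.helper7.DimFT2
import Groth.Agent.Lib.helper7.FibDim
import Groth.Agent.Lib.helper26.DimFun6
import Groth.Agent.Lib.helper26.DimFormLoc

universe u
open AlgebraicGeometry CategoryTheory Topology TopologicalSpace IsLocalRing

namespace Groth.Agent.Lib.helper26.FibGen

open Groth.Agent.Lib.helper7

/-- In a Noetherian local ring `B` with an ideal `I ≤ m`, there is a minimal prime `Q` of `I`
with `ht Q + dim B/I ≤ dim B`. -/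
theorem exists_minimalPrime_height_add_le (B : Type u) [CommRing B] [IsLocalRing B]
    [IsNoetherianRing B] (I : Ideal B) (hI : I ≤ maximalIdeal B) :
    ∃ Q ∈ I.minimalPrimes, ∃ _ : Q.IsPrime,
      (Q.height : WithBot ℕ∞) + ringKrullDim (B ⧸ I) ≤ ringKrullDim B := by
  have hne : I ≠ ⊤ := fun htop =>
    (maximalIdeal.isMaximal B).ne_top (top_le_iff.mp (htop ▸ hI))
  haveI : Nontrivial (B ⧸ I) := Ideal.Quotient.nontrivial_iff.mpr hne
  haveI : IsLocalRing (B ⧸ I) :=
    IsLocalRing.of_surjective' (Ideal.Quotient.mk I) Ideal.Quotient.mk_surjective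
  obtain ⟨q₀, hq₀, hq₀le, hht⟩ := DimFT.exists_minimalPrimes_height_le (maximalIdeal (B ⧸ I))
  haveI : q₀.IsPrime := hq₀.1.1
  set Q := q₀.comap (Ideal.Quotient.mk I) with hQ
  have hQmin : Q ∈ I.minimalPrimes := by
    rw [Ideal.minimalPrimes_eq_comap]
    exact ⟨q₀, hq₀, rfl⟩
  haveI : Q.IsPrime := hQmin.1.1
  refine ⟨Q, hQmin, inferInstance, ?_⟩
  -- the composite surjection B → (B/I)/q₀ with kernel Q
  set φ : B →+* (B ⧸ I) ⧸ q₀ := (Ideal.Quotient.mk q₀).comp (Ideal.Quotient.mk I) with hφ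
  have hφs : Function.Surjective φ :=
    Ideal.Quotient.mk_surjective.comp Ideal.Quotient.mk_surjective
  have hker : RingHom.ker φ = Q := by
    rw [hφ, ← RingHom.comap_ker, Ideal.mk_ker]
  haveI : (RingHom.ker φ).IsPrime := by rw [hker]; infer_instance
  set qm := (maximalIdeal (B ⧸ I)).map (Ideal.Quotient.mk q₀) with hqm
  haveI : qm.IsPrime := Ideal.isPrime_map_quotientMk_of_isPrime hq₀le
  have key := CatHt.height_ker_add_le_height_comap φ hφs qm
  have hcomap : qm.comap φ = maximalIdeal B := by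
    have hmax : qm.IsMaximal := Ideal.IsMaximal.map_of_surjective_of_ker_le
      Ideal.Quotient.mk_surjective (by rw [Ideal.mk_ker]; exact hq₀le)
    haveI : (qm.comap φ).IsMaximal := Ideal.comap_isMaximal_of_surjective φ hφs
    exact IsLocalRing.eq_maximalIdeal inferInstance
  rw [hker, hcomap] at key
  have h2 : Q.height + (maximalIdeal (B ⧸ I)).height ≤ (maximalIdeal B).height :=
    (add_le_add le_rfl hht).trans key
  rw [← IsLocalRing.maximalIdeal_height_eq_ringKrullDim,
    ← IsLocalRing.maximalIdeal_height_eq_ringKrullDim, ← WithBot.coe_add]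
  exact WithBot.coe_le_coe.2 h2

variable {X Y : Scheme.{u}}

theorem dim_stalk_fromSpecStalk (x : X) (Q : Spec (X.presheaf.stalk x)) :
    ringKrullDim (X.presheaf.stalk (X.fromSpecStalk x Q)) = (Q.asIdeal.height : WithBot ℕ∞) := by
  haveI : Flat (X.fromSpecStalk x) := StalkBC.flat_fromSpecStalk X x
  rw [← DimFormLoc.ringKrullDim_stalk_eq_of_bijective (X.fromSpecStalk x) Q
    (StalkBC.bijective_stalkMap _ Q)]
  letI alg : Algebra (X.presheaf.stalk x) ((Spec (X.presheaf.stalk x)).presheaf.stalk Q) :=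
    StructureSheaf.stalkAlgebra _ Q
  haveI : IsLocalization.AtPrime ((Spec (X.presheaf.stalk x)).presheaf.stalk Q) Q.asIdeal :=
    StructureSheaf.IsLocalization.to_stalk _ Q
  exact IsLocalization.AtPrime.ringKrullDim_eq_height Q.asIdeal _

/-- a generization `P` of `x` lies in the fibre through `x` iff it contains `m_{f x} O_{X,x}`. -/
theorem map_fromSpecStalk_eq_iff (f : X ⟶ Y) (x : X) (P : Spec (X.presheaf.stalk x)) :
    f (X.fromSpecStalk x P) = f x ↔
      Ideal.map (f.stalkMap x).hom (maximalIdeal (Y.presheaf.stalk (f x))) ≤ P.asIdeal := by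
  have h1 : f (X.fromSpecStalk x P) = Y.fromSpecStalk (f x) (Spec.map (f.stalkMap x) P) := by
    have := congrArg (fun φ => φ P) (Scheme.SpecMap_stalkMap_fromSpecStalk f (x := x))
    exact this.symm
  rw [h1]
  have h2 : Y.fromSpecStalk (f x) (closedPoint (Y.presheaf.stalk (f x))) = f x :=
    Scheme.fromSpecStalk_closedPoint
  constructor
  · intro h
    have h3 : Spec.map (f.stalkMap x) P = closedPoint (Y.presheaf.stalk (f x)) :=
      (Y.fromSpecStalk (f x)).isEmbedding.injective (h.trans h2.symm)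
    rw [Ideal.map_le_iff_le_comap]
    have h4 : (Spec.map (f.stalkMap x) P).asIdeal = maximalIdeal (Y.presheaf.stalk (f x)) := by
      rw [h3]; rfl
    rw [← h4]
    exact le_rfl
  · intro h
    rw [Ideal.map_le_iff_le_comap] at h
    have h4 : (Spec.map (f.stalkMap x) P).asIdeal = maximalIdeal (Y.presheaf.stalk (f x)) := by
      have hmax : (maximalIdeal (Y.presheaf.stalk (f x))).IsMaximal := inferInstance
      exact (hmax.eq_of_le (Spec.map (f.stalkMap x) P).isPrime.ne_top h).symm
    have h3 : Spec.map (f.stalkMap x) P = closedPoint (Y.presheaf.stalk (f x)) :=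
      PrimeSpectrum.ext h4
    rw [h3, h2]

theorem dimFib_eq_quot (f : X ⟶ Y) (x : X) :
    ringKrullDim ((f.fiber (f x)).presheaf.stalk (f.asFiber x)) =
      ringKrullDim (X.presheaf.stalk x ⧸
        Ideal.map (f.stalkMap x).hom (maximalIdeal (Y.presheaf.stalk (f x)))) := by
  have h := ringKrullDim_eq_of_ringEquiv (FibDim.fiberStalkEquiv f (f x) (f.asFiber x))
  have h2 : ∀ (x' : X) (_ : x' = x), ringKrullDim (X.presheaf.stalk x' ⧸
        Ideal.map (f.stalkMap x').hom (maximalIdeal (Y.presheaf.stalk (f x')))) =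
      ringKrullDim (X.presheaf.stalk x ⧸
        Ideal.map (f.stalkMap x).hom (maximalIdeal (Y.presheaf.stalk (f x)))) := by
    rintro _ rfl; rfl
  rw [← h, h2 _ (f.fiberι_asFiber x)]

theorem dimFib_eq_zero_of_minimal (f : X ⟶ Y) (x : X) (Q : Spec (X.presheaf.stalk x))
    (hQ : Q.asIdeal ∈ (Ideal.map (f.stalkMap x).hom
      (maximalIdeal (Y.presheaf.stalk (f x)))).minimalPrimes)
    (z : X) (hz : X.fromSpecStalk x Q = z) :
    ringKrullDim ((f.fiber (f z)).presheaf.stalk (f.asFiber z)) = 0 := by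
  have hfz : f z = f x := by
    rw [← hz]; exact (map_fromSpecStalk_eq_iff f x Q).mpr hQ.1.2
  apply le_antisymm
  · apply DimFun6.stalk_dim_le_zero_of_maximal
    intro w' hw'
    have h1 : f.fiberι (f z) w' ⤳ z := by
      have := hw'.map (f.fiberι (f z)).continuous
      rwa [Scheme.Hom.fiberι_asFiber] at this
    have hzx : z ⤳ x := by
      have : z ∈ Set.range (X.fromSpecStalk x) := ⟨Q, hz⟩
      rwa [Scheme.range_fromSpecStalk] at this
    obtain ⟨P, hP⟩ : f.fiberι (f z) w' ∈ Set.range (X.fromSpecStalk x) := by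
      rw [Scheme.range_fromSpecStalk]; exact h1.trans hzx
    have hfw : f (f.fiberι (f z) w') = f z := FibStalk.apply_fiberι f (f z) w'
    have hPI : Ideal.map (f.stalkMap x).hom (maximalIdeal (Y.presheaf.stalk (f x))) ≤
        P.asIdeal := (map_fromSpecStalk_eq_iff f x P).mp (by rw [hP, hfw, hfz])
    have hPQ : P ⤳ Q :=
      (X.fromSpecStalk x).isEmbedding.isInducing.specializes_iff.mp (by rw [hP, hz]; exact h1)
    have hle : P.asIdeal ≤ Q.asIdeal := (PrimeSpectrum.le_iff_specializes P Q).mpr hPQ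
    have hQP : Q.asIdeal ≤ P.asIdeal := hQ.2 ⟨P.isPrime, hPI⟩ hle
    have hPeq : P = Q := PrimeSpectrum.ext (le_antisymm hle hQP)
    have : f.fiberι (f z) w' = f.fiberι (f z) (f.asFiber z) := by
      rw [← hP, hPeq, hz, Scheme.Hom.fiberι_asFiber]
    exact (f.fiberι (f z)).isEmbedding.injective this
  · exact ringKrullDim_nonneg_of_nontrivial

/-- every point `x` has a generization `z` in its fibre which is maximal in the fibre, with
`dim O_{X,z} + dim O_{X_y,x} ≤ dim O_{X,x}`. -/
theorem exists_fibre_generic [IsLocallyNoetherian X] (f : X ⟶ Y) (x : X) :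
    ∃ z : X, f z = f x ∧
      ringKrullDim ((f.fiber (f z)).presheaf.stalk (f.asFiber z)) = 0 ∧
      ringKrullDim (X.presheaf.stalk z) +
        ringKrullDim ((f.fiber (f x)).presheaf.stalk (f.asFiber x)) ≤
        ringKrullDim (X.presheaf.stalk x) := by
  have hle : Ideal.map (f.stalkMap x).hom (maximalIdeal (Y.presheaf.stalk (f x))) ≤
      maximalIdeal (X.presheaf.stalk x) := by
    rw [Ideal.map_le_iff_le_comap]
    intro a ha
    exact map_nonunit (f.stalkMap x).hom a ha
  obtain ⟨Q, hQmin, hQp, hQ⟩ := exists_minimalPrime_height_add_le (X.presheaf.stalk x) _ hle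
  refine ⟨X.fromSpecStalk x ⟨Q, hQp⟩, ?_, ?_, ?_⟩
  · exact (map_fromSpecStalk_eq_iff f x ⟨Q, hQp⟩).mpr hQmin.1.2
  · exact dimFib_eq_zero_of_minimal f x ⟨Q, hQp⟩ hQmin _ rfl
  · rw [dim_stalk_fromSpecStalk x ⟨Q, hQp⟩, dimFib_eq_quot f x]
    exact hQ

theorem main {X Y : Scheme.{u}} [IrreducibleSpace Y] [IsLocallyNoetherian Y]
    (f : X ⟶ Y) [LocallyOfFiniteType f] [QuasiCompact f] (y : Y) :
    ((∀ x : X, f.base x = y → ringKrullDim (X.presheaf.stalk x) =
        ringKrullDim (Y.presheaf.stalk (f.base x)) +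
          ringKrullDim ((f.fiber (f.base x)).presheaf.stalk (f.asFiber x))) →
      (∀ z : X, f.base z = y →
        ringKrullDim ((f.fiber (f.base z)).presheaf.stalk (f.asFiber z)) = 0 →
        ringKrullDim (X.presheaf.stalk z) = ringKrullDim (Y.presheaf.stalk (f.base z)))) ∧
    (CAlg.IsUniversallyCatenary (Y.presheaf.stalk y) →
      (∀ z : X, f.base z = y →
        ringKrullDim ((f.fiber (f.base z)).presheaf.stalk (f.asFiber z)) = 0 →
        ringKrullDim (X.presheaf.stalk z) = ringKrullDim (Y.presheaf.stalk (f.base z))) →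
      (∀ x : X, f.base x = y → ringKrullDim (X.presheaf.stalk x) =
        ringKrullDim (Y.presheaf.stalk (f.base x)) +
          ringKrullDim ((f.fiber (f.base x)).presheaf.stalk (f.asFiber x)))) := by
  haveI : IsLocallyNoetherian X := LocallyOfFiniteType.isLocallyNoetherian f
  constructor
  · intro h z hz h0
    rw [h z hz, h0, add_zero]
  · intro _ h x hx
    apply le_antisymm (FibDim.ringKrullDim_stalk_le_add' f x)
    obtain ⟨z, hz1, hz2, hz3⟩ := exists_fibre_generic f x
    have h1 := h z (hz1.trans hx) hz2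
    have h2 : ringKrullDim (Y.presheaf.stalk (f z)) = ringKrullDim (Y.presheaf.stalk (f x)) :=
      congrArg (fun p => ringKrullDim (Y.presheaf.stalk p)) hz1
    rw [← h2, ← h1]
    exact hz3

end Groth.Agent.Lib.helper26.FibGen
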