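import Mathlib
import Groth.Prelude
import Groth.Agent.Lib.helper26.CartDVR
import Groth.Agent.Lib.helper26.RegCodim
import Groth.Agent.Lib.helper26.MulDiv
import Groth.Agent.Lib.helper7.FibStalk

universe u
open AlgebraicGeometry CategoryTheory IsLocalRing

namespace Groth.Agent.Lib.helper26.FibSec


theorem dvr_of_section {A B F : Type u} [CommRing A] [CommRing B] [CommRing F]
    [IsLocalRing A] [IsLocalRing B] [IsLocalRing F] [IsNoetherianRing F]
    (p : A →+* B) [IsLocalHom p] (s : B →+* A) [IsLocalHom s] (hps : ∀ a, s (p a) = a)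
    (q : B →+* F) (hq : Function.Surjective q)
    (hkq : RingHom.ker q = (maximalIdeal A).map p)
    (t : B) (ht : t ∈ nonZeroDivisors B) (hks : RingHom.ker s = Ideal.span {t}) :
    ∃ _ : IsDomain F, IsDiscreteValuationRing F := by
  have hst : s t = 0 := by
    have : t ∈ RingHom.ker s := by rw [hks]; exact Ideal.mem_span_singleton_self t
    exact this
  have hdec : ∀ b : B, ∃ d : B, b = p (s b) + t * d := by
    intro b
    have : b - p (s b) ∈ RingHom.ker s := by
      rw [RingHom.mem_ker, map_sub, hps, sub_self]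
    rw [hks, Ideal.mem_span_singleton'] at this
    obtain ⟨d, hd⟩ := this
    exact ⟨d, by rw [mul_comm, hd]; ring⟩
  have hmle : (maximalIdeal A).map p ≤ maximalIdeal B := by
    rw [Ideal.map_le_iff_le_comap]
    intro a ha
    exact map_nonunit p a ha
  -- key lemma
  have key : ∀ x ∈ (maximalIdeal A).map p,
      s x ∈ maximalIdeal A ∧ ∃ c ∈ (maximalIdeal A).map p, x = p (s x) + t * c := by
    intro x hx
    refine Submodule.span_induction (p := fun x _ => s x ∈ maximalIdeal A ∧
      ∃ c ∈ (maximalIdeal A).map p, x = p (s x) + t * c) ?_ ?_ ?_ ?_ hx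
    · rintro _ ⟨a, ha, rfl⟩
      refine ⟨by rw [hps]; exact ha, 0, Ideal.zero_mem _, by rw [hps]; ring⟩
    · refine ⟨by rw [map_zero]; exact Ideal.zero_mem _, 0, Ideal.zero_mem _, by simp⟩
    · rintro x y _ _ ⟨hx1, c1, hc1, hx2⟩ ⟨hy1, c2, hc2, hy2⟩
      refine ⟨by rw [map_add]; exact Ideal.add_mem _ hx1 hy1, c1 + c2, Ideal.add_mem _ hc1 hc2, ?_⟩
      rw [map_add, map_add]
      calc x + y = (p (s x) + t * c1) + (p (s y) + t * c2) := by rw [← hx2, ← hy2]
        _ = _ := by ring
    · rintro b x _ ⟨hx1, c, hc, hx2⟩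
      obtain ⟨d, hd⟩ := hdec b
      refine ⟨by rw [smul_eq_mul, map_mul]; exact Ideal.mul_mem_left _ _ hx1,
        d * p (s x) + b * c, ?_, ?_⟩
      · exact Ideal.add_mem _ (Ideal.mul_mem_left _ _ (Ideal.mem_map_of_mem _ hx1))
          (Ideal.mul_mem_left _ _ hc)
      · rw [smul_eq_mul, map_mul, map_mul]
        calc b * x = b * (p (s x) + t * c) := by rw [← hx2]
          _ = (p (s b) + t * d) * p (s x) + t * (b * c) := by rw [← hd]; ring
          _ = _ := by ring
  have hpow : ∀ n : ℕ, t ^ n ∉ (maximalIdeal A).map p := by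
    intro n
    induction n with
    | zero =>
      intro h
      rw [pow_zero] at h
      exact (Ideal.ne_top_iff_one _).1 (maximalIdeal.isMaximal B).ne_top (hmle h)
    | succ n ih =>
      intro h
      obtain ⟨-, c, hc, hx⟩ := key _ h
      rw [map_pow, hst, zero_pow (Nat.succ_ne_zero n), map_zero, zero_add, pow_succ'] at hx
      have : t ^ n = c := mul_cancel_left_mem_nonZeroDivisors ht |>.1 hx
      exact ih (this ▸ hc)
  have htm : t ∈ maximalIdeal B := by
    rw [mem_maximalIdeal, mem_nonunits_iff]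
    intro hu
    have := hu.map s
    rw [hst] at this
    exact not_isUnit_zero this
  have hτm : q t ∈ maximalIdeal F := by
    rw [mem_maximalIdeal, mem_nonunits_iff]
    intro hu
    obtain ⟨y, hy⟩ := hu.exists_right_inv
    obtain ⟨b, rfl⟩ := hq y
    have h1 : t * b - 1 ∈ RingHom.ker q := by
      rw [RingHom.mem_ker, map_sub, map_mul, hy, map_one, sub_self]
    rw [hkq] at h1
    have h2 : t * b - 1 ∈ maximalIdeal B := hmle h1
    have h3 : t * b ∈ maximalIdeal B := Ideal.mul_mem_right _ _ htm
    have h4 : (1 : B) ∈ maximalIdeal B := by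
      have := Ideal.sub_mem _ h3 h2
      rwa [sub_sub_cancel] at this
    exact (Ideal.ne_top_iff_one _).1 (maximalIdeal.isMaximal B).ne_top h4
  have hmF : maximalIdeal F = Ideal.span {q t} := by
    apply le_antisymm
    · intro y hy
      obtain ⟨b, rfl⟩ := hq y
      have hb : b ∈ maximalIdeal B := by
        rw [mem_maximalIdeal, mem_nonunits_iff]
        intro hu
        exact hy (hu.map q)
      obtain ⟨d, hd⟩ := hdec b
      have h1 : q (p (s b)) = 0 := by
        have : p (s b) ∈ RingHom.ker q := by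
          rw [hkq]
          exact Ideal.mem_map_of_mem _ (map_nonunit s b hb)
        exact this
      rw [hd, map_add, h1, zero_add, map_mul]
      exact Ideal.mul_mem_right _ _ (Ideal.mem_span_singleton_self _)
    · rw [Ideal.span_le, Set.singleton_subset_iff]
      exact hτm
  have hnil : ¬ IsNilpotent (q t) := by
    rintro ⟨n, hn⟩
    rw [← map_pow] at hn
    have : t ^ n ∈ RingHom.ker q := hn
    rw [hkq] at this
    exact hpow n this
  have hdim : ringKrullDim F = 1 := by
    apply le_antisymm
    · rw [← IsLocalRing.maximalIdeal_height_eq_ringKrullDim]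
      have hmin : maximalIdeal F ∈ (Ideal.span {q t}).minimalPrimes := by
        rw [← hmF]
        exact ⟨⟨inferInstance, le_rfl⟩, fun J hJ _ => hJ.2⟩
      have := Ideal.height_le_one_of_isPrincipal_of_mem_minimalPrimes (Ideal.span {q t})
        (maximalIdeal F) hmin
      exact_mod_cast this
    · by_contra hlt
      rw [not_le] at hlt
      have h0 : ringKrullDim F ≤ 0 := by
        rw [← IsLocalRing.maximalIdeal_height_eq_ringKrullDim] at hlt ⊢
        have h1 : (maximalIdeal F).height < 1 := by exact_mod_cast hlt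
        rw [ENat.lt_one_iff_eq_zero] at h1
        rw [h1]
        rfl
      haveI : Ring.KrullDimLE 0 F := (Ring.krullDimLE_iff).2 (by exact_mod_cast h0)
      have h2 : q t ∈ nilradical F := by
        rw [Ring.KrullDimLE.nilradical_eq_maximalIdeal]
        exact hτm
      exact hnil h2
  exact Groth.Agent.Lib.helper26.CartDVR.dvr_of_maximalIdeal_principal F hdim (q t) hmF



variable {X V : Scheme.{u}}

theorem stalkMap_eq_of_eq_id (e : X ⟶ X) (he : e = 𝟙 X) (x : X) (h : x ⤳ e x) :
    e.stalkMap x = X.presheaf.stalkSpecializes h := by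
  subst he
  exact (Scheme.Hom.stalkMap_id X x).trans (TopCat.Presheaf.stalkSpecializes_refl _ _).symm

theorem aux2 (π : V ⟶ X) (j : X ⟶ V) [IsClosedImmersion j] (hj : j ≫ π = 𝟙 X)
    (hJ : BlowUp.IsEffCartierIdeal j.ker) (x : X) (v' : V) (hv : v' = j x)
    (F : Type u) [CommRing F] [IsLocalRing F] [IsNoetherianRing F]
    (q : V.presheaf.stalk v' →+* F) (hq : Function.Surjective q)
    (hkq : RingHom.ker q = (maximalIdeal (X.presheaf.stalk (π v'))).map (π.stalkMap v').hom) :
    ∃ _ : IsDomain F, IsDiscreteValuationRing F := by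
  subst hv
  have hxx : π (j x) = x := by
    rw [← Scheme.Hom.comp_apply, hj]
    rfl
  let sC : X.presheaf.stalk x ⟶ X.presheaf.stalk (π (j x)) :=
    (X.presheaf.stalkCongr (.of_eq hxx.symm)).hom
  haveI : IsLocalHom sC.hom := isLocalHom_of_iso (X.presheaf.stalkCongr (.of_eq hxx.symm))
  haveI : IsLocalHom (j.stalkMap x ≫ sC).hom := CommRingCat.isLocalHom_comp _ _
  have hsCinj : Function.Injective sC.hom :=
    ((ConcreteCategory.bijective_of_isIso sC).1)
  have hps : π.stalkMap (j x) ≫ j.stalkMap x ≫ sC = 𝟙 _ := by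
    rw [← Category.assoc, ← Scheme.Hom.stalkMap_comp,
      stalkMap_eq_of_eq_id (j ≫ π) hj x (specializes_of_eq hxx.symm)]
    have h3 := TopCat.Presheaf.stalkSpecializes_comp X.presheaf (x := π (j x)) (y := x)
      (z := π (j x)) (specializes_of_eq hxx) (specializes_of_eq hxx.symm)
    exact h3.trans (TopCat.Presheaf.stalkSpecializes_refl _ _)
  obtain ⟨U, hxU, g, hg, hgU⟩ := hJ (j x)
  have hker : RingHom.ker (j.stalkMap x ≫ sC).hom =
      Ideal.span {V.presheaf.germ U.1 (j x) hxU g} := by
    have h1 : RingHom.ker (j.stalkMap x ≫ sC).hom = RingHom.ker (j.stalkMap x).hom := by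
      ext b
      rw [RingHom.mem_ker, RingHom.mem_ker]
      constructor
      · intro h
        apply hsCinj
        rw [map_zero]
        exact h
      · intro h
        show sC.hom ((j.stalkMap x).hom b) = 0
        rw [h, map_zero]
    rw [h1, Groth.Agent.Lib.helper26.RegCodim.ker_stalkMap j x U.2 hxU, ← Scheme.Hom.ker_apply j U,
      hgU, Ideal.map_span, Set.image_singleton]
  refine dvr_of_section (π.stalkMap (j x)).hom (j.stalkMap x ≫ sC).hom ?_ q hq hkq
    (V.presheaf.germ U.1 (j x) hxU g)
    (Groth.Agent.Lib.helper26.MulDiv.germ_mem_nonZeroDivisors U (j x) hxU g hg) hker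
  intro a
  have := congrArg (fun φ => φ.hom a) hps
  exact this

theorem main (π : V ⟶ X) [LocallyOfFiniteType π]
    (j : X ⟶ V) [IsClosedImmersion j] (hj : j ≫ π = 𝟙 X)
    (hJ : BlowUp.IsEffCartierIdeal j.ker) (x : X) :
    ∃ _ : IsDomain ((π.fiber (π (j x))).presheaf.stalk (π.asFiber (j x))),
      IsDiscreteValuationRing ((π.fiber (π (j x))).presheaf.stalk (π.asFiber (j x))) := by
  have hv : π.fiberι (π (j x)) (π.asFiber (j x)) = j x := π.fiberι_asFiber (j x)
  haveI : LocallyOfFiniteType (π.fiberToSpecResidueField (π (j x))) :=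
    MorphismProperty.pullback_snd _ _ inferInstance
  haveI : IsLocallyNoetherian (π.fiber (π (j x))) :=
    LocallyOfFiniteType.isLocallyNoetherian (π.fiberToSpecResidueField (π (j x)))
  exact aux2 π j hj hJ x _ hv _ ((π.fiberι (π (j x))).stalkMap (π.asFiber (j x))).hom
    ((π.fiberι (π (j x))).stalkMap_surjective _)
    (Groth.Agent.Lib.helper7.FibStalk.ker_stalkMap_fiberι π (π (j x)) (π.asFiber (j x)))

end Groth.Agent.Lib.helper26.FibSec
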