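import Mathlib

/-! Structure of finite-dimensional commutative algebras over an algebraically closed field. -/

set_option linter.style.haveILetI false

namespace Groth.Agent.Lib.helper26.FinAlg

universe u v

variable (k : Type u) [Field k] [IsAlgClosed k] (A : Type v) [CommRing A] [Algebra k A]
  [Module.Finite k A]

/-- Every maximal ideal is the kernel of a `k`-point. -/
theorem exists_algHom_ker_eq (m : Ideal A) [hm : m.IsMaximal] :
    ∃ f : A →ₐ[k] k, RingHom.ker f = m := by
  letI : Field (A ⧸ m) := Ideal.Quotient.field m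
  haveI : Module.Finite k (A ⧸ m) :=
    Module.Finite.of_surjective (Ideal.Quotient.mkₐ k m).toLinearMap (Ideal.Quotient.mkₐ_surjective k m)
  haveI : Algebra.IsIntegral k (A ⧸ m) := Algebra.IsIntegral.of_finite k (A ⧸ m)
  have hbij : Function.Bijective (algebraMap k (A ⧸ m)) :=
    IsAlgClosed.algebraMap_bijective_of_isIntegral
  let e : k ≃ₐ[k] (A ⧸ m) := AlgEquiv.ofBijective (Algebra.ofId k (A ⧸ m)) hbij
  refine ⟨(e.symm : (A ⧸ m) →ₐ[k] k).comp (Ideal.Quotient.mkₐ k m), ?_⟩
  ext a
  rw [RingHom.mem_ker]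
  show e.symm (Ideal.Quotient.mk m a) = 0 ↔ a ∈ m
  rw [map_eq_zero_iff _ e.symm.injective, Ideal.Quotient.eq_zero_iff_mem]

omit [IsAlgClosed k] [Module.Finite k A] in
theorem algHom_surjective (f : A →ₐ[k] k) : Function.Surjective f := fun c =>
  ⟨algebraMap k A c, by simp⟩

omit [IsAlgClosed k] [Module.Finite k A] in
theorem ker_isMaximal (f : A →ₐ[k] k) : (RingHom.ker f).IsMaximal :=
  RingHom.ker_isMaximal_of_surjective (f : A →+* k) (algHom_surjective k A f)

/-- The nilradical is the set of elements killed by all `k`-points. -/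
theorem mem_nilradical_iff (a : A) : a ∈ nilradical A ↔ ∀ f : A →ₐ[k] k, f a = 0 := by
  haveI : IsArtinianRing A := IsArtinianRing.of_finite k A
  constructor
  · intro ha f
    have : IsNilpotent (f a) := (mem_nilradical.mp ha).map f
    exact this.eq_zero
  · intro h
    rw [nilradical_eq_sInf, Ideal.mem_sInf]
    intro p hp
    haveI : p.IsPrime := hp
    haveI : p.IsMaximal := IsArtinianRing.isMaximal_of_isPrime p
    obtain ⟨f, hf⟩ := exists_algHom_ker_eq k A p
    rw [← hf, RingHom.mem_ker]
    exact h f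

omit [IsAlgClosed k] in
theorem finite_algHom : Finite (A →ₐ[k] k) := by
  have hli := linearIndependent_toLinearMap k A k
  haveI : Module.Finite k (A →ₗ[k] k) := inferInstance
  exact hli.finite

/-- the evaluation map `A → (E → k)` -/
noncomputable def ev : A →ₐ[k] ((A →ₐ[k] k) → k) := AlgHom.pi (R := k) (fun f : A →ₐ[k] k => f)

omit [IsAlgClosed k] in
theorem ev_surjective : Function.Surjective (ev k A) := by
  classical
  haveI := finite_algHom k A
  cases nonempty_fintype (A →ₐ[k] k)
  have hli := linearIndependent_toLinearMap k A k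
  -- range is a subspace; if proper, there is a nonzero functional vanishing on it
  by_contra hns
  have hlt : LinearMap.range (ev k A).toLinearMap < ⊤ := by
    rw [lt_top_iff_ne_top]
    intro h
    apply hns
    exact LinearMap.range_eq_top.mp h
  obtain ⟨φ, hφ0, hφ⟩ := Submodule.exists_le_ker_of_lt_top _ hlt
  -- φ = ∑ c_f eval_f
  have hsum : ∀ a : A, ∑ f : A →ₐ[k] k, φ (Pi.single f 1) * f a = 0 := by
    intro a
    have h1 : φ ((ev k A) a) = 0 := by
      have : (ev k A).toLinearMap a ∈ LinearMap.ker φ := hφ ⟨a, rfl⟩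
      exact this
    have h2 : (ev k A) a = ∑ f : A →ₐ[k] k, f a • (Pi.single f (1 : k) : (A →ₐ[k] k) → k) := by
      ext g
      simp [ev, Finset.sum_apply, Pi.single_apply]
    rw [h2, map_sum] at h1
    rw [← h1]
    apply Finset.sum_congr rfl
    intro f _
    rw [map_smul, smul_eq_mul, mul_comm]
  have hzero : ∀ f : A →ₐ[k] k, φ (Pi.single f 1) = 0 := by
    have h3 : ∑ f : A →ₐ[k] k, φ (Pi.single f 1) • (f.toLinearMap : A →ₗ[k] k) = 0 := by
      ext a
      rw [LinearMap.sum_apply, LinearMap.zero_apply]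
      simp only [LinearMap.smul_apply, AlgHom.toLinearMap_apply, smul_eq_mul]
      exact hsum a
    exact Fintype.linearIndependent_iff.mp hli _ h3
  apply hφ0
  apply LinearMap.ext
  intro x
  have hx : x = ∑ f : A →ₐ[k] k, x f • (Pi.single f (1 : k) : (A →ₐ[k] k) → k) := by
    ext g
    simp [Finset.sum_apply, Pi.single_apply]
  rw [hx, map_sum]
  simp [hzero]

theorem ker_ev : RingHom.ker (ev k A) = nilradical A := by
  ext a
  rw [RingHom.mem_ker, mem_nilradical_iff k A]
  constructor
  · intro h f
    exact congrFun h f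
  · intro h
    funext f
    exact h f


/-- The evaluation map has a `k`-algebra section. -/
theorem exists_section : ∃ σ : ((A →ₐ[k] k) → k) →ₐ[k] A,
    (ev k A).comp σ = AlgHom.id k ((A →ₐ[k] k) → k) := by
  classical
  haveI := finite_algHom k A
  cases nonempty_fintype (A →ₐ[k] k)
  have hnil : ∀ x ∈ RingHom.ker ((ev k A : A →ₐ[k] _) : A →+* ((A →ₐ[k] k) → k)), IsNilpotent x := by
    intro x hx
    have : x ∈ nilradical A := by rw [← ker_ev k A]; exact hx
    exact mem_nilradical.mp this
  obtain ⟨e, he, hfe⟩ := CompleteOrthogonalIdempotents.lift_of_isNilpotent_ker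
    ((ev k A : A →ₐ[k] _) : A →+* ((A →ₐ[k] k) → k)) hnil
    (CompleteOrthogonalIdempotents.single (fun _ : A →ₐ[k] k => k))
    (fun i => ev_surjective k A _)
  have hev : ∀ χ χ' : A →ₐ[k] k, χ' (e χ) = if χ = χ' then 1 else 0 := by
    intro χ χ'
    have h1 := congrFun (congrFun hfe χ) χ'
    simp only [Function.comp_apply] at h1
    have h2 : (ev k A (e χ)) χ' = χ' (e χ) := rfl
    rw [← h2]
    change (ev k A (e χ)) χ' = _ at h1
    rw [h1, Pi.single_apply]
    by_cases h : χ = χ'
    · simp [h]
    · have h' : ¬ χ' = χ := fun hh => h hh.symm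
      simp [h, h']
  let σl : ((A →ₐ[k] k) → k) →ₗ[k] A :=
    { toFun := fun c => ∑ χ, c χ • e χ
      map_add' := fun c c' => by simp [add_smul, Finset.sum_add_distrib]
      map_smul' := fun r c => by simp [Finset.smul_sum, smul_smul] }
  have hσl : ∀ c, σl c = ∑ χ, c χ • e χ := fun c => rfl
  have hone : σl 1 = 1 := by
    rw [hσl]
    simp only [Pi.one_apply, one_smul]
    exact he.complete
  have hmul : ∀ x y, σl (x * y) = σl x * σl y := by
    intro x y
    rw [hσl, hσl, hσl, Finset.sum_mul_sum]
    apply Finset.sum_congr rfl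
    intro χ _
    rw [Finset.sum_eq_single χ]
    · rw [smul_mul_smul_comm, (he.idem χ).eq]
      rfl
    · intro χ' _ hne
      rw [smul_mul_smul_comm, he.ortho hne.symm, smul_zero]
    · intro h; exact absurd (Finset.mem_univ χ) h
  refine ⟨AlgHom.ofLinearMap σl hone hmul, ?_⟩
  apply AlgHom.ext
  intro c
  funext χ'
  show χ' (σl c) = c χ'
  rw [hσl, map_sum]
  rw [Finset.sum_eq_single χ']
  · rw [map_smul, hev, if_pos rfl, smul_eq_mul, mul_one]
  · intro χ _ hne
    rw [map_smul, hev, if_neg hne, smul_zero]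
  · intro h; exact absurd (Finset.mem_univ χ') h

/-- two idempotents with the same `k`-points are equal -/
theorem idem_eq_of_ev_eq {e₁ e₂ : A} (h₁ : IsIdempotentElem e₁) (h₂ : IsIdempotentElem e₂)
    (h : ev k A e₁ = ev k A e₂) : e₁ = e₂ := by
  apply eq_of_isNilpotent_sub_of_isIdempotentElem h₁ h₂
  have : e₁ - e₂ ∈ nilradical A := by
    rw [← ker_ev k A, RingHom.mem_ker, map_sub, h, sub_self]
  exact mem_nilradical.mp this

/-- any idempotent lies in the range of any section of `ev` -/
theorem idem_mem_range (σ : ((A →ₐ[k] k) → k) →ₐ[k] A)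
    (hσ : (ev k A).comp σ = AlgHom.id k ((A →ₐ[k] k) → k)) {e : A} (he : IsIdempotentElem e) :
    σ (ev k A e) = e := by
  apply idem_eq_of_ev_eq k A _ he
  · exact congrFun (congrArg DFunLike.coe hσ) (ev k A e)
  · exact (he.map (ev k A)).map σ

omit [IsAlgClosed k] [Module.Finite k A] in
/-- every function is a linear combination of indicator idempotents -/
theorem pi_eq_sum_single [Fintype (A →ₐ[k] k)] [DecidableEq (A →ₐ[k] k)] (c : (A →ₐ[k] k) → k) :
    c = ∑ χ, c χ • (Pi.single χ (1 : k) : (A →ₐ[k] k) → k) := by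
  ext g
  simp [Finset.sum_apply, Pi.single_apply]

end Groth.Agent.Lib.helper26.FinAlg
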