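import Mathlib
import Groth.Prelude.Def_Found
import Groth.Agent.Lib.helper26.FinNag

set_option autoImplicit false
universe u

namespace Groth.Agent.Lib.helper26.FinNag

attribute [local instance] FractionRing.liftAlgebra

/-- integral closure of a Noetherian N-2 domain in a finitely generated field extension of its
fraction field is finite. -/
theorem finite_integralClosure_of_isN2_field (A E : Type u) [CommRing A] [IsDomain A]
    [IsNoetherianRing A] (hA : CAlg.IsN2 A) [Field E] [Algebra A E] [FaithfulSMul A E]
    (s : Finset E) (hs : IntermediateField.adjoin (FractionRing A) (s : Set E) = ⊤) :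
    Module.Finite A (integralClosure A E) := by
  classical
  haveI hfd := FgAlgClosure.finiteDimensional_algebraicClosure_of_fg s hs
  have hfin : Module.Finite A (integralClosure A (algebraicClosure (FractionRing A) E)) :=
    hA (algebraicClosure (FractionRing A) E) hfd
  have hmem : ∀ b : E, IsIntegral A b → b ∈ algebraicClosure (FractionRing A) E := by
    intro b hb
    rw [mem_algebraicClosure_iff']
    exact hb.tower_top
  haveI htow : IsScalarTower A (algebraicClosure (FractionRing A) E) E :=
    IsScalarTower.of_algebraMap_eq (fun a => rfl)
  have hint : ∀ (b : E) (hb : IsIntegral A b),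
      IsIntegral A (⟨b, hmem b hb⟩ : algebraicClosure (FractionRing A) E) := by
    intro b hb
    rw [← isIntegral_algHom_iff (IsScalarTower.toAlgHom A
      (algebraicClosure (FractionRing A) E) E)
      (algebraMap (algebraicClosure (FractionRing A) E) E).injective]
    exact hb
  let j : integralClosure A E →ₗ[A] integralClosure A (algebraicClosure (FractionRing A) E) :=
    { toFun := fun b => ⟨⟨b.1, hmem b.1 b.2⟩, hint b.1 b.2⟩
      map_add' := fun x y => by
        apply Subtype.ext; apply Subtype.ext
        simp
      map_smul' := fun a x => by
        apply Subtype.ext; apply Subtype.ext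
        simp only [Algebra.smul_def, RingHom.id_apply]
        rfl }
  have hj : Function.Injective j := by
    intro x y hxy
    apply Subtype.ext
    have h1 : ((j x : algebraicClosure (FractionRing A) E) : E) =
        ((j y : algebraicClosure (FractionRing A) E) : E) := by rw [hxy]
    exact h1
  exact Module.Finite.of_injective j hj

/-- integral closure of a Nagata ring in a field finitely generated (as a field) over the image
is finite. -/
theorem finite_integralClosure_field (R : Type u) [CommRing R] (hR : CAlg.IsNagata R)
    (E : Type u) [Field E] [Algebra R E] (t : Finset E)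
    (ht : ∀ e : E, e ∈ Subfield.closure (Set.range (algebraMap R E) ∪ (t : Set E))) :
    Module.Finite R (integralClosure R E) := by
  haveI := hR.1
  haveI hp : (RingHom.ker (algebraMap R E)).IsPrime := RingHom.ker_isPrime _
  have hN2 : CAlg.IsN2 (R ⧸ RingHom.ker (algebraMap R E)) := hR.2 _
  letI algAE : Algebra (R ⧸ RingHom.ker (algebraMap R E)) E :=
    (RingHom.kerLift (algebraMap R E)).toAlgebra
  haveI : IsScalarTower R (R ⧸ RingHom.ker (algebraMap R E)) E :=
    IsScalarTower.of_algebraMap_eq (fun r => rfl)
  have hinj : Function.Injective (algebraMap (R ⧸ RingHom.ker (algebraMap R E)) E) :=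
    RingHom.kerLift_injective _
  haveI : FaithfulSMul (R ⧸ RingHom.ker (algebraMap R E)) E :=
    (faithfulSMul_iff_algebraMap_injective _ _).2 hinj
  have hs : IntermediateField.adjoin (FractionRing (R ⧸ RingHom.ker (algebraMap R E)))
      (t : Set E) = ⊤ := by
    rw [eq_top_iff]
    intro e _
    have hle : Subfield.closure (Set.range (algebraMap R E) ∪ (t : Set E)) ≤
        (IntermediateField.adjoin (FractionRing (R ⧸ RingHom.ker (algebraMap R E)))
          (t : Set E)).toSubfield := by
      rw [Subfield.closure_le]
      rintro x (⟨r, rfl⟩ | hx)
      · show algebraMap R E r ∈ IntermediateField.adjoin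
          (FractionRing (R ⧸ RingHom.ker (algebraMap R E))) (t : Set E)
        rw [IsScalarTower.algebraMap_apply R (R ⧸ RingHom.ker (algebraMap R E)) E,
          IsScalarTower.algebraMap_apply (R ⧸ RingHom.ker (algebraMap R E))
            (FractionRing (R ⧸ RingHom.ker (algebraMap R E))) E]
        exact IntermediateField.algebraMap_mem _ _
      · exact IntermediateField.subset_adjoin _ _ hx
    exact hle (ht e)
  have h1 := finite_integralClosure_of_isN2_field (R ⧸ RingHom.ker (algebraMap R E)) E hN2 t hs
  have h2 : ((integralClosure (R ⧸ RingHom.ker (algebraMap R E)) E).toSubmodule.restrictScalars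
      R).FG := Submodule.FG.restrictScalars (Module.Finite.iff_fg.1 h1)
  have h3 : (integralClosure R E).toSubmodule ≤
      (integralClosure (R ⧸ RingHom.ker (algebraMap R E)) E).toSubmodule.restrictScalars R := by
    intro b hb
    exact IsIntegral.tower_top (A := R ⧸ RingHom.ker (algebraMap R E)) hb
  exact Module.Finite.of_fg (Submodule.FG.of_le h2 h3)

end Groth.Agent.Lib.helper26.FinNag
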