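import Mathlib
import Groth.Prelude.Def_Found
import Groth.Agent.Lib.helper26.FinNagField
import Groth.Agent.Lib.helper26.NormGen

set_option autoImplicit false
universe u
open CategoryTheory CategoryTheory.Limits AlgebraicGeometry

namespace Groth.Agent.Lib.helper26.FinNag

/-- elements of the residue field at a point of an affine open are quotients of evaluations. -/
theorem exists_evaluation_div {S : Scheme.{u}} (U : S.affineOpens) (s : S) (hs : s ∈ U.1)
    (x : S.residueField s) :
    ∃ a b : Γ(S, U.1), S.evaluation U.1 s hs b ≠ 0 ∧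
      x = S.evaluation U.1 s hs a / S.evaluation U.1 s hs b := by
  obtain ⟨y, rfl⟩ := S.residue_surjective s x
  letI := TopCat.Presheaf.algebra_section_stalk S.presheaf ⟨s, hs⟩
  haveI hloc := U.2.isLocalization_stalk ⟨s, hs⟩
  obtain ⟨a, b, rfl⟩ := IsLocalization.exists_mk'_eq
    (U.2.primeIdealOf ⟨s, hs⟩).asIdeal.primeCompl y
  have hunit : IsUnit (S.presheaf.germ U.1 s hs b.1) :=
    IsLocalization.map_units (S.presheaf.stalk s) b
  have hne : S.evaluation U.1 s hs b.1 ≠ 0 := (hunit.map (S.residue s).hom).ne_zero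
  refine ⟨a, b.1, hne, ?_⟩
  rw [eq_div_iff hne]
  have h1 : IsLocalization.mk' (S.presheaf.stalk s) a b * S.presheaf.germ U.1 s hs b.1 =
      S.presheaf.germ U.1 s hs a := IsLocalization.mk'_spec _ a b
  have h2 := congrArg (S.residue s).hom h1
  rw [map_mul] at h2
  exact h2

/-- finiteness of the integral closure of `Γ(S,U)` in the residue field of a point of `X`
whose residue field extension is essentially of finite type. -/
theorem finite_integralClosure_residueField {X S : Scheme.{u}} (f : X ⟶ S) (U : S.affineOpens)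
    (hU : CAlg.IsNagata Γ(S, U.1)) (x : X) (hx : x ∈ f ⁻¹ᵁ U.1)
    (hres : (f.residueFieldMap x).hom.EssFiniteType) :
    letI := (f.app U.1 ≫ X.evaluation (f ⁻¹ᵁ U.1) x hx).hom.toAlgebra
    Module.Finite Γ(S, U.1) (integralClosure Γ(S, U.1) (X.residueField x)) := by
  letI algE := (f.app U.1 ≫ X.evaluation (f ⁻¹ᵁ U.1) x hx).hom.toAlgebra
  letI algFE := (f.residueFieldMap x).hom.toAlgebra
  haveI : Algebra.EssFiniteType (S.residueField (f x)) (X.residueField x) := hres
  obtain ⟨t, ht⟩ := IntermediateField.fg_top (S.residueField (f x)) (X.residueField x)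
  refine finite_integralClosure_field Γ(S, U.1) hU (X.residueField x) t (fun e => ?_)
  have he : e ∈ IntermediateField.adjoin (S.residueField (f x)) (t : Set (X.residueField x)) := by
    rw [ht]; trivial
  have he' : e ∈ Subfield.closure (Set.range (algebraMap (S.residueField (f x))
      (X.residueField x)) ∪ (t : Set (X.residueField x))) := he
  have hle : Subfield.closure (Set.range (algebraMap (S.residueField (f x))
      (X.residueField x)) ∪ (t : Set (X.residueField x))) ≤
      Subfield.closure (Set.range (algebraMap Γ(S, U.1) (X.residueField x)) ∪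
        (t : Set (X.residueField x))) := by
    rw [Subfield.closure_le]
    rintro y (⟨z, rfl⟩ | hy)
    · obtain ⟨a, b, hb, rfl⟩ := exists_evaluation_div U (f x) hx z
      have hnat : ∀ c : Γ(S, U.1), algebraMap (S.residueField (f x)) (X.residueField x)
          (S.evaluation U.1 (f x) hx c) = algebraMap Γ(S, U.1) (X.residueField x) c :=
        fun c => Scheme.evaluation_naturality_apply f x hx c
      rw [map_div₀, hnat, hnat]
      exact div_mem (Subfield.subset_closure (Or.inl ⟨a, rfl⟩))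
        (Subfield.subset_closure (Or.inl ⟨b, rfl⟩))
    · exact Subfield.subset_closure (Or.inr hy)
  exact hle he'

theorem finite_chart_of_nagata_ess {X S : Scheme.{u}} (f : X ⟶ S) [QuasiCompact f] [IsReduced X]
    (hfin : LocallyFinite (fun Z : ↥(irreducibleComponents ↥X) => (Z : Set ↥X)))
    (hres : ∀ x : X, closure {x} ∈ irreducibleComponents ↥X →
      (f.residueFieldMap x).hom.EssFiniteType)
    (U : S.affineOpens) (hU : CAlg.IsNagata Γ(S, U.1)) :
    letI := (f.app U.1).hom.toAlgebra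
    Module.Finite Γ(S, U.1) (integralClosure Γ(S, U.1) Γ(X, f ⁻¹ᵁ U.1)) := by
  classical
  letI algT := (f.app U.1).hom.toAlgebra
  haveI := hU.1
  have hc : IsCompact ((f ⁻¹ᵁ U.1 : X.Opens) : Set X) := f.isCompact_preimage U.2.isCompact
  have hJfin := hfin.finite_nonempty_inter_compact hc
  haveI : Finite {Z : ↥(irreducibleComponents ↥X) |
      ((Z : Set ↥X) ∩ ((f ⁻¹ᵁ U.1 : X.Opens) : Set X)).Nonempty} := hJfin
  have hgen : ∀ Z : ↥(irreducibleComponents ↥X), ∃ η : X, IsGenericPoint η (Z : Set ↥X) :=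
    fun Z => QuasiSober.sober Z.2.1 (isClosed_of_mem_irreducibleComponents _ Z.2)
  choose η hη using hgen
  have hmem : ∀ Z : {Z : ↥(irreducibleComponents ↥X) |
      ((Z : Set ↥X) ∩ ((f ⁻¹ᵁ U.1 : X.Opens) : Set X)).Nonempty}, η Z.1 ∈ f ⁻¹ᵁ U.1 := by
    intro Z
    exact ((hη Z.1).mem_open_set_iff (f ⁻¹ᵁ U.1).isOpen).2 Z.2
  letI algB : ∀ Z : {Z : ↥(irreducibleComponents ↥X) |
      ((Z : Set ↥X) ∩ ((f ⁻¹ᵁ U.1 : X.Opens) : Set X)).Nonempty},
      Algebra Γ(S, U.1) (X.residueField (η Z.1)) := fun Z =>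
    (f.app U.1 ≫ X.evaluation (f ⁻¹ᵁ U.1) (η Z.1) (hmem Z)).hom.toAlgebra
  let ρ : ∀ Z : {Z : ↥(irreducibleComponents ↥X) |
      ((Z : Set ↥X) ∩ ((f ⁻¹ᵁ U.1 : X.Opens) : Set X)).Nonempty},
      Γ(X, f ⁻¹ᵁ U.1) →ₐ[Γ(S, U.1)] X.residueField (η Z.1) := fun Z =>
    { (X.evaluation (f ⁻¹ᵁ U.1) (η Z.1) (hmem Z)).hom with
      commutes' := fun a => rfl }
  refine finite_integralClosure_of_pi (J := {Z : ↥(irreducibleComponents ↥X) |
      ((Z : Set ↥X) ∩ ((f ⁻¹ᵁ U.1 : X.Opens) : Set X)).Nonempty})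
    (fun Z => X.residueField (η Z.1)) ρ ?_ ?_
  · intro t ht
    rw [← AlgebraicGeometry.basicOpen_eq_bot_iff]
    by_contra hne
    obtain ⟨x, hx⟩ : ((X.basicOpen t : X.Opens) : Set X).Nonempty := by
      by_contra hcon
      apply hne
      ext y
      simp only [TopologicalSpace.Opens.coe_bot, Set.mem_empty_iff_false, iff_false]
      exact fun hy => hcon ⟨y, hy⟩
    have hxW : x ∈ f ⁻¹ᵁ U.1 := X.basicOpen_le t hx
    let Z : ↥(irreducibleComponents ↥X) :=
      ⟨irreducibleComponent x, irreducibleComponent_mem_irreducibleComponents x⟩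
    have hZ : ((Z : Set ↥X) ∩ ((f ⁻¹ᵁ U.1 : X.Opens) : Set X)).Nonempty :=
      ⟨x, mem_irreducibleComponent, hxW⟩
    have hspec : η Z ⤳ x := (hη Z).specializes mem_irreducibleComponent
    have hηmem : η Z ∈ X.basicOpen t := hspec.mem_open (X.basicOpen t).isOpen hx
    have h0 : X.evaluation (f ⁻¹ᵁ U.1) (η Z) (hmem ⟨Z, hZ⟩) t = 0 := ht ⟨Z, hZ⟩
    rw [Scheme.evaluation_eq_zero_iff_notMem_basicOpen] at h0
    exact h0 hηmem
  · intro Z
    refine finite_integralClosure_residueField f U hU (η Z.1) (hmem Z) (hres _ ?_)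
    rw [(hη Z.1).def]
    exact Z.1.2

theorem isFinite_fromNormalization_of_nagata_ess {X S : Scheme.{u}} (f : X ⟶ S)
    [QuasiCompact f] [QuasiSeparated f] [IsReduced X]
    (hS : ∀ U : S.affineOpens, CAlg.IsNagata Γ(S, U))
    (hfin : LocallyFinite (fun Z : ↥(irreducibleComponents ↥X) => (Z : Set ↥X)))
    (hres : ∀ x : X, closure {x} ∈ irreducibleComponents ↥X →
      (f.residueFieldMap x).hom.EssFiniteType) :
    IsFinite f.fromNormalization :=
  NormGen.isFinite_of_chart f (fun U _ => finite_chart_of_nagata_ess f hfin hres U (hS U))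

end Groth.Agent.Lib.helper26.FinNag
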