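import Mathlib
import Groth.Agent.Lib.helper26.DimFun6
import Groth.Agent.Lib.helper26.DimFun2
import Groth.Agent.Lib.helper7.DimSch13

universe u
open AlgebraicGeometry CategoryTheory Topology TopologicalSpace IsLocalRing

namespace Groth.Agent.Lib.helper26.FlatFibDim

open Groth.Agent.Lib.helper26.DimJac Groth.Agent.Lib.helper26.DimPts
  Groth.Agent.Lib.helper26.DimFun4 Groth.Agent.Lib.helper7.DimSch

variable {X Y : Scheme.{u}} (f : X ⟶ Y) [Flat f] [LocallyOfFiniteType f]
    [IrreducibleSpace X] [IrreducibleSpace Y] (δX : X → ℤ) (δY : Y → ℤ) (hY : Cyc.IsSetup Y δY)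
    (hδ : Cyc.DeltaCompat f δX δY)

include hY hδ

/-- the key numerical identity at a point of a fibre. -/
theorem key (y : Y) (z : f.fiber y) :
    ∃ c : ℕ, ringKrullDim ((f.fiber y).presheaf.stalk z) = (c : ℕ) ∧
      δX (genericPoint X) - δY (genericPoint Y) = (c : ℤ) + (fiberTrdegNat f y z : ℤ) := by
  haveI := hY.1
  haveI : IsLocallyNoetherian X := LocallyOfFiniteType.isLocallyNoetherian f
  have hX : Cyc.IsDimFun X δX := isDimFun_of_deltaCompat f δY hY δX hδ
  set x := f.fiberι y z with hx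
  have hfx : f x = y := Groth.Agent.Lib.helper7.FibStalk.apply_fiberι f y z
  obtain ⟨h1, h1'⟩ := stalk_dim_eq_delta_sub δX hX x
  obtain ⟨h2, h2'⟩ := stalk_dim_eq_delta_sub δY hY.2.2 (f x)
  have h3 := ringKrullDim_stalk_eq_add_of_flat f y z
  obtain ⟨n, hn, hδx⟩ := hδ x
  have hn' : @Algebra.trdeg (Y.residueField (f x)) (X.residueField x) _ _
      (f.residueFieldMap x).hom.toAlgebra = n := hn
  have h4 := trdeg_residueFieldMap_eq_fiberTrdegNat f y z
  rw [← hx] at h3 h4
  have h4' : @Algebra.trdeg (Y.residueField (f x)) (X.residueField x) _ _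
      (f.residueFieldMap x).hom.toAlgebra = (fiberTrdegNat f y z : Cardinal) := h4
  rw [hn'] at h4'
  have hnz : n = fiberTrdegNat f y z := by exact_mod_cast h4'
  rw [h1, h2, add_comm] at h3
  obtain ⟨c, hc, hc'⟩ := exists_nat_of_add_eq h3.symm
  refine ⟨c, hc, ?_⟩
  rw [← hnz]
  omega

theorem nonneg : 0 ≤ δX (genericPoint X) - δY (genericPoint Y) := by
  obtain ⟨c, -, hc⟩ := key f δX δY hY hδ (f (genericPoint X)) (f.asFiber (genericPoint X))
  omega

theorem fiberTrdegNat_le (y : Y) (z : f.fiber y) :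
    fiberTrdegNat f y z ≤ (δX (genericPoint X) - δY (genericPoint Y)).toNat := by
  obtain ⟨c, -, hc⟩ := key f δX δY hY hδ y z
  omega

theorem fiberTrdegNat_eq_of_maximal (y : Y) (z : f.fiber y) (hmax : ∀ z', z' ⤳ z → z' = z) :
    fiberTrdegNat f y z = (δX (genericPoint X) - δY (genericPoint Y)).toNat := by
  obtain ⟨c, hc0, hc⟩ := key f δX δY hY hδ y z
  have h0 := Groth.Agent.Lib.helper26.DimFun6.stalk_dim_le_zero_of_maximal z hmax
  rw [hc0] at h0
  have : c = 0 := by
    have : (c : WithBot ℕ∞) ≤ ((0 : ℕ) : WithBot ℕ∞) := h0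
    have : c ≤ 0 := by exact_mod_cast this
    omega
  omega

theorem hasRelDim :
    Cyc.HasRelDim f (δX (genericPoint X) - δY (genericPoint Y)).toNat := by
  intro y T hT
  obtain ⟨z, hz⟩ := QuasiSober.sober hT.1 (isClosed_of_mem_irreducibleComponents T hT)
  have hcl : closure ({z} : Set (f.fiber y)) = T := hz.def
  have hmax : ∀ z', z' ⤳ z → z' = z :=
    (closure_mem_irreducibleComponents_iff z).mp (by rw [hcl]; exact hT)
  rw [← hcl, topologicalKrullDim_fiber_closure_singleton,
    fiberTrdegNat_eq_of_maximal f δX δY hY hδ y z hmax]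

theorem dim_fiber (x : X) :
    topologicalKrullDim ↥(f.fiber (f x)) =
      ((δX (genericPoint X) - δY (genericPoint Y)).toNat : WithBot ℕ∞) := by
  rw [topologicalKrullDim_fiber]
  apply le_antisymm
  · apply iSup_le
    intro z
    have := fiberTrdegNat_le f δX δY hY hδ (f x) z
    exact_mod_cast this
  · obtain ⟨T, hT, -⟩ := exists_mem_irreducibleComponents_subset_of_isIrreducible
      ({f.asFiber x}) isIrreducible_singleton
    obtain ⟨z, hz⟩ := QuasiSober.sober hT.1 (isClosed_of_mem_irreducibleComponents T hT)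
    have hcl : closure ({z} : Set (f.fiber (f x))) = T := hz.def
    have hmax : ∀ z', z' ⤳ z → z' = z :=
      (closure_mem_irreducibleComponents_iff z).mp (by rw [hcl]; exact hT)
    rw [← fiberTrdegNat_eq_of_maximal f δX δY hY hδ (f x) z hmax]
    exact le_iSup (fun z : f.fiber (f x) => ((fiberTrdegNat f (f x) z : ℕ∞) : WithBot ℕ∞)) z

end Groth.Agent.Lib.helper26.FlatFibDim
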