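import Mathlib
import Groth.Agent.Lib.helper7.DimSch11
import Groth.Agent.Lib.helper7.TensorDim6
import Groth.Prelude.Def_Cyc

universe u
open AlgebraicGeometry CategoryTheory Topology TopologicalSpace

namespace Groth.Agent.Lib.helper26.FlatRelDim

open Groth.Agent.Lib.helper7.DimSch Groth.Agent.Lib.helper7

variable {X Y : Scheme.{u}} (f : X ⟶ Y) [LocallyOfFiniteType f]

theorem fiber_stalk_data (d : ℕ) (hd : Cyc.HasRelDim f d) (y : Y) (w' : f.fiber y) :
    ringKrullDim ((f.fiber y).presheaf.stalk w') ≤ d ∧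
    ∀ U : (f.fiber y).Opens, w' ∈ U →
      ∃ z ∈ U, ringKrullDim ((f.fiber y).presheaf.stalk z) = d := by
  letI : (f.fiber y).Over (Spec (CommRingCat.of (Y.residueField y))) :=
    ⟨f.fiberToSpecResidueField y⟩
  haveI : LocallyOfFiniteType ((f.fiber y) ↘ Spec (CommRingCat.of (Y.residueField y))) :=
    (MorphismProperty.pullback_snd _ _ inferInstance :
      LocallyOfFiniteType (f.fiberToSpecResidueField y))
  have hle : ∀ z : f.fiber y, ringKrullDim ((f.fiber y).presheaf.stalk z) ≤ d := by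
    intro z
    have h := ringKrullDim_stalk_add_trdegNat (Y.residueField y) (f.fiber y) d (hd y) z
    rw [← h]
    exact le_add_of_nonneg_right (by exact_mod_cast Nat.zero_le _)
  refine ⟨hle w', fun U hU => ?_⟩
  have h := ringKrullDim_stalk_add_trdegNat (Y.residueField y) (f.fiber y) d (hd y) w'
  obtain ⟨b, hb, hbd⟩ := exists_nat_of_add_eq h
  obtain ⟨z, hzU, -, hz⟩ := exists_isClosed_stalk_ge (Y.residueField y) (f.fiber y) w'
    (trdegNat (Y.residueField y) (f.fiber y) w') b (trdegNat_spec _ _ _) hb U hU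
  refine ⟨z, hzU, le_antisymm (hle z) ?_⟩
  have : trdegNat (Y.residueField y) (f.fiber y) w' + b = d := by omega
  rw [this] at hz
  exact hz

variable [Flat f] [IsLocallyNoetherian X] [IsLocallyNoetherian Y]

theorem stalk_formula (w : X) :
    ringKrullDim (X.presheaf.stalk w) = ringKrullDim (Y.presheaf.stalk (f w)) +
      ringKrullDim ((f.fiber (f w)).presheaf.stalk (f.asFiber w)) := by
  have h := ringKrullDim_stalk_eq_add_of_flat f (f w) (f.asFiber w)
  have e : f.fiberι (f w) (f.asFiber w) = w := f.fiberι_asFiber w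
  have h1 : ringKrullDim (X.presheaf.stalk (f.fiberι (f w) (f.asFiber w))) =
      ringKrullDim (X.presheaf.stalk w) :=
    congrArg (fun t => ringKrullDim (X.presheaf.stalk t)) e
  have h2 : ringKrullDim (Y.presheaf.stalk (f (f.fiberι (f w) (f.asFiber w)))) =
      ringKrullDim (Y.presheaf.stalk (f w)) :=
    congrArg (fun t => ringKrullDim (Y.presheaf.stalk (f t))) e
  rw [h1, h2] at h
  exact h

theorem nat_le_iSup {ι : Type*} [Nonempty ι] (a : ι → WithBot ℕ∞) (h0 : ∀ i, 0 ≤ a i) (m : ℕ)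
    (hm : (m : WithBot ℕ∞) ≤ ⨆ i, a i) : ∃ i, (m : WithBot ℕ∞) ≤ a i := by
  rcases Nat.eq_zero_or_pos m with rfl | hpos
  · exact ⟨Classical.arbitrary ι, by simpa using h0 _⟩
  · obtain ⟨k, rfl⟩ : ∃ k, m = k + 1 := ⟨m - 1, by omega⟩
    have hlt : ((k : ℕ) : WithBot ℕ∞) < ⨆ i, a i := by
      refine lt_of_lt_of_le ?_ hm
      exact_mod_cast Nat.lt_succ_self k
    obtain ⟨i, hi⟩ := lt_iSup_iff.mp hlt
    refine ⟨i, ?_⟩
    rcases TensorDim.eq_top_or_exists_nat (a i) (h0 i) with h | ⟨r, hr⟩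
    · rw [h]; exact le_top
    · rw [hr] at hi ⊢
      have : k < r := by exact_mod_cast hi
      exact_mod_cast this

theorem add_le_of_forall_nat (x M : WithBot ℕ∞) (d : ℕ)
    (h : ∀ m : ℕ, (m : WithBot ℕ∞) ≤ x → ((m + d : ℕ) : WithBot ℕ∞) ≤ M) :
    x + (d : WithBot ℕ∞) ≤ M := by
  induction x using WithBot.recBotCoe with
  | bot => simp
  | coe x =>
    induction x using ENat.recTopCoe with
    | top =>
      have : M = ⊤ := by
        apply TensorDim.eq_top_of_forall_nat_le
        intro r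
        have := h r le_top
        refine le_trans ?_ this
        exact_mod_cast Nat.le_add_right r d
      rw [this]; exact le_top
    | coe n =>
      have := h n le_rfl
      refine le_trans (le_of_eq ?_) this
      push_cast
      rfl

theorem dim_opens_eq (d : ℕ) (hd : Cyc.HasRelDim f d) (W : X.Opens) :
    topologicalKrullDim ↥(W : Set X) =
      topologicalKrullDim ↥(f.base '' (W : Set X)) + (d : WithBot ℕ∞) := by
  let V : Y.Opens := ⟨f.base '' (W : Set X), f.isOpenMap _ W.2⟩
  have hV : topologicalKrullDim ↥(f.base '' (W : Set X)) =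
      ⨆ y : V, ringKrullDim (Y.presheaf.stalk y.1) := topologicalKrullDim_opens V
  rw [hV, topologicalKrullDim_opens W]
  apply le_antisymm
  · refine iSup_le fun w => ?_
    rw [stalk_formula f w.1]
    refine add_le_add ?_ (fiber_stalk_data f d hd _ _).1
    exact le_iSup (fun y : V => ringKrullDim (Y.presheaf.stalk y.1)) ⟨f w.1, w.1, w.2, rfl⟩
  · rcases isEmpty_or_nonempty ↥V with hne | hne
    · rw [iSup_of_empty]; simp
    · apply add_le_of_forall_nat
      intro m hm
      obtain ⟨⟨y, w, hwW, rfl⟩, hy⟩ := nat_le_iSup _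
        (fun y : V => ringKrullDim_nonneg_of_nontrivial) m hm
      -- find a point of the fibre in W with fibre stalk of dim d
      let U' : (f.fiber (f w)).Opens := (f.fiberι (f w)) ⁻¹ᵁ W
      have hwU' : f.asFiber w ∈ U' := by
        change f.fiberι (f w) (f.asFiber w) ∈ W
        rw [f.fiberι_asFiber]; exact hwW
      obtain ⟨z, hzU', hz⟩ := (fiber_stalk_data f d hd (f w) (f.asFiber w)).2 U' hwU'
      have hfz : f (f.fiberι (f w) z) = f w := by
        have : f.fiberι (f w) z ∈ Set.range (f.fiberι (f w)) := ⟨z, rfl⟩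
        rw [f.range_fiberι] at this
        exact this
      have hform := ringKrullDim_stalk_eq_add_of_flat f (f w) z
      rw [hz] at hform
      have h2 : ringKrullDim (Y.presheaf.stalk (f (f.fiberι (f w) z))) =
          ringKrullDim (Y.presheaf.stalk (f w)) :=
        congrArg (fun t => ringKrullDim (Y.presheaf.stalk t)) hfz
      rw [h2] at hform
      have h3 : ((m + d : ℕ) : WithBot ℕ∞) ≤ ringKrullDim (X.presheaf.stalk (f.fiberι (f w) z)) := by
        rw [hform]
        push_cast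
        exact add_le_add hy le_rfl
      exact h3.trans (le_iSup (fun w : W => ringKrullDim (X.presheaf.stalk w.1))
        ⟨f.fiberι (f w) z, hzU'⟩)

theorem localDim_eq_add (d : ℕ) (hd : Cyc.HasRelDim f d) (x : X) :
    FlatMor.localDim X x = FlatMor.localDim Y (f.base x) + (d : WithBot ℕ∞) := by
  unfold FlatMor.localDim
  haveI : Nonempty {W : Opens X // x ∈ W} := ⟨⟨⊤, trivial⟩⟩
  haveI : Nonempty {V : Opens Y // f.base x ∈ V} := ⟨⟨⊤, trivial⟩⟩
  obtain ⟨W₀, hW₀⟩ := ciInf_mem
    (fun U : {U : Opens X // x ∈ U} => topologicalKrullDim (U.1 : Set X))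
  obtain ⟨V₀, hV₀⟩ := ciInf_mem
    (fun U : {U : Opens Y // f.base x ∈ U} => topologicalKrullDim (U.1 : Set Y))
  simp only at hW₀ hV₀
  apply le_antisymm
  · rw [← hV₀]
    let W : {W : Opens X // x ∈ W} := ⟨f ⁻¹ᵁ V₀.1, V₀.2⟩
    refine (iInf_le _ W).trans ?_
    change topologicalKrullDim ↥((f ⁻¹ᵁ V₀.1 : X.Opens) : Set X) ≤ _
    rw [dim_opens_eq f d hd (f ⁻¹ᵁ V₀.1)]
    refine add_le_add ?_ le_rfl
    have hsub : f.base '' ((f ⁻¹ᵁ V₀.1 : X.Opens) : Set X) ⊆ (V₀.1 : Set Y) := by
      rintro _ ⟨a, ha, rfl⟩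
      exact ha
    exact (IsEmbedding.inclusion hsub).isInducing.topologicalKrullDim_le
  · rw [← hW₀]
    have h1 := dim_opens_eq f d hd W₀.1
    rw [h1]
    refine add_le_add ?_ le_rfl
    let V : {V : Opens Y // f.base x ∈ V} :=
      ⟨⟨f.base '' (W₀.1 : Set X), f.isOpenMap _ W₀.1.2⟩, ⟨x, W₀.2, rfl⟩⟩
    exact iInf_le (fun U : {U : Opens Y // f.base x ∈ U} => topologicalKrullDim (U.1 : Set Y)) V

end Groth.Agent.Lib.helper26.FlatRelDim
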