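import Mathlib

namespace Groth.Agent.Lib.helper26

open Finset Function fwdDiff

variable {A : Type*} [CommRing A]

theorem fwdDiff_pow_eq (h : A) (j : ℕ) :
    (Δ_[h] fun r : A ↦ r ^ j) = ∑ i ∈ range j, ((j.choose i : A) * h ^ (j - i)) • fun r : A ↦ r ^ i := by
  ext x
  simp only [fwdDiff, add_pow, sum_range_succ, Nat.sub_self, pow_zero, mul_one, Nat.choose_self,
    Nat.cast_one, add_sub_cancel_right, Finset.sum_apply, Pi.smul_apply, smul_eq_mul]
  apply Finset.sum_congr rfl
  intro i _
  ring

theorem fwdDiff_iter_pow_eq_zero (h : A) {j n : ℕ} (hjn : j < n) :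
    (fwdDiff h)^[n] (fun r : A ↦ r ^ j) = 0 := by
  induction n generalizing j with
  | zero => omega
  | succ n ih =>
    rw [iterate_succ_apply, fwdDiff_pow_eq, fwdDiff_iter_finsetSum]
    exact sum_eq_zero fun i hi ↦ by
      rw [fwdDiff_iter_const_smul, ih (by have := mem_range.1 hi; omega), smul_zero]

theorem fwdDiff_iter_pow_self (h : A) (n : ℕ) :
    (fwdDiff h)^[n] (fun r : A ↦ r ^ n) = fun _ ↦ (n.factorial : A) * h ^ n := by
  induction n with
  | zero => ext x; simp
  | succ n IH =>
    rw [iterate_succ_apply, fwdDiff_pow_eq, fwdDiff_iter_finsetSum, sum_range_succ,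
      sum_eq_zero (fun i hi ↦ by
        rw [fwdDiff_iter_const_smul, fwdDiff_iter_pow_eq_zero h (mem_range.1 hi), smul_zero]),
      zero_add, fwdDiff_iter_const_smul, IH]
    ext x
    simp only [Pi.smul_apply, smul_eq_mul, Nat.factorial_succ]
    have : n + 1 - n = 1 := by omega
    rw [this, Nat.choose_succ_self_right]
    push_cast
    ring

theorem two_mul_choose_two (n : ℕ) : 2 * (n + 1).choose 2 = n * (n + 1) := by
  induction n with
  | zero => simp
  | succ n ih =>
    rw [Nat.choose_succ_succ' (n + 1) 1, Nat.choose_one_right]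
    nlinarith [ih]

theorem half_eq (n : ℕ) : n * (n + 1).factorial / 2 = (n + 1).choose 2 * n.factorial := by
  have h := two_mul_choose_two n
  rw [Nat.factorial_succ]
  have : n * ((n + 1) * n.factorial) = 2 * ((n + 1).choose 2 * n.factorial) := by
    rw [← mul_assoc, ← mul_assoc, h]
  rw [this, Nat.mul_div_cancel_left _ (by norm_num : 0 < 2)]

theorem fwdDiff_iter_pow_succ (h : A) (n : ℕ) (x : A) :
    (fwdDiff h)^[n] (fun r : A ↦ r ^ (n + 1)) x =
      ((n + 1).factorial : A) * x * h ^ n + (((n + 1).choose 2 * n.factorial : ℕ) : A) * h ^ (n + 1) := by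
  induction n generalizing x with
  | zero => simp
  | succ n IH =>
    rw [iterate_succ_apply, fwdDiff_pow_eq, fwdDiff_iter_finsetSum, sum_range_succ, sum_range_succ,
      sum_eq_zero (fun i hi ↦ by
        rw [fwdDiff_iter_const_smul, fwdDiff_iter_pow_eq_zero h (mem_range.1 hi), smul_zero]),
      zero_add, fwdDiff_iter_const_smul, fwdDiff_iter_const_smul, fwdDiff_iter_pow_self]
    simp only [Pi.add_apply, Pi.smul_apply, smul_eq_mul, IH]
    have e1 : n + 1 + 1 - n = 2 := by omega
    have e2 : n + 1 + 1 - (n + 1) = 1 := by omega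
    rw [e1, e2, Nat.choose_succ_self_right]
    have e3 : (n + 1 + 1).choose n = (n + 2).choose 2 := by
      rw [show n + 1 + 1 = n + 2 by rfl, ← Nat.choose_symm_add]
    rw [e3]
    have key : (n + 2) * ((n + 1).choose 2 * n.factorial) + (n + 2).choose 2 * n.factorial
        = (n + 2).choose 2 * (n + 1).factorial := by
      have h1 := two_mul_choose_two n
      have h2 := two_mul_choose_two (n + 1)
      rw [Nat.factorial_succ]
      have : 2 * ((n + 2) * ((n + 1).choose 2 * n.factorial) + (n + 2).choose 2 * n.factorial)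
          = 2 * ((n + 2).choose 2 * ((n + 1) * n.factorial)) := by
        calc 2 * ((n + 2) * ((n + 1).choose 2 * n.factorial) + (n + 2).choose 2 * n.factorial)
            = (n + 2) * (2 * (n + 1).choose 2) * n.factorial + (2 * (n + 2).choose 2) * n.factorial := by ring
          _ = (n + 2) * (n * (n + 1)) * n.factorial + ((n + 1) * (n + 2)) * n.factorial := by rw [h1, h2]
          _ = (2 * (n + 2).choose 2) * ((n + 1) * n.factorial) := by rw [h2]; ring
          _ = 2 * ((n + 2).choose 2 * ((n + 1) * n.factorial)) := by ring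
      exact Nat.eq_of_mul_eq_mul_left (by norm_num) this
    have key' := congrArg (Nat.cast : ℕ → A) key
    push_cast at key' ⊢
    simp only [Nat.factorial_succ] at key' ⊢
    push_cast at key' ⊢
    linear_combination (h ^ (n + 2)) * key'

end Groth.Agent.Lib.helper26
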