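import Groth.Agent.Lib.helper26.GlueDimOne

set_option autoImplicit false
universe u

namespace Groth.Agent.Lib.helper26.GlueDVR

open Groth.Agent.Lib.helper26.GlueDimOne

/-- A semilocal domain that is not a field has a nonzero element in its Jacobson radical. -/
lemma exists_ne_zero_mem_jacobson (A : Type*) [CommRing A] [IsDomain A] (hnf : ¬ IsField A)
    [Finite (MaximalSpectrum A)] : ∃ t : A, t ≠ 0 ∧ t ∈ (⊥ : Ideal A).jacobson := by
  classical
  haveI := Fintype.ofFinite (MaximalSpectrum A)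
  have hex : ∀ m : MaximalSpectrum A, ∃ s : A, s ∈ m.asIdeal ∧ s ≠ 0 := by
    intro m
    apply Submodule.exists_mem_ne_zero_of_ne_bot
    intro h
    apply hnf
    have hm := m.isMaximal
    rw [h] at hm
    exact Ring.isField_iff_maximal_bot.2 hm
  choose s hs hs0 using hex
  refine ⟨∏ m, s m, Finset.prod_ne_zero_iff.2 (fun m _ => hs0 m), ?_⟩
  rw [Ideal.jacobson, Ideal.mem_sInf]
  rintro J ⟨-, hJ⟩
  obtain ⟨c, hc⟩ := Finset.dvd_prod_of_mem s (Finset.mem_univ (⟨J, hJ⟩ : MaximalSpectrum A))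
  rw [hc]
  exact Ideal.mul_mem_right _ _ (hs ⟨J, hJ⟩)

lemma inv_mem_jacobson_of_not_mem {K : Type*} [Field K] (B : ValuationSubring K) (x : K)
    (hx : x ∉ B) :
    ∃ h : x⁻¹ ∈ B.toSubring, (⟨x⁻¹, h⟩ : B.toSubring) ∈ (⊥ : Ideal B.toSubring).jacobson := by
  have hinvB : x⁻¹ ∈ B := (B.mem_or_inv_mem x).resolve_left hx
  have hx0 : x ≠ 0 := fun h => hx (by rw [h]; exact B.zero_mem)
  refine ⟨hinvB, ?_⟩
  haveI : IsLocalRing ↥B.toSubring := inferInstanceAs (IsLocalRing B)
  rw [IsLocalRing.jacobson_eq_maximalIdeal ⊥ bot_ne_top, IsLocalRing.mem_maximalIdeal,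
    mem_nonunits_iff]
  intro hunit
  obtain ⟨d, hd⟩ := hunit.exists_right_inv
  have h1 : x⁻¹ * (d : K) = 1 := congrArg (fun z : B.toSubring => (z : K)) hd
  have h2 : (d : K) = x := by
    field_simp at h1
    exact h1
  exact hx (h2 ▸ d.2)


open CategoryTheory CategoryTheory.Limits AlgebraicGeometry in
theorem glue_dvr (K : Type u) [Field K]
    (A : Subring K) [IsFractionRing A K] [IsNoetherianRing A] (hdim : ringKrullDim A = 1)
    (hsl : Finite (MaximalSpectrum A))
    (B : ValuationSubring K) [IsDiscreteValuationRing B] :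
    ((∃ u : A, IsUnit u ∧ (u : K) ∉ B) →
      IsOpenImmersion (Spec.map (CommRingCat.ofHom (Subring.inclusion (inf_le_left : A ⊓ B.toSubring ≤ A)))) ∧
      IsOpenImmersion (Spec.map (CommRingCat.ofHom (Subring.inclusion (inf_le_right : A ⊓ B.toSubring ≤ B.toSubring)))) ∧
      Set.range (Spec.map (CommRingCat.ofHom (Subring.inclusion (inf_le_left : A ⊓ B.toSubring ≤ A)))).base ∪
        Set.range (Spec.map (CommRingCat.ofHom (Subring.inclusion (inf_le_right : A ⊓ B.toSubring ≤ B.toSubring)))).base = Set.univ ∧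
      IsPushout (CommRingCat.ofHom (Subring.inclusion (inf_le_left : A ⊓ B.toSubring ≤ A)))
        (CommRingCat.ofHom (Subring.inclusion (inf_le_right : A ⊓ B.toSubring ≤ B.toSubring)))
        (CommRingCat.ofHom A.subtype) (CommRingCat.ofHom B.toSubring.subtype)) ∧
    ((∀ u : A, IsUnit u → (u : K) ∈ B) →
      (∃ h : A ≤ B.toSubring,
        (Ideal.comap (Subring.inclusion h) (IsLocalRing.maximalIdeal B)).IsMaximal) ∧ A ⊔ B.toSubring ≠ ⊤) := by
  haveI : Ring.KrullDimLE 1 A := Ring.krullDimLE_iff.2 (by rw [hdim]; exact le_rfl)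
  haveI : IsDiscreteValuationRing ↥B.toSubring := ‹IsDiscreteValuationRing B›
  haveI : IsFractionRing ↥B.toSubring K := inferInstanceAs (IsFractionRing B K)
  haveI : IsLocalRing ↥B.toSubring := inferInstanceAs (IsLocalRing B)
  haveI : IsNoetherianRing ↥B.toSubring := inferInstance
  have hdimB : ringKrullDim ↥B.toSubring = 1 := IsDiscreteValuationRing.ringKrullDim_eq_one _
  haveI : Ring.KrullDimLE 1 ↥B.toSubring := Ring.krullDimLE_iff.2 (by rw [hdimB]; exact le_rfl)
  have hslB : Finite (MaximalSpectrum ↥B.toSubring) := by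
    haveI : Subsingleton (MaximalSpectrum ↥B.toSubring) :=
      ⟨fun a b => MaximalSpectrum.ext (by
        rw [IsLocalRing.eq_maximalIdeal a.isMaximal, IsLocalRing.eq_maximalIdeal b.isMaximal])⟩
    exact Finite.of_subsingleton
  constructor
  · rintro ⟨u, hu, huB⟩
    obtain ⟨hinvB, hcJ⟩ := inv_mem_jacobson_of_not_mem B (u : K) huB
    have hu0 : (u : K) ≠ 0 := fun h => huB (by rw [h]; exact B.zero_mem)
    have hgen : A ⊔ B.toSubring = ⊤ := by
      rw [eq_top_iff]
      intro z _
      obtain ⟨n, hn⟩ := pow_mul_mem_of_mem_jacobson B.toSubring _ hinvB hcJ z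
      have : z = (u : K) ^ n * (((u : K)⁻¹) ^ n * z) := by
        rw [← mul_assoc, ← mul_pow, mul_inv_cancel₀ hu0, one_pow, one_mul]
      rw [this]
      exact Subring.mul_mem _ ((le_sup_left : A ≤ A ⊔ B.toSubring) (A.pow_mem u.2 n))
        ((le_sup_right : B.toSubring ≤ A ⊔ B.toSubring) hn)
    exact glue_two K A B.toSubring hdim hdimB hsl hslB hgen
  · intro hall
    have hnf : ¬ IsField A := by
      intro hf
      have := ringKrullDim_eq_zero_of_isField hf
      rw [hdim] at this
      exact one_ne_zero this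
    obtain ⟨t, ht0, htJ⟩ := exists_ne_zero_mem_jacobson A hnf
    have htK : (t : K) ≠ 0 := fun h => ht0 (Subtype.ext h)
    have hJB : ∀ s : A, s ∈ (⊥ : Ideal A).jacobson → (s : K) ∈ B := by
      intro s hs
      have h1 := Ideal.mem_jacobson_bot.1 hs 1
      have h3 := hall _ h1
      have h2 : ((s * 1 + 1 : A) : K) = (s : K) + 1 := by simp
      rw [h2] at h3
      have h4 := B.toSubring.sub_mem h3 B.toSubring.one_mem
      simpa using h4
    have hAB : A ≤ B.toSubring := by
      intro a ha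
      by_contra haB
      obtain ⟨hc, hcJ⟩ := inv_mem_jacobson_of_not_mem B a haB
      have ha0 : a ≠ 0 := fun h => haB (by rw [h]; exact B.toSubring.zero_mem)
      obtain ⟨n, hn⟩ := pow_mul_mem_of_mem_jacobson B.toSubring a⁻¹ hc hcJ (t : K)⁻¹
      have h3 : ((t * (⟨a, ha⟩ : A) ^ (n + 1) : A) : K) ∈ B := hJB _ (Ideal.mul_mem_right _ _ htJ)
      have h4 : ((t * (⟨a, ha⟩ : A) ^ (n + 1) : A) : K) = (t : K) * a ^ (n + 1) := by simp
      rw [h4] at h3
      have h5 : a ^ (n + 1) * a⁻¹ ^ n = a := by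
        rw [pow_succ', mul_assoc, ← mul_pow, mul_inv_cancel₀ ha0, one_pow, mul_one]
      have : a = ((t : K) * a ^ (n + 1)) * (a⁻¹ ^ n * (t : K)⁻¹) := by
        calc a = (a ^ (n + 1) * a⁻¹ ^ n) * ((t : K) * (t : K)⁻¹) := by
              rw [h5, mul_inv_cancel₀ htK, mul_one]
          _ = _ := by ring
      apply haB
      rw [this]
      exact B.toSubring.mul_mem h3 hn
    -- a nonzero element of the maximal ideal of B
    obtain ⟨π, hπm, hπ0⟩ := Submodule.exists_mem_ne_zero_of_ne_bot
      (IsDiscreteValuationRing.not_a_field ↥B.toSubring)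
    have hπK : (π : K) ≠ 0 := fun h => hπ0 (Subtype.ext h)
    refine ⟨⟨hAB, ?_⟩, ?_⟩
    · have hprime : (Ideal.comap (Subring.inclusion hAB) (IsLocalRing.maximalIdeal B)).IsPrime :=
        Ideal.IsPrime.comap _
      refine hprime.isMaximal_of_ne_bot ?_
      intro hbot
      obtain ⟨a₁, a₂, ha₂, hπ⟩ := IsFractionRing.div_surjective (A := A) (π : K)
      have ha₂0 : a₂ ≠ 0 := nonZeroDivisors.ne_zero ha₂
      have ha₂K : (a₂ : K) ≠ 0 := fun h => ha₂0 (Subtype.ext h)
      have hmem : a₁ ∈ Ideal.comap (Subring.inclusion hAB) (IsLocalRing.maximalIdeal B) := by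
        rw [Ideal.mem_comap]
        have : Subring.inclusion hAB a₁ = π * Subring.inclusion hAB a₂ := by
          apply Subtype.ext
          change (a₁ : K) = (π : K) * (a₂ : K)
          rw [← hπ]
          change (a₁ : K) = (a₁ : K) / (a₂ : K) * (a₂ : K)
          field_simp
        rw [this]
        exact Ideal.mul_mem_right _ _ hπm
      rw [hbot, Ideal.mem_bot] at hmem
      apply hπK
      rw [← hπ, hmem]
      change ((0 : A) : K) / (a₂ : K) = 0
      simp
    · rw [sup_eq_right.2 hAB]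
      intro htop
      have hinv : (π : K)⁻¹ ∈ B.toSubring := ((SetLike.ext_iff.1 htop) ((π : K)⁻¹)).2 trivial
      have hunit : IsUnit π := by
        rw [isUnit_iff_exists_inv]
        refine ⟨⟨(π : K)⁻¹, hinv⟩, ?_⟩
        apply Subtype.ext
        change (π : K) * (π : K)⁻¹ = 1
        exact mul_inv_cancel₀ hπK
      exact (IsLocalRing.mem_maximalIdeal _).1 hπm hunit

end Groth.Agent.Lib.helper26.GlueDVR
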