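import Groth.Agent.Lib.helper26.KrullAkizuki5

set_option autoImplicit false
universe u

namespace Groth.Agent.Lib.helper26.GlueDimOne

open Groth.Agent.Lib.helper26.KrullAkizuki

/-- Jacobson radical elements are nilpotent modulo any nonzero element (dimension ≤ 1 domain). -/
lemma exists_pow_eq_mul_of_mem_jacobson {B : Type*} [CommRing B] [IsDomain B]
    [Ring.KrullDimLE 1 B] {t b : B} (ht : t ∈ (⊥ : Ideal B).jacobson) (hb : b ≠ 0) :
    ∃ n : ℕ, ∃ c : B, t ^ n = b * c := by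
  have hrad : t ∈ (Ideal.span {b}).radical := by
    rw [Ideal.radical_eq_sInf, Ideal.mem_sInf]
    rintro P ⟨hbP, hP⟩
    have hPne : P ≠ ⊥ := by
      intro h
      rw [h, le_bot_iff, Ideal.span_singleton_eq_bot] at hbP
      exact hb hbP
    have hPmax : P.IsMaximal := hP.isMaximal_of_ne_bot hPne
    rw [Ideal.jacobson, Ideal.mem_sInf] at ht
    exact ht ⟨bot_le, hPmax⟩
  obtain ⟨n, hn⟩ := hrad
  rw [Ideal.mem_span_singleton'] at hn
  obtain ⟨c, hc⟩ := hn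
  exact ⟨n, c, by rw [← hc, mul_comm]⟩

/-- (Loc) a subring `B ⊇ R` of a field obtained by inverting `g ∈ R`. -/
lemma isLocalization_away_of_subring {K : Type*} [Field K] (R B : Subring K) (h : R ≤ B) (g : K)
    (hgR : g ∈ R) (hg0 : g ≠ 0) (hginv : g⁻¹ ∈ B) (hpow : ∀ b ∈ B, ∃ n : ℕ, g ^ n * b ∈ R) :
    letI := (Subring.inclusion h).toAlgebra
    IsLocalization.Away (⟨g, hgR⟩ : R) B := by
  letI := (Subring.inclusion h).toAlgebra
  rw [IsLocalization.Away, isLocalization_iff]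
  refine ⟨?_, ?_, ?_⟩
  · rintro ⟨_, n, rfl⟩
    rw [isUnit_iff_exists_inv]
    refine ⟨⟨(g⁻¹) ^ n, B.pow_mem hginv n⟩, ?_⟩
    apply Subtype.ext
    change g ^ n * (g⁻¹) ^ n = 1
    rw [← mul_pow, mul_inv_cancel₀ hg0, one_pow]
  · intro z
    obtain ⟨n, hn⟩ := hpow z z.2
    refine ⟨(⟨g ^ n * z, hn⟩, ⟨(⟨g, hgR⟩ : R) ^ n, n, rfl⟩), ?_⟩
    apply Subtype.ext
    change (z : K) * g ^ n = g ^ n * z
    rw [mul_comm]
  · intro x y hxy
    refine ⟨1, ?_⟩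
    have : (x : K) = y := congrArg (fun z : B => (z : K)) hxy
    rw [Subtype.ext this]


/-- (Loc-K) the fraction field is obtained by inverting an element of the Jacobson radical. -/
lemma isLocalization_away_field {K : Type*} [Field K] (A : Subring K) [IsFractionRing A K]
    (g : A) (hg0 : g ≠ 0) (hrad : ∀ a : A, a ≠ 0 → ∃ n : ℕ, ∃ c : A, g ^ n = a * c) :
    IsLocalization.Away g K := by
  rw [IsLocalization.Away, isLocalization_iff]
  have hgK : (g : K) ≠ 0 := fun h => hg0 (Subtype.ext h)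
  refine ⟨?_, ?_, ?_⟩
  · rintro ⟨_, n, rfl⟩
    apply IsUnit.mk0
    change ((g ^ n : A) : K) ≠ 0
    rw [Subring.coe_pow]
    exact pow_ne_zero n hgK
  · intro z
    obtain ⟨a₁, a₂, ha₂, hz⟩ := IsFractionRing.div_surjective (A := A) z
    have ha₂0 : a₂ ≠ 0 := nonZeroDivisors.ne_zero ha₂
    obtain ⟨n, c, hc⟩ := hrad a₂ ha₂0
    refine ⟨(a₁ * c, ⟨g ^ n, n, rfl⟩), ?_⟩
    have ha₂K : (a₂ : K) ≠ 0 := fun h => ha₂0 (Subtype.ext h)
    change z * ((g ^ n : A) : K) = ((a₁ * c : A) : K)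
    rw [hc, ← hz]
    change (a₁ : K) / (a₂ : K) * ((a₂ : K) * (c : K)) = (a₁ : K) * (c : K)
    field_simp
  · intro x y hxy
    exact ⟨1, by rw [IsFractionRing.injective A K hxy]⟩

lemma half {K : Type*} [Field K] (A B : Subring K) (x y : K) (hxA : x ∈ A) (hyB : y ∈ B)
    (hx0 : x ≠ 0) (hy0 : y ≠ 0)
    (hw : ∃ h : y⁻¹ ∈ A, (⟨y⁻¹, h⟩ : A) ∈ (⊥ : Ideal A).jacobson)
    (hu : ∃ h : x⁻¹ ∈ B, (⟨x⁻¹, h⟩ : B) ∈ (⊥ : Ideal B).jacobson) :
    x + y ≠ 0 ∧ y / (x + y) ∈ A ∧ (y / (x + y))⁻¹ ∈ A ∧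
      ∃ h : y / (x + y) ∈ B, (⟨y / (x + y), h⟩ : B) ∈ (⊥ : Ideal B).jacobson := by
  obtain ⟨hwA, hwJ⟩ := hw
  obtain ⟨huB, huJ⟩ := hu
  have e_unit := Ideal.mem_jacobson_bot.1 hwJ ⟨x, hxA⟩
  obtain ⟨e', he'⟩ := e_unit.exists_right_inv
  have he'K : (y⁻¹ * x + 1) * (e' : K) = 1 := congrArg (fun z : A => (z : K)) he'
  have hsum : x + y ≠ 0 := by
    intro h0
    have : y⁻¹ * x + 1 = 0 := by
      have : x = -y := eq_neg_of_add_eq_zero_left h0
      rw [this]; field_simp; ring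
    rw [this, zero_mul] at he'K
    exact zero_ne_one he'K
  have hfe : y / (x + y) = (e' : K) := by
    have h1 : y⁻¹ * x + 1 = (x + y) / y := by field_simp
    rw [h1] at he'K
    field_simp at he'K ⊢
    linear_combination -he'K
  have hfinv : (y / (x + y))⁻¹ = y⁻¹ * x + 1 := by
    field_simp
  refine ⟨hsum, ?_, ?_, ?_⟩
  · rw [hfe]; exact e'.2
  · rw [hfinv]
    exact A.add_mem (A.mul_mem hwA hxA) A.one_mem
  · have htJ : (⟨x⁻¹, huB⟩ : B) * ⟨y, hyB⟩ ∈ (⊥ : Ideal B).jacobson :=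
      Ideal.mul_mem_right _ _ huJ
    have d_unit := Ideal.mem_jacobson_bot.1 htJ 1
    obtain ⟨d', hd'⟩ := d_unit.exists_right_inv
    have hd'K : (x⁻¹ * y * 1 + 1) * (d' : K) = 1 := congrArg (fun z : B => (z : K)) hd'
    have hfd : y / (x + y) = x⁻¹ * y * (d' : K) := by
      have h1 : x⁻¹ * y * 1 + 1 = (x + y) / x := by field_simp; ring
      rw [h1] at hd'K
      have hd : (d' : K) = x / (x + y) := by
        rw [eq_div_iff hsum]
        field_simp at hd'K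
        linear_combination hd'K
      rw [hd]; field_simp
    have hmem : y / (x + y) ∈ B := by
      rw [hfd]; exact B.mul_mem (B.mul_mem huB hyB) d'.2
    refine ⟨hmem, ?_⟩
    have : (⟨y / (x + y), hmem⟩ : B) = (⟨x⁻¹, huB⟩ : B) * ⟨y, hyB⟩ * d' := Subtype.ext hfd
    rw [this]
    exact Ideal.mul_mem_right _ _ htJ


open CategoryTheory CategoryTheory.Limits AlgebraicGeometry in
theorem glue_core {K : Type u} [Field K] (A B : Subring K) [IsFractionRing A K]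
    (f g : K) (hfg : f + g = 1) (hfA : f ∈ A) (hfB : f ∈ B) (hgA : g ∈ A) (hgB : g ∈ B)
    (hf0 : f ≠ 0) (hg0 : g ≠ 0) (hfinv : f⁻¹ ∈ A) (hginv : g⁻¹ ∈ B)
    (hpowA : ∀ a ∈ A, ∃ n : ℕ, f ^ n * a ∈ B)
    (hpowB : ∀ b ∈ B, ∃ n : ℕ, g ^ n * b ∈ A)
    (hradA : ∀ a : A, a ≠ 0 → ∃ n : ℕ, ∃ c : A, (⟨g, hgA⟩ : A) ^ n = a * c) :
    IsOpenImmersion (Spec.map (CommRingCat.ofHom (Subring.inclusion (inf_le_left : A ⊓ B ≤ A)))) ∧
      IsOpenImmersion (Spec.map (CommRingCat.ofHom (Subring.inclusion (inf_le_right : A ⊓ B ≤ B)))) ∧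
      Set.range (Spec.map (CommRingCat.ofHom (Subring.inclusion (inf_le_left : A ⊓ B ≤ A)))).base ∪
        Set.range (Spec.map (CommRingCat.ofHom (Subring.inclusion (inf_le_right : A ⊓ B ≤ B)))).base = Set.univ ∧
      IsPushout (CommRingCat.ofHom (Subring.inclusion (inf_le_left : A ⊓ B ≤ A)))
        (CommRingCat.ofHom (Subring.inclusion (inf_le_right : A ⊓ B ≤ B)))
        (CommRingCat.ofHom A.subtype) (CommRingCat.ofHom B.subtype) := by
  have hfR : f ∈ A ⊓ B := ⟨hfA, hfB⟩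
  have hgR : g ∈ A ⊓ B := ⟨hgA, hgB⟩
  have locA := isLocalization_away_of_subring (A ⊓ B) A inf_le_left f hfR hf0 hfinv
    (fun a ha => by
      obtain ⟨n, hn⟩ := hpowA a ha
      exact ⟨n, ⟨A.mul_mem (A.pow_mem hfA n) ha, hn⟩⟩)
  have locB := isLocalization_away_of_subring (A ⊓ B) B inf_le_right g hgR hg0 hginv
    (fun b hb => by
      obtain ⟨n, hn⟩ := hpowB b hb
      exact ⟨n, ⟨hn, B.mul_mem (B.pow_mem hgB n) hb⟩⟩)
  have hgA0 : (⟨g, hgA⟩ : A) ≠ 0 := fun h => hg0 (congrArg (fun z : A => (z : K)) h)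
  have locK := isLocalization_away_field A ⟨g, hgA⟩ hgA0 hradA
  letI algA : Algebra ↥(A ⊓ B) A := (Subring.inclusion (inf_le_left : A ⊓ B ≤ A)).toAlgebra
  letI algB : Algebra ↥(A ⊓ B) B := (Subring.inclusion (inf_le_right : A ⊓ B ≤ B)).toAlgebra
  refine ⟨?_, ?_, ?_, ?_⟩
  · haveI : IsLocalization.Away (⟨f, hfR⟩ : ↥(A ⊓ B)) A := locA
    exact IsOpenImmersion.of_isLocalization (R := ↥(A ⊓ B)) (S := A) (⟨f, hfR⟩ : ↥(A ⊓ B))
  · haveI : IsLocalization.Away (⟨g, hgR⟩ : ↥(A ⊓ B)) B := locB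
    exact IsOpenImmersion.of_isLocalization (R := ↥(A ⊓ B)) (S := B) (⟨g, hgR⟩ : ↥(A ⊓ B))
  · haveI : IsLocalization.Away (⟨f, hfR⟩ : ↥(A ⊓ B)) A := locA
    haveI : IsLocalization.Away (⟨g, hgR⟩ : ↥(A ⊓ B)) B := locB
    have rA := PrimeSpectrum.localization_away_comap_range A (⟨f, hfR⟩ : ↥(A ⊓ B))
    have rB := PrimeSpectrum.localization_away_comap_range B (⟨g, hgR⟩ : ↥(A ⊓ B))
    rw [Set.eq_univ_iff_forall]
    intro p
    by_cases hp : (⟨f, hfR⟩ : ↥(A ⊓ B)) ∈ (p : PrimeSpectrum ↥(A ⊓ B)).asIdeal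
    · right
      have hgp : (⟨g, hgR⟩ : ↥(A ⊓ B)) ∉ (p : PrimeSpectrum ↥(A ⊓ B)).asIdeal := by
        intro hg
        have h1 : (1 : ↥(A ⊓ B)) ∈ (p : PrimeSpectrum ↥(A ⊓ B)).asIdeal := by
          have : (1 : ↥(A ⊓ B)) = ⟨f, hfR⟩ + ⟨g, hgR⟩ := Subtype.ext hfg.symm
          rw [this]
          exact Ideal.add_mem _ hp hg
        exact (p : PrimeSpectrum ↥(A ⊓ B)).isPrime.ne_top ((Ideal.eq_top_iff_one _).2 h1)
      have : (p : PrimeSpectrum ↥(A ⊓ B)) ∈ ((PrimeSpectrum.basicOpen (⟨g, hgR⟩ : ↥(A ⊓ B)) : TopologicalSpace.Opens (PrimeSpectrum ↥(A ⊓ B))) : Set (PrimeSpectrum ↥(A ⊓ B))) := hgp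
      rw [← rB] at this
      exact this
    · left
      have : (p : PrimeSpectrum ↥(A ⊓ B)) ∈ ((PrimeSpectrum.basicOpen (⟨f, hfR⟩ : ↥(A ⊓ B)) : TopologicalSpace.Opens (PrimeSpectrum ↥(A ⊓ B))) : Set (PrimeSpectrum ↥(A ⊓ B))) := hp
      rw [← rA] at this
      exact this
  · haveI : IsLocalization (Submonoid.powers (⟨g, hgR⟩ : ↥(A ⊓ B))) B := locB
    haveI : IsLocalization ((Submonoid.powers (⟨g, hgR⟩ : ↥(A ⊓ B))).map
        (Subring.inclusion (inf_le_left : A ⊓ B ≤ A))) K := by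
      rw [Submonoid.map_powers]
      exact locK
    exact CommRingCat.isPushout_of_isLocalization (R := ↥(A ⊓ B)) (S := A) (Rₘ := B) (Sₘ := K)
      (Subring.inclusion (inf_le_left : A ⊓ B ≤ A)) B.subtype (by ext; rfl)
      (Submonoid.powers (⟨g, hgR⟩ : ↥(A ⊓ B)))


lemma pow_mul_mem_of_mem_jacobson {K : Type*} [Field K] (B : Subring K) [IsFractionRing B K]
    [Ring.KrullDimLE 1 B] (f : K) (hfB : f ∈ B)
    (hfJ : (⟨f, hfB⟩ : B) ∈ (⊥ : Ideal B).jacobson) (a : K) :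
    ∃ n : ℕ, f ^ n * a ∈ B := by
  obtain ⟨b₁, b₂, hb₂, ha⟩ := IsFractionRing.div_surjective (A := B) a
  have hb₂0 : b₂ ≠ 0 := nonZeroDivisors.ne_zero hb₂
  obtain ⟨n, c, hc⟩ := exists_pow_eq_mul_of_mem_jacobson hfJ hb₂0
  refine ⟨n, ?_⟩
  have hb₂K : (b₂ : K) ≠ 0 := fun h => hb₂0 (Subtype.ext h)
  have hcK : f ^ n = (b₂ : K) * (c : K) := by
    have := congrArg (fun z : B => (z : K)) hc
    simpa using this
  have : f ^ n * a = (c : K) * (b₁ : K) := by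
    rw [hcK, ← ha]
    change (b₂ : K) * (c : K) * ((b₁ : K) / (b₂ : K)) = (c : K) * (b₁ : K)
    field_simp
  rw [this]
  exact B.mul_mem c.2 b₁.2

open CategoryTheory CategoryTheory.Limits AlgebraicGeometry in
theorem glue_two (K : Type u) [Field K]
    (A : Subring K) [IsFractionRing A K] (B : Subring K) [IsFractionRing B K]
    [IsNoetherianRing A] [IsNoetherianRing B]
    (hdimA : ringKrullDim A = 1) (hdimB : ringKrullDim B = 1)
    (hslA : Finite (MaximalSpectrum A)) (hslB : Finite (MaximalSpectrum B)) (hgen : A ⊔ B = ⊤) :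
    IsOpenImmersion (Spec.map (CommRingCat.ofHom (Subring.inclusion (inf_le_left : A ⊓ B ≤ A)))) ∧
      IsOpenImmersion (Spec.map (CommRingCat.ofHom (Subring.inclusion (inf_le_right : A ⊓ B ≤ B)))) ∧
      Set.range (Spec.map (CommRingCat.ofHom (Subring.inclusion (inf_le_left : A ⊓ B ≤ A)))).base ∪
        Set.range (Spec.map (CommRingCat.ofHom (Subring.inclusion (inf_le_right : A ⊓ B ≤ B)))).base = Set.univ ∧
      IsPushout (CommRingCat.ofHom (Subring.inclusion (inf_le_left : A ⊓ B ≤ A)))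
        (CommRingCat.ofHom (Subring.inclusion (inf_le_right : A ⊓ B ≤ B)))
        (CommRingCat.ofHom A.subtype) (CommRingCat.ofHom B.subtype) := by
  haveI : Ring.KrullDimLE 1 A := Ring.krullDimLE_iff.2 (by rw [hdimA]; exact le_rfl)
  haveI : Ring.KrullDimLE 1 B := Ring.krullDimLE_iff.2 (by rw [hdimB]; exact le_rfl)
  haveI : ∀ i : Fin 1, IsNoetherianRing ((fun _ : Fin 1 => B) i) := fun _ => inferInstance
  haveI : ∀ i : Fin 1, IsFractionRing ((fun _ : Fin 1 => B) i) K := fun _ => inferInstance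
  haveI : ∀ i : Fin 1, IsNoetherianRing ((fun _ : Fin 1 => A) i) := fun _ => inferInstance
  haveI : ∀ i : Fin 1, IsFractionRing ((fun _ : Fin 1 => A) i) K := fun _ => inferInstance
  obtain ⟨x, hxA, hx0, hx⟩ := exists_inv_mem_jacobson K A 1 (fun _ => B) (fun _ => hdimB)
    (fun _ => hslB) (fun _ => hgen)
  obtain ⟨y, hyB, hy0, hy⟩ := exists_inv_mem_jacobson K B 1 (fun _ => A) (fun _ => hdimA)
    (fun _ => hslA) (fun _ => by rw [sup_comm]; exact hgen)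
  have hu := hx 0
  have hw := hy 0
  obtain ⟨hsum, hfA, hfinvA, hfB, hfJ⟩ := half A B x y hxA hyB hx0 hy0 hw hu
  obtain ⟨hsum', hgB, hginvB, hgA, hgJ⟩ := half B A y x hyB hxA hy0 hx0 hu hw
  have hfg : y / (x + y) + x / (y + x) = 1 := by field_simp; ring
  refine glue_core A B (y / (x + y)) (x / (y + x)) hfg hfA hfB hgA hgB (div_ne_zero hy0 hsum)
    (div_ne_zero hx0 hsum') hfinvA hginvB ?_ ?_ ?_
  · intro a _
    exact pow_mul_mem_of_mem_jacobson B _ hfB hfJ a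
  · intro b _
    exact pow_mul_mem_of_mem_jacobson A _ hgA hgJ b
  · intro a ha
    exact exists_pow_eq_mul_of_mem_jacobson hgJ ha

end Groth.Agent.Lib.helper26.GlueDimOne
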