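import Groth.Agent.Lib.helper26.GlueDVR
import Mathlib.AlgebraicGeometry.Noetherian

set_option autoImplicit false
universe u

namespace Groth.Agent.Lib.helper26.GlueMany

open Groth.Agent.Lib.helper26.GlueDimOne Groth.Agent.Lib.helper26.GlueDVR
open Groth.Agent.Lib.helper26.KrullAkizuki

/-- `x` lies in `B` and in the Jacobson radical of `B`. -/
def InJac {K : Type*} [Field K] (B : Subring K) (x : K) : Prop :=
  ∃ h : x ∈ B, (⟨x, h⟩ : B) ∈ (⊥ : Ideal B).jacobson

namespace InJac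

variable {K : Type*} [Field K] {B : Subring K}

lemma mem {x : K} (h : InJac B x) : x ∈ B := h.1

lemma zero : InJac B 0 := ⟨B.zero_mem, by
  have : (⟨0, B.zero_mem⟩ : B) = 0 := rfl
  rw [this]; exact Ideal.zero_mem _⟩

lemma add {x y : K} (hx : InJac B x) (hy : InJac B y) : InJac B (x + y) := by
  obtain ⟨hx, hxJ⟩ := hx
  obtain ⟨hy, hyJ⟩ := hy
  exact ⟨B.add_mem hx hy, Ideal.add_mem _ hxJ hyJ⟩

lemma mul_right {x y : K} (hx : InJac B x) (hy : y ∈ B) : InJac B (x * y) := by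
  obtain ⟨hx, hxJ⟩ := hx
  exact ⟨B.mul_mem hx hy, Ideal.mul_mem_right ⟨y, hy⟩ _ hxJ⟩

lemma sum {ι : Type*} (s : Finset ι) (g : ι → K) (h : ∀ i ∈ s, InJac B (g i)) :
    InJac B (∑ i ∈ s, g i) := by
  classical
  induction s using Finset.induction_on with
  | empty => simpa using zero
  | insert a s ha ih =>
    rw [Finset.sum_insert ha]
    exact add (h a (Finset.mem_insert_self a s))
      (ih (fun i hi => h i (Finset.mem_insert_of_mem hi)))

lemma exists_inv {x : K} (hx : InJac B x) : ∃ v ∈ B, (x + 1) * v = 1 := by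
  obtain ⟨hx, hxJ⟩ := hx
  have h1 := Ideal.mem_jacobson_bot.1 hxJ 1
  obtain ⟨v, hv⟩ := h1.exists_right_inv
  refine ⟨v, v.2, ?_⟩
  have := congrArg (fun z : B => (z : K)) hv
  simpa using this

end InJac

/-- Version of `exists_inv_mem_jacobson` for a family indexed by a finite type. -/
theorem exists_inv_mem_jacobson' (K : Type u) [Field K] (A : Subring K)
    {ι : Type*} [Finite ι] (B : ι → Subring K) [∀ i, IsNoetherianRing (B i)]
    [∀ i, IsFractionRing (B i) K]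
    (hdim : ∀ i, ringKrullDim (B i) = 1) (hsl : ∀ i, Finite (MaximalSpectrum (B i)))
    (hgen : ∀ i, A ⊔ B i = ⊤) :
    ∃ x : K, x ∈ A ∧ x ≠ 0 ∧ ∀ i, InJac (B i) x⁻¹ := by
  obtain ⟨n, ⟨e⟩⟩ := Finite.exists_equiv_fin ι
  obtain ⟨x, hxA, hx0, hx⟩ := exists_inv_mem_jacobson K A n (fun k => B (e.symm k))
    (fun k => hdim _) (fun k => hsl _) (fun k => hgen _)
  refine ⟨x, hxA, hx0, fun i => ?_⟩
  have key : ∀ j : ι, j = i →
      (∃ h : x⁻¹ ∈ B j, (⟨x⁻¹, h⟩ : B j) ∈ (⊥ : Ideal (B j)).jacobson) → InJac (B i) x⁻¹ := by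
    rintro j rfl h
    exact h
  exact key _ (e.symm_apply_apply i) (hx (e i))


/-- The "partition of unity" adapted to a family of pairwise-generating semilocal
one-dimensional subrings of `K`. -/
theorem exists_partition (K : Type u) [Field K] {ι : Type*} [Fintype ι] [DecidableEq ι]
    [Nonempty ι]
    (A : ι → Subring K) [∀ i, IsNoetherianRing (A i)] [∀ i, IsFractionRing (A i) K]
    (hdim : ∀ i, ringKrullDim (A i) = 1) (hsl : ∀ i, Finite (MaximalSpectrum (A i)))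
    (hgen : ∀ i j, i ≠ j → A i ⊔ A j = ⊤) :
    ∃ f : ι → K, (∑ i, f i = 1) ∧ (∀ i, f i ≠ 0) ∧ (∀ i, f i ∈ A i) ∧ (∀ i, (f i)⁻¹ ∈ A i) ∧
      (∀ i k, k ≠ i → InJac (A k) (f i)) := by
  have hB : ∀ i, ∃ x : K, x ∈ A i ∧ x ≠ 0 ∧ ∀ j : {j // j ≠ i}, InJac (A j) x⁻¹ := fun i =>
    exists_inv_mem_jacobson' K (A i) (fun j : {j // j ≠ i} => A j) (fun j => hdim j)
      (fun j => hsl j) (fun j => hgen i j (Ne.symm j.2))
  choose x hxA hx0 hxJ using hB
  have ht0 : ∀ i, (x i)⁻¹ ≠ 0 := fun i => inv_ne_zero (hx0 i)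
  have htinv : ∀ i, ((x i)⁻¹)⁻¹ ∈ A i := fun i => by rw [inv_inv]; exact hxA i
  have htJ : ∀ i k, k ≠ i → InJac (A k) (x i)⁻¹ := fun i k hk => hxJ i ⟨k, hk⟩
  generalize hS : ∑ j, (x j)⁻¹ = S
  have hw : ∀ k, InJac (A k) (∑ j ∈ Finset.univ.erase k, (x j)⁻¹ * ((x k)⁻¹)⁻¹) := fun k =>
    InJac.sum _ _ (fun j hj => (htJ j k (Finset.ne_of_mem_erase hj).symm).mul_right (htinv k))
  have hSk : ∀ k, S = (x k)⁻¹ * (∑ j ∈ Finset.univ.erase k, (x j)⁻¹ * ((x k)⁻¹)⁻¹ + 1) := by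
    intro k
    rw [mul_add, mul_one, Finset.mul_sum]
    have : ∀ j, (x k)⁻¹ * ((x j)⁻¹ * ((x k)⁻¹)⁻¹) = (x j)⁻¹ := fun j => by
      rw [mul_comm ((x j)⁻¹), ← mul_assoc, mul_inv_cancel₀ (ht0 k), one_mul]
    simp only [this]
    rw [add_comm, ← hS]
    exact (Finset.add_sum_erase Finset.univ (fun j => (x j)⁻¹) (Finset.mem_univ k)).symm
  have hv : ∀ k, ∃ v ∈ A k,
      (∑ j ∈ Finset.univ.erase k, (x j)⁻¹ * ((x k)⁻¹)⁻¹ + 1) * v = 1 := fun k =>
    (hw k).exists_inv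
  choose v hvA hv1 using hv
  have hSv : ∀ k, S * v k = (x k)⁻¹ := by
    intro k
    rw [hSk k, mul_assoc, hv1, mul_one]
  have hS0 : S ≠ 0 := by
    obtain ⟨k⟩ := ‹Nonempty ι›
    intro h
    apply ht0 k
    rw [← hSv k, h, zero_mul]
  have hv0 : ∀ k, v k ≠ 0 := fun k h => ht0 k (by rw [← hSv k, h, mul_zero])
  refine ⟨fun i => (x i)⁻¹ / S, ?_, ?_, ?_, ?_, ?_⟩
  · rw [← Finset.sum_div, hS, div_self hS0]
  · intro i
    exact div_ne_zero (ht0 i) hS0
  · intro i
    have : (x i)⁻¹ / S = v i := by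
      rw [← hSv i, mul_div_assoc, mul_comm, div_mul_cancel₀ _ hS0]
    change (x i)⁻¹ / S ∈ A i
    rw [this]
    exact hvA i
  · intro i
    have : ((x i)⁻¹ / S)⁻¹ = ∑ j ∈ Finset.univ.erase i, (x j)⁻¹ * ((x i)⁻¹)⁻¹ + 1 := by
      rw [inv_div]
      conv_lhs => rw [hSk i]
      rw [mul_comm, mul_div_assoc, div_self (ht0 i), mul_one]
    change ((x i)⁻¹ / S)⁻¹ ∈ A i
    rw [this]
    exact (A i).add_mem (hw i).mem (A i).one_mem
  · intro i k hk
    have : (x i)⁻¹ / S = ((x i)⁻¹ * ((x k)⁻¹)⁻¹) * v k := by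
      have hvk := hv0 k
      rw [← hSv k]
      field_simp
    change InJac (A k) ((x i)⁻¹ / S)
    rw [this]
    exact ((htJ i k hk).mul_right (htinv k)).mul_right (hvA k)


/-- A partition of unity adapted to the family `A`. -/
structure Part {K : Type u} [Field K] {ι : Type*} [Fintype ι] (A : ι → Subring K) (f : ι → K) :
    Prop where
  sum : ∑ i, f i = 1
  ne : ∀ i, f i ≠ 0
  mem : ∀ i, f i ∈ A i
  inv : ∀ i, (f i)⁻¹ ∈ A i
  jac : ∀ i k, k ≠ i → InJac (A k) (f i)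

section Cover

variable {K : Type u} [Field K] {ι : Type*} [Fintype ι] [DecidableEq ι]
  {A : ι → Subring K} {f : ι → K}

lemma Part.mem_iInf (P : Part A f) (i : ι) : f i ∈ ⨅ k, A k := by
  rw [Subring.mem_iInf]
  intro k
  by_cases hk : k = i
  · subst hk; exact P.mem k
  · exact (P.jac i k hk).mem

lemma Part.pow_mul_mem [∀ i, IsFractionRing (A i) K] (P : Part A f)
    (hdim : ∀ i, ringKrullDim (A i) = 1) (i : ι) (b : K) (hb : b ∈ A i) :
    ∃ n : ℕ, f i ^ n * b ∈ ⨅ k, A k := by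
  haveI : ∀ k, Ring.KrullDimLE 1 (A k) := fun k =>
    Ring.krullDimLE_iff.2 (by rw [hdim k]; exact le_rfl)
  have h : ∀ k, ∃ n : ℕ, ∀ m, n ≤ m → f i ^ m * b ∈ A k := by
    intro k
    by_cases hk : k = i
    · subst hk
      exact ⟨0, fun m _ => (A k).mul_mem ((A k).pow_mem (P.mem k) m) hb⟩
    · obtain ⟨hm, hJ⟩ := P.jac i k hk
      obtain ⟨n, hn⟩ := pow_mul_mem_of_mem_jacobson (A k) (f i) hm hJ b
      refine ⟨n, fun m hnm => ?_⟩
      obtain ⟨d, rfl⟩ := Nat.exists_eq_add_of_le hnm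
      rw [pow_add, mul_comm (f i ^ n), mul_assoc]
      exact (A k).mul_mem ((A k).pow_mem hm d) hn
  choose n hn using h
  refine ⟨Finset.univ.sup n, ?_⟩
  rw [Subring.mem_iInf]
  intro k
  exact hn k _ (Finset.le_sup (Finset.mem_univ k))

/-- The element `f i` of the intersection. -/
def Part.fR (P : Part A f) (i : ι) : ↥(⨅ k, A k) := ⟨f i, P.mem_iInf i⟩

lemma Part.isLocalization [∀ i, IsFractionRing (A i) K] (P : Part A f)
    (hdim : ∀ i, ringKrullDim (A i) = 1) (i : ι) :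
    letI := (Subring.inclusion (iInf_le A i)).toAlgebra
    IsLocalization.Away (P.fR i) (A i) :=
  isLocalization_away_of_subring (⨅ k, A k) (A i) (iInf_le A i) (f i) (P.mem_iInf i) (P.ne i)
    (P.inv i) (fun b hb => P.pow_mul_mem hdim i b hb)

lemma Part.sum_fR (P : Part A f) : ∑ i, P.fR i = 1 := by
  apply Subtype.ext
  have := map_sum (⨅ k, A k).subtype P.fR Finset.univ
  change ((∑ i, P.fR i : ↥(⨅ k, A k)) : K) = ∑ i, ((P.fR i : ↥(⨅ k, A k)) : K) at this
  rw [this]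
  exact P.sum

lemma Part.exists_notMem (P : Part A f) (p : Ideal ↥(⨅ k, A k)) (hp : p ≠ ⊤) :
    ∃ i, P.fR i ∉ p := by
  by_contra h
  push Not at h
  apply hp
  rw [Ideal.eq_top_iff_one, ← P.sum_fR]
  exact Ideal.sum_mem _ (fun i _ => h i)

end Cover


section Main

variable {K : Type u} [Field K] {ι : Type*} [Fintype ι] [DecidableEq ι]
  {A : ι → Subring K} {f : ι → K} [∀ i, IsFractionRing (A i) K]

lemma Part.key (P : Part A f) (hdim : ∀ i, ringKrullDim (A i) = 1)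
    (i : ι) (p : Ideal ↥(⨅ k, A k)) (hp : p.IsPrime) (hp0 : p ≠ ⊥) (hfp : P.fR i ∉ p) :
    (p.map (Subring.inclusion (iInf_le A i))).IsMaximal ∧
      (p.map (Subring.inclusion (iInf_le A i))).comap (Subring.inclusion (iInf_le A i)) = p := by
  letI := (Subring.inclusion (iInf_le A i)).toAlgebra
  haveI := P.isLocalization hdim i
  haveI : Ring.KrullDimLE 1 (A i) := Ring.krullDimLE_iff.2 (by rw [hdim i]; exact le_rfl)
  have hd : Disjoint (Submonoid.powers (P.fR i) : Set ↥(⨅ k, A k)) (p : Set ↥(⨅ k, A k)) :=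
    (Ideal.disjoint_powers_iff_notMem _ hp.isRadical).2 hfp
  have h1 := IsLocalization.isPrime_of_isPrime_disjoint (Submonoid.powers (P.fR i)) (A i) p hp hd
  have h2 := IsLocalization.under_map_of_isPrime_disjoint (Submonoid.powers (P.fR i)) (A i) hp hd
  refine ⟨h1.isMaximal_of_ne_bot ?_, h2⟩
  intro hbot
  apply hp0
  rw [← h2, hbot]
  exact Ideal.comap_bot_of_injective _ (Subring.inclusion_injective _)

lemma Part.not_isField [Nonempty ι] (P : Part A f) (hdim : ∀ i, ringKrullDim (A i) = 1) :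
    ¬ IsField ↥(⨅ k, A k) := by
  intro hF
  obtain ⟨i⟩ := ‹Nonempty ι›
  have hinv : (f i)⁻¹ ∈ ⨅ k, A k := by
    obtain ⟨w, hw⟩ := hF.mul_inv_cancel (a := P.fR i)
      (fun h => P.ne i (congrArg (fun z : ↥(⨅ k, A k) => (z : K)) h))
    have h1 : (f i) * (w : K) = 1 := congrArg (fun z : ↥(⨅ k, A k) => (z : K)) hw
    have h2 : (f i)⁻¹ = w := (eq_inv_of_mul_eq_one_right h1).symm ▸ rfl
    rw [h2]
    exact w.2
  have hle : A i ≤ ⨅ k, A k := by
    intro a ha
    obtain ⟨n, hn⟩ := P.pow_mul_mem hdim i a ha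
    have : a = (f i)⁻¹ ^ n * (f i ^ n * a) := by
      rw [← mul_assoc, ← mul_pow, inv_mul_cancel₀ (P.ne i), one_pow, one_mul]
    rw [this]
    exact Subring.mul_mem _ (Subring.pow_mem _ hinv n) hn
  have hfield : IsField (A i) := by
    refine ⟨⟨0, 1, zero_ne_one⟩, mul_comm, ?_⟩
    intro a ha
    have haR : (a : K) ∈ ⨅ k, A k := hle a.2
    obtain ⟨w, hw⟩ := hF.mul_inv_cancel (a := (⟨a, haR⟩ : ↥(⨅ k, A k)))
      (fun h => ha (Subtype.ext (congrArg (fun z : ↥(⨅ k, A k) => (z : K)) h)))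
    refine ⟨⟨w, iInf_le A i w.2⟩, Subtype.ext ?_⟩
    exact congrArg (fun z : ↥(⨅ k, A k) => (z : K)) hw
  have := ringKrullDim_eq_zero_of_isField hfield
  rw [hdim i] at this
  exact one_ne_zero this

lemma Part.isNoetherianRing [∀ i, IsNoetherianRing (A i)] (P : Part A f)
    (hdim : ∀ i, ringKrullDim (A i) = 1) : IsNoetherianRing ↥(⨅ k, A k) := by
  classical
  apply AlgebraicGeometry.isNoetherianRing_of_away (Finset.univ.image P.fR)
  · rw [Ideal.eq_top_iff_one, ← P.sum_fR]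
    exact Ideal.sum_mem _ (fun i _ => Ideal.subset_span
      (Finset.mem_coe.2 (Finset.mem_image_of_mem _ (Finset.mem_univ i))))
  · rintro ⟨s, hs⟩
    obtain ⟨i, -, rfl⟩ := Finset.mem_image.1 hs
    letI := (Subring.inclusion (iInf_le A i)).toAlgebra
    haveI := P.isLocalization hdim i
    exact isNoetherianRing_of_ringEquiv (A i) (IsLocalization.algEquiv
      (Submonoid.powers (P.fR i)) (A i) (Localization.Away (P.fR i))).toRingEquiv

lemma Part.krullDimLE (P : Part A f) (hdim : ∀ i, ringKrullDim (A i) = 1) :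
    Ring.KrullDimLE 1 ↥(⨅ k, A k) := by
  apply Ring.KrullDimLE.mk₁'
  intro p hp0 hp
  obtain ⟨m, hm, hpm⟩ := Ideal.exists_le_maximal p hp.ne_top
  obtain ⟨j, hj⟩ := P.exists_notMem m hm.ne_top
  have hjp : P.fR j ∉ p := fun h => hj (hpm h)
  have hm0 : m ≠ ⊥ := fun h => hp0 (le_bot_iff.1 (h ▸ hpm))
  obtain ⟨hpmax, hpc⟩ := P.key hdim j p hp hp0 hjp
  obtain ⟨hmmax, hmc⟩ := P.key hdim j m hm.isPrime hm0 hj
  have : p.map (Subring.inclusion (iInf_le A j)) = m.map (Subring.inclusion (iInf_le A j)) :=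
    hpmax.eq_of_le hmmax.ne_top (Ideal.map_mono hpm)
  rw [← hpc, this, hmc]
  exact hm

lemma Part.ringKrullDim_eq [Nonempty ι] (P : Part A f) (hdim : ∀ i, ringKrullDim (A i) = 1) :
    ringKrullDim ↥(⨅ k, A k) = 1 := by
  haveI := P.krullDimLE hdim
  refine eq_of_le_of_not_lt (Ring.krullDimLE_iff (n := 1).mp inferInstance) fun h => ?_
  have : Ring.KrullDimLE 0 ↥(⨅ k, A k) :=
    Ring.krullDimLE_iff.mpr (ENat.WithBot.lt_add_one_iff.mp h)
  exact P.not_isField hdim Ring.KrullDimLE.isField_of_isDomain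

lemma Part.finite_maximalSpectrum [Nonempty ι] (P : Part A f)
    (hdim : ∀ i, ringKrullDim (A i) = 1) (hsl : ∀ i, Finite (MaximalSpectrum (A i))) :
    Finite (MaximalSpectrum ↥(⨅ k, A k)) := by
  have hex : ∀ m : MaximalSpectrum ↥(⨅ k, A k), ∃ s : Σ j, MaximalSpectrum (A j),
      s.2.asIdeal.comap (Subring.inclusion (iInf_le A s.1)) = m.asIdeal := by
    intro m
    obtain ⟨j, hj⟩ := P.exists_notMem m.asIdeal m.isMaximal.ne_top
    have hm0 : m.asIdeal ≠ ⊥ := by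
      intro h
      apply P.not_isField hdim
      have := m.isMaximal
      rw [h] at this
      exact Ring.isField_iff_maximal_bot.2 this
    obtain ⟨hmax, hc⟩ := P.key hdim j m.asIdeal m.isMaximal.isPrime hm0 hj
    exact ⟨⟨j, ⟨_, hmax⟩⟩, hc⟩
  choose g hg using hex
  have hinj : Function.Injective g := by
    intro m₁ m₂ h
    apply MaximalSpectrum.ext
    rw [← hg m₁, ← hg m₂]
    have : ∀ s₁ s₂ : Σ j, MaximalSpectrum (A j), s₁ = s₂ →
        s₁.2.asIdeal.comap (Subring.inclusion (iInf_le A s₁.1)) =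
          s₂.2.asIdeal.comap (Subring.inclusion (iInf_le A s₂.1)) := by
      rintro _ _ rfl; rfl
    exact this _ _ h
  exact Finite.of_injective g hinj

lemma Part.isFractionRing [Nonempty ι] (P : Part A f) (hdim : ∀ i, ringKrullDim (A i) = 1) :
    IsFractionRing ↥(⨅ k, A k) K := by
  obtain ⟨i⟩ := ‹Nonempty ι›
  apply IsFractionRing.of_field
  intro z
  obtain ⟨a, b, hb, hz⟩ := IsFractionRing.div_surjective (A := A i) z
  have hb0 : b ≠ 0 := nonZeroDivisors.ne_zero hb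
  have hbK : (b : K) ≠ 0 := fun h => hb0 (Subtype.ext h)
  obtain ⟨n, hn⟩ := P.pow_mul_mem hdim i a a.2
  obtain ⟨m, hm⟩ := P.pow_mul_mem hdim i b b.2
  have hfR := P.mem_iInf i
  refine ⟨⟨f i ^ m * (f i ^ n * a), Subring.mul_mem _ (Subring.pow_mem _ hfR m) hn⟩,
    ⟨f i ^ n * (f i ^ m * b), Subring.mul_mem _ (Subring.pow_mem _ hfR n) hm⟩, ?_⟩
  change z = (f i ^ m * (f i ^ n * a)) / (f i ^ n * (f i ^ m * b))
  rw [← hz]
  change (a : K) / (b : K) = _
  have := P.ne i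
  field_simp

end Main


section Geom

open CategoryTheory CategoryTheory.Limits AlgebraicGeometry

variable {K : Type u} [Field K] {ι : Type*} [Fintype ι] [DecidableEq ι]
  {A : ι → Subring K} {f : ι → K} [∀ i, IsFractionRing (A i) K]

lemma Part.isOpenImmersion (P : Part A f) (hdim : ∀ i, ringKrullDim (A i) = 1) (i : ι) :
    IsOpenImmersion (Spec.map (CommRingCat.ofHom (Subring.inclusion (iInf_le A i)))) := by
  letI := (Subring.inclusion (iInf_le A i)).toAlgebra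
  haveI : IsLocalization.Away (P.fR i) (A i) := P.isLocalization hdim i
  exact IsOpenImmersion.of_isLocalization (R := ↥(⨅ k, A k)) (S := A i) (P.fR i)

lemma Part.mem_range_iff (P : Part A f) (hdim : ∀ i, ringKrullDim (A i) = 1) (i : ι)
    (p : PrimeSpectrum ↥(⨅ k, A k)) :
    p ∈ Set.range (Spec.map (CommRingCat.ofHom (Subring.inclusion (iInf_le A i)))).base ↔
      P.fR i ∉ p.asIdeal := by
  letI := (Subring.inclusion (iInf_le A i)).toAlgebra
  haveI : IsLocalization.Away (P.fR i) (A i) := P.isLocalization hdim i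
  have rA := PrimeSpectrum.localization_away_comap_range (A i) (P.fR i)
  have : Set.range (Spec.map (CommRingCat.ofHom (Subring.inclusion (iInf_le A i)))).base =
      Set.range (PrimeSpectrum.comap (algebraMap ↥(⨅ k, A k) (A i))) := rfl
  rw [this, rA]
  rfl

lemma Part.iUnion_range (P : Part A f) (hdim : ∀ i, ringKrullDim (A i) = 1) :
    (⋃ i, Set.range (Spec.map (CommRingCat.ofHom (Subring.inclusion (iInf_le A i)))).base) =
      Set.univ := by
  rw [Set.eq_univ_iff_forall]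
  intro p
  obtain ⟨i, hi⟩ := P.exists_notMem (p : PrimeSpectrum ↥(⨅ k, A k)).asIdeal
    (p : PrimeSpectrum ↥(⨅ k, A k)).isPrime.ne_top
  rw [Set.mem_iUnion]
  exact ⟨i, (P.mem_range_iff hdim i p).2 hi⟩

lemma Part.existsUnique [Nonempty ι] (P : Part A f) (hdim : ∀ i, ringKrullDim (A i) = 1)
    (m : PrimeSpectrum ↥(⨅ k, A k)) (hm : m.asIdeal.IsMaximal) :
    ∃! i, m ∈ Set.range (Spec.map (CommRingCat.ofHom (Subring.inclusion (iInf_le A i)))).base := by
  obtain ⟨i, hi⟩ := P.exists_notMem m.asIdeal hm.ne_top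
  refine ⟨i, (P.mem_range_iff hdim i m).2 hi, ?_⟩
  intro j hj
  rw [P.mem_range_iff hdim j m] at hj
  by_contra hne
  have hm0 : m.asIdeal ≠ ⊥ := by
    intro h
    apply P.not_isField hdim
    rw [h] at hm
    exact Ring.isField_iff_maximal_bot.2 hm
  obtain ⟨hmax, hc⟩ := P.key hdim i m.asIdeal hm.isPrime hm0 hi
  -- `f j` lies in the Jacobson radical of `A i`
  obtain ⟨hjm, hjJ⟩ := P.jac j i (fun h => hne h.symm)
  apply hj
  rw [← hc, Ideal.mem_comap]
  rw [Ideal.jacobson, Ideal.mem_sInf] at hjJ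
  exact hjJ ⟨bot_le, hmax⟩

end Geom

open CategoryTheory CategoryTheory.Limits AlgebraicGeometry in
theorem glue_many (K : Type u) [Field K] (r : ℕ) (hr : 1 ≤ r)
    (A : Fin r → Subring K) [∀ i, IsNoetherianRing (A i)] [∀ i, IsFractionRing (A i) K]
    (hdim : ∀ i, ringKrullDim (A i) = 1) (hsl : ∀ i, Finite (MaximalSpectrum (A i)))
    (hgen : ∀ i j, i ≠ j → A i ⊔ A j = ⊤) :
    IsNoetherianRing ↥(⨅ i, A i) ∧ ringKrullDim ↥(⨅ i, A i) = 1 ∧
      Finite (MaximalSpectrum ↥(⨅ i, A i)) ∧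
      IsFractionRing ↥(⨅ i, A i) K ∧
      (∀ i, IsOpenImmersion (Spec.map (CommRingCat.ofHom (Subring.inclusion (iInf_le A i))))) ∧
      (⋃ i, Set.range (Spec.map (CommRingCat.ofHom (Subring.inclusion (iInf_le A i)))).base) =
        Set.univ ∧
      (∀ m : PrimeSpectrum ↥(⨅ i, A i), m.asIdeal.IsMaximal →
        ∃! i, m ∈ Set.range
          (Spec.map (CommRingCat.ofHom (Subring.inclusion (iInf_le A i)))).base) := by
  haveI : Nonempty (Fin r) := ⟨⟨0, hr⟩⟩
  obtain ⟨f, h1, h2, h3, h4, h5⟩ := exists_partition K A hdim hsl hgen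
  have P : Part A f := ⟨h1, h2, h3, h4, h5⟩
  exact ⟨P.isNoetherianRing hdim, P.ringKrullDim_eq hdim, P.finite_maximalSpectrum hdim hsl,
    P.isFractionRing hdim, P.isOpenImmersion hdim, P.iUnion_range hdim,
    fun m hm => P.existsUnique hdim m hm⟩

end Groth.Agent.Lib.helper26.GlueMany
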