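import Mathlib
import Groth.Prelude.Def_EGA4b

universe u
open TopologicalSpace Topology AlgebraicGeometry CategoryTheory

noncomputable section

namespace Groth.Agent.Lib.helper26.J2

/-- the stalk of `Spec B` at `y` is regular iff `y` lies in the regular locus. -/
theorem regular_stalk_Spec_iff (B : Type u) [CommRing B] (y : PrimeSpectrum B) :
    IsRegularLocalRing ((Spec (CommRingCat.of B)).presheaf.stalk y) ↔ y ∈ EGA4.regLocus B := by
  letI : Algebra B ((Spec (CommRingCat.of B)).presheaf.stalk y) :=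
    inferInstanceAs (Algebra B ((Spec.structureSheaf B).presheaf.stalk y))
  haveI : IsLocalization.AtPrime ((Spec (CommRingCat.of B)).presheaf.stalk y) y.asIdeal :=
    inferInstanceAs (IsLocalization.AtPrime ((Spec.structureSheaf B).presheaf.stalk y) y.asIdeal)
  let e : Localization.AtPrime y.asIdeal ≃ₐ[B] ((Spec (CommRingCat.of B)).presheaf.stalk y) :=
    IsLocalization.algEquiv y.asIdeal.primeCompl _ _
  constructor
  · intro h
    exact IsRegularLocalRing.of_ringEquiv e.symm.toRingEquiv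
  · intro h
    haveI : IsRegularLocalRing (Localization.AtPrime y.asIdeal) := h
    exact IsRegularLocalRing.of_ringEquiv e.toRingEquiv

/-- the stalk at a point of an affine open is regular iff its prime lies in the regular locus. -/
theorem regular_stalk_iff {Y : Scheme.{u}} {V : Y.Opens} (hV : IsAffineOpen V) (y : Y)
    (hy : y ∈ V) :
    IsRegularLocalRing (Y.presheaf.stalk y) ↔ hV.primeIdealOf ⟨y, hy⟩ ∈ EGA4.regLocus Γ(Y, V) := by
  letI := Y.presheaf.algebra_section_stalk ⟨y, hy⟩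
  haveI := hV.isLocalization_stalk ⟨y, hy⟩
  let e : Localization.AtPrime (hV.primeIdealOf ⟨y, hy⟩).asIdeal ≃ₐ[Γ(Y, V)] (Y.presheaf.stalk y) :=
    IsLocalization.algEquiv (hV.primeIdealOf ⟨y, hy⟩).asIdeal.primeCompl _ _
  constructor
  · intro h
    exact IsRegularLocalRing.of_ringEquiv e.symm.toRingEquiv
  · intro h
    haveI : IsRegularLocalRing (Localization.AtPrime (hV.primeIdealOf ⟨y, hy⟩).asIdeal) := h
    exact IsRegularLocalRing.of_ringEquiv e.toRingEquiv

/-- on an affine open with open regular locus, the regular points form an open set. -/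
theorem isOpen_regular_inter {Y : Scheme.{u}} {V : Y.Opens} (hV : IsAffineOpen V)
    (h : IsOpen (EGA4.regLocus Γ(Y, V))) :
    IsOpen ({y : Y | IsRegularLocalRing (Y.presheaf.stalk y)} ∩ (V : Set Y)) := by
  have heq : {y : Y | IsRegularLocalRing (Y.presheaf.stalk y)} ∩ (V : Set Y) =
      (fun q : PrimeSpectrum Γ(Y, V) => hV.fromSpec (q : Spec Γ(Y, V))) '' EGA4.regLocus Γ(Y, V) := by
    ext y
    constructor
    · rintro ⟨hy, hyV⟩
      exact ⟨hV.primeIdealOf ⟨y, hyV⟩, (regular_stalk_iff hV y hyV).mp hy,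
        hV.fromSpec_primeIdealOf ⟨y, hyV⟩⟩
    · rintro ⟨q, hq, rfl⟩
      have hmem : hV.fromSpec (q : Spec Γ(Y, V)) ∈ (V : Set Y) := by
        have : hV.fromSpec (q : Spec Γ(Y, V)) ∈ Set.range hV.fromSpec := ⟨_, rfl⟩
        rw [hV.range_fromSpec] at this
        exact this
      refine ⟨?_, hmem⟩
      have hprime : hV.primeIdealOf ⟨hV.fromSpec (q : Spec Γ(Y, V)), hmem⟩ = q :=
        hV.fromSpec.isOpenEmbedding.injective (hV.fromSpec_primeIdealOf ⟨_, hmem⟩)
      change IsRegularLocalRing _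
      rw [regular_stalk_iff hV _ hmem, hprime]
      exact hq
  rw [heq]
  exact hV.fromSpec.isOpenEmbedding.isOpenMap _ h

/-- S12460 -/
theorem j2_iff (X : Scheme.{u}) [IsLocallyNoetherian X] :
    ((∀ (Y : Scheme.{u}) (g : Y ⟶ X), LocallyOfFiniteType g →
        IsOpen {y : Y | IsRegularLocalRing (Y.presheaf.stalk y)}) ↔
      ∀ U : X.affineOpens, EGA4.IsJ2 Γ(X, U)) ∧
    ((∀ (Y : Scheme.{u}) (g : Y ⟶ X), LocallyOfFiniteType g →
        IsOpen {y : Y | IsRegularLocalRing (Y.presheaf.stalk y)}) ↔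
      ∀ x : X, ∃ U : X.affineOpens, x ∈ (U : X.Opens) ∧ EGA4.IsJ2 Γ(X, U)) := by
  have hAB : (∀ (Y : Scheme.{u}) (g : Y ⟶ X), LocallyOfFiniteType g →
        IsOpen {y : Y | IsRegularLocalRing (Y.presheaf.stalk y)}) →
      ∀ U : X.affineOpens, EGA4.IsJ2 Γ(X, U) := by
    intro h U B _ _ hB
    let φ : Γ(X, U) ⟶ CommRingCat.of B := CommRingCat.ofHom (algebraMap Γ(X, U) B)
    haveI : LocallyOfFiniteType (Spec.map φ) := by
      rw [HasRingHomProperty.Spec_iff (P := @LocallyOfFiniteType)]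
      exact RingHom.finiteType_algebraMap.mpr hB
    have hopen := h (Spec (CommRingCat.of B)) (Spec.map φ ≫ U.2.fromSpec) inferInstance
    have heq : {y : Spec (CommRingCat.of B) |
        IsRegularLocalRing ((Spec (CommRingCat.of B)).presheaf.stalk y)} = EGA4.regLocus B := by
      ext y
      exact regular_stalk_Spec_iff B y
    rw [heq] at hopen
    exact hopen
  have hex : ∀ s : X, ∃ U : X.affineOpens, s ∈ (U : X.Opens) := by
    intro s
    obtain ⟨_, ⟨V, hV, rfl⟩, hsV, -⟩ := X.isBasis_affineOpens.exists_subset_of_mem_open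
      (Set.mem_univ s) isOpen_univ
    exact ⟨⟨V, hV⟩, hsV⟩
  have hCA : (∀ x : X, ∃ U : X.affineOpens, x ∈ (U : X.Opens) ∧ EGA4.IsJ2 Γ(X, U)) →
      (∀ (Y : Scheme.{u}) (g : Y ⟶ X), LocallyOfFiniteType g →
        IsOpen {y : Y | IsRegularLocalRing (Y.presheaf.stalk y)}) := by
    intro h Y g hg
    rw [isOpen_iff_forall_mem_open]
    intro y hy
    obtain ⟨U, hgyU, hJ2⟩ := h (g y)
    obtain ⟨_, ⟨V, hV, rfl⟩, hyV, hVU⟩ := Y.isBasis_affineOpens.exists_subset_of_mem_open
      (show y ∈ ((g ⁻¹ᵁ (U : X.Opens) : Y.Opens) : Set Y) from hgyU) (g ⁻¹ᵁ (U : X.Opens)).isOpen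
    have e : V ≤ g ⁻¹ᵁ (U : X.Opens) := hVU
    have hV' : IsAffineOpen V := hV
    letI : Algebra Γ(X, U) Γ(Y, V) := (g.appLE U V e).hom.toAlgebra
    haveI : Algebra.FiniteType Γ(X, U) Γ(Y, V) := g.finiteType_appLE U.2 hV' e
    have hopen := hJ2 Γ(Y, V) inferInstance
    exact ⟨_, Set.inter_subset_left, isOpen_regular_inter hV' hopen, hy, hyV⟩
  refine ⟨⟨hAB, fun h => hCA fun x => ?_⟩, ⟨fun h x => ?_, hCA⟩⟩
  · obtain ⟨U, hxU⟩ := hex x
    exact ⟨U, hxU, h U⟩
  · obtain ⟨U, hxU⟩ := hex x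
    exact ⟨U, hxU, hAB h U⟩

end Groth.Agent.Lib.helper26.J2
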