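import Mathlib

set_option autoImplicit false

namespace Groth.Agent.Lib.helper26.Kempf

open scoped RealInnerProductSpace
open Filter Topology

section inf
variable {E : Type*} [AddCommGroup E] [Module ℝ E]
  (S : Finset (Module.Dual ℝ E)) (hS : S.Nonempty)

lemma inf_le_apply {f : Module.Dual ℝ E} (hf : f ∈ S) (v : E) :
    S.inf' hS (fun f => f v) ≤ f v := Finset.inf'_le _ hf

lemma exists_eq_inf (v : E) : ∃ f ∈ S, S.inf' hS (fun f => f v) = f v :=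
  Finset.exists_mem_eq_inf' hS _

lemma inf_smul {c : ℝ} (hc : 0 ≤ c) (v : E) :
    S.inf' hS (fun f => f (c • v)) = c * S.inf' hS (fun f => f v) := by
  obtain ⟨f₀, hf₀, h₀⟩ := exists_eq_inf S hS v
  apply le_antisymm
  · calc S.inf' hS (fun f => f (c • v)) ≤ f₀ (c • v) := inf_le_apply S hS hf₀ _
      _ = c * S.inf' hS (fun f => f v) := by rw [map_smul, smul_eq_mul, h₀]
  · rw [Finset.le_inf'_iff]
    intro f hf
    rw [map_smul, smul_eq_mul]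
    exact mul_le_mul_of_nonneg_left (inf_le_apply S hS hf v) hc

lemma inf_add_le (v w : E) :
    S.inf' hS (fun f => f v) + S.inf' hS (fun f => f w) ≤ S.inf' hS (fun f => f (v + w)) := by
  rw [Finset.le_inf'_iff]
  intro f hf
  rw [map_add]
  exact add_le_add (inf_le_apply S hS hf v) (inf_le_apply S hS hf w)

lemma inf_zero : S.inf' hS (fun f => f (0 : E)) = 0 := by
  simp only [map_zero]
  exact Finset.inf'_const hS 0

lemma inf_neg_le (v : E) : S.inf' hS (fun f => f (-v)) ≤ - S.inf' hS (fun f => f v) := by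
  have h := inf_add_le S hS v (-v)
  rw [add_neg_cancel, inf_zero] at h
  linarith

end inf


section analytic
variable {E : Type*} [NormedAddCommGroup E] [InnerProductSpace ℝ E] [FiniteDimensional ℝ E]

lemma continuous_inf (S : Finset (Module.Dual ℝ E)) (hS : S.Nonempty) :
    Continuous (fun v : E => S.inf' hS (fun f => f v)) := by
  apply Continuous.finset_inf'_apply
  intro f _
  exact LinearMap.continuous_of_finiteDimensional f

variable (F G : Finset (Module.Dual ℝ E)) (hF : F.Nonempty) (hG : G.Nonempty)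

theorem exists_max
    (hpos : ∃ v : E, 0 ≤ F.inf' hF (fun f => f v) ∧ 0 < G.inf' hG (fun g => g v)) :
    ∃ M : ℝ, 0 < M ∧ IsGreatest ((fun v => G.inf' hG (fun g => g v) / ‖v‖) ''
        {v : E | v ≠ 0 ∧ 0 ≤ F.inf' hF (fun f => f v)}) M := by
  obtain ⟨v₁, hv₁F, hv₁G⟩ := hpos
  have hv₁ : v₁ ≠ 0 := by
    rintro rfl
    rw [inf_zero] at hv₁G
    exact lt_irrefl _ hv₁G
  have hn₁ : 0 < ‖v₁‖ := norm_pos_iff.2 hv₁
  set K : Set E := Metric.sphere (0 : E) 1 ∩ {v | 0 ≤ F.inf' hF (fun f => f v)} with hK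
  have hKc : IsCompact K :=
    (isCompact_sphere (0 : E) 1).inter_right (isClosed_le continuous_const (continuous_inf F hF))
  have hnorm : ∀ v : E, v ≠ 0 → 0 ≤ F.inf' hF (fun f => f v) → ‖v‖⁻¹ • v ∈ K ∧
      G.inf' hG (fun g => g (‖v‖⁻¹ • v)) = G.inf' hG (fun g => g v) / ‖v‖ := by
    intro v hv hvF
    have hn : 0 < ‖v‖ := norm_pos_iff.2 hv
    refine ⟨⟨?_, ?_⟩, ?_⟩
    · rw [mem_sphere_zero_iff_norm]
      exact norm_smul_inv_norm hv
    · change 0 ≤ F.inf' hF (fun f => f (‖v‖⁻¹ • v))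
      rw [inf_smul F hF (inv_nonneg.2 hn.le)]
      exact mul_nonneg (inv_nonneg.2 hn.le) hvF
    · rw [inf_smul G hG (inv_nonneg.2 hn.le), div_eq_inv_mul]
  have hne : K.Nonempty := ⟨_, (hnorm v₁ hv₁ hv₁F).1⟩
  obtain ⟨u, huK, humax⟩ := hKc.exists_isMaxOn hne (continuous_inf G hG).continuousOn
  have hu1 : ‖u‖ = 1 := mem_sphere_zero_iff_norm.1 huK.1
  have hu0 : u ≠ 0 := by
    rintro rfl
    rw [norm_zero] at hu1
    exact zero_ne_one hu1
  refine ⟨G.inf' hG (fun g => g u), ?_, ⟨u, ⟨hu0, huK.2⟩, ?_⟩, ?_⟩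
  · have h1 := humax (hnorm v₁ hv₁ hv₁F).1
    simp only [Set.mem_ofPred_eq] at h1
    rw [(hnorm v₁ hv₁ hv₁F).2] at h1
    exact lt_of_lt_of_le (div_pos hv₁G hn₁) h1
  · simp only [hu1, div_one]
  · rintro _ ⟨v, ⟨hv0, hvF⟩, rfl⟩
    have h1 := humax (hnorm v hv0 hvF).1
    simp only [Set.mem_ofPred_eq] at h1
    rw [(hnorm v hv0 hvF).2] at h1
    exact h1


theorem ray_unique {M : ℝ} (hM : 0 < M)
    (hub : ∀ v : E, v ≠ 0 → 0 ≤ F.inf' hF (fun f => f v) →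
      G.inf' hG (fun g => g v) / ‖v‖ ≤ M)
    {u₁ u₂ : E} (h₁ : u₁ ≠ 0) (h₁F : 0 ≤ F.inf' hF (fun f => f u₁))
    (h₁G : G.inf' hG (fun g => g u₁) / ‖u₁‖ = M)
    (h₂ : u₂ ≠ 0) (h₂F : 0 ≤ F.inf' hF (fun f => f u₂))
    (h₂G : G.inf' hG (fun g => g u₂) / ‖u₂‖ = M) :
    ‖u₁‖⁻¹ • u₁ = ‖u₂‖⁻¹ • u₂ := by
  have key : ∀ u : E, u ≠ 0 → 0 ≤ F.inf' hF (fun f => f u) →
      G.inf' hG (fun g => g u) / ‖u‖ = M →
      ‖(‖u‖⁻¹ • u)‖ = 1 ∧ 0 ≤ F.inf' hF (fun f => f (‖u‖⁻¹ • u)) ∧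
        G.inf' hG (fun g => g (‖u‖⁻¹ • u)) = M := by
    intro u hu huF huG
    have hn : 0 < ‖u‖ := norm_pos_iff.2 hu
    refine ⟨norm_smul_inv_norm hu, ?_, ?_⟩
    · rw [inf_smul F hF (inv_nonneg.2 hn.le)]
      exact mul_nonneg (inv_nonneg.2 hn.le) huF
    · rw [inf_smul G hG (inv_nonneg.2 hn.le), ← div_eq_inv_mul, huG]
  obtain ⟨ha1, haF, haG⟩ := key u₁ h₁ h₁F h₁G
  obtain ⟨hb1, hbF, hbG⟩ := key u₂ h₂ h₂F h₂G
  set a := ‖u₁‖⁻¹ • u₁
  set b := ‖u₂‖⁻¹ • u₂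
  by_contra hab
  have hns : ¬ SameRay ℝ a b := by
    rw [sameRay_iff_of_norm_eq (ha1.trans hb1.symm)]
    exact hab
  have hlt : ‖a + b‖ < 2 := by
    have := norm_add_lt_of_not_sameRay hns
    rw [ha1, hb1] at this
    linarith
  have hG2 : 2 * M ≤ G.inf' hG (fun g => g (a + b)) := by
    have := inf_add_le G hG a b
    rw [haG, hbG] at this
    linarith
  have hF2 : 0 ≤ F.inf' hF (fun f => f (a + b)) := by
    have := inf_add_le F hF a b
    linarith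
  have hab0 : a + b ≠ 0 := by
    intro h0
    rw [h0, inf_zero] at hG2
    linarith
  have hn : 0 < ‖a + b‖ := norm_pos_iff.2 hab0
  have h3 := hub (a + b) hab0 hF2
  rw [div_le_iff₀ hn] at h3
  nlinarith


/-- eventually-feasibility along a direction killed by the active constraints. -/
lemma eventually_ge (S : Finset (Module.Dual ℝ E)) (hS : S.Nonempty) (c : ℝ) (u w : E)
    (hu : c ≤ S.inf' hS (fun f => f u)) (hw : ∀ f ∈ S, f u = c → f w = 0) :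
    ∀ᶠ t : ℝ in 𝓝 0, c ≤ S.inf' hS (fun f => f (u + t • w)) := by
  simp only [Finset.le_inf'_iff]
  rw [Filter.eventually_all_finset]
  intro f hf
  by_cases h : f u = c
  · refine Filter.Eventually.of_forall (fun t => ?_)
    rw [map_add, map_smul, h, hw f hf h]
    simp
  · have hpos : c < f u := lt_of_le_of_ne ((Finset.le_inf'_iff _ _).1 hu f hf) (Ne.symm h)
    have hc : Continuous (fun t : ℝ => f (u + t • w)) := by
      simp only [map_add, map_smul, smul_eq_mul]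
      fun_prop
    have h0 : Tendsto (fun t : ℝ => f (u + t • w)) (𝓝 0) (𝓝 (f u)) := by
      have := hc.tendsto 0
      simpa using this
    exact (h0.eventually_const_lt hpos).mono (fun t ht => ht.le)

theorem inner_eq_zero_of_active (u : E) (hG1 : G.inf' hG (fun g => g u) = 1)
    (hF0 : 0 ≤ F.inf' hF (fun f => f u))
    (hmin : ∀ v : E, 0 ≤ F.inf' hF (fun f => f v) → 1 ≤ G.inf' hG (fun g => g v) → ‖u‖ ≤ ‖v‖)
    (w : E) (hwG : ∀ g ∈ G, g u = 1 → g w = 0) (hwF : ∀ f ∈ F, f u = 0 → f w = 0) :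
    ⟪u, w⟫ = 0 := by
  have ev := (eventually_ge F hF 0 u w hF0 hwF).and (eventually_ge G hG 1 u w hG1.ge hwG)
  have hloc : IsLocalMin (fun t : ℝ => ‖u + t • w‖ ^ 2) 0 := by
    refine ev.mono (fun t ht => ?_)
    simp only [zero_smul, add_zero]
    exact pow_le_pow_left₀ (norm_nonneg _) (hmin _ ht.1 ht.2) 2
  have hd : HasDerivAt (fun t : ℝ => ‖u + t • w‖ ^ 2) (2 * ⟪u + (0 : ℝ) • w, w⟫) 0 := by
    have h1 : HasDerivAt (fun t : ℝ => u + t • w) w 0 := by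
      have := ((hasDerivAt_id (0 : ℝ)).smul_const w).const_add u
      simpa using this
    exact h1.norm_sq
  have := hloc.hasDerivAt_eq_zero hd
  simpa using this

end analytic

section rational

/-- a `ℚ`-linear retraction of `ℝ` onto `ℚ`. -/
lemma exists_ratProj : ∃ π : ℝ →ₗ[ℚ] ℚ, ∀ q : ℚ, π (q : ℝ) = q := by
  obtain ⟨g, hg⟩ := LinearMap.exists_leftInverse_of_injective (Algebra.linearMap ℚ ℝ)
    (LinearMap.ker_eq_bot.2 (algebraMap ℚ ℝ).injective)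
  refine ⟨g, fun q => ?_⟩
  have := LinearMap.congr_fun hg q
  simpa using this

lemma ratProj_sum (π : ℝ →ₗ[ℚ] ℚ) {κ : Type*} (s : Finset κ) (y n : κ → ℝ)
    (hn : ∀ k ∈ s, ∃ z : ℤ, n k = z) :
    ((π (∑ k ∈ s, y k * n k) : ℚ) : ℝ) = ∑ k ∈ s, ((π (y k) : ℚ) : ℝ) * n k := by
  rw [map_sum, Rat.cast_sum]
  refine Finset.sum_congr rfl (fun k hk => ?_)
  obtain ⟨z, hz⟩ := hn k hk
  rw [hz]
  have : y k * (z : ℝ) = (z : ℚ) • y k := by
    rw [Rat.smul_def]; push_cast; ring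
  rw [this, map_smul, smul_eq_mul]
  push_cast
  ring

lemma exists_common_den {ι : Type*} [Fintype ι] (q : ι → ℚ) :
    ∃ N : ℕ, 0 < N ∧ ∀ i, ∃ k : ℤ, (N : ℝ) * (q i : ℝ) = k := by
  refine ⟨∏ i, (q i).den, Finset.prod_pos (fun i _ => (q i).den_pos), fun i => ?_⟩
  obtain ⟨c, hc⟩ := Finset.dvd_prod_of_mem (fun i => (q i).den) (Finset.mem_univ i)
  refine ⟨c * (q i).num, ?_⟩
  rw [hc]
  push_cast
  have : ((q i).den : ℝ) * (q i : ℝ) = (q i).num := by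
    have := Rat.den_mul_eq_num (q i)
    exact_mod_cast this
  linear_combination (c : ℝ) * this

end rational


section lattice
variable {E : Type*} [NormedAddCommGroup E] [InnerProductSpace ℝ E] [FiniteDimensional ℝ E]
variable (F G : Finset (Module.Dual ℝ E)) (hF : F.Nonempty) (hG : G.Nonempty)

theorem rational_of_minimal (L : Submodule ℤ E) [DiscreteTopology L] [IsZLattice ℝ L]
    (hint : ∀ x ∈ L, ∀ y ∈ L, ∃ n : ℤ, inner ℝ x y = (n : ℝ))
    (hFi : ∀ f ∈ F, ∀ x ∈ L, ∃ n : ℤ, f x = (n : ℝ))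
    (hGi : ∀ g ∈ G, ∀ x ∈ L, ∃ n : ℤ, g x = (n : ℝ))
    (u : E) (hG1 : G.inf' hG (fun g => g u) = 1)
    (hF0 : 0 ≤ F.inf' hF (fun f => f u))
    (hmin : ∀ v : E, 0 ≤ F.inf' hF (fun f => f v) → 1 ≤ G.inf' hG (fun g => g v) → ‖u‖ ≤ ‖v‖) :
    ∃ N : ℕ, 0 < N ∧ (N : ℝ) • u ∈ L := by
  classical
  set 𝒜 : Finset (Module.Dual ℝ E) :=
    G.filter (fun g => g u = 1) ∪ F.filter (fun f => f u = 0) with h𝒜
  have hA_int : ∀ ℓ ∈ 𝒜, ∀ x ∈ L, ∃ n : ℤ, ℓ x = (n : ℝ) := by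
    intro ℓ hℓ x hx
    rw [h𝒜, Finset.mem_union, Finset.mem_filter, Finset.mem_filter] at hℓ
    rcases hℓ with h | h
    · exact hGi ℓ h.1 x hx
    · exact hFi ℓ h.1 x hx
  have hA_val : ∀ ℓ ∈ 𝒜, ℓ u = 1 ∨ ℓ u = 0 := by
    intro ℓ hℓ
    rw [h𝒜, Finset.mem_union, Finset.mem_filter, Finset.mem_filter] at hℓ
    rcases hℓ with h | h
    · exact Or.inl h.2
    · exact Or.inr h.2
  have horth : ∀ w : E, (∀ ℓ ∈ 𝒜, ℓ w = 0) → ⟪u, w⟫ = 0 := by
    intro w hw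
    refine inner_eq_zero_of_active F G hF hG u hG1 hF0 hmin w (fun g hg h => hw g ?_)
      (fun f hf h => hw f ?_)
    · rw [h𝒜, Finset.mem_union, Finset.mem_filter]; exact Or.inl ⟨hg, h⟩
    · rw [h𝒜, Finset.mem_union, Finset.mem_filter, Finset.mem_filter]; exact Or.inr ⟨hf, h⟩
  have hspan : innerₗ E u ∈
      Submodule.span ℝ (Set.range (fun ℓ : 𝒜 => (ℓ : Module.Dual ℝ E))) := by
    apply mem_span_of_iInf_ker_le_ker
    intro w hw
    rw [Submodule.mem_iInf] at hw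
    rw [LinearMap.mem_ker, innerₗ_apply_apply]
    exact horth w (fun ℓ hℓ => LinearMap.mem_ker.1 (hw ⟨ℓ, hℓ⟩))
  obtain ⟨x, hx⟩ := (Submodule.mem_span_range_iff_exists_fun ℝ).1 hspan
  have hfree : Module.Free ℤ L := ZLattice.module_free ℝ L
  have hfin : Module.Finite ℤ L := ZLattice.module_finite ℝ L
  let b := Module.Free.chooseBasis ℤ L
  let bE := b.ofZLatticeBasis ℝ L
  have hbE : ∀ i, bE i ∈ L := fun i => by
    rw [Module.Basis.ofZLatticeBasis_apply]; exact (b i).2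
  obtain ⟨π, hπ⟩ := exists_ratProj
  set y : Module.Free.ChooseBasisIndex ℤ L → ℝ := fun i => bE.repr u i with hy
  have hu_sum : u = ∑ i, y i • bE i := (bE.sum_repr u).symm
  have eqI : ∀ j, ∑ i, y i * ⟪bE i, bE j⟫ =
      ∑ ℓ : 𝒜, x ℓ * (ℓ : Module.Dual ℝ E) (bE j) := by
    intro j
    have h1 : ⟪u, bE j⟫ = ∑ i, y i * ⟪bE i, bE j⟫ := by
      conv_lhs => rw [hu_sum]
      rw [sum_inner]
      simp only [real_inner_smul_left]
    have h2 : ⟪u, bE j⟫ = ∑ ℓ : 𝒜, x ℓ * (ℓ : Module.Dual ℝ E) (bE j) := by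
      have := LinearMap.congr_fun hx (bE j)
      rw [innerₗ_apply_apply] at this
      rw [← this]
      simp only [LinearMap.sum_apply, LinearMap.smul_apply, smul_eq_mul]
    rw [← h1, h2]
  have eqII : ∀ m ∈ 𝒜, ∑ i, y i * m (bE i) = m u := by
    intro m _
    conv_rhs => rw [hu_sum]
    simp only [map_sum, map_smul, smul_eq_mul]
  have eqI' : ∀ j, ∑ i, ((π (y i) : ℚ) : ℝ) * ⟪bE i, bE j⟫ =
      ∑ ℓ : 𝒜, ((π (x ℓ) : ℚ) : ℝ) * (ℓ : Module.Dual ℝ E) (bE j) := by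
    intro j
    rw [← ratProj_sum π Finset.univ y _ (fun i _ => hint _ (hbE i) _ (hbE j)),
      ← ratProj_sum π Finset.univ x _ (fun ℓ _ => hA_int ℓ ℓ.2 _ (hbE j)), eqI j]
  have eqII' : ∀ m ∈ 𝒜, ∑ i, ((π (y i) : ℚ) : ℝ) * m (bE i) = m u := by
    intro m hm
    rw [← ratProj_sum π Finset.univ y _ (fun i _ => hA_int m hm _ (hbE i)), eqII m hm]
    rcases hA_val m hm with h | h <;> rw [h]
    · have := hπ 1
      rw [Rat.cast_one] at this
      rw [this, Rat.cast_one]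
    · rw [map_zero, Rat.cast_zero]
  set v' : E := ∑ i, ((π (y i) : ℚ) : ℝ) • bE i with hv'
  have hI : innerₗ E v' = ∑ ℓ : 𝒜, ((π (x ℓ) : ℚ) : ℝ) • (ℓ : Module.Dual ℝ E) := by
    apply bE.ext
    intro j
    rw [innerₗ_apply_apply, hv', sum_inner]
    simp only [real_inner_smul_left, LinearMap.sum_apply, LinearMap.smul_apply, smul_eq_mul]
    exact eqI' j
  have hII : ∀ m ∈ 𝒜, m v' = m u := by
    intro m hm
    rw [hv', map_sum]
    simp only [map_smul, smul_eq_mul]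
    exact eqII' m hm
  have hd : v' - u = 0 := by
    have hdA : ∀ m ∈ 𝒜, m (v' - u) = 0 := fun m hm => by rw [map_sub, hII m hm, sub_self]
    rw [← inner_self_eq_zero (𝕜 := ℝ), inner_sub_left]
    have e1 : ⟪v', v' - u⟫ = 0 := by
      have := LinearMap.congr_fun hI (v' - u)
      rw [innerₗ_apply_apply] at this
      rw [this]
      simp only [LinearMap.sum_apply, LinearMap.smul_apply, smul_eq_mul]
      apply Finset.sum_eq_zero
      intro ℓ _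
      rw [hdA ℓ ℓ.2, mul_zero]
    have e2 : ⟪u, v' - u⟫ = 0 := horth _ hdA
    rw [e1, e2, sub_zero]
  have hu' : u = v' := (sub_eq_zero.1 hd).symm
  obtain ⟨N, hN, hNk⟩ := exists_common_den (fun i => π (y i))
  refine ⟨N, hN, ?_⟩
  rw [hu', hv', Finset.smul_sum]
  refine Submodule.sum_mem _ (fun i _ => ?_)
  obtain ⟨k, hk⟩ := hNk i
  rw [smul_smul, hk, Int.cast_smul_eq_zsmul]
  exact L.smul_mem k (hbE i)


omit [InnerProductSpace ℝ E] [FiniteDimensional ℝ E] in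
theorem exists_generator [NormedSpace ℝ E] (L : Submodule ℤ E) [DiscreteTopology L] (v : E) (hv : v ≠ 0)
    (hvL : v ∈ L) :
    ∃ t₀ : ℝ, 0 < t₀ ∧ t₀ • v ∈ L ∧ ∀ s : ℝ, s • v ∈ L → ∃ n : ℤ, s = n * t₀ := by
  let H : AddSubgroup ℝ :=
    { carrier := {t | t • v ∈ L}
      add_mem' := fun {a b} ha hb => by
        simp only [Set.mem_ofPred_eq, add_smul] at *
        exact L.add_mem ha hb
      zero_mem' := by simp
      neg_mem' := fun {a} ha => by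
        simp only [Set.mem_ofPred_eq, neg_smul] at *
        exact L.neg_mem ha }
  obtain ⟨ε, hε, hball⟩ : ∃ ε > 0, ∀ x ∈ L, ‖x‖ < ε → x = 0 := by
    have h0 : IsOpen ({0} : Set L) := isOpen_discrete _
    rw [Metric.isOpen_singleton_iff] at h0
    obtain ⟨ε, hε, h⟩ := h0
    refine ⟨ε, hε, fun x hx hlt => ?_⟩
    have := h ⟨x, hx⟩ (by
      rw [Subtype.dist_eq]
      simpa using hlt)
    exact congrArg Subtype.val this
  have hn : 0 < ‖v‖ := norm_pos_iff.2 hv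
  have hdisj : Disjoint (H : Set ℝ) (Set.Ioo 0 (ε / ‖v‖)) := by
    rw [Set.disjoint_left]
    rintro t (ht : t • v ∈ L) ⟨ht0, ht1⟩
    have : ‖t • v‖ < ε := by
      rw [norm_smul, Real.norm_eq_abs, abs_of_pos ht0]
      exact (lt_div_iff₀ hn).1 ht1
    have h0 := hball _ ht this
    rw [smul_eq_zero] at h0
    rcases h0 with h | h
    · exact ht0.ne' h
    · exact hv h
  obtain ⟨b, hb⟩ := AddSubgroup.cyclic_of_isolated_zero (div_pos hε hn) hdisj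
  have h1 : (1 : ℝ) ∈ H := by
    change (1 : ℝ) • v ∈ L
    rwa [one_smul]
  rw [hb, AddSubgroup.mem_closure_singleton] at h1
  obtain ⟨n₁, hn₁⟩ := h1
  have hb0 : b ≠ 0 := by
    rintro rfl
    simp at hn₁
  have hbH : b ∈ H := by
    rw [hb]
    exact AddSubgroup.subset_closure (Set.mem_singleton b)
  refine ⟨|b|, abs_pos.2 hb0, ?_, ?_⟩
  · rcases abs_choice b with h | h <;> rw [h]
    · exact hbH
    · exact H.neg_mem hbH
  · intro s hs
    have hsH : s ∈ H := hs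
    rw [hb, AddSubgroup.mem_closure_singleton] at hsH
    obtain ⟨n, hn⟩ := hsH
    rcases abs_choice b with h | h
    · exact ⟨n, by rw [h, ← hn]; simp⟩
    · exact ⟨-n, by rw [h, ← hn]; simp⟩


omit [FiniteDimensional ℝ E] in
lemma scale_props {M : ℝ} {k : ℝ} (hk : 0 < k) {w : E} (hw : w ≠ 0)
    (hwF : 0 ≤ F.inf' hF (fun f => f w)) (hwM : G.inf' hG (fun g => g w) / ‖w‖ = M) :
    k • w ≠ 0 ∧ 0 ≤ F.inf' hF (fun f => f (k • w)) ∧
      G.inf' hG (fun g => g (k • w)) / ‖k • w‖ = M := by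
  refine ⟨smul_ne_zero hk.ne' hw, ?_, ?_⟩
  · rw [inf_smul F hF hk.le]
    exact mul_nonneg hk.le hwF
  · rw [inf_smul G hG hk.le, norm_smul, Real.norm_eq_abs, abs_of_pos hk,
      mul_div_mul_left _ _ hk.ne', hwM]

omit [FiniteDimensional ℝ E] in
lemma pos_of_ratio {M : ℝ} (hM : 0 < M) {w : E} (hw : w ≠ 0)
    (hwM : G.inf' hG (fun g => g w) / ‖w‖ = M) : 0 < G.inf' hG (fun g => g w) := by
  have hn : 0 < ‖w‖ := norm_pos_iff.2 hw
  have : G.inf' hG (fun g => g w) = M * ‖w‖ := by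
    rw [← hwM]; field_simp
  rw [this]
  positivity

theorem kempf (L : Submodule ℤ E) [DiscreteTopology L] [IsZLattice ℝ L]
    (hint : ∀ x ∈ L, ∀ y ∈ L, ∃ n : ℤ, inner ℝ x y = (n : ℝ))
    (hFi : ∀ f ∈ F, ∀ x ∈ L, ∃ n : ℤ, f x = (n : ℝ))
    (hGi : ∀ g ∈ G, ∀ x ∈ L, ∃ n : ℤ, g x = (n : ℝ))
    (hpos : ∃ v : E, 0 ≤ F.inf' hF (fun f => f v) ∧ 0 < G.inf' hG (fun g => g v)) :
    ∃ M : ℝ, IsGreatest ((fun v => G.inf' hG (fun g => g v) / ‖v‖) ''
        {v : E | v ≠ 0 ∧ 0 ≤ F.inf' hF (fun f => f v)}) M ∧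
      ∃! v₀ : E, v₀ ∈ L ∧ v₀ ≠ 0 ∧ 0 ≤ F.inf' hF (fun f => f v₀) ∧
        G.inf' hG (fun g => g v₀) / ‖v₀‖ = M ∧
        ∀ v ∈ L, v ≠ 0 → 0 ≤ F.inf' hF (fun f => f v) → G.inf' hG (fun g => g v) / ‖v‖ = M →
          ∃ n : ℤ, v = n • v₀ := by
  obtain ⟨M, hM, hgr⟩ := exists_max F G hF hG hpos
  refine ⟨M, hgr, ?_⟩
  have hub : ∀ v : E, v ≠ 0 → 0 ≤ F.inf' hF (fun f => f v) →
      G.inf' hG (fun g => g v) / ‖v‖ ≤ M :=
    fun v hv hvF => hgr.2 ⟨v, ⟨hv, hvF⟩, rfl⟩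
  obtain ⟨u, ⟨hu0, huF⟩, huM⟩ := hgr.1
  simp only at huM
  have hgu : 0 < G.inf' hG (fun g => g u) := pos_of_ratio G hG hM hu0 huM
  set c := (G.inf' hG (fun g => g u))⁻¹ with hc
  have hcpos : 0 < c := inv_pos.2 hgu
  obtain ⟨hus0, husF, husM⟩ := scale_props F G hF hG hcpos hu0 huF huM
  have hus1 : G.inf' hG (fun g => g (c • u)) = 1 := by
    rw [inf_smul G hG hcpos.le]
    exact inv_mul_cancel₀ hgu.ne'
  have hmin : ∀ v : E, 0 ≤ F.inf' hF (fun f => f v) → 1 ≤ G.inf' hG (fun g => g v) →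
      ‖c • u‖ ≤ ‖v‖ := by
    intro v hvF hvG
    have hv0 : v ≠ 0 := by
      rintro rfl
      rw [inf_zero] at hvG
      linarith
    have hnv : 0 < ‖v‖ := norm_pos_iff.2 hv0
    have hnus : 0 < ‖c • u‖ := norm_pos_iff.2 hus0
    have h1 := hub v hv0 hvF
    rw [← husM, hus1, div_le_div_iff₀ hnv hnus] at h1
    nlinarith
  obtain ⟨N, hN, hNL⟩ := rational_of_minimal F G hF hG L hint hFi hGi (c • u) hus1 husF hmin
  have hNpos : (0 : ℝ) < N := by exact_mod_cast hN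
  obtain ⟨hvL0, hvLF, hvLM⟩ := scale_props F G hF hG hNpos hus0 husF husM
  obtain ⟨t₀, ht₀, ht₀L, hgen⟩ := exists_generator L ((N : ℝ) • c • u) hvL0 hNL
  obtain ⟨hv₀0, hv₀F, hv₀M⟩ := scale_props F G hF hG ht₀ hvL0 hvLF hvLM
  have hgenv : ∀ v ∈ L, v ≠ 0 → 0 ≤ F.inf' hF (fun f => f v) →
      G.inf' hG (fun g => g v) / ‖v‖ = M → ∃ n : ℤ, v = n • (t₀ • (N : ℝ) • c • u) := by
    intro v hvL hv0 hvF hvM
    have hray := ray_unique F G hF hG hM hub hv0 hvF hvM hvL0 hvLF hvLM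
    have hnv : 0 < ‖v‖ := norm_pos_iff.2 hv0
    have hv_eq : v = (‖v‖ * ‖(N : ℝ) • c • u‖⁻¹) • ((N : ℝ) • c • u) := by
      rw [mul_smul, ← hray, smul_inv_smul₀ hnv.ne']
    obtain ⟨n, hn⟩ := hgen (‖v‖ * ‖(N : ℝ) • c • u‖⁻¹) (by rw [← hv_eq]; exact hvL)
    refine ⟨n, ?_⟩
    conv_lhs => rw [hv_eq, hn]
    rw [← smul_smul, Int.cast_smul_eq_zsmul]
  refine ⟨t₀ • (N : ℝ) • c • u, ⟨ht₀L, hv₀0, hv₀F, hv₀M, hgenv⟩, ?_⟩
  rintro v₁ ⟨hv₁L, hv₁0, hv₁F, hv₁M, hgen₁⟩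
  obtain ⟨n, hn⟩ := hgen₁ _ ht₀L hv₀0 hv₀F hv₀M
  obtain ⟨m, hm⟩ := hgenv v₁ hv₁L hv₁0 hv₁F hv₁M
  set v₀ := t₀ • (N : ℝ) • c • u with hv₀
  have hmn : m * n = 1 := by
    have h0 : ((m * n - 1 : ℤ) : ℝ) • v₁ = 0 := by
      rw [Int.cast_smul_eq_zsmul, sub_smul, mul_smul, ← hn, ← hm, one_smul, sub_self]
    rw [smul_eq_zero] at h0
    rcases h0 with h | h
    · have h' : (m * n - 1 : ℤ) = 0 := by exact_mod_cast h
      linarith
    · exact absurd h hv₁0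
  rcases Int.mul_eq_one_iff_eq_one_or_neg_one.1 hmn with ⟨hm1, _⟩ | ⟨hm1, _⟩
  · rw [hm, hm1, one_smul]
  · exfalso
    rw [hm1, neg_one_smul] at hm
    have hg0 := pos_of_ratio G hG hM hv₀0 hv₀M
    have hg1 := pos_of_ratio G hG hM hv₁0 hv₁M
    have := inf_neg_le G hG v₀
    rw [← hm] at this
    linarith

end lattice

end Groth.Agent.Lib.helper26.Kempf
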