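import Groth.Agent.Lib.helper26.KrullAkizuki2

set_option autoImplicit false
universe u

namespace Groth.Agent.Lib.helper26.KrullAkizuki

section gen
variable {R : Type*} [CommRing R] [IsDomain R]
variable {K : Type*} [Field K] [Algebra R K] [IsFractionRing R K]
variable {V : Type*} [AddCommGroup V] [Module K V] [Module R V] [IsScalarTower R K V]

/-- clearing denominators in a `K`-span, module version. -/
lemma exists_smul_mem_span' (S : Set V) {v : V} (hv : v ∈ Submodule.span K S) :
    ∃ t : R, t ≠ 0 ∧ t • v ∈ Submodule.span R S := by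
  induction hv using Submodule.span_induction with
  | mem x hx => exact ⟨1, one_ne_zero, by rw [one_smul]; exact Submodule.subset_span hx⟩
  | zero => exact ⟨1, one_ne_zero, by rw [smul_zero]; exact Submodule.zero_mem _⟩
  | add x y _ _ hx hy =>
    obtain ⟨t₁, ht₁, h₁⟩ := hx
    obtain ⟨t₂, ht₂, h₂⟩ := hy
    refine ⟨t₁ * t₂, mul_ne_zero ht₁ ht₂, ?_⟩
    rw [smul_add]
    refine Submodule.add_mem _ ?_ ?_
    · rw [mul_comm, mul_smul]; exact Submodule.smul_mem _ t₂ h₁
    · rw [mul_smul]; exact Submodule.smul_mem _ t₁ h₂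
  | smul c x _ hx =>
    obtain ⟨t, ht, h⟩ := hx
    obtain ⟨r, d, hd, hc⟩ := IsFractionRing.div_surjective (A := R) c
    have hd0 : d ≠ 0 := nonZeroDivisors.ne_zero hd
    refine ⟨d * t, mul_ne_zero hd0 ht, ?_⟩
    have hdK : algebraMap R K d ≠ 0 := by
      rw [Ne, IsFractionRing.to_map_eq_zero_iff]; exact hd0
    have : (d * t) • c • x = r • t • x := by
      rw [mul_comm d t, mul_smul, ← algebraMap_smul K d (c • x), smul_smul, ← hc,
        mul_div_cancel₀ _ hdK, algebraMap_smul, smul_comm]
    rw [this]
    exact Submodule.smul_mem _ r h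

end gen

section gen2

theorem length_submodule_quotient_ne_top {R : Type*} [CommRing R] [IsDomain R]
    [IsNoetherianRing R] [Ring.KrullDimLE 1 R]
    (K : Type*) [Field K] [Algebra R K] [IsFractionRing R K]
    {V : Type*} [AddCommGroup V] [Module K V] [Module R V] [IsScalarTower R K V]
    [FiniteDimensional K V] (M : Submodule R V) {x : R} (hx : x ≠ 0) :
    Module.length R (↥M ⧸ sm x (⊤ : Submodule R ↥M)) ≠ ⊤ := by
  have htf : ∀ t : R, t ≠ 0 → Function.Injective (fun m : ↥M => t • m) := by
    intro t ht m₁ m₂ h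
    have h' : t • (m₁ : V) = t • (m₂ : V) := congrArg Subtype.val h
    rw [← algebraMap_smul K t (m₁ : V), ← algebraMap_smul K t (m₂ : V)] at h'
    have htK : algebraMap R K t ≠ 0 := by
      rw [Ne, IsFractionRing.to_map_eq_zero_iff]; exact ht
    exact Subtype.ext (smul_right_injective V htK h')
  have hfg : (Submodule.span K (M : Set V)).FG := IsNoetherian.noetherian _
  obtain ⟨s', hs', hspan⟩ := (Submodule.fg_span_iff_fg_span_finset_subset _).1 hfg
  classical
  let F : Submodule R ↥M := Submodule.span R ((fun m : ↥M => (m : V)) ⁻¹' (s' : Set V))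
  have hfin : ((fun m : ↥M => (m : V)) ⁻¹' (s' : Set V)).Finite :=
    Set.Finite.preimage (Subtype.val_injective.injOn) (Finset.finite_toSet s')
  have hF : F.FG := Submodule.fg_span hfin
  have hFM : ∀ m : ↥M, ∃ t : R, t ≠ 0 ∧ t • m ∈ F := by
    intro m
    have hm : (m : V) ∈ Submodule.span K (s' : Set V) := by
      rw [← hspan]; exact Submodule.subset_span m.2
    obtain ⟨t, ht, htm⟩ := exists_smul_mem_span' (R := R) (s' : Set V) hm
    refine ⟨t, ht, ?_⟩
    have himg : Submodule.span R (s' : Set V) ≤ F.map M.subtype := by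
      rw [Submodule.span_le]
      intro y hy
      exact ⟨⟨y, hs' hy⟩, Submodule.subset_span hy, rfl⟩
    obtain ⟨z, hz, hzm⟩ := himg htm
    have : z = t • m := Subtype.ext hzm
    rw [← this]
    exact hz
  exact length_quotient_ne_top htf F hF hFM hx


open Pointwise in
lemma span_singleton_smul_top_eq_sm {R : Type*} [CommRing R] {M : Type*} [AddCommGroup M]
    [Module R M] (x : R) :
    (Ideal.span ({x} : Set R) • (⊤ : Submodule R M)) = sm x (⊤ : Submodule R M) := by
  rw [Submodule.ideal_span_singleton_smul]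
  ext y
  rw [Submodule.mem_smul_pointwise_iff_exists, mem_sm]

end gen2


theorem primesOver_maximalIdeal_props (R S K L : Type u)
    [CommRing R] [IsDomain R] [IsNoetherianRing R] [IsLocalRing R] (hdim : ringKrullDim R = 1)
    [CommRing S] [IsDomain S] [Algebra R S] [Field K] [Field L] [Algebra R K] [IsFractionRing R K]
    [Algebra S L] [IsFractionRing S L] [Algebra K L] [Algebra R L] [IsScalarTower R K L]
    [IsScalarTower R S L] [FiniteDimensional K L] :
    (∀ n ∈ (IsLocalRing.maximalIdeal R).primesOver S, n.IsMaximal) ∧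
      ((IsLocalRing.maximalIdeal R).primesOver S).Finite ∧
      ∀ n ∈ (IsLocalRing.maximalIdeal R).primesOver S, Module.Finite R (S ⧸ n) := by
  have hK1 : Ring.KrullDimLE 1 R := Ring.krullDimLE_iff.2 (by rw [hdim]; exact le_rfl)
  have hnf : ¬ IsField R := by
    intro hf
    have := ringKrullDim_eq_zero_of_isField hf
    rw [hdim] at this
    exact one_ne_zero this
  have hm : IsLocalRing.maximalIdeal R ≠ ⊥ := IsLocalRing.isField_iff_maximalIdeal_eq.not.1 hnf
  obtain ⟨a, ham, ha0⟩ := Submodule.exists_mem_ne_zero_of_ne_bot hm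
  have hSL : Function.Injective (algebraMap S L) := IsFractionRing.injective S L
  have h1 := krullAkizuki_length R K L S hSL ha0
  rw [Module.length_ne_top_iff, isFiniteLength_iff_isNoetherian_isArtinian] at h1
  have hN := h1.1
  have hA := h1.2
  let e : (S ⧸ sm a (⊤ : Submodule R S)) ≃ₗ[R]
      (S ⧸ (Ideal.span {algebraMap R S a} : Ideal S)) :=
    (Submodule.quotEquivOfEq _ _ (restrictScalars_span_eq_sm S a).symm).trans
      (Submodule.Quotient.restrictScalarsEquiv R (Ideal.span {algebraMap R S a} : Submodule S S))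
  have hN' : IsNoetherian R (S ⧸ (Ideal.span {algebraMap R S a} : Ideal S)) :=
    isNoetherian_of_linearEquiv e
  have hA' : IsArtinian R (S ⧸ (Ideal.span {algebraMap R S a} : Ideal S)) :=
    isArtinian_of_linearEquiv e
  have hA1 : IsArtinian S (S ⧸ (Ideal.span {algebraMap R S a} : Ideal S)) :=
    isArtinian_of_tower R hA'
  have hAR : IsArtinianRing (S ⧸ (Ideal.span {algebraMap R S a} : Ideal S)) :=
    isArtinian_of_tower S hA1
  have hle : ∀ n ∈ (IsLocalRing.maximalIdeal R).primesOver S,
      (Ideal.span {algebraMap R S a} : Ideal S) ≤ n := by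
    intro n hn
    rw [Ideal.span_singleton_le_iff_mem]
    have hover := hn.2.over
    have : a ∈ n.under R := by rw [← hover]; exact ham
    exact this
  have hcm : ∀ n ∈ (IsLocalRing.maximalIdeal R).primesOver S,
      (n.map (Ideal.Quotient.mk (Ideal.span {algebraMap R S a} : Ideal S))).comap
        (Ideal.Quotient.mk (Ideal.span {algebraMap R S a} : Ideal S)) = n := by
    intro n hn
    rw [Ideal.comap_map_of_surjective _ Ideal.Quotient.mk_surjective, ← RingHom.ker_eq_comap_bot,
      Ideal.mk_ker, sup_eq_left]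
    exact hle n hn
  have hpr : ∀ n ∈ (IsLocalRing.maximalIdeal R).primesOver S,
      (n.map (Ideal.Quotient.mk (Ideal.span {algebraMap R S a} : Ideal S))).IsPrime := by
    intro n hn
    haveI := hn.1
    apply Ideal.map_isPrime_of_surjective Ideal.Quotient.mk_surjective
    rw [Ideal.mk_ker]
    exact hle n hn
  refine ⟨?_, ?_, ?_⟩
  · intro n hn
    haveI := hpr n hn
    haveI : (n.map (Ideal.Quotient.mk (Ideal.span {algebraMap R S a} : Ideal S))).IsMaximal :=
      IsArtinianRing.isMaximal_of_isPrime _
    rw [← hcm n hn]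
    exact Ideal.comap_isMaximal_of_surjective _ Ideal.Quotient.mk_surjective
  · refine Set.Finite.subset (Set.finite_range
      (fun q : PrimeSpectrum (S ⧸ (Ideal.span {algebraMap R S a} : Ideal S)) =>
        q.asIdeal.comap (Ideal.Quotient.mk (Ideal.span {algebraMap R S a} : Ideal S)))) ?_
    intro n hn
    exact ⟨⟨_, hpr n hn⟩, hcm n hn⟩
  · intro n hn
    exact Module.Finite.of_surjective ((Submodule.factor (hle n hn)).restrictScalars R)
      (Submodule.factor_surjective (hle n hn))

end Groth.Agent.Lib.helper26.KrullAkizuki
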