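import Groth.Agent.Lib.helper26.KrullAkizuki3

set_option autoImplicit false
universe u

namespace Groth.Agent.Lib.helper26.KrullAkizuki

theorem conductor_power (B : Type u) [CommRing B] [IsDomain B] [IsNoetherianRing B]
    (hdim : ringKrullDim B = 1) (hsl : Finite (MaximalSpectrum B)) :
    IsDedekindDomain (integralClosure B (FractionRing B)) ∧
      Finite (MaximalSpectrum (integralClosure B (FractionRing B))) ∧
      ∀ x : integralClosure B (FractionRing B), x ≠ 0 →
        x ∈ (⊥ : Ideal (integralClosure B (FractionRing B))).jacobson →
        ∀ y : integralClosure B (FractionRing B), ∃ n : ℕ,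
          (x ^ n * y).1 ∈ (algebraMap B (FractionRing B)).range := by
  have hK1 : Ring.KrullDimLE 1 B := Ring.krullDimLE_iff.2 (by rw [hdim]; exact le_rfl)
  have hD1 : Ring.DimensionLEOne B := ⟨fun {p} hp hpp => hpp.isMaximal_of_ne_bot hp⟩
  obtain ⟨hded, hsurj, hfib, hres⟩ := integralClosure_dedekind B (FractionRing B) (FractionRing B)
    (integralClosure B (FractionRing B)) hdim
  have hint : Algebra.IsIntegral B (integralClosure B (FractionRing B)) :=
    IsIntegralClosure.isIntegral_algebra B (FractionRing B)
  refine ⟨hded, ?_, ?_⟩
  · have hfinite : {Q : PrimeSpectrum (integralClosure B (FractionRing B)) |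
        Q.asIdeal.IsMaximal}.Finite := by
      have hsub : {Q : PrimeSpectrum (integralClosure B (FractionRing B)) |
          Q.asIdeal.IsMaximal} ⊆ ⋃ m : MaximalSpectrum B,
            PrimeSpectrum.comap (algebraMap B (integralClosure B (FractionRing B))) ⁻¹'
              {m.toPrimeSpectrum} := by
        intro Q hQ
        haveI : Q.asIdeal.IsMaximal := hQ
        have hmax : (Q.asIdeal.comap
            (algebraMap B (integralClosure B (FractionRing B)))).IsMaximal :=
          Ideal.isMaximal_comap_of_isIntegral_of_isMaximal Q.asIdeal
        rw [Set.mem_iUnion]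
        exact ⟨⟨_, hmax⟩, PrimeSpectrum.ext rfl⟩
      exact (Set.finite_iUnion (fun m => hfib _)).subset hsub
    haveI := hfinite.to_subtype
    exact Finite.of_injective
      (fun M : MaximalSpectrum (integralClosure B (FractionRing B)) =>
        (⟨M.toPrimeSpectrum, M.isMaximal⟩ : {Q : PrimeSpectrum (integralClosure B (FractionRing B)) |
          Q.asIdeal.IsMaximal}))
      (fun M₁ M₂ h => MaximalSpectrum.toPrimeSpectrum_injective (congrArg Subtype.val h))
  · intro x hx0 hxJ y
    let C : Subalgebra B (FractionRing B) :=
      Algebra.adjoin B {(x : FractionRing B), (y : FractionRing B)}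
    have hCB' : C ≤ integralClosure B (FractionRing B) := by
      apply Algebra.adjoin_le
      rintro z (rfl | rfl)
      · exact x.2
      · exact y.2
    have hxC : (x : FractionRing B) ∈ C := Algebra.subset_adjoin (by simp)
    have hyC : (y : FractionRing B) ∈ C := Algebra.subset_adjoin (by simp)
    have hCfg : C.toSubmodule.FG := by
      apply fg_adjoin_of_finite (by simp)
      rintro z (rfl | rfl)
      · exact x.2
      · exact y.2
    obtain ⟨c, hc0, hcC⟩ := exists_sm_le (LinearMap.range (Algebra.linearMap B (FractionRing B)))
      (fun z => by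
        obtain ⟨r, d, hd, hz⟩ := IsFractionRing.div_surjective (A := B) z
        have hd0 : d ≠ 0 := nonZeroDivisors.ne_zero hd
        refine ⟨d, hd0, r, ?_⟩
        have hdK : algebraMap B (FractionRing B) d ≠ 0 := by
          rw [Ne, IsFractionRing.to_map_eq_zero_iff]; exact hd0
        rw [Algebra.linearMap_apply, ← hz, Algebra.smul_def, mul_div_cancel₀ _ hdK])
      C.toSubmodule hCfg
    letI : Algebra C (integralClosure B (FractionRing B)) := (Subalgebra.inclusion hCB').toAlgebra
    haveI : IsScalarTower B C (integralClosure B (FractionRing B)) :=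
      IsScalarTower.of_algebraMap_eq (fun b => rfl)
    haveI : Algebra.IsIntegral C (integralClosure B (FractionRing B)) :=
      Algebra.IsIntegral.tower_top (R := B)
    haveI : Algebra.IsIntegral B C := by
      refine ⟨fun z => ?_⟩
      rw [← isIntegral_algebraMap_iff (B := FractionRing B) Subtype.val_injective]
      exact hCB' z.2
    haveI : Ring.DimensionLEOne C := Ring.DimensionLEOne.of_isIntegral B C
    have hrad : (⟨x, hxC⟩ : C) ∈ (Ideal.span {algebraMap B C c}).radical := by
      rw [Ideal.radical_eq_sInf, Ideal.mem_sInf]
      rintro J ⟨hcJ, hJp⟩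
      have hJne : J ≠ ⊥ := by
        intro h
        rw [h, le_bot_iff, Ideal.span_singleton_eq_bot] at hcJ
        have : algebraMap B (FractionRing B) c = 0 := congrArg Subtype.val hcJ
        rw [IsFractionRing.to_map_eq_zero_iff] at this
        exact hc0 this
      haveI hJmax : J.IsMaximal := hJp.isMaximal hJne
      obtain ⟨M, hMmax, hMJ⟩ := Ideal.exists_ideal_over_maximal_of_isIntegral
        (S := integralClosure B (FractionRing B)) J (by
          have : RingHom.ker (algebraMap C (integralClosure B (FractionRing B))) = ⊥ := by
            rw [RingHom.ker_eq_bot_iff_eq_zero]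
            intro z hz
            have h2 : ((algebraMap C (integralClosure B (FractionRing B)) z :
                integralClosure B (FractionRing B)) : FractionRing B) = 0 := by
              rw [hz]; rfl
            exact Subtype.ext h2
          rw [this]; exact bot_le)
      have hxM : x ∈ M := by
        rw [Ideal.jacobson, Ideal.mem_sInf] at hxJ
        exact hxJ ⟨bot_le, hMmax⟩
      rw [← hMJ, Ideal.mem_comap]
      exact hxM
    obtain ⟨n, hn⟩ := hrad
    rw [Ideal.mem_span_singleton'] at hn
    obtain ⟨z, hz⟩ := hn
    refine ⟨n, ?_⟩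
    have hzy : (z : FractionRing B) * (y : FractionRing B) ∈ C.toSubmodule := C.mul_mem z.2 hyC
    obtain ⟨b, hb⟩ := hcC (mem_sm.2 ⟨_, hzy, rfl⟩)
    refine ⟨b, ?_⟩
    rw [Algebra.linearMap_apply] at hb
    rw [hb]
    have hz' : (z : FractionRing B) * algebraMap B (FractionRing B) c =
        (x : FractionRing B) ^ n := congrArg Subtype.val hz
    rw [Algebra.smul_def]
    simp only [Subalgebra.coe_mul, Subalgebra.coe_pow]
    rw [← hz']
    ring

end Groth.Agent.Lib.helper26.KrullAkizuki
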