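import Mathlib

set_option autoImplicit false
universe u

namespace Groth.Agent.Lib.helper26.ValComb

open IsDedekindDomain

/-- bad exponents are at most one for `g ≠ 0, 1`. -/
lemma pow_eq_subsingleton {Γ : Type*} [LinearOrderedCommGroupWithZero Γ] {g : Γ} (hg0 : g ≠ 0)
    (hg1 : g ≠ 1) (c : Γ) : {q : ℕ | c = g ^ q}.Subsingleton := by
  intro q₁ h₁ q₂ h₂
  have h : g ^ q₁ = g ^ q₂ := h₁.symm.trans h₂
  rcases lt_or_gt_of_ne hg1 with hlt | hgt
  · exact (pow_right_strictAnti₀ (zero_lt_iff.2 hg0) hlt).injective h
  · exact (pow_right_strictMono₀ hgt).injective h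

/-- Lemma V: combination of elements with large valuations. -/
theorem exists_forall_one_lt {K : Type*} [Field K] (A : Subring K) {ι : Type*}
    {Γ : Type*} [LinearOrderedCommGroupWithZero Γ] (v : ι → Valuation K Γ) (s : Finset ι)
    (h : ∀ j ∈ s, ∃ a ∈ A, 1 < v j a) : ∃ x ∈ A, x ≠ 0 ∧ ∀ j ∈ s, 1 < v j x := by
  classical
  induction s using Finset.induction_on with
  | empty => exact ⟨1, A.one_mem, one_ne_zero, by simp⟩
  | insert j₀ s hj₀ ih =>
    obtain ⟨x, hxA, hx0, hx⟩ := ih (fun j hj => h j (Finset.mem_insert_of_mem hj))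
    obtain ⟨a, haA, ha⟩ := h j₀ (Finset.mem_insert_self _ _)
    by_cases hx₀ : 1 < v j₀ x
    · refine ⟨x, hxA, hx0, ?_⟩
      intro j hj
      rcases Finset.mem_insert.1 hj with rfl | hj
      · exact hx₀
      · exact hx j hj
    · -- bad exponents
      have hbad : (⋃ j ∈ insert j₀ s, {q : ℕ | v j x = (v j a) ^ q ∧ 1 ≤ q}).Finite := by
        refine Set.Finite.biUnion (Finset.finite_toSet _) ?_
        intro j hj
        by_cases hg0 : v j a = 0
        · refine Set.Finite.subset (Set.finite_empty) ?_
          rintro q ⟨hq, hq1⟩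
          exfalso
          rw [hg0, zero_pow (by omega)] at hq
          rcases Finset.mem_insert.1 hj with rfl | hj'
          · rw [hg0] at ha; exact not_lt_of_ge zero_le_one ha
          · have := hx j hj'
            rw [hq] at this
            exact not_lt_of_ge zero_le_one this
        by_cases hg1 : v j a = 1
        · refine Set.Finite.subset (Set.finite_empty) ?_
          rintro q ⟨hq, _⟩
          exfalso
          rw [hg1, one_pow] at hq
          rcases Finset.mem_insert.1 hj with rfl | hj'
          · rw [hg1] at ha; exact lt_irrefl _ ha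
          · have := hx j hj'
            rw [hq] at this
            exact lt_irrefl _ this
        · exact ((pow_eq_subsingleton hg0 hg1 (v j x)).finite).subset (fun q hq => hq.1)
      obtain ⟨q, hq1, hqbad⟩ : ∃ q : ℕ, 1 ≤ q ∧
          q ∉ ⋃ j ∈ insert j₀ s, {q : ℕ | v j x = (v j a) ^ q ∧ 1 ≤ q} := by
        have hinf : (Set.Ici 1 \ ⋃ j ∈ insert j₀ s,
            {q : ℕ | v j x = (v j a) ^ q ∧ 1 ≤ q}).Infinite :=
          (Set.Ici_infinite 1).sdiff hbad
        obtain ⟨q, hq⟩ := hinf.nonempty
        exact ⟨q, hq.1, hq.2⟩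
      have hne : ∀ j ∈ insert j₀ s, v j x ≠ v j (a ^ q) := by
        intro j hj heq
        apply hqbad
        simp only [Set.mem_iUnion]
        exact ⟨j, hj, by rwa [map_pow] at heq, hq1⟩
      have key : ∀ j ∈ insert j₀ s, 1 < v j (x + a ^ q) := by
        intro j hj
        rw [Valuation.map_add_of_distinct_val _ (hne j hj)]
        rcases Finset.mem_insert.1 hj with rfl | hj'
        · apply lt_max_of_lt_right
          rw [map_pow]
          exact one_lt_pow₀ ha (by omega)
        · exact lt_max_of_lt_left (hx j hj')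
      refine ⟨x + a ^ q, A.add_mem hxA (A.pow_mem haA q), ?_, key⟩
      intro h0
      have := key j₀ (Finset.mem_insert_self _ _)
      rw [h0, map_zero] at this
      exact not_lt_of_ge zero_le_one this

end Groth.Agent.Lib.helper26.ValComb
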