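import Groth.Agent.Lib.helper26.KrullAkizuki4
import Groth.Agent.Lib.helper26.ValComb

set_option autoImplicit false
universe u

namespace Groth.Agent.Lib.helper26.KrullAkizuki

theorem conductor_power' (B K : Type u) [CommRing B] [IsDomain B] [IsNoetherianRing B]
    [Field K] [Algebra B K] [IsFractionRing B K]
    (hdim : ringKrullDim B = 1) (hsl : Finite (MaximalSpectrum B)) :
    IsDedekindDomain (integralClosure B K) ∧
      Finite (MaximalSpectrum (integralClosure B K)) ∧
      ∀ x : integralClosure B K, x ≠ 0 →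
        x ∈ (⊥ : Ideal (integralClosure B K)).jacobson →
        ∀ y : integralClosure B K, ∃ n : ℕ,
          (x ^ n * y).1 ∈ (algebraMap B K).range := by
  have hK1 : Ring.KrullDimLE 1 B := Ring.krullDimLE_iff.2 (by rw [hdim]; exact le_rfl)
  have hD1 : Ring.DimensionLEOne B := ⟨fun {p} hp hpp => hpp.isMaximal_of_ne_bot hp⟩
  obtain ⟨hded, hsurj, hfib, hres⟩ := integralClosure_dedekind B K K
    (integralClosure B K) hdim
  have hint : Algebra.IsIntegral B (integralClosure B K) :=
    IsIntegralClosure.isIntegral_algebra B K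
  refine ⟨hded, ?_, ?_⟩
  · have hfinite : {Q : PrimeSpectrum (integralClosure B K) |
        Q.asIdeal.IsMaximal}.Finite := by
      have hsub : {Q : PrimeSpectrum (integralClosure B K) |
          Q.asIdeal.IsMaximal} ⊆ ⋃ m : MaximalSpectrum B,
            PrimeSpectrum.comap (algebraMap B (integralClosure B K)) ⁻¹'
              {m.toPrimeSpectrum} := by
        intro Q hQ
        haveI : Q.asIdeal.IsMaximal := hQ
        have hmax : (Q.asIdeal.comap
            (algebraMap B (integralClosure B K))).IsMaximal :=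
          Ideal.isMaximal_comap_of_isIntegral_of_isMaximal Q.asIdeal
        rw [Set.mem_iUnion]
        exact ⟨⟨_, hmax⟩, PrimeSpectrum.ext rfl⟩
      exact (Set.finite_iUnion (fun m => hfib _)).subset hsub
    haveI := hfinite.to_subtype
    exact Finite.of_injective
      (fun M : MaximalSpectrum (integralClosure B K) =>
        (⟨M.toPrimeSpectrum, M.isMaximal⟩ : {Q : PrimeSpectrum (integralClosure B K) |
          Q.asIdeal.IsMaximal}))
      (fun M₁ M₂ h => MaximalSpectrum.toPrimeSpectrum_injective (congrArg Subtype.val h))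
  · intro x hx0 hxJ y
    let C : Subalgebra B K :=
      Algebra.adjoin B {(x : K), (y : K)}
    have hCB' : C ≤ integralClosure B K := by
      apply Algebra.adjoin_le
      rintro z (rfl | rfl)
      · exact x.2
      · exact y.2
    have hxC : (x : K) ∈ C := Algebra.subset_adjoin (by simp)
    have hyC : (y : K) ∈ C := Algebra.subset_adjoin (by simp)
    have hCfg : C.toSubmodule.FG := by
      apply fg_adjoin_of_finite (by simp)
      rintro z (rfl | rfl)
      · exact x.2
      · exact y.2
    obtain ⟨c, hc0, hcC⟩ := exists_sm_le (LinearMap.range (Algebra.linearMap B K))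
      (fun z => by
        obtain ⟨r, d, hd, hz⟩ := IsFractionRing.div_surjective (A := B) z
        have hd0 : d ≠ 0 := nonZeroDivisors.ne_zero hd
        refine ⟨d, hd0, r, ?_⟩
        have hdK : algebraMap B K d ≠ 0 := by
          rw [Ne, IsFractionRing.to_map_eq_zero_iff]; exact hd0
        rw [Algebra.linearMap_apply, ← hz, Algebra.smul_def, mul_div_cancel₀ _ hdK])
      C.toSubmodule hCfg
    letI : Algebra C (integralClosure B K) := (Subalgebra.inclusion hCB').toAlgebra
    haveI : IsScalarTower B C (integralClosure B K) :=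
      IsScalarTower.of_algebraMap_eq (fun b => rfl)
    haveI : Algebra.IsIntegral C (integralClosure B K) :=
      Algebra.IsIntegral.tower_top (R := B)
    haveI : Algebra.IsIntegral B C := by
      refine ⟨fun z => ?_⟩
      rw [← isIntegral_algebraMap_iff (B := K) Subtype.val_injective]
      exact hCB' z.2
    haveI : Ring.DimensionLEOne C := Ring.DimensionLEOne.of_isIntegral B C
    have hrad : (⟨x, hxC⟩ : C) ∈ (Ideal.span {algebraMap B C c}).radical := by
      rw [Ideal.radical_eq_sInf, Ideal.mem_sInf]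
      rintro J ⟨hcJ, hJp⟩
      have hJne : J ≠ ⊥ := by
        intro h
        rw [h, le_bot_iff, Ideal.span_singleton_eq_bot] at hcJ
        have : algebraMap B K c = 0 := congrArg Subtype.val hcJ
        rw [IsFractionRing.to_map_eq_zero_iff] at this
        exact hc0 this
      haveI hJmax : J.IsMaximal := hJp.isMaximal hJne
      obtain ⟨M, hMmax, hMJ⟩ := Ideal.exists_ideal_over_maximal_of_isIntegral
        (S := integralClosure B K) J (by
          have : RingHom.ker (algebraMap C (integralClosure B K)) = ⊥ := by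
            rw [RingHom.ker_eq_bot_iff_eq_zero]
            intro z hz
            have h2 : ((algebraMap C (integralClosure B K) z :
                integralClosure B K) : K) = 0 := by
              rw [hz]; rfl
            exact Subtype.ext h2
          rw [this]; exact bot_le)
      have hxM : x ∈ M := by
        rw [Ideal.jacobson, Ideal.mem_sInf] at hxJ
        exact hxJ ⟨bot_le, hMmax⟩
      rw [← hMJ, Ideal.mem_comap]
      exact hxM
    obtain ⟨n, hn⟩ := hrad
    rw [Ideal.mem_span_singleton'] at hn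
    obtain ⟨z, hz⟩ := hn
    refine ⟨n, ?_⟩
    have hzy : (z : K) * (y : K) ∈ C.toSubmodule := C.mul_mem z.2 hyC
    obtain ⟨b, hb⟩ := hcC (mem_sm.2 ⟨_, hzy, rfl⟩)
    refine ⟨b, ?_⟩
    rw [Algebra.linearMap_apply] at hb
    rw [hb]
    have hz' : (z : K) * algebraMap B K c =
        (x : K) ^ n := congrArg Subtype.val hz
    rw [Algebra.smul_def]
    simp only [Subalgebra.coe_mul, Subalgebra.coe_pow]
    rw [← hz']
    ring



open IsDedekindDomain

/-- Lemma D. -/
lemma exists_mem_jacobson_of_valuation_lt_one (D K : Type*) [CommRing D] [IsDedekindDomain D]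
    [Field K] [Algebra D K] [IsFractionRing D K] (hD : ¬ IsField D) (x : K)
    (h : ∀ v : HeightOneSpectrum D, v.valuation K x < 1) :
    ∃ d : D, algebraMap D K d = x ∧ d ∈ (⊥ : Ideal D).jacobson := by
  obtain ⟨d, hd⟩ := HeightOneSpectrum.mem_integers_of_valuation_le_one K x (fun v => (h v).le)
  refine ⟨d, hd, ?_⟩
  rw [Ideal.jacobson, Ideal.mem_sInf]
  rintro M ⟨_, hM⟩
  have hMne : M ≠ ⊥ := by
    intro hb
    rw [hb] at hM
    exact hD (Ring.isField_iff_maximal_bot.2 hM)
  let v : HeightOneSpectrum D := ⟨M, hM.isPrime, hMne⟩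
  have := h v
  rw [← hd, HeightOneSpectrum.valuation_lt_one_iff_mem] at this
  exact this

/-- Lemma N. -/
lemma exists_one_lt_valuation (D K : Type*) [CommRing D] [IsDedekindDomain D]
    [Field K] [Algebra D K] [IsFractionRing D K] (v : HeightOneSpectrum D) (A : Subring K)
    (hA : A ⊔ (algebraMap D K).range = ⊤) : ∃ a ∈ A, 1 < v.valuation K a := by
  by_contra hcon
  push Not at hcon
  have hle : A ⊔ (algebraMap D K).range ≤ (v.valuation K).integer := by
    rw [sup_le_iff]
    constructor
    · intro a ha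
      exact hcon a ha
    · rintro _ ⟨d, rfl⟩
      exact v.valuation_le_one d
  rw [hA] at hle
  obtain ⟨π, hπ⟩ := v.valuation_exists_uniformizer K
  have hπ0 : π ≠ 0 := by
    intro h0
    rw [h0, map_zero] at hπ
    exact WithZero.exp_ne_zero hπ.symm
  have h1 : v.valuation K π⁻¹ ≤ 1 := hle (Subring.mem_top _)
  rw [map_inv₀, hπ, ← WithZero.exp_neg, neg_neg] at h1
  have : (1 : WithZero (Multiplicative ℤ)) < WithZero.exp (1 : ℤ) := by
    rw [← WithZero.exp_zero, WithZero.exp_lt_exp]
    exact zero_lt_one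
  exact not_lt_of_ge h1 this


theorem exists_inv_mem_jacobson (K : Type u) [Field K] (A : Subring K)
    (r : ℕ) (B : Fin r → Subring K) [∀ i, IsNoetherianRing (B i)] [∀ i, IsFractionRing (B i) K]
    (hdim : ∀ i, ringKrullDim (B i) = 1) (hsl : ∀ i, Finite (MaximalSpectrum (B i)))
    (hgen : ∀ i, A ⊔ B i = ⊤) :
    ∃ x : K, x ∈ A ∧ x ≠ 0 ∧
      ∀ i, ∃ hx : x⁻¹ ∈ B i, (⟨x⁻¹, hx⟩ : B i) ∈ (⊥ : Ideal (B i)).jacobson := by
  classical
  have hcp := fun i => conductor_power' (B i) K (hdim i) (hsl i)
  haveI hded : ∀ i, IsDedekindDomain (integralClosure (B i) K) := fun i => (hcp i).1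
  haveI hfinmax : ∀ i, Finite (MaximalSpectrum (integralClosure (B i) K)) := fun i => (hcp i).2.1
  haveI hfr : ∀ i, IsFractionRing (integralClosure (B i) K) K := fun i =>
    IsIntegralClosure.isFractionRing_of_finite_extension (B i) K K (integralClosure (B i) K)
  haveI hint : ∀ i, Algebra.IsIntegral (B i) (integralClosure (B i) K) := fun i =>
    IsIntegralClosure.isIntegral_algebra (B i) K
  have hinj : ∀ i, Function.Injective (algebraMap (B i) (integralClosure (B i) K)) := by
    intro i a b hab
    exact Subtype.ext (congrArg (fun z : integralClosure (B i) K => (z : K)) hab)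
  have hnf : ∀ i, ¬ IsField (integralClosure (B i) K) := by
    intro i hf
    have h1 := isField_of_isIntegral_of_isField (hinj i) hf
    have h2 := ringKrullDim_eq_zero_of_isField h1
    rw [hdim i] at h2
    exact one_ne_zero h2
  haveI : ∀ i, Finite (HeightOneSpectrum (integralClosure (B i) K)) := fun i =>
    Finite.of_injective
      (fun v : HeightOneSpectrum (integralClosure (B i) K) =>
        (⟨v.asIdeal, v.isMaximal⟩ : MaximalSpectrum (integralClosure (B i) K)))
      (fun v w h => HeightOneSpectrum.ext (congrArg MaximalSpectrum.asIdeal h))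
  haveI : Fintype (Σ i, HeightOneSpectrum (integralClosure (B i) K)) := Fintype.ofFinite _
  let v : (Σ i, HeightOneSpectrum (integralClosure (B i) K)) →
      Valuation K (WithZero (Multiplicative ℤ)) := fun p => p.2.valuation K
  have hN : ∀ p ∈ (Finset.univ : Finset (Σ i, HeightOneSpectrum (integralClosure (B i) K))),
      ∃ a ∈ A, 1 < v p a := by
    rintro ⟨i, w⟩ _
    apply exists_one_lt_valuation (integralClosure (B i) K) K w A
    rw [eq_top_iff, ← hgen i]
    apply sup_le_sup_left
    intro b hb
    exact ⟨algebraMap (B i) (integralClosure (B i) K) ⟨b, hb⟩, rfl⟩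
  obtain ⟨x, hxA, hx0, hx⟩ := ValComb.exists_forall_one_lt A v Finset.univ hN
  have hd : ∀ i, ∃ d : integralClosure (B i) K, algebraMap _ K d = x⁻¹ ∧
      d ∈ (⊥ : Ideal (integralClosure (B i) K)).jacobson := fun i =>
    exists_mem_jacobson_of_valuation_lt_one _ K (hnf i) x⁻¹ (fun w => by
      rw [map_inv₀]
      exact inv_lt_one_of_one_lt₀ (hx ⟨i, w⟩ (Finset.mem_univ _)))
  choose d hdx hdJ using hd
  have hd0 : ∀ i, d i ≠ 0 := by
    intro i h0
    have := hdx i
    rw [h0, map_zero] at this
    exact inv_ne_zero hx0 this.symm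
  have hn : ∀ i, ∃ n : ℕ, ((d i) ^ n * d i).1 ∈ (algebraMap (B i) K).range := fun i =>
    (hcp i).2.2 (d i) (hd0 i) (hdJ i) (d i)
  choose n hn using hn
  refine ⟨x ^ (∏ i, (n i + 1)), A.pow_mem hxA _, pow_ne_zero _ hx0, ?_⟩
  intro i
  obtain ⟨m, hm⟩ : (n i + 1) ∣ ∏ i, (n i + 1) :=
    Finset.dvd_prod_of_mem (fun i => n i + 1) (Finset.mem_univ i)
  have hdval : ∀ k : ℕ, (((d i) ^ k : integralClosure (B i) K) : K) = (x⁻¹) ^ k := by
    intro k
    rw [← hdx i]
    rfl
  have hxi : (x⁻¹) ^ (n i + 1) ∈ B i := by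
    obtain ⟨b, hb⟩ := hn i
    have : (((d i) ^ (n i) * d i : integralClosure (B i) K) : K) = (x⁻¹) ^ (n i + 1) := by
      rw [← pow_succ]; exact hdval _
    rw [← this, ← hb]
    exact b.2
  have hmem : (x ^ (∏ i, (n i + 1)))⁻¹ ∈ B i := by
    rw [← inv_pow, hm, pow_mul]
    exact (B i).pow_mem hxi m
  refine ⟨hmem, ?_⟩
  rw [Ideal.jacobson, Ideal.mem_sInf]
  rintro M ⟨_, hM⟩
  haveI := hM
  obtain ⟨Q, hQmax, hQM⟩ := Ideal.exists_ideal_over_maximal_of_isIntegral
    (S := integralClosure (B i) K) M (by
      rw [(RingHom.injective_iff_ker_eq_bot _).1 (hinj i)]; exact bot_le)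
  rw [← hQM, Ideal.mem_comap]
  have heq : algebraMap (B i) (integralClosure (B i) K) ⟨(x ^ (∏ i, (n i + 1)))⁻¹, hmem⟩ =
      (d i) ^ (∏ i, (n i + 1)) := by
    apply Subtype.ext
    rw [hdval, inv_pow]
    rfl
  rw [heq]
  have hdQ : d i ∈ Q := by
    have := hdJ i
    rw [Ideal.jacobson, Ideal.mem_sInf] at this
    exact this ⟨bot_le, hQmax⟩
  have hpos : 0 < ∏ i, (n i + 1) := Finset.prod_pos (fun i _ => Nat.succ_pos _)
  exact Ideal.pow_mem_of_mem Q hdQ _ hpos

end Groth.Agent.Lib.helper26.KrullAkizuki
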