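import Mathlib

set_option autoImplicit false
universe u

namespace Groth.Agent.Lib.helper26.MinPrimeProd

variable (A : Type u) [CommRing A]

/-- index type of minimal primes -/
abbrev P := {p : PrimeSpectrum A // p.asIdeal ∈ minimalPrimes A}

/-- the product of localizations at minimal primes -/
abbrev L := ∀ p : P A, Localization.AtPrime p.1.asIdeal

variable {A}

lemma finite_P [IsNoetherianRing A] : Finite (P A) := by
  have hfin : (minimalPrimes A).Finite := minimalPrimes.finite_of_isNoetherianRing A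
  haveI := hfin.to_subtype
  refine Finite.of_injective (fun p : P A => (⟨p.1.asIdeal, p.2⟩ : ↥(minimalPrimes A))) ?_
  intro p q h
  apply Subtype.ext
  apply PrimeSpectrum.ext
  exact congrArg Subtype.val h

/-- an element of a minimal prime is nilpotent in the localization -/
lemma exists_pow_map_eq_zero (q : P A) (x : A) (hx : x ∈ q.1.asIdeal) :
    ∃ n : ℕ, algebraMap A (Localization.AtPrime q.1.asIdeal) (x ^ n) = 0 := by
  have h := IsLocalization.AtPrime.radical_map_of_mem_minimalPrimes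
    (A := Localization.AtPrime q.1.asIdeal) q.1.asIdeal ⊥ q.2
  have hmem : algebraMap A (Localization.AtPrime q.1.asIdeal) x ∈
      (Ideal.map (algebraMap A (Localization.AtPrime q.1.asIdeal)) ⊥).radical := by
    rw [h]
    exact Ideal.mem_map_of_mem _ hx
  obtain ⟨n, hn⟩ := hmem
  rw [Ideal.map_bot, Ideal.mem_bot] at hn
  exact ⟨n, by rw [map_pow]; exact hn⟩

/-- "orthogonal" elements -/
lemma exists_orth [IsNoetherianRing A] (p : P A) :
    ∃ e : A, e ∉ p.1.asIdeal ∧
      ∀ q : P A, q ≠ p → algebraMap A (Localization.AtPrime q.1.asIdeal) e = 0 := by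
  classical
  haveI := finite_P (A := A)
  haveI := Fintype.ofFinite (P A)
  have hx : ∀ q : P A, q ≠ p → ∃ x : A, x ∈ q.1.asIdeal ∧ x ∉ p.1.asIdeal := by
    intro q hq
    by_contra h
    push Not at h
    have hle : q.1.asIdeal ≤ p.1.asIdeal := h
    have hpq : p.1.asIdeal ≤ q.1.asIdeal := p.2.2 ⟨q.1.isPrime, bot_le⟩ hle
    apply hq
    apply Subtype.ext
    apply PrimeSpectrum.ext
    exact le_antisymm hle hpq
  have hy : ∀ q : P A, ∃ y : A, y ∉ p.1.asIdeal ∧
      (q ≠ p → algebraMap A (Localization.AtPrime q.1.asIdeal) y = 0) := by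
    intro q
    by_cases hq : q = p
    · exact ⟨1, fun h => p.1.isPrime.ne_top ((Ideal.eq_top_iff_one _).2 h), fun h => (h hq).elim⟩
    · obtain ⟨x, hxq, hxp⟩ := hx q hq
      obtain ⟨n, hn⟩ := exists_pow_map_eq_zero q x hxq
      exact ⟨x ^ n, fun h => hxp (p.1.isPrime.mem_of_pow_mem n h), fun _ => hn⟩
  choose y hyp hy0 using hy
  refine ⟨∏ q, y q, ?_, ?_⟩
  · intro h
    obtain ⟨q, -, hq⟩ := (p.1.isPrime.prod_mem_iff).1 h
    exact hyp q hq
  · intro q hq
    rw [map_prod]
    exact Finset.prod_eq_zero (Finset.mem_univ q) (hy0 q hq)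


/-- (K1) every element of `L` is a fraction with denominator outside all minimal primes. -/
lemma exists_common_denom [IsNoetherianRing A] (ℓ : L A) :
    ∃ s y : A, (∀ p : P A, s ∉ p.1.asIdeal) ∧
      algebraMap A (L A) s * ℓ = algebraMap A (L A) y := by
  classical
  haveI := finite_P (A := A)
  haveI := Fintype.ofFinite (P A)
  choose e hep he0 using fun p : P A => exists_orth p
  have hsurj : ∀ p : P A, ∃ x : A × p.1.asIdeal.primeCompl,
      ℓ p * algebraMap A (Localization.AtPrime p.1.asIdeal) x.2 =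
        algebraMap A (Localization.AtPrime p.1.asIdeal) x.1 := fun p =>
    IsLocalization.surj p.1.asIdeal.primeCompl (ℓ p)
  choose x hx using hsurj
  have hcomp : ∀ (g : P A → A) (q : P A),
      algebraMap A (Localization.AtPrime q.1.asIdeal) (∑ p, e p * g p) =
        algebraMap A (Localization.AtPrime q.1.asIdeal) (e q * g q) := by
    intro g q
    rw [map_sum]
    rw [Finset.sum_eq_single q]
    · intro p _ hpq
      rw [map_mul, he0 p q (fun h => hpq h.symm), zero_mul]
    · intro h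
      exact (h (Finset.mem_univ q)).elim
  refine ⟨∑ p, e p * ((x p).2 : A), ∑ p, e p * (x p).1, ?_, ?_⟩
  · intro q hq
    have h1 := (IsLocalization.AtPrime.to_map_mem_maximal_iff
      (Localization.AtPrime q.1.asIdeal) q.1.asIdeal (∑ p, e p * ((x p).2 : A))).2 hq
    rw [hcomp] at h1
    have h2 := (IsLocalization.AtPrime.to_map_mem_maximal_iff
      (Localization.AtPrime q.1.asIdeal) q.1.asIdeal _).1 h1
    rcases q.1.isPrime.mem_or_mem h2 with h | h
    · exact hep q h
    · exact (x q).2.2 h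
  · funext q
    change algebraMap A (Localization.AtPrime q.1.asIdeal) (∑ p, e p * ((x p).2 : A)) * ℓ q =
      algebraMap A (Localization.AtPrime q.1.asIdeal) (∑ p, e p * (x p).1)
    rw [hcomp, hcomp, map_mul, map_mul, mul_assoc, mul_comm _ (ℓ q), hx q]

/-- (K2) -/
lemma exists_pow_eq_mul [IsLocalRing A] (hdim : ringKrullDim A = 1) (s a : A)
    (hs : ∀ p : P A, s ∉ p.1.asIdeal) (ha : a ∈ IsLocalRing.maximalIdeal A) :
    ∃ M : ℕ, ∃ c : A, a ^ M = s * c := by
  have hdim1 : Ring.KrullDimLE 1 A := Ring.krullDimLE_iff.2 (by rw [hdim]; exact le_rfl)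
  have hprimes := Ring.krullDimLE_one_iff.1 hdim1
  have hrad : a ∈ (Ideal.span {s}).radical := by
    rw [Ideal.radical_eq_sInf, Ideal.mem_sInf]
    rintro J ⟨hsJ, hJ⟩
    rcases hprimes J hJ with hmin | hmax
    · exact (hs ⟨⟨J, hJ⟩, hmin⟩ (hsJ (Ideal.subset_span rfl))).elim
    · rw [IsLocalRing.eq_maximalIdeal hmax]; exact ha
  obtain ⟨M, hM⟩ := hrad
  rw [Ideal.mem_span_singleton'] at hM
  obtain ⟨c, hc⟩ := hM
  exact ⟨M, c, by rw [← hc, mul_comm]⟩

/-- (K3) -/
lemma exists_pow_mul_mem_range [IsLocalRing A] [IsNoetherianRing A] (hdim : ringKrullDim A = 1)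
    (a : A) (ha : a ∈ IsLocalRing.maximalIdeal A) (ℓ : L A) :
    ∃ M : ℕ, ∀ M', M ≤ M' → algebraMap A (L A) a ^ M' * ℓ ∈ (algebraMap A (L A)).range := by
  obtain ⟨s, y, hs, hsy⟩ := exists_common_denom ℓ
  obtain ⟨M, c, hc⟩ := exists_pow_eq_mul hdim s a hs ha
  refine ⟨M, fun M' hM' => ?_⟩
  obtain ⟨d, rfl⟩ := Nat.exists_eq_add_of_le hM'
  refine ⟨a ^ d * (c * y), ?_⟩
  rw [map_mul, map_mul, map_pow, ← hsy, pow_add, ← map_pow _ a M, hc, map_mul]
  ring

theorem pow_mem_range [IsLocalRing A] [IsNoetherianRing A] (hdim : ringKrullDim A = 1)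
    (a : A) (ha : a ∈ IsLocalRing.maximalIdeal A) (i : L A)
    (hi : i ∈ (nilradical A).map (algebraMap A (L A))) :
    ∃ n : ℕ, 0 < n ∧ (i + algebraMap A (L A) a) ^ n ∈ (algebraMap A (L A)).range := by
  obtain ⟨t, ht⟩ := IsNoetherianRing.isNilpotent_nilradical A
  have hit : i ^ t = 0 := by
    have h1 : i ^ t ∈ ((nilradical A).map (algebraMap A (L A))) ^ t := Ideal.pow_mem_pow hi t
    rw [← Ideal.map_pow, ht, Ideal.zero_eq_bot, Ideal.map_bot, Ideal.mem_bot] at h1
    exact h1
  choose M hM using fun j : ℕ => exists_pow_mul_mem_range hdim a ha (i ^ j)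
  refine ⟨t + (Finset.range t).sup M + 1, Nat.succ_pos _, ?_⟩
  rw [add_pow]
  apply Subring.sum_mem
  intro m hm
  by_cases hmt : m < t
  · have hle : M m ≤ t + (Finset.range t).sup M + 1 - m := by
      have h1 : M m ≤ (Finset.range t).sup M := Finset.le_sup (Finset.mem_range.2 hmt)
      omega
    have h2 := hM m _ hle
    rw [mul_comm (i ^ m)]
    exact Subring.mul_mem _ h2 ⟨((t + (Finset.range t).sup M + 1).choose m : A), by simp⟩
  · have : i ^ m = 0 := by
      obtain ⟨d, rfl⟩ := Nat.exists_eq_add_of_le (not_lt.1 hmt)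
      rw [pow_add, hit, zero_mul]
    rw [this, zero_mul, zero_mul]
    exact Subring.zero_mem _

end Groth.Agent.Lib.helper26.MinPrimeProd
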