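import Mathlib
import Groth.Prelude.Def_W4c5qllcourbesmultMultCrv

/-!
# The truncated polynomial ring `R[X]/(X^n)`: coefficient functionals
-/

namespace Groth.Agent.Lib.helper26.MC

open Polynomial MultCrv

variable (R : Type*) [CommRing R] (n : ℕ)

/-- the `j`-th coefficient functional on `R[X]/(X^n)` -/
noncomputable def cf (j : ℕ) : Rn R n →ₗ[R] R :=
  (Polynomial.lcoeff R j).comp (AdjoinRoot.modByMonicHom (g := (X : R[X]) ^ n) (monic_X_pow n))

variable {R n}

theorem cf_mk {j : ℕ} (hj : j < n) (f : R[X]) :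
    cf R n j (Ideal.Quotient.mk (Ideal.span {(X : R[X]) ^ n}) f) = f.coeff j := by
  have h1 : cf R n j (Ideal.Quotient.mk (Ideal.span {(X : R[X]) ^ n}) f) =
      (f %ₘ (X : R[X]) ^ n).coeff j := by
    rw [cf, LinearMap.comp_apply]
    exact congrArg (fun p : R[X] => p.coeff j)
      (AdjoinRoot.modByMonicHom_mk (g := (X : R[X]) ^ n) (monic_X_pow n) f)
  rw [h1]
  have h2 := Polynomial.modByMonic_add_div f (q := (X : R[X]) ^ n)
  conv_rhs => rw [← h2]
  rw [coeff_add, coeff_X_pow_mul', if_neg (by omega), add_zero]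

theorem cf_z_pow_mul {j : ℕ} (hj : j < n) (k : ℕ) (a : Rn R n) :
    cf R n j (z R n ^ k * a) = if k ≤ j then cf R n (j - k) a else 0 := by
  obtain ⟨f, rfl⟩ := Ideal.Quotient.mk_surjective a
  rw [z, ← map_pow, ← map_mul, cf_mk hj, coeff_X_pow_mul']
  split_ifs with h
  · rw [cf_mk (by omega)]
  · rfl

theorem cf_z_pow {j : ℕ} (hj : j < n) (k : ℕ) :
    cf R n j (z R n ^ k) = if k = j then 1 else 0 := by
  rw [z, ← map_pow, cf_mk hj, coeff_X_pow]
  simp only [eq_comm]

/-- expansion in the basis `1, z, …, z^(n-1)` -/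
theorem eq_sum_cf (a : Rn R n) :
    a = ∑ j ∈ Finset.range n, cf R n j a • z R n ^ j := by
  obtain ⟨f, rfl⟩ := Ideal.Quotient.mk_surjective a
  have h1 : Ideal.Quotient.mk (Ideal.span {(X : R[X]) ^ n}) f =
      Ideal.Quotient.mk (Ideal.span {(X : R[X]) ^ n}) (f %ₘ (X : R[X]) ^ n) := by
    rw [Ideal.Quotient.eq, Ideal.mem_span_singleton]
    exact ⟨f /ₘ (X : R[X]) ^ n, by
      have := Polynomial.modByMonic_add_div f (q := (X : R[X]) ^ n)
      linear_combination (-1 : R[X]) * this⟩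
  have h2 := Polynomial.sum_modByMonic_coeff (p := f) (monic_X_pow (R := R) n) (n := n)
    (degree_X_pow_le n)
  rw [h1]
  conv_lhs => rw [← h2]
  rw [map_sum, Finset.sum_range]
  apply Finset.sum_congr rfl
  intro j _
  rw [cf_mk j.2, ← C_mul_X_pow_eq_monomial, ← Polynomial.smul_eq_C_mul, z, ← map_pow]
  rfl

theorem ext_cf {a b : Rn R n} (h : ∀ i, i < n → cf R n i a = cf R n i b) : a = b := by
  rw [eq_sum_cf a, eq_sum_cf b]
  apply Finset.sum_congr rfl
  intro j hj
  rw [h j (Finset.mem_range.mp hj)]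

theorem z_pow_eq_zero {k : ℕ} (hk : n ≤ k) : z R n ^ k = 0 := by
  rw [z, ← map_pow, Ideal.Quotient.eq_zero_iff_mem, Ideal.mem_span_singleton]
  exact pow_dvd_pow X hk

theorem cf_sum_smul_z_pow {i : ℕ} (hi : i < n) (c : ℕ → R) :
    cf R n i (∑ j ∈ Finset.range n, c j • z R n ^ j) = c i := by
  rw [map_sum]
  simp only [map_smul, cf_z_pow hi, smul_eq_mul, mul_ite, mul_one, mul_zero]
  rw [Finset.sum_ite_eq' (Finset.range n) i]
  rw [if_pos (Finset.mem_range.mpr hi)]

section frob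

variable {M : Type*} [AddCommGroup M] [Module (Rn R n) M] [Module R M]
  [IsScalarTower R (Rn R n) M]

variable (n) in
/-- the underlying function of the Frobenius correspondence -/
noncomputable def PhiFun (g : M →ₗ[R] R) (m : M) : Rn R n :=
  ∑ j ∈ Finset.range n, g (z R n ^ (n - 1 - j) • m) • z R n ^ j

omit [IsScalarTower R (Rn R n) M] in
theorem cf_PhiFun (g : M →ₗ[R] R) (m : M) {i : ℕ} (hi : i < n) :
    cf R n i (PhiFun n g m) = g (z R n ^ (n - 1 - i) • m) :=
  cf_sum_smul_z_pow hi _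

omit [IsScalarTower R (Rn R n) M] in
theorem PhiFun_add (g : M →ₗ[R] R) (m m' : M) :
    PhiFun n g (m + m') = PhiFun n g m + PhiFun n g m' := by
  simp only [PhiFun, smul_add, map_add, add_smul, Finset.sum_add_distrib]

theorem PhiFun_rsmul (g : M →ₗ[R] R) (r : R) (m : M) :
    PhiFun n g (r • m) = r • PhiFun n g m := by
  simp only [PhiFun, Finset.smul_sum]
  apply Finset.sum_congr rfl
  intro j _
  rw [smul_comm (z R n ^ (n - 1 - j)) r m, map_smul, smul_eq_mul, mul_smul]

omit [IsScalarTower R (Rn R n) M] in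
theorem PhiFun_z_pow (g : M →ₗ[R] R) (k : ℕ) (m : M) :
    PhiFun n g (z R n ^ k • m) = z R n ^ k * PhiFun n g m := by
  apply ext_cf
  intro i hi
  rw [cf_PhiFun g _ hi, cf_z_pow_mul hi, smul_smul, ← pow_add]
  split_ifs with h
  · rw [cf_PhiFun g _ (by omega)]
    have : n - 1 - i + k = n - 1 - (i - k) := by omega
    rw [this]
  · have h0 : z R n ^ (n - 1 - i + k) = 0 := z_pow_eq_zero (by omega)
    rw [h0, zero_smul (Rn R n) m, map_zero]

theorem PhiFun_smul (g : M →ₗ[R] R) (a : Rn R n) (m : M) :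
    PhiFun n g (a • m) = a * PhiFun n g m := by
  conv_lhs => rw [eq_sum_cf a, Finset.sum_smul]
  conv_rhs => rw [eq_sum_cf a, Finset.sum_mul]
  have hadd : ∀ (s : Finset ℕ) (f : ℕ → M),
      PhiFun n g (∑ j ∈ s, f j) = ∑ j ∈ s, PhiFun n g (f j) := by
    intro s f
    induction s using Finset.cons_induction with
    | empty => simp [PhiFun]
    | cons a s ha ih => rw [Finset.sum_cons, Finset.sum_cons, PhiFun_add, ih]
  rw [hadd]
  apply Finset.sum_congr rfl
  intro j _
  rw [smul_assoc, PhiFun_rsmul, PhiFun_z_pow, smul_mul_assoc]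

variable (n) in
/-- the Frobenius correspondence `Hom_R(M, R) → Hom_A(M, A)` -/
noncomputable def Phi (g : M →ₗ[R] R) : M →ₗ[Rn R n] Rn R n where
  toFun := PhiFun n g
  map_add' := PhiFun_add g
  map_smul' a m := by
    rw [PhiFun_smul, RingHom.id_apply, smul_eq_mul]

theorem cf_Phi (g : M →ₗ[R] R) (m : M) {i : ℕ} (hi : i < n) :
    cf R n i (Phi n g m) = g (z R n ^ (n - 1 - i) • m) := cf_PhiFun g m hi

theorem lam_Phi (hn : 1 ≤ n) (g : M →ₗ[R] R) (m : M) : cf R n (n - 1) (Phi n g m) = g m := by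
  rw [cf_Phi g m (by omega), Nat.sub_self, pow_zero, one_smul]

theorem Phi_lam (hn : 1 ≤ n) (h : M →ₗ[Rn R n] Rn R n) :
    Phi n ((cf R n (n - 1)).comp (h.restrictScalars R)) = h := by
  ext m
  apply ext_cf
  intro i hi
  rw [cf_Phi _ m hi, LinearMap.comp_apply, LinearMap.restrictScalars_apply, map_smul, smul_eq_mul,
    cf_z_pow_mul (by omega), if_pos (by omega)]
  have : n - 1 - (n - 1 - i) = i := by omega
  rw [this]

end frob

end Groth.Agent.Lib.helper26.MC
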