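import Mathlib
import Groth.Agent.Lib.helper26.MultCrvA
import Groth.Agent.Lib.helper26.ExtShift

/-!
# `R[X]/(X^n)`: extension of linear forms, vanishing of `Ext`
-/

namespace Groth.Agent.Lib.helper26.MC

open Polynomial MultCrv CategoryTheory

universe u

section ext

variable {R : Type*} [CommRing R] {n : ℕ}

theorem finite_Rn : Module.Finite R (Rn R n) :=
  (AdjoinRoot.powerBasis' (monic_X_pow (R := R) n)).finite

theorem free_Rn : Module.Free R (Rn R n) :=
  Module.Free.of_basis (AdjoinRoot.powerBasis' (monic_X_pow (R := R) n)).basis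

variable {M : Type*} [AddCommGroup M] [Module (Rn R n) M] [Module R M]
  [IsScalarTower R (Rn R n) M]

/-- extension of `A`-linear forms from a submodule with `R`-projective quotient -/
theorem exists_extension (hn : 1 ≤ n) (N : Submodule (Rn R n) M) [Module.Projective R (M ⧸ N)]
    (h : N →ₗ[Rn R n] Rn R n) : ∃ h' : M →ₗ[Rn R n] Rn R n, ∀ x : N, h' x = h x := by
  obtain ⟨s, hs⟩ := Module.projective_lifting_property (N.mkQ.restrictScalars R)
    (LinearMap.id : (M ⧸ N) →ₗ[R] (M ⧸ N)) N.mkQ_surjective
  have hs' : ∀ q : M ⧸ N, N.mkQ (s q) = q := fun q => by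
    have := congrArg (fun f => f q) hs
    simpa using this
  let ρ₀ : M →ₗ[R] M := LinearMap.id - s ∘ₗ (N.mkQ.restrictScalars R)
  have hρ₀ : ∀ m, ρ₀ m ∈ N.restrictScalars R := by
    intro m
    rw [Submodule.restrictScalars_mem, ← Submodule.Quotient.mk_eq_zero]
    simp only [ρ₀, LinearMap.sub_apply, LinearMap.id_apply, LinearMap.comp_apply,
      LinearMap.restrictScalars_apply, Submodule.Quotient.mk_sub]
    rw [← Submodule.mkQ_apply, ← Submodule.mkQ_apply, hs', sub_self]
  let ρ : M →ₗ[R] N := (Submodule.restrictScalarsEquiv R (Rn R n) M N).toLinearMap ∘ₗ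
    LinearMap.codRestrict (N.restrictScalars R) ρ₀ hρ₀
  have hρ : ∀ y : N, ρ (y : M) = y := by
    intro y
    apply Subtype.ext
    show ρ₀ (y : M) = y
    simp only [ρ₀, LinearMap.sub_apply, LinearMap.id_apply, LinearMap.comp_apply,
      LinearMap.restrictScalars_apply]
    rw [Submodule.mkQ_apply, (Submodule.Quotient.mk_eq_zero N).mpr y.2, map_zero, sub_zero]
  refine ⟨Phi n ((cf R n (n - 1)).comp ((h.restrictScalars R).comp ρ)), ?_⟩
  intro x
  apply ext_cf
  intro i hi
  rw [cf_Phi _ _ hi, LinearMap.comp_apply, LinearMap.comp_apply]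
  have h1 : z R n ^ (n - 1 - i) • (x : M) = ((z R n ^ (n - 1 - i) • x : N) : M) := rfl
  rw [h1, hρ, LinearMap.restrictScalars_apply, map_smul, smul_eq_mul,
    cf_z_pow_mul (by omega), if_pos (by omega)]
  have : n - 1 - (n - 1 - i) = i := by omega
  rw [this]

end ext

section dvr

variable {R : Type u} [CommRing R] [IsDomain R] [IsPrincipalIdealRing R] {n : ℕ}

/-- a f.g. `A`-module which is `R`-torsion-free is `R`-projective -/
theorem projective_of_tf (M : Type*) [AddCommGroup M] [Module (Rn R n) M] [Module R M]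
    [IsScalarTower R (Rn R n) M] [Module.Finite (Rn R n) M] [Module.IsTorsionFree R M] :
    Module.Projective R M := by
  have h1 : Module.Finite R (Rn R n) := finite_Rn
  have h2 : Module.Finite R M := Module.Finite.trans (Rn R n) M
  have h3 : Module.Free R M := Module.free_of_finite_type_torsion_free'
  infer_instance

theorem tf_Rn : Module.IsTorsionFree R (Rn R n) := by
  have : Module.Free R (Rn R n) := free_Rn
  infer_instance

/-- S17941 -/
theorem dualMap_surjective (hn : 1 ≤ n) (M' M M'' : Type*) [AddCommGroup M']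
    [Module (Rn R n) M'] [AddCommGroup M] [Module (Rn R n) M] [Module R M]
    [IsScalarTower R (Rn R n) M] [AddCommGroup M''] [Module (Rn R n) M''] [Module R M'']
    [IsScalarTower R (Rn R n) M''] [Module.Finite (Rn R n) M''] [Module.IsTorsionFree R M'']
    (f : M' →ₗ[Rn R n] M) (g : M →ₗ[Rn R n] M'') (hf : Function.Injective f)
    (hg : Function.Surjective g) (hfg : LinearMap.range f = LinearMap.ker g) :
    Function.Surjective (f.dualMap : Module.Dual (Rn R n) M →ₗ[Rn R n] Module.Dual (Rn R n) M') := by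
  intro h'
  have hproj'' : Module.Projective R M'' := projective_of_tf (n := n) M''
  have e : (M ⧸ LinearMap.ker g) ≃ₗ[R] M'' :=
    (LinearMap.quotKerEquivOfSurjective g hg).restrictScalars R
  have hproj : Module.Projective R (M ⧸ LinearMap.ker g) := Module.Projective.of_equiv e.symm
  let e₁ : M' ≃ₗ[Rn R n] LinearMap.ker g :=
    (LinearEquiv.ofInjective f hf).trans (LinearEquiv.ofEq _ _ hfg)
  obtain ⟨ht, hht⟩ := exists_extension hn (LinearMap.ker g) (h'.comp e₁.symm.toLinearMap)
  refine ⟨ht, ?_⟩
  ext m'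
  rw [LinearMap.dualMap_apply]
  have h1 : f m' = ((e₁ m' : LinearMap.ker g) : M) := rfl
  rw [h1, hht, LinearMap.comp_apply, LinearEquiv.coe_coe, LinearEquiv.symm_apply_apply]

end dvr

end Groth.Agent.Lib.helper26.MC
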