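import Mathlib
import Groth.Agent.Lib.helper26.MultCrvB

/-!
# `R[X]/(X^n)` over a PID: vanishing of `Ext^i(M, A)`
-/

namespace Groth.Agent.Lib.helper26.MC

open Polynomial MultCrv CategoryTheory

universe u

variable {R : Type u} [CommRing R] [IsDomain R] [IsPrincipalIdealRing R] {n : ℕ}

/-- the kernel of a presentation is torsion-free over `R` -/
theorem tf_ker {r : ℕ} {M : Type u} [AddCommGroup M] [Module (Rn R n) M]
    (π : (Fin r → Rn R n) →ₗ[Rn R n] M) : Module.IsTorsionFree R (LinearMap.ker π) := by
  have h1 : Module.IsTorsionFree R (Rn R n) := tf_Rn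
  have h2 : Module.IsTorsionFree R (Fin r → Rn R n) := inferInstance
  exact Function.Injective.moduleIsTorsionFree (fun x : LinearMap.ker π => (x : Fin r → Rn R n))
    Subtype.val_injective (fun _ _ => rfl)

/-- `Ext^1(M, A) = 0` for torsion-free `M` -/
theorem ext_one_subsingleton (hn : 1 ≤ n) (M : Type u) [AddCommGroup M] [Module (Rn R n) M]
    [Module R M] [IsScalarTower R (Rn R n) M] [Module.Finite (Rn R n) M]
    [Module.IsTorsionFree R M] :
    Subsingleton (Abelian.Ext (ModuleCat.of (Rn R n) M) (ModuleCat.of (Rn R n) (Rn R n)) 1) := by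
  obtain ⟨r, π, hπ⟩ := Module.Finite.exists_fin' (Rn R n) M
  have hS := LinearMap.shortExact_shortComplexKer hπ
  have hproj : Projective (π.shortComplexKer).X₂ := by
    show Projective (ModuleCat.of (Rn R n) (Fin r → Rn R n))
    exact (IsProjective.iff_projective _).mp inferInstance
  have hprojM : Module.Projective R M := projective_of_tf (n := n) M
  have e : ((Fin r → Rn R n) ⧸ LinearMap.ker π) ≃ₗ[R] M :=
    (LinearMap.quotKerEquivOfSurjective π hπ).restrictScalars R
  have hprojQ : Module.Projective R ((Fin r → Rn R n) ⧸ LinearMap.ker π) :=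
    Module.Projective.of_equiv e.symm
  refine ExtShift.subsingleton_ext_one_of_projective hS _ ?_
  intro φ
  obtain ⟨ht, hht⟩ := exists_extension hn (LinearMap.ker π) φ.hom
  refine ⟨ModuleCat.ofHom ht, ?_⟩
  ext x
  exact hht x

theorem noeth_Rn : IsNoetherianRing (Rn R n) := inferInstance

/-- dimension shift: `Ext^(i+2)(M, A)` vanishes if `Ext^(i+1)(K, A)` does for every
f.g. `R`-torsion-free `K` -/
theorem ext_succ_subsingleton_of (i : ℕ)
    (H : ∀ (K : Type u) [AddCommGroup K] [Module (Rn R n) K] [Module R K]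
      [IsScalarTower R (Rn R n) K] [Module.Finite (Rn R n) K] [Module.IsTorsionFree R K],
      Subsingleton (Abelian.Ext (ModuleCat.of (Rn R n) K) (ModuleCat.of (Rn R n) (Rn R n)) (i + 1)))
    (M : Type u) [AddCommGroup M] [Module (Rn R n) M] [Module.Finite (Rn R n) M] :
    Subsingleton (Abelian.Ext (ModuleCat.of (Rn R n) M) (ModuleCat.of (Rn R n) (Rn R n))
      (i + 2)) := by
  obtain ⟨r, π, hπ⟩ := Module.Finite.exists_fin' (Rn R n) M
  have hS := LinearMap.shortExact_shortComplexKer hπ
  have hproj : Projective (π.shortComplexKer).X₂ := by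
    show Projective (ModuleCat.of (Rn R n) (Fin r → Rn R n))
    exact (IsProjective.iff_projective _).mp inferInstance
  have htf : Module.IsTorsionFree R (LinearMap.ker π) := tf_ker π
  have hfin : Module.Finite (Rn R n) (LinearMap.ker π) := by
    have : IsNoetherianRing (Rn R n) := noeth_Rn
    infer_instance
  exact ExtShift.subsingleton_ext_succ_of_projective hS _ i (H (LinearMap.ker π))

/-- S17936 -/
theorem ext_subsingleton_of_tf (hn : 1 ≤ n) (i : ℕ) :
    ∀ (M : Type u) [AddCommGroup M] [Module (Rn R n) M] [Module R M]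
      [IsScalarTower R (Rn R n) M] [Module.Finite (Rn R n) M] [Module.IsTorsionFree R M],
      Subsingleton (Abelian.Ext (ModuleCat.of (Rn R n) M) (ModuleCat.of (Rn R n) (Rn R n))
        (i + 1)) := by
  induction i with
  | zero =>
    intro M _ _ _ _ _ _
    exact ext_one_subsingleton hn M
  | succ i ih =>
    intro M _ _ _ _ _ _
    exact ext_succ_subsingleton_of i ih M

/-- S17942 -/
theorem ext_subsingleton_of_two_le (hn : 1 ≤ n) (i : ℕ) (M : Type u) [AddCommGroup M]
    [Module (Rn R n) M] [Module.Finite (Rn R n) M] :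
    Subsingleton (Abelian.Ext (ModuleCat.of (Rn R n) M) (ModuleCat.of (Rn R n) (Rn R n))
      (i + 2)) :=
  ext_succ_subsingleton_of i (ext_subsingleton_of_tf hn i) M

end Groth.Agent.Lib.helper26.MC
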