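import Mathlib
import Groth.Agent.Lib.helper26.MultCrvC

/-!
# `R[X]/(X^n)` over a PID: torsion-freeness from `Ext^1(M, A) = 0`, reflexivity
-/

namespace Groth.Agent.Lib.helper26.MC

open Polynomial MultCrv CategoryTheory

universe u

variable {R : Type u} [CommRing R] [IsDomain R] [IsPrincipalIdealRing R] {n : ℕ}

/-- S17937 -/
theorem tf_of_ext_one_subsingleton (hn : 1 ≤ n) (M : Type u) [AddCommGroup M]
    [Module (Rn R n) M] [Module R M] [IsScalarTower R (Rn R n) M] [Module.Finite (Rn R n) M]
    (h : Subsingleton (Abelian.Ext (ModuleCat.of (Rn R n) M)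
      (ModuleCat.of (Rn R n) (Rn R n)) 1)) : Module.IsTorsionFree R M := by
  classical
  obtain ⟨r, π, hπ⟩ := Module.Finite.exists_fin' (Rn R n) M
  have hS := LinearMap.shortExact_shortComplexKer hπ
  -- (a) extension of `A`-linear forms
  have ha : ∀ φ : LinearMap.ker π →ₗ[Rn R n] Rn R n,
      ∃ ψ : (Fin r → Rn R n) →ₗ[Rn R n] Rn R n, ∀ k : LinearMap.ker π, ψ k = φ k := by
    intro φ
    obtain ⟨ψ, hψ⟩ := ExtShift.exists_extension_of_subsingleton_ext_one hS _ h (ModuleCat.ofHom φ)
    refine ⟨ψ.hom, fun k => ?_⟩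
    have := congrArg (fun f => f.hom k) hψ
    exact this
  -- (b) extension of `R`-linear forms
  have hb : ∀ g : LinearMap.ker π →ₗ[R] R,
      ∃ g' : (Fin r → Rn R n) →ₗ[R] R, ∀ k : LinearMap.ker π, g' k = g k := by
    intro g
    obtain ⟨ψ, hψ⟩ := ha (Phi n g)
    refine ⟨(cf R n (n - 1)).comp (ψ.restrictScalars R), fun k => ?_⟩
    rw [LinearMap.comp_apply, LinearMap.restrictScalars_apply, hψ, lam_Phi hn]
  -- (c) `K` is free over `R`
  have htf : Module.IsTorsionFree R (LinearMap.ker π) := tf_ker π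
  have hfinA : Module.Finite (Rn R n) (LinearMap.ker π) := by
    have : IsNoetherianRing (Rn R n) := noeth_Rn
    infer_instance
  have hfinRA : Module.Finite R (Rn R n) := finite_Rn
  have hfin : Module.Finite R (LinearMap.ker π) := Module.Finite.trans (Rn R n) _
  have hfree : Module.Free R (LinearMap.ker π) := Module.free_of_finite_type_torsion_free'
  let b := Module.Free.chooseBasis R (LinearMap.ker π)
  choose β hβ using fun i => hb (b.coord i)
  -- (d) the retraction
  let ρ : (Fin r → Rn R n) →ₗ[R] LinearMap.ker π := ∑ i, (β i).smulRight (b i)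
  have hρ : ∀ k : LinearMap.ker π, ρ k = k := by
    intro k
    simp only [ρ, LinearMap.sum_apply, LinearMap.smulRight_apply, hβ, Module.Basis.coord_apply]
    exact b.sum_repr k
  -- (e)
  have htfP : Module.IsTorsionFree R (Fin r → Rn R n) := by
    have h1 : Module.IsTorsionFree R (Rn R n) := tf_Rn
    infer_instance
  constructor
  intro c hc m₁ m₂ hm
  have hm' : c • (m₁ - m₂) = 0 := by rw [smul_sub, sub_eq_zero]; exact hm
  obtain ⟨p, hp⟩ := hπ (m₁ - m₂)
  have hcp : c • p ∈ LinearMap.ker π := by
    rw [LinearMap.mem_ker, LinearMap.map_smul_of_tower, hp, hm']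
  have h1 : ((ρ (c • p) : LinearMap.ker π) : Fin r → Rn R n) = c • p := by
    have := hρ ⟨c • p, hcp⟩
    exact congrArg Subtype.val this
  rw [map_smul] at h1
  have h2 : c • ((ρ p : LinearMap.ker π) : Fin r → Rn R n) = c • p := h1
  have h3 : ((ρ p : LinearMap.ker π) : Fin r → Rn R n) = p := hc.isSMulRegular h2
  have h4 : π p = 0 := by
    rw [← h3]
    exact (ρ p).2
  rw [h4] at hp
  exact sub_eq_zero.mp hp.symm

section refl

variable {M : Type u} [AddCommGroup M] [Module (Rn R n) M] [Module R M]
  [IsScalarTower R (Rn R n) M]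

omit [IsDomain R] [IsPrincipalIdealRing R] in
theorem Phi_add (g₁ g₂ : M →ₗ[R] R) : Phi n (g₁ + g₂) = Phi n g₁ + Phi n g₂ := by
  ext m
  apply ext_cf
  intro i hi
  rw [LinearMap.add_apply, map_add, cf_Phi _ _ hi, cf_Phi _ _ hi, cf_Phi _ _ hi,
    LinearMap.add_apply]

omit [IsDomain R] [IsPrincipalIdealRing R] in
theorem Phi_rsmul (c : R) (g : M →ₗ[R] R) :
    Phi n (c • g) = algebraMap R (Rn R n) c • Phi n g := by
  ext m
  apply ext_cf
  intro i hi
  rw [LinearMap.smul_apply, smul_eq_mul, ← Algebra.smul_def, map_smul, cf_Phi _ _ hi,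
    cf_Phi _ _ hi, LinearMap.smul_apply]

/-- reflexive ⇒ torsion-free -/
theorem tf_of_reflexive [Module.IsReflexive (Rn R n) M] : Module.IsTorsionFree R M := by
  have htfA : Module.IsTorsionFree R (Rn R n) := tf_Rn
  constructor
  intro c hc m₁ m₂ hm
  apply (Module.IsReflexive.bijective_dual_eval' (R := Rn R n) (M := M)).1
  ext f
  rw [Module.Dual.eval_apply, Module.Dual.eval_apply]
  apply hc.isSMulRegular (M := Rn R n)
  show c • f m₁ = c • f m₂
  rw [← LinearMap.map_smul_of_tower, ← LinearMap.map_smul_of_tower]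
  exact congrArg f hm

/-- torsion-free ⇒ reflexive -/
theorem reflexive_of_tf (hn : 1 ≤ n) [Module.Finite (Rn R n) M] [Module.IsTorsionFree R M] :
    Module.IsReflexive (Rn R n) M := by
  have hfinRA : Module.Finite R (Rn R n) := finite_Rn
  have hfin : Module.Finite R M := Module.Finite.trans (Rn R n) M
  have hfree : Module.Free R M := Module.free_of_finite_type_torsion_free'
  constructor
  constructor
  · -- injective
    rw [injective_iff_map_eq_zero]
    intro m hm
    rw [← Module.forall_dual_apply_eq_zero_iff R]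
    intro g
    have := congrArg (fun ξ => ξ (Phi n g)) hm
    simp only [Module.Dual.eval_apply, LinearMap.zero_apply] at this
    rw [← lam_Phi hn g m, this, map_zero]
  · -- surjective
    intro ξ
    let θ : Module.Dual R (Module.Dual R M) :=
      { toFun := fun g => cf R n (n - 1) (ξ (Phi n g))
        map_add' := fun g₁ g₂ => by rw [Phi_add, map_add, map_add]
        map_smul' := fun c g => by
          rw [Phi_rsmul, map_smul, smul_eq_mul, ← Algebra.smul_def, map_smul, RingHom.id_apply] }
    obtain ⟨m, hm⟩ := (Module.evalEquiv R M).surjective θ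
    have hm' : ∀ g : M →ₗ[R] R, g m = cf R n (n - 1) (ξ (Phi n g)) := by
      intro g
      have := congrArg (fun t => t g) hm
      simp only [Module.evalEquiv_apply, Module.Dual.eval_apply] at this
      exact this
    refine ⟨m, ?_⟩
    ext f
    rw [Module.Dual.eval_apply]
    apply ext_cf
    intro i hi
    have hk : n - 1 - (n - 1 - i) = i := by omega
    have h1 : cf R n i (ξ f) = cf R n (n - 1) (z R n ^ (n - 1 - i) * ξ f) := by
      rw [cf_z_pow_mul (by omega), if_pos (by omega), hk]
    have h2 : cf R n i (f m) = cf R n (n - 1) (z R n ^ (n - 1 - i) * f m) := by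
      rw [cf_z_pow_mul (by omega), if_pos (by omega), hk]
    have h3 : z R n ^ (n - 1 - i) * ξ f = ξ (z R n ^ (n - 1 - i) • f) := by
      rw [map_smul, smul_eq_mul]
    rw [h1, h2, h3]
    conv_rhs => rw [← Phi_lam hn (z R n ^ (n - 1 - i) • f)]
    rw [← hm']
    rfl

end refl

end Groth.Agent.Lib.helper26.MC
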