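import Mathlib
import Groth.Agent.Lib.helper26.MultCrvD

/-!
# `R[X]/(X^n)` over a PID: `z^(n-1)` kills the higher `Ext` out of torsion-free modules
-/

namespace Groth.Agent.Lib.helper26.MC

open Polynomial MultCrv CategoryTheory

universe u

variable {R : Type u} [CommRing R] [IsDomain R] [IsPrincipalIdealRing R] {n : ℕ}

omit [IsDomain R] [IsPrincipalIdealRing R] in
/-- an `R`-linear map between `A`-modules which commutes with `z` is `A`-linear -/
theorem map_smul_of_z {P Q : Type*} [AddCommGroup P] [Module (Rn R n) P] [Module R P]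
    [IsScalarTower R (Rn R n) P] [AddCommGroup Q] [Module (Rn R n) Q] [Module R Q]
    [IsScalarTower R (Rn R n) Q] (τ : P →ₗ[R] Q) (hz : ∀ p, τ (z R n • p) = z R n • τ p)
    (a : Rn R n) (p : P) : τ (a • p) = a • τ p := by
  have hzk : ∀ (k : ℕ) (p : P), τ (z R n ^ k • p) = z R n ^ k • τ p := by
    intro k
    induction k with
    | zero => intro p; simp
    | succ k ih =>
      intro p
      rw [pow_succ, mul_smul, ih, hz, ← mul_smul]
  conv_lhs => rw [eq_sum_cf a, Finset.sum_smul, map_sum]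
  conv_rhs => rw [eq_sum_cf a, Finset.sum_smul]
  apply Finset.sum_congr rfl
  intro j _
  rw [smul_assoc, map_smul, hzk, smul_assoc]

/-- the key retraction-like map: `ρ : P → K` with `ρ k = z^(n-1) k` on `K` -/
theorem exists_rho (hn : 1 ≤ n) (M : Type u) [AddCommGroup M] [Module (Rn R n) M] [Module R M]
    [IsScalarTower R (Rn R n) M] [Module.Finite (Rn R n) M] [Module.IsTorsionFree R M]
    {r : ℕ} (π : (Fin r → Rn R n) →ₗ[Rn R n] M) (hπ : Function.Surjective π) :
    ∃ ρ : (Fin r → Rn R n) →ₗ[Rn R n] LinearMap.ker π,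
      ∀ k : LinearMap.ker π, ρ k = z R n ^ (n - 1) • k := by
  classical
  have hfinRA : Module.Finite R (Rn R n) := finite_Rn
  have hfin : Module.Finite R M := Module.Finite.trans (Rn R n) M
  -- the submodule `Q = z^(n-1) M`
  let c₀ : M →ₗ[R] M := ((z R n ^ (n - 1)) • (LinearMap.id : M →ₗ[Rn R n] M)).restrictScalars R
  let Q : Submodule R M := LinearMap.range c₀
  let c : M →ₗ[R] Q := c₀.rangeRestrict
  have hc : ∀ m, ((c m : Q) : M) = z R n ^ (n - 1) • m := fun m => rfl
  have hQfin : Module.Finite R Q := by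
    have : IsNoetherian R M := isNoetherian_of_isNoetherianRing_of_finite R M
    infer_instance
  have hQtf : Module.IsTorsionFree R Q :=
    Function.Injective.moduleIsTorsionFree (fun x : Q => (x : M)) Subtype.val_injective
      (fun _ _ => rfl)
  have hQfree : Module.Free R Q := Module.free_of_finite_type_torsion_free'
  let b := Module.Free.chooseBasis R Q
  have hb : ∀ i, ∃ p : Fin r → Rn R n, z R n ^ (n - 1) • π p = (b i : M) := by
    intro i
    obtain ⟨m, hm⟩ := (b i).2
    obtain ⟨p, rfl⟩ := hπ m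
    exact ⟨p, hm⟩
  choose pI hpI using hb
  have hzn : z R n ^ (n - 1) * z R n = 0 := by
    rw [← pow_succ]
    exact z_pow_eq_zero (by omega)
  have hcz : ∀ m : M, c (z R n • m) = 0 := by
    intro m
    apply Subtype.ext
    rw [hc, smul_smul, hzn, zero_smul (Rn R n) m]
    rfl
  -- the `R`-linear map `τ`
  let τ : (Fin r → Rn R n) →ₗ[R] (Fin r → Rn R n) :=
    ((z R n ^ (n - 1)) • (LinearMap.id : (Fin r → Rn R n) →ₗ[Rn R n] (Fin r → Rn R n))).restrictScalars R
      - ∑ i, ((b.coord i).comp (c.comp (π.restrictScalars R))).smulRight (z R n ^ (n - 1) • pI i)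
  have hτ : ∀ p, τ p = z R n ^ (n - 1) • p -
      ∑ i, b.repr (c (π p)) i • (z R n ^ (n - 1) • pI i) := by
    intro p
    simp only [τ, LinearMap.sub_apply, LinearMap.restrictScalars_apply, LinearMap.smul_apply,
      LinearMap.id_apply, LinearMap.sum_apply, LinearMap.smulRight_apply, LinearMap.comp_apply,
      Module.Basis.coord_apply]
  have hτz : ∀ p, τ (z R n • p) = 0 := by
    intro p
    rw [hτ, smul_smul, hzn, zero_smul (Rn R n) p, map_smul, hcz, map_zero]
    simp
  have hzτ : ∀ p, z R n • τ p = 0 := by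
    intro p
    rw [hτ, smul_sub, smul_smul, mul_comm, hzn, zero_smul (Rn R n) p, Finset.smul_sum, zero_sub,
      neg_eq_zero]
    apply Finset.sum_eq_zero
    intro i _
    rw [smul_comm, smul_smul, mul_comm, hzn, zero_smul (Rn R n) (pI i), smul_zero]
  have hτK : ∀ p, τ p ∈ LinearMap.ker π := by
    intro p
    rw [LinearMap.mem_ker, hτ, map_sub, map_smul, map_sum]
    have h1 : ∀ i, π (b.repr (c (π p)) i • (z R n ^ (n - 1) • pI i)) =
        b.repr (c (π p)) i • (b i : M) := by
      intro i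
      rw [LinearMap.map_smul_of_tower, map_smul, hpI]
    simp only [h1]
    have h2 := congrArg (fun q : Q => (q : M)) (b.sum_repr (c (π p)))
    simp only [Submodule.coe_sum, Submodule.coe_smul, hc] at h2
    rw [h2, sub_self]
  let ρ₀ : (Fin r → Rn R n) →ₗ[R] LinearMap.ker π :=
    (Submodule.restrictScalarsEquiv R (Rn R n) _ (LinearMap.ker π)).toLinearMap ∘ₗ
      LinearMap.codRestrict ((LinearMap.ker π).restrictScalars R) τ hτK
  have hρ₀ : ∀ p, ((ρ₀ p : LinearMap.ker π) : Fin r → Rn R n) = τ p := fun p => rfl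
  have hρ₀z : ∀ p, ρ₀ (z R n • p) = z R n • ρ₀ p := by
    intro p
    apply Subtype.ext
    rw [hρ₀, hτz, Submodule.coe_smul, hρ₀, hzτ]
  refine ⟨{ toFun := ρ₀, map_add' := ρ₀.map_add, map_smul' := fun a p => ?_ }, ?_⟩
  · rw [RingHom.id_apply]
    exact map_smul_of_z ρ₀ hρ₀z a p
  · intro k
    apply Subtype.ext
    show ((ρ₀ k : LinearMap.ker π) : Fin r → Rn R n) = _
    rw [hρ₀, hτ, (LinearMap.mem_ker.mp k.2), map_zero, map_zero]
    simp

/-- S17938 -/
theorem smul_ext_one_eq_zero (hn : 1 ≤ n) (M : Type u) [AddCommGroup M] [Module (Rn R n) M]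
    [Module R M] [IsScalarTower R (Rn R n) M] [Module.Finite (Rn R n) M]
    [Module.IsTorsionFree R M] (N : Type u) [AddCommGroup N] [Module (Rn R n) N]
    (x : Abelian.Ext (ModuleCat.of (Rn R n) M) (ModuleCat.of (Rn R n) N) 1) :
    (z R n ^ (n - 1)) • x = 0 := by
  obtain ⟨r, π, hπ⟩ := Module.Finite.exists_fin' (Rn R n) M
  have hS := LinearMap.shortExact_shortComplexKer hπ
  have hproj : Projective (π.shortComplexKer).X₂ := by
    show Projective (ModuleCat.of (Rn R n) (Fin r → Rn R n))
    exact (IsProjective.iff_projective _).mp inferInstance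
  have h0 : (Abelian.Ext.mk₀ (π.shortComplexKer).g).comp x (zero_add 1) = 0 :=
    Abelian.Ext.eq_zero_of_projective _
  obtain ⟨x₁, rfl⟩ := Abelian.Ext.contravariant_sequence_exact₃ hS _ x h0 (n₀ := 0) (by omega)
  obtain ⟨φ, rfl⟩ := (Abelian.Ext.mk₀_bijective _ _).2 x₁
  obtain ⟨ρ, hρ⟩ := exists_rho hn M π hπ
  rw [← Abelian.Ext.comp_smul, ← Abelian.Ext.mk₀_smul]
  have h1 : (z R n ^ (n - 1)) • φ = (π.shortComplexKer).f ≫ (ModuleCat.ofHom ρ ≫ φ) := by
    ext k
    simp only [ModuleCat.hom_smul, LinearMap.smul_apply, ModuleCat.hom_comp, ModuleCat.hom_ofHom,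
      LinearMap.comp_apply, Submodule.subtype_apply]
    rw [hρ, map_smul]
  rw [h1, ← Abelian.Ext.mk₀_comp_mk₀]
  exact hS.extClass_comp_assoc _

/-- `z^(n-1)` kills `Ext^i(M, N)` for `i ≥ 1` and `M` torsion-free -/
theorem smul_ext_eq_zero_of_tf (hn : 1 ≤ n) (N : Type u) [AddCommGroup N] [Module (Rn R n) N]
    (j : ℕ) : ∀ (M : Type u) [AddCommGroup M] [Module (Rn R n) M]
      [Module R M] [IsScalarTower R (Rn R n) M] [Module.Finite (Rn R n) M]
      [Module.IsTorsionFree R M]
      (x : Abelian.Ext (ModuleCat.of (Rn R n) M) (ModuleCat.of (Rn R n) N) (j + 1)),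
      (z R n ^ (n - 1)) • x = 0 := by
  induction j with
  | zero =>
    intro M _ _ _ _ _ _ x
    exact smul_ext_one_eq_zero hn M N x
  | succ j ih =>
    intro M _ _ _ _ _ _ x
    obtain ⟨r, π, hπ⟩ := Module.Finite.exists_fin' (Rn R n) M
    have hS := LinearMap.shortExact_shortComplexKer hπ
    have hproj : Projective (π.shortComplexKer).X₂ := by
      show Projective (ModuleCat.of (Rn R n) (Fin r → Rn R n))
      exact (IsProjective.iff_projective _).mp inferInstance
    have htf : Module.IsTorsionFree R (LinearMap.ker π) := tf_ker π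
    have hfin : Module.Finite (Rn R n) (LinearMap.ker π) := by
      have : IsNoetherianRing (Rn R n) := noeth_Rn
      infer_instance
    have h0 : (Abelian.Ext.mk₀ (π.shortComplexKer).g).comp x (zero_add (j + 1 + 1)) = 0 :=
      Abelian.Ext.eq_zero_of_projective _
    obtain ⟨x₁, rfl⟩ := Abelian.Ext.contravariant_sequence_exact₃ hS _ x h0 (n₀ := j + 1)
      (by omega)
    rw [← Abelian.Ext.comp_smul, ih (LinearMap.ker π) x₁, Abelian.Ext.comp_zero]

/-- S17939 -/
theorem smul_ext_eq_zero_of_two_le (hn : 1 ≤ n) (N : Type u) [AddCommGroup N]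
    [Module (Rn R n) N] (j : ℕ) (M : Type u) [AddCommGroup M] [Module (Rn R n) M]
    [Module.Finite (Rn R n) M]
    (x : Abelian.Ext (ModuleCat.of (Rn R n) M) (ModuleCat.of (Rn R n) N) (j + 2)) :
    (z R n ^ (n - 1)) • x = 0 := by
  obtain ⟨r, π, hπ⟩ := Module.Finite.exists_fin' (Rn R n) M
  have hS := LinearMap.shortExact_shortComplexKer hπ
  have hproj : Projective (π.shortComplexKer).X₂ := by
    show Projective (ModuleCat.of (Rn R n) (Fin r → Rn R n))
    exact (IsProjective.iff_projective _).mp inferInstance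
  have htf : Module.IsTorsionFree R (LinearMap.ker π) := tf_ker π
  have hfin : Module.Finite (Rn R n) (LinearMap.ker π) := by
    have : IsNoetherianRing (Rn R n) := noeth_Rn
    infer_instance
  have h0 : (Abelian.Ext.mk₀ (π.shortComplexKer).g).comp x (zero_add (j + 2)) = 0 :=
    Abelian.Ext.eq_zero_of_projective _
  obtain ⟨x₁, rfl⟩ := Abelian.Ext.contravariant_sequence_exact₃ hS _ x h0 (n₀ := j + 1)
    (by omega)
  rw [← Abelian.Ext.comp_smul, smul_ext_eq_zero_of_tf hn N j (LinearMap.ker π) x₁,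
    Abelian.Ext.comp_zero]

end Groth.Agent.Lib.helper26.MC
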