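import Mathlib
import Groth.Agent.Lib.helper26.MultCrvB

/-!
# `R[X]/(X^n)`: ranks of the graded pieces of the two canonical filtrations
-/

namespace Groth.Agent.Lib.helper26.MC

open Polynomial MultCrv

universe u

section rank

variable {R : Type*} [CommRing R] {n : ℕ}
variable {M : Type*} [AddCommGroup M] [Module (Rn R n) M] [Module R M]
  [IsScalarTower R (Rn R n) M]

theorem finite_of_finite_Rn [Module.Finite (Rn R n) M] : Module.Finite R M := by
  have : Module.Finite R (Rn R n) := finite_Rn
  exact Module.Finite.trans (Rn R n) M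

/-- `rk (P / P') + rk P' = rk P` for `A`-submodules `P' ≤ P`, ranks over `R`. -/
theorem finrank_quot_add [IsDomain R] [IsNoetherianRing R] [Module.Finite R M]
    (P P' : Submodule (Rn R n) M) (h : P' ≤ P) :
    Module.finrank R (↥P ⧸ Submodule.comap P.subtype P') + Module.finrank R ↥P'
      = Module.finrank R ↥P := by
  have e1 : (↥P ⧸ (Submodule.comap P.subtype P').restrictScalars R) ≃ₗ[R]
      (↥P ⧸ Submodule.comap P.subtype P') :=
    Submodule.Quotient.restrictScalarsEquiv R _
  have e2 : ↥((Submodule.comap P.subtype P').restrictScalars R) ≃ₗ[R] ↥P' :=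
    ((Submodule.restrictScalarsEquiv R (Rn R n) ↥P (Submodule.comap P.subtype P')).trans
      (Submodule.comapSubtypeEquivOfLe h)).restrictScalars R
  have : IsNoetherian R M := isNoetherian_of_isNoetherianRing_of_finite R M
  have : Module.Finite R ↥P :=
    Module.Finite.equiv ((Submodule.restrictScalarsEquiv R (Rn R n) M P).restrictScalars R)
  rw [← e1.finrank_eq, ← e2.finrank_eq]
  exact Submodule.finrank_quotient_add_finrank _

theorem finrank_filt2_add_filt [IsDomain R] [IsNoetherianRing R] [Module.Finite R M] (j : ℕ) :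
    Module.finrank R ↥(filt2 R n M j) + Module.finrank R ↥(filt R n M j)
      = Module.finrank R M := by
  let φ : M →ₗ[R] M := ((z R n ^ j) • (LinearMap.id : M →ₗ[Rn R n] M)).restrictScalars R
  have e1 : ↥(LinearMap.ker φ) ≃ₗ[R] ↥(filt2 R n M j) :=
    LinearEquiv.ofEq _ ((filt2 R n M j).restrictScalars R) (by
      ext x
      simp [φ, filt2]) ≪≫ₗ
      (Submodule.restrictScalarsEquiv R (Rn R n) M (filt2 R n M j)).restrictScalars R
  have e2 : ↥(LinearMap.range φ) ≃ₗ[R] ↥(filt R n M j) :=
    LinearEquiv.ofEq _ ((filt R n M j).restrictScalars R) (by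
      ext x
      simp [φ, filt]) ≪≫ₗ
      (Submodule.restrictScalarsEquiv R (Rn R n) M (filt R n M j)).restrictScalars R
  rw [← e1.finrank_eq, ← e2.finrank_eq, ← φ.quotKerEquivRange.finrank_eq, add_comm]
  exact Submodule.finrank_quotient_add_finrank _

omit [Module R M] [IsScalarTower R (Rn R n) M] in
theorem filt2_mono {i j : ℕ} (h : i ≤ j) : filt2 R n M i ≤ filt2 R n M j := by
  intro x hx
  change z R n ^ i • x = 0 at hx
  change z R n ^ j • x = 0
  obtain ⟨k, rfl⟩ := Nat.exists_eq_add_of_le h
  rw [add_comm, pow_add, mul_smul, hx, smul_zero]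

omit [Module R M] [IsScalarTower R (Rn R n) M] in
theorem filt_anti {i j : ℕ} (h : i ≤ j) : filt R n M j ≤ filt R n M i := by
  rintro x ⟨y, rfl⟩
  obtain ⟨k, rfl⟩ := Nat.exists_eq_add_of_le h
  refine ⟨z R n ^ k • y, ?_⟩
  simp [pow_add, mul_smul]
  exact smul_comm _ _ _

theorem finrank_G2_succ_eq_finrank_G1 [IsDomain R] [IsNoetherianRing R]
    [Module.Finite (Rn R n) M] (i : ℕ) :
    Module.finrank R (G2 R n M (i + 1)) = Module.finrank R (G1 R n M i) := by
  have : Module.Finite R M := finite_of_finite_Rn (n := n)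
  have h1 := finrank_filt2_add_filt (R := R) (n := n) (M := M) i
  have h2 := finrank_filt2_add_filt (R := R) (n := n) (M := M) (i + 1)
  have h3 := finrank_quot_add (R := R) (filt2 R n M (i + 1)) (filt2 R n M i)
    (filt2_mono (Nat.le_succ i))
  have h4 := finrank_quot_add (R := R) (filt R n M i) (filt R n M (i + 1))
    (filt_anti (Nat.le_succ i))
  change Module.finrank R (↥(filt2 R n M (i + 1)) ⧸
    Submodule.comap (filt2 R n M (i + 1)).subtype (filt2 R n M i)) =
    Module.finrank R (↥(filt R n M i) ⧸
    Submodule.comap (filt R n M i).subtype (filt R n M (i + 1)))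
  omega

end rank

end Groth.Agent.Lib.helper26.MC
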