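import Mathlib
import Groth.Agent.Lib.helper26.MultCrvF

/-!
# `R[X]/(X^n)`: freeness of the graded pieces `G_i` and of `Γ^(i)`
-/

namespace Groth.Agent.Lib.helper26.MC

open Polynomial MultCrv

universe u

section free

variable {R : Type*} [CommRing R] {n : ℕ}
variable {M : Type*} [AddCommGroup M] [Module (Rn R n) M] [Module R M]
  [IsScalarTower R (Rn R n) M]

/-- elementwise form of "`G_i(M)` is `R`-torsion-free" -/
def P1 (R : Type*) [CommRing R] (n : ℕ) (M : Type*) [AddCommGroup M] [Module (Rn R n) M]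
    [Module R M] (i : ℕ) : Prop :=
  ∀ r : R, r ≠ 0 → ∀ m m' : M, r • (z R n ^ i • m) = z R n ^ (i + 1) • m' →
    ∃ m'' : M, z R n ^ i • m = z R n ^ (i + 1) • m''

/-- elementwise form of "`Γ^(i)(M)` is `R`-torsion-free" -/
def P2 (R : Type*) [CommRing R] (n : ℕ) (M : Type*) [AddCommGroup M] [Module (Rn R n) M]
    [Module R M] (i : ℕ) : Prop :=
  ∀ r : R, r ≠ 0 → ∀ u : M, z R n ^ (i + 1) • u = 0 →
    (∃ v : M, z R n ^ (i + 2) • v = 0 ∧ z R n ^ i • (r • u - z R n • v) = 0) →
    ∃ v' : M, z R n ^ (i + 2) • v' = 0 ∧ z R n ^ i • (u - z R n • v') = 0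

omit [Module R M] [IsScalarTower R (Rn R n) M] in
theorem mem_filt {i : ℕ} {x : M} : x ∈ filt R n M i ↔ ∃ y : M, z R n ^ i • y = x := by
  simp [filt, LinearMap.mem_range]

omit [Module R M] [IsScalarTower R (Rn R n) M] in
theorem mem_filt2 {i : ℕ} {x : M} : x ∈ filt2 R n M i ↔ z R n ^ i • x = 0 := by
  simp [filt2]

theorem P1_to_P2 (i : ℕ) (h : P1 R n M i) : P2 R n M i := by
  intro r hr u hu ⟨v, hv, hv'⟩
  have h1 : r • (z R n ^ i • u) = z R n ^ (i + 1) • v := by
    rw [smul_sub, sub_eq_zero] at hv'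
    rw [smul_comm, hv', smul_smul, ← pow_succ]
  obtain ⟨m'', hm''⟩ := h r hr u v h1
  refine ⟨m'', ?_, ?_⟩
  · have : z R n ^ (i + 2) • m'' = z R n • (z R n ^ (i + 1) • m'') := by
      rw [smul_smul, ← pow_succ']
    rw [this, ← hm'', smul_smul, ← pow_succ', hu]
  · rw [smul_sub, sub_eq_zero, hm'', smul_smul, ← pow_succ]

theorem P1_of_P2_of_P1 (i : ℕ) (h2 : P2 R n M i) (h1 : P1 R n M (i + 1)) : P1 R n M i := by
  intro r hr m m' hm
  -- apply z
  have e1 : r • (z R n ^ (i + 1) • m) = z R n ^ (i + 1 + 1) • m' := by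
    have := congrArg (fun x => z R n • x) hm
    beta_reduce at this
    rw [smul_comm (z R n) r, smul_smul, ← pow_succ', smul_smul, ← pow_succ'] at this
    exact this
  obtain ⟨m₂, hm₂⟩ := h1 r hr m m' e1
  set u := m - z R n • m₂ with hu
  have hu1 : z R n ^ (i + 1) • u = 0 := by
    rw [hu, smul_sub, hm₂, smul_smul, ← pow_succ, sub_self]
  set v := m' - r • m₂ with hv
  have e2 : r • (z R n ^ i • u) = z R n ^ (i + 1) • v := by
    rw [hu, hv, smul_sub, smul_sub, smul_sub, hm, smul_smul (z R n ^ i), ← pow_succ,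
      smul_comm r (z R n ^ (i + 1)) m₂]
  have hv2 : z R n ^ (i + 2) • v = 0 := by
    have : z R n ^ (i + 2) • v = z R n • (z R n ^ (i + 1) • v) := by
      rw [smul_smul, ← pow_succ']
    rw [this, ← e2, smul_comm, smul_smul, ← pow_succ', hu1, smul_zero]
  have hv3 : z R n ^ i • (r • u - z R n • v) = 0 := by
    rw [smul_sub, smul_comm, e2, smul_smul, ← pow_succ, sub_self]
  obtain ⟨v', hv', hv''⟩ := h2 r hr u hu1 ⟨v, hv2, hv3⟩
  refine ⟨v' + m₂, ?_⟩
  rw [smul_sub, sub_eq_zero, smul_smul, ← pow_succ] at hv''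
  have : m = u + z R n • m₂ := by rw [hu]; abel
  rw [this, smul_add, hv'', smul_add, smul_smul, ← pow_succ]

omit [IsScalarTower R (Rn R n) M] in
theorem P1_of_le {i : ℕ} (hi : n ≤ i) : P1 R n M i := by
  intro r _ m m' _
  refine ⟨0, ?_⟩
  rw [z_pow_eq_zero hi, zero_smul (Rn R n) m, smul_zero]

theorem P1_of_forall_P2 (h : ∀ i, i < n → P2 R n M i) : ∀ i, P1 R n M i := by
  have key : ∀ k i, i + k = n → P1 R n M i := by
    intro k
    induction k with
    | zero => intro i hi; exact P1_of_le (by omega)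
    | succ k ih =>
      intro i hi
      exact P1_of_P2_of_P1 i (h i (by omega)) (ih (i + 1) (by omega))
  intro i
  by_cases hi : i ≤ n
  · exact key (n - i) i (by omega)
  · exact P1_of_le (by omega)

theorem tf_G1_iff [IsDomain R] (i : ℕ) :
    Module.IsTorsionFree R (G1 R n M i) ↔ P1 R n M i := by
  rw [Module.isTorsionFree_iff_smul_eq_zero]
  constructor
  · intro h r hr m m' hm
    have h0 := h r (Submodule.Quotient.mk ⟨z R n ^ i • m, mem_filt.2 ⟨m, rfl⟩⟩)
    rw [← Submodule.Quotient.mk_smul, Submodule.Quotient.mk_eq_zero,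
      Submodule.Quotient.mk_eq_zero] at h0
    have h1 := h0 (by
      rw [Submodule.mem_comap]
      exact mem_filt.2 ⟨m', hm.symm⟩)
    rcases h1 with h1 | h1
    · exact absurd h1 hr
    · rw [Submodule.mem_comap] at h1
      obtain ⟨m'', hm''⟩ := mem_filt.1 h1
      exact ⟨m'', hm''.symm⟩
  · intro h r x hx
    by_cases hr : r = 0
    · exact Or.inl hr
    right
    obtain ⟨⟨x, hx'⟩, rfl⟩ := Submodule.Quotient.mk_surjective _ x
    obtain ⟨m, rfl⟩ := mem_filt.1 hx'
    rw [← Submodule.Quotient.mk_smul, Submodule.Quotient.mk_eq_zero, Submodule.mem_comap] at hx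
    obtain ⟨m', hm'⟩ := mem_filt.1 hx
    obtain ⟨m'', hm''⟩ := h r hr m m' hm'.symm
    rw [Submodule.Quotient.mk_eq_zero, Submodule.mem_comap]
    exact mem_filt.2 ⟨m'', hm''.symm⟩

omit [Module R M] [IsScalarTower R (Rn R n) M] in
theorem mk_mk_eq_zero_iff (i : ℕ) (u : ↥(filt2 R n M (i + 1))) :
    (Submodule.Quotient.mk (Submodule.Quotient.mk u : G2 R n M (i + 1)) : Gam2 R n M i) = 0 ↔
      ∃ v : M, z R n ^ (i + 2) • v = 0 ∧ z R n ^ i • ((u : M) - z R n • v) = 0 := by
  rw [Submodule.Quotient.mk_eq_zero, LinearMap.mem_range]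
  constructor
  · rintro ⟨w, hw⟩
    obtain ⟨⟨v, hv⟩, rfl⟩ := Submodule.Quotient.mk_surjective _ w
    refine ⟨v, mem_filt2.1 hv, ?_⟩
    have h1 : lamG2 R n M i (Submodule.Quotient.mk ⟨v, hv⟩) =
        Submodule.Quotient.mk (zDown R n M (i + 1) ⟨v, hv⟩) := rfl
    rw [h1, Submodule.Quotient.eq, Submodule.mem_comap] at hw
    have h2 : z R n ^ i • (z R n • v - (u : M)) = 0 := mem_filt2.1 hw
    rw [← neg_sub, smul_neg, h2, neg_zero]
  · rintro ⟨v, hv, hv'⟩
    refine ⟨Submodule.Quotient.mk ⟨v, mem_filt2.2 hv⟩, ?_⟩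
    have h1 : lamG2 R n M i (Submodule.Quotient.mk ⟨v, mem_filt2.2 hv⟩) =
        Submodule.Quotient.mk (zDown R n M (i + 1) ⟨v, mem_filt2.2 hv⟩) := rfl
    rw [h1, Submodule.Quotient.eq, Submodule.mem_comap]
    have h2 : z R n ^ i • (z R n • v - (u : M)) = 0 := by
      rw [← neg_sub, smul_neg, hv', neg_zero]
    exact mem_filt2.2 h2

theorem tf_Gam2_iff [IsDomain R] (i : ℕ) :
    Module.IsTorsionFree R (Gam2 R n M i) ↔ P2 R n M i := by
  rw [Module.isTorsionFree_iff_smul_eq_zero]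
  constructor
  · intro h r hr u hu hv
    have h0 := h r (Submodule.Quotient.mk (Submodule.Quotient.mk ⟨u, mem_filt2.2 hu⟩))
    rw [← Submodule.Quotient.mk_smul, ← Submodule.Quotient.mk_smul,
      mk_mk_eq_zero_iff, mk_mk_eq_zero_iff] at h0
    rcases h0 hv with h1 | h1
    · exact absurd h1 hr
    · exact h1
  · intro h r x hx
    by_cases hr : r = 0
    · exact Or.inl hr
    right
    obtain ⟨x, rfl⟩ := Submodule.Quotient.mk_surjective _ x
    obtain ⟨⟨u, hu⟩, rfl⟩ := Submodule.Quotient.mk_surjective _ x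
    rw [← Submodule.Quotient.mk_smul, ← Submodule.Quotient.mk_smul, mk_mk_eq_zero_iff] at hx
    rw [mk_mk_eq_zero_iff]
    exact h r hr u (mem_filt2.1 hu) hx

theorem finite_sub [IsNoetherianRing R] [Module.Finite (Rn R n) M] (P : Submodule (Rn R n) M) :
    Module.Finite R ↥P := by
  have : Module.Finite R M := finite_of_finite_Rn (n := n)
  have : IsNoetherian R M := isNoetherian_of_isNoetherianRing_of_finite R M
  exact Module.Finite.equiv ((Submodule.restrictScalarsEquiv R (Rn R n) M P).restrictScalars R)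

theorem finite_G1 [IsNoetherianRing R] [Module.Finite (Rn R n) M] (i : ℕ) :
    Module.Finite R (G1 R n M i) := by
  have : Module.Finite R ↥(filt R n M i) := finite_sub _
  exact Module.Finite.of_surjective
    ((Submodule.comap (filt R n M i).subtype (filt R n M (i + 1))).mkQ.restrictScalars R)
    (Submodule.mkQ_surjective _)

theorem finite_Gam2 [IsNoetherianRing R] [Module.Finite (Rn R n) M] (i : ℕ) :
    Module.Finite R (Gam2 R n M i) := by
  have : Module.Finite R ↥(filt2 R n M (i + 1)) := finite_sub _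
  have : Module.Finite R (G2 R n M (i + 1)) := Module.Finite.of_surjective
    ((Submodule.comap (filt2 R n M (i + 1)).subtype (filt2 R n M (i + 1 - 1))).mkQ.restrictScalars R)
    (Submodule.mkQ_surjective _)
  exact Module.Finite.of_surjective
    ((LinearMap.range (lamG2 R n M i)).mkQ.restrictScalars R)
    (Submodule.mkQ_surjective _)

theorem free_G1_iff_free_Gam2 [IsDomain R] [IsPrincipalIdealRing R]
    [Module.Finite (Rn R n) M] :
    (∀ i : ℕ, i < n → Module.Free R (G1 R n M i)) ↔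
      (∀ i : ℕ, i < n → Module.Free R (Gam2 R n M i)) := by
  have hG1 : ∀ i, Module.Free R (G1 R n M i) ↔ P1 R n M i := fun i => by
    have := finite_G1 (R := R) (n := n) (M := M) i
    rw [Module.free_iff_isTorsionFree, tf_G1_iff]
  have hGam2 : ∀ i, Module.Free R (Gam2 R n M i) ↔ P2 R n M i := fun i => by
    have := finite_Gam2 (R := R) (n := n) (M := M) i
    rw [Module.free_iff_isTorsionFree, tf_Gam2_iff]
  simp only [hG1, hGam2]
  constructor
  · intro h i hi
    exact P1_to_P2 i (h i hi)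
  · intro h i _
    exact P1_of_forall_P2 h i

end free

end Groth.Agent.Lib.helper26.MC
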