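import Mathlib
import Groth.Agent.Lib.helper26.MultCrvG

/-!
# `R[X]/(X^n)`: the kernel of a minimal surjection from a free module onto a quasi-free module
-/

namespace Groth.Agent.Lib.helper26.MC

open Polynomial MultCrv

universe u

section ann

variable {R : Type*} [CommRing R] {n : ℕ}

/-- the annihilator of `z^j` is `(z^(n-j))` -/
theorem z_pow_mul_eq_zero_iff {j : ℕ} (hj : j ≤ n) (a : Rn R n) :
    z R n ^ j * a = 0 ↔ a ∈ Ideal.span {z R n ^ (n - j)} := by
  constructor
  · intro h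
    rw [eq_sum_cf a]
    refine Ideal.sum_mem _ fun i hi => ?_
    have hi' : i < n := Finset.mem_range.mp hi
    by_cases hij : i < n - j
    · have h0 : cf R n i a = 0 := by
        have h1 := cf_z_pow_mul (R := R) (n := n) (j := i + j) (by omega) j a
        rw [h, map_zero, if_pos (by omega), Nat.add_sub_cancel] at h1
        exact h1.symm
      rw [h0, zero_smul]
      exact Ideal.zero_mem _
    · have h2 : z R n ^ i = z R n ^ (n - j) * z R n ^ (i - (n - j)) := by
        rw [← pow_add]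
        congr 1
        omega
      rw [h2, ← mul_smul_comm]
      exact Ideal.mul_mem_right _ _ (Ideal.mem_span_singleton_self _)
  · intro h
    obtain ⟨b, rfl⟩ := Ideal.mem_span_singleton'.mp h
    rw [mul_comm b, ← mul_assoc, ← pow_add, z_pow_eq_zero (by omega), zero_mul]

/-- multiplication by `z^j` -/
noncomputable def mulZ (R : Type*) [CommRing R] (n j : ℕ) : Rn R n →ₗ[Rn R n] Rn R n :=
  LinearMap.toSpanSingleton (Rn R n) (Rn R n) (z R n ^ j)

theorem mulZ_apply (j : ℕ) (a : Rn R n) : mulZ R n j a = a * z R n ^ j := rfl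

theorem ker_mulZ {j : ℕ} (hj : j ≤ n) :
    LinearMap.ker (mulZ R n j) = Ideal.span {z R n ^ (n - j)} := by
  ext a
  rw [LinearMap.mem_ker, mulZ_apply, mul_comm, z_pow_mul_eq_zero_iff hj]

theorem range_mulZ (j : ℕ) :
    LinearMap.range (mulZ R n j) = Ideal.span {z R n ^ j} :=
  (LinearMap.span_singleton_eq_range (Rn R n) (Rn R n) (z R n ^ j)).symm

/-- `A/(z^(n-j)) ≃ z^j A` -/
theorem nonempty_spanEquiv {j : ℕ} (hj : j ≤ n) :
    Nonempty (Oi R n (n - j) ≃ₗ[Rn R n] ↥(Ideal.span {z R n ^ j} : Ideal (Rn R n))) :=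
  ⟨(Submodule.quotEquivOfEq _ _ (ker_mulZ hj).symm) ≪≫ₗ (mulZ R n j).quotKerEquivRange ≪≫ₗ
    LinearEquiv.ofEq _ _ (range_mulZ j)⟩

end ann

section nak

variable {R : Type*} [CommRing R] {n : ℕ}
variable {P : Type*} [AddCommGroup P] [Module (Rn R n) P]

/-- Nakayama for the nilpotent element `z`: a submodule `N` with `N + zP = P` is everything. -/
theorem eq_top_of_forall_exists_add (N : Submodule (Rn R n) P)
    (h : ∀ p : P, ∃ q ∈ N, ∃ p' : P, p = q + z R n • p') : N = ⊤ := by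
  have key : ∀ k : ℕ, ∀ p : P, ∃ q ∈ N, ∃ p' : P, p = q + z R n ^ k • p' := by
    intro k
    induction k with
    | zero => intro p; exact ⟨0, N.zero_mem, p, by simp⟩
    | succ k ih =>
      intro p
      obtain ⟨q, hq, p', rfl⟩ := ih p
      obtain ⟨q', hq', p'', rfl⟩ := h p'
      refine ⟨q + z R n ^ k • q', N.add_mem hq (N.smul_mem _ hq'), p'', ?_⟩
      rw [smul_add, smul_smul, ← pow_succ, add_assoc]
  rw [eq_top_iff]
  intro p _
  obtain ⟨q, hq, p', rfl⟩ := key n p
  rw [z_pow_eq_zero le_rfl, zero_smul (Rn R n) p', add_zero]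
  exact hq

/-- a submodule `K` with `K ⊆ zK` is zero. -/
theorem eq_bot_of_forall_exists_smul (K : Submodule (Rn R n) P)
    (h : ∀ g ∈ K, ∃ g' ∈ K, g = z R n • g') : K = ⊥ := by
  have key : ∀ k : ℕ, ∀ g ∈ K, ∃ g' ∈ K, g = z R n ^ k • g' := by
    intro k
    induction k with
    | zero => intro g hg; exact ⟨g, hg, by simp⟩
    | succ k ih =>
      intro g hg
      obtain ⟨g', hg', rfl⟩ := ih g hg
      obtain ⟨g'', hg'', rfl⟩ := h g' hg'
      exact ⟨g'', hg'', by rw [smul_smul, ← pow_succ]⟩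
  rw [eq_bot_iff]
  intro g hg
  obtain ⟨g', _, rfl⟩ := key n g hg
  rw [z_pow_eq_zero le_rfl, zero_smul (Rn R n) g']
  exact Submodule.zero_mem _

end nak

section model

variable {R : Type*} [CommRing R] {n : ℕ}

/-- the standard projection from the free module onto the model quasi-free module -/
noncomputable def sigma0 (R : Type*) [CommRing R] (n : ℕ) (m : Fin n → ℕ) :
    ((i : Fin n) → Fin (m i) → Rn R n) →ₗ[Rn R n]
      ((i : Fin n) → Fin (m i) → Oi R n (i.1 + 1)) where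
  toFun f := fun i k => Ideal.Quotient.mk _ (f i k)
  map_add' f g := by
    funext i k
    exact map_add _ _ _
  map_smul' a f := by
    funext i k
    exact map_mul (Ideal.Quotient.mk (Ideal.span {z R n ^ (i.1 + 1)})) a (f i k)

theorem sigma0_apply (m : Fin n → ℕ) (f : (i : Fin n) → Fin (m i) → Rn R n) (i : Fin n)
    (k : Fin (m i)) : sigma0 R n m f i k = Ideal.Quotient.mk _ (f i k) := rfl

theorem sigma0_surjective (m : Fin n → ℕ) : Function.Surjective (sigma0 R n m) := by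
  intro g
  choose f hf using fun i k => Ideal.Quotient.mk_surjective (g i k)
  exact ⟨f, by funext i k; exact hf i k⟩

theorem mem_ker_sigma0 (m : Fin n → ℕ) (f : (i : Fin n) → Fin (m i) → Rn R n) :
    f ∈ LinearMap.ker (sigma0 R n m) ↔ ∀ i k, f i k ∈ Ideal.span {z R n ^ (i.1 + 1)} := by
  rw [LinearMap.mem_ker]
  constructor
  · intro h i k
    have := congrFun (congrFun h i) k
    rw [sigma0_apply] at this
    exact Ideal.Quotient.eq_zero_iff_mem.mp this
  · intro h
    funext i k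
    rw [sigma0_apply]
    exact Ideal.Quotient.eq_zero_iff_mem.mpr (h i k)

/-- the kernel of the standard projection is the product of the ideals `(z^(i+1))` -/
noncomputable def kerSigma0Equiv (m : Fin n → ℕ) :
    ↥(LinearMap.ker (sigma0 R n m)) ≃ₗ[Rn R n]
      ((i : Fin n) → Fin (m i) → ↥(Ideal.span {z R n ^ (i.1 + 1)} : Ideal (Rn R n))) where
  toFun f := fun i k => ⟨f.1 i k, (mem_ker_sigma0 m f.1).mp f.2 i k⟩
  map_add' _ _ := rfl
  map_smul' _ _ := rfl
  invFun g := ⟨fun i k => (g i k).1, (mem_ker_sigma0 m _).mpr fun i k => (g i k).2⟩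
  left_inv _ := rfl
  right_inv _ := rfl

theorem exists_smul_of_mem_ker_sigma0 (m : Fin n → ℕ) (f : (i : Fin n) → Fin (m i) → Rn R n)
    (hf : f ∈ LinearMap.ker (sigma0 R n m)) :
    ∃ f' : (i : Fin n) → Fin (m i) → Rn R n, f = z R n • f' := by
  rw [mem_ker_sigma0] at hf
  choose b hb using fun i k => Ideal.mem_span_singleton'.mp (hf i k)
  refine ⟨fun i k => b i k * z R n ^ i.1, ?_⟩
  funext i k
  rw [Pi.smul_apply, Pi.smul_apply, smul_eq_mul, ← hb i k, pow_succ]
  ring

/-- a minimal surjection from a free module onto the model module has kernel isomorphic to the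
kernel of the standard projection -/
theorem nonempty_ker_equiv (m : Fin n → ℕ) (r : ℕ)
    (ψ : (Fin r → Rn R n) →ₗ[Rn R n] ((i : Fin n) → Fin (m i) → Oi R n (i.1 + 1)))
    (hψ : Function.Surjective ψ)
    (hz : ∀ g, ψ g = 0 → ∃ h : Fin r → Rn R n, g = z R n • h) :
    Nonempty (↥(LinearMap.ker ψ) ≃ₗ[Rn R n] ↥(LinearMap.ker (sigma0 R n m))) := by
  obtain ⟨θ, hθ⟩ := Module.projective_lifting_property (sigma0 R n m) ψ (sigma0_surjective m)
  have hθ' : ∀ g, sigma0 R n m (θ g) = ψ g := fun g => by rw [← hθ]; rfl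
  -- θ surjective
  have hsurj : LinearMap.range θ = ⊤ := by
    apply eq_top_of_forall_exists_add
    intro f
    obtain ⟨g, hg⟩ := hψ (sigma0 R n m f)
    have hmem : f - θ g ∈ LinearMap.ker (sigma0 R n m) := by
      rw [LinearMap.mem_ker, map_sub, hθ', hg]
      exact sub_self (sigma0 R n m f)
    obtain ⟨f', hf'⟩ := exists_smul_of_mem_ker_sigma0 m _ hmem
    exact ⟨θ g, ⟨g, rfl⟩, f', by rw [← hf']; abel⟩
  -- a section of θ
  obtain ⟨s, hs⟩ := Module.projective_lifting_property θ LinearMap.id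
    (LinearMap.range_eq_top.mp hsurj)
  have hs' : ∀ f, θ (s f) = f := fun f => by
    have := congrArg (fun t => t f) hs
    simpa using this
  have hinj : LinearMap.ker θ = ⊥ := by
    apply eq_bot_of_forall_exists_smul
    intro g hg
    rw [LinearMap.mem_ker] at hg
    obtain ⟨h, rfl⟩ := hz g (by rw [← hθ', hg, map_zero])
    refine ⟨h - s (θ h), ?_, ?_⟩
    · rw [LinearMap.mem_ker, map_sub, hs', sub_self]
    · rw [smul_sub, ← map_smul, ← map_smul, hg, map_zero, sub_zero]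
  let θe : (Fin r → Rn R n) ≃ₗ[Rn R n] ((i : Fin n) → Fin (m i) → Rn R n) :=
    LinearEquiv.ofBijective θ ⟨LinearMap.ker_eq_bot.mp hinj, LinearMap.range_eq_top.mp hsurj⟩
  have hker : LinearMap.ker ψ =
      (LinearMap.ker (sigma0 R n m)).comap (θe : _ →ₗ[Rn R n] _) := by
    ext g
    rw [Submodule.mem_comap, LinearMap.mem_ker, LinearMap.mem_ker]
    change ψ g = 0 ↔ sigma0 R n m (θ g) = 0
    rw [hθ']
  exact ⟨(LinearEquiv.ofEq _ _ hker) ≪≫ₗ θe.ofSubmodule' _⟩

end model

section reindex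

variable {R : Type*} [CommRing R] {n : ℕ}

/-- the involution `i ↦ n-2-i` of `Fin n` (for `i+1<n`), fixing `n-1` -/
def revIdx (n : ℕ) (i : Fin n) : Fin n :=
  if h : i.1 + 1 < n then ⟨n - 2 - i.1, by omega⟩ else i

theorem revIdx_val_of_lt {i : Fin n} (h : i.1 + 1 < n) : (revIdx n i).1 = n - 2 - i.1 := by
  rw [revIdx, dif_pos h]

theorem revIdx_of_not_lt {i : Fin n} (h : ¬ i.1 + 1 < n) : revIdx n i = i := by
  rw [revIdx, dif_neg h]

theorem revIdx_invol (n : ℕ) : Function.Involutive (revIdx n) := by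
  intro i
  by_cases h : i.1 + 1 < n
  · have h1 : (revIdx n i).1 = n - 2 - i.1 := revIdx_val_of_lt h
    have h2 : (revIdx n i).1 + 1 < n := by omega
    apply Fin.ext
    rw [revIdx_val_of_lt h2, h1]
    omega
  · rw [revIdx_of_not_lt h, revIdx_of_not_lt h]

theorem revType_revIdx_of_lt (m : Fin n → ℕ) {i : Fin n} (h : i.1 + 1 < n) :
    revType n m (revIdx n i) = m i := by
  have h1 : (revIdx n i).1 = n - 2 - i.1 := revIdx_val_of_lt h
  have h2 : (revIdx n i).1 + 1 < n := by omega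
  rw [revType, dif_pos h2]
  congr 1
  apply Fin.ext
  change n - 2 - (revIdx n i).1 = i.1
  omega

theorem revType_of_not_lt (m : Fin n → ℕ) {i : Fin n} (h : ¬ i.1 + 1 < n) :
    revType n m i = 0 := by
  rw [revType, dif_neg h]

theorem nonempty_funEquiv {a b c d : ℕ} (h1 : a = b) (h2 : c = d) (X : Type*) [AddCommGroup X]
    [Module (Rn R n) X] (e : X ≃ₗ[Rn R n] Oi R n c) :
    Nonempty ((Fin a → X) ≃ₗ[Rn R n] (Fin b → Oi R n d)) := by
  subst h1 h2
  exact ⟨LinearEquiv.piCongrRight fun _ => e⟩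

theorem nonempty_compEquiv (m : Fin n → ℕ) (i : Fin n) :
    Nonempty ((Fin (m i) → ↥(Ideal.span {z R n ^ (i.1 + 1)} : Ideal (Rn R n))) ≃ₗ[Rn R n]
      (Fin (revType n m (revIdx n i)) → Oi R n ((revIdx n i).1 + 1))) := by
  by_cases h : i.1 + 1 < n
  · obtain ⟨e⟩ := nonempty_spanEquiv (R := R) (n := n) (j := i.1 + 1) (by omega)
    have h1 : (revIdx n i).1 = n - 2 - i.1 := revIdx_val_of_lt h
    exact nonempty_funEquiv (revType_revIdx_of_lt m h).symm (by omega) _ e.symm
  · have hi : i.1 + 1 = n := by have := i.2; omega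
    have h0 : revType n m (revIdx n i) = 0 := by
      rw [revIdx_of_not_lt h]
      exact revType_of_not_lt m h
    have hE : IsEmpty (Fin (revType n m (revIdx n i))) := by
      rw [h0]
      infer_instance
    have hS : Subsingleton ↥(Ideal.span {z R n ^ (i.1 + 1)} : Ideal (Rn R n)) := by
      rw [hi, z_pow_eq_zero le_rfl]
      rw [Submodule.subsingleton_iff_eq_bot]
      exact Ideal.span_singleton_eq_bot.mpr rfl
    exact ⟨LinearEquiv.ofSubsingleton _ _⟩

theorem nonempty_prodEquiv (m : Fin n → ℕ) :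
    Nonempty (((i : Fin n) → Fin (m i) → ↥(Ideal.span {z R n ^ (i.1 + 1)} : Ideal (Rn R n)))
      ≃ₗ[Rn R n] QFModel R n (revType n m)) := by
  have h := fun i => nonempty_compEquiv (R := R) m i
  let e1 := LinearEquiv.piCongrRight (fun i => (h i).some)
  let e2 := LinearEquiv.piCongrLeft (Rn R n)
    (fun i' : Fin n => Fin (revType n m i') → Oi R n (i'.1 + 1)) (revIdx_invol n).toPerm
  exact ⟨e1 ≪≫ₗ e2 ≪≫ₗ (QFModel.equivPi R n (revType n m)).symm⟩

theorem isQuasiFreeOfType_ker_revType (m : Fin n → ℕ) (M : Type*) [AddCommGroup M]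
    [Module (Rn R n) M] (hM : IsQuasiFreeOfType R n M m) (r : ℕ)
    (φ : (Fin r → Rn R n) →ₗ[Rn R n] M) (hφ : Function.Surjective φ)
    (hφz : ∀ f : Fin r → Rn R n, φ f ∈ filt R n M 1 → f ∈ filt R n (Fin r → Rn R n) 1) :
    IsQuasiFreeOfType R n ↥(LinearMap.ker φ) (revType n m) := by
  obtain ⟨e⟩ := hM
  let e' : M ≃ₗ[Rn R n] ((i : Fin n) → Fin (m i) → Oi R n (i.1 + 1)) :=
    e ≪≫ₗ QFModel.equivPi R n m
  obtain ⟨ψ, hψdef⟩ : ∃ ψ : (Fin r → Rn R n) →ₗ[Rn R n]
      ((i : Fin n) → Fin (m i) → Oi R n (i.1 + 1)), ψ = (e' : M →ₗ[Rn R n] _) ∘ₗ φ := ⟨_, rfl⟩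
  have hker : LinearMap.ker ψ = LinearMap.ker φ := by
    rw [hψdef]
    exact LinearEquiv.ker_comp e' φ
  have hψ : Function.Surjective ψ := by
    rw [hψdef]
    exact e'.surjective.comp hφ
  have hz : ∀ g, ψ g = 0 → ∃ h : Fin r → Rn R n, g = z R n • h := by
    intro g hg
    have h0 : φ g = 0 := e'.injective (by
      rw [map_zero]
      rw [hψdef] at hg
      exact hg)
    have h1 := hφz g (by rw [h0]; exact Submodule.zero_mem _)
    obtain ⟨h, hh⟩ := mem_filt.1 h1
    exact ⟨h, by rw [← hh, pow_one]⟩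
  obtain ⟨E1⟩ := nonempty_ker_equiv m r ψ hψ hz
  obtain ⟨E2⟩ := nonempty_prodEquiv (R := R) m
  exact ⟨LinearEquiv.ofEq _ _ hker.symm ≪≫ₗ E1 ≪≫ₗ kerSigma0Equiv m ≪≫ₗ E2⟩

end reindex

end Groth.Agent.Lib.helper26.MC
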