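import Mathlib

open Finset

namespace Groth.Agent.Lib.helper26.NG

theorem val_prod (p : ℕ) [hp : Fact p.Prime] {ι : Type*} (s : Finset ι) (f : ι → ℕ)
    (hf : ∀ i ∈ s, f i ≠ 0) :
    padicValNat p (∏ i ∈ s, f i) = ∑ i ∈ s, padicValNat p (f i) := by
  classical
  induction s using Finset.induction_on with
  | empty => simp
  | insert a s ha ih =>
    rw [Finset.prod_insert ha, Finset.sum_insert ha, padicValNat.mul, ih]
    · intro i hi; exact hf i (Finset.mem_insert_of_mem hi)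
    · exact hf a (Finset.mem_insert_self a s)
    · exact Finset.prod_ne_zero_iff.mpr (fun i hi => hf i (Finset.mem_insert_of_mem hi))

theorem val_factorial (p : ℕ) [hp : Fact p.Prime] (g : ℕ) :
    padicValNat p g.factorial = ∑ a ∈ Icc 1 g, padicValNat p a := by
  induction g with
  | zero => simp
  | succ g ih =>
    rw [Nat.factorial_succ, padicValNat.mul (Nat.succ_ne_zero g) (Nat.factorial_ne_zero g), ih,
      Finset.sum_Icc_succ_top (by omega), add_comm]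

theorem factor_ne_zero {ℓ a : ℕ} (hℓ : 1 < ℓ) (ha : 1 ≤ a) : ℓ ^ (2 * a) - 1 ≠ 0 := by
  have : 1 < ℓ ^ (2 * a) := Nat.one_lt_pow (by omega) hℓ
  omega

/-- the 2-adic valuation of each factor -/
theorem val_two_factor {ℓ a : ℕ} (hℓ : 1 < ℓ) (hodd : ¬ 2 ∣ ℓ) (ha : 1 ≤ a) :
    padicValNat 2 (ℓ ^ (2 * a) - 1) = padicValNat 2 (ℓ + 1) + padicValNat 2 (ℓ - 1) + padicValNat 2 a := by
  have h := padicValNat.pow_two_sub_one hℓ hodd (n := 2 * a) (by omega) (even_two_mul a)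
  have h2 : padicValNat 2 (2 * a) = 1 + padicValNat 2 a := by
    rw [padicValNat.mul (by norm_num) (by omega)]
    simp
  omega

theorem val_two_prod {ℓ : ℕ} (hℓ : 1 < ℓ) (hodd : ¬ 2 ∣ ℓ) (g : ℕ) :
    padicValNat 2 (∏ a ∈ Icc 1 g, (ℓ ^ (2 * a) - 1)) =
      (padicValNat 2 (ℓ + 1) + padicValNat 2 (ℓ - 1)) * g + padicValNat 2 g.factorial := by
  rw [val_prod 2 _ _ (fun a ha => factor_ne_zero hℓ (Finset.mem_Icc.mp ha).1), val_factorial]
  rw [Finset.sum_congr rfl (fun a ha => val_two_factor hℓ hodd (Finset.mem_Icc.mp ha).1)]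
  rw [Finset.sum_add_distrib]
  simp [mul_comm]

theorem three_le_val {ℓ : ℕ} (hℓ : 1 < ℓ) (hodd : ¬ 2 ∣ ℓ) :
    3 ≤ padicValNat 2 (ℓ + 1) + padicValNat 2 (ℓ - 1) := by
  have h8 : 8 ∣ ℓ ^ 2 - 1 := Nat.eight_dvd_sq_sub_one_of_odd (by rw [Nat.odd_iff]; omega)
  have hfac : ℓ ^ 2 - 1 = (ℓ + 1) * (ℓ - 1) := by
    have := Nat.pow_two_sub_pow_two ℓ 1
    simpa using this
  rw [hfac] at h8
  have hne : (ℓ + 1) * (ℓ - 1) ≠ 0 := by
    apply mul_ne_zero <;> omega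
  have : (2 : ℕ) ^ 3 ∣ (ℓ + 1) * (ℓ - 1) := by simpa using h8
  rw [padicValNat_dvd_iff_le hne, padicValNat.mul (by omega) (by omega)] at this
  exact this

theorem val_eq_three {ℓ : ℕ} (h8 : ℓ % 8 = 3) :
    padicValNat 2 (ℓ + 1) + padicValNat 2 (ℓ - 1) = 3 := by
  obtain ⟨k, rfl⟩ : ∃ k, ℓ = 8 * k + 3 := ⟨ℓ / 8, by omega⟩
  have h1 : 8 * k + 3 + 1 = 2 ^ 2 * (2 * k + 1) := by ring
  have h2 : 8 * k + 3 - 1 = 2 ^ 1 * (4 * k + 1) := by omega
  rw [h1, h2, padicValNat.mul (by norm_num) (by omega), padicValNat.mul (by norm_num) (by omega),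
    padicValNat.prime_pow, padicValNat.prime_pow,
    padicValNat.eq_zero_of_not_dvd (by omega), padicValNat.eq_zero_of_not_dvd (by omega)]

section odd
variable {q : ℕ} [hq : Fact q.Prime]

theorem fermat_dvd {ℓ : ℕ} (hndvd : ¬ q ∣ ℓ) : q ∣ ℓ ^ (q - 1) - 1 := by
  have hcop : Nat.Coprime ℓ q := ((Nat.Prime.coprime_iff_not_dvd hq.out).mpr hndvd).symm
  have := Nat.ModEq.pow_totient hcop
  rw [Nat.totient_prime hq.out] at this
  have hpos : 1 ≤ ℓ ^ (q - 1) := Nat.one_le_pow _ _ (Nat.pos_of_ne_zero (by rintro rfl; simp at hndvd))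
  exact (Nat.modEq_iff_dvd' hpos).mp this.symm

/-- LTE -/
theorem val_pow_mul (hodd : Odd q) {ℓ : ℕ} (hℓ : 1 < ℓ) (hndvd : ¬ q ∣ ℓ) {i : ℕ} (hi : i ≠ 0) :
    padicValNat q (ℓ ^ ((q - 1) * i) - 1) = padicValNat q (ℓ ^ (q - 1) - 1) + padicValNat q i := by
  have hq1 : 0 < q - 1 := by have := hq.out.two_le; omega
  have hx : 1 < ℓ ^ (q - 1) := Nat.one_lt_pow (by omega) hℓ
  have := padicValNat.pow_sub_pow hodd hx (by simpa using fermat_dvd hndvd)
    (fun h => hndvd (hq.out.dvd_of_dvd_pow h)) hi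
  simpa [pow_mul] using this

theorem one_le_val_base {ℓ : ℕ} (hℓ : 1 < ℓ) (hndvd : ¬ q ∣ ℓ) :
    1 ≤ padicValNat q (ℓ ^ (q - 1) - 1) := by
  have hq1 : 0 < q - 1 := by have := hq.out.two_le; omega
  have hx : 1 < ℓ ^ (q - 1) := Nat.one_lt_pow (by omega) hℓ
  exact one_le_padicValNat_of_dvd (by omega) (fermat_dvd hndvd)

/-- property G -/
def Good (q ℓ : ℕ) : Prop := ∀ m : ℕ, q ^ 2 ∣ ℓ ^ m - 1 → q * (q - 1) ∣ m

theorem exists_good (hodd : Odd q) (B : ℕ) : ∃ ℓ, B < ℓ ∧ ℓ.Prime ∧ ¬ q ∣ ℓ ∧ Good q ℓ := by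
  have hq2 : q ≠ 2 := by rintro rfl; exact absurd hodd (by decide)
  have hcyc := ZMod.isCyclic_units_of_prime_pow q hq.out hq2 2
  obtain ⟨u, hu⟩ := isCyclic_iff_exists_orderOf_eq_natCard.mp hcyc
  rw [Nat.card_eq_fintype_card, ZMod.card_units_eq_totient,
    Nat.totient_prime_pow hq.out (by norm_num)] at hu
  have : NeZero (q ^ 2) := ⟨pow_ne_zero _ hq.out.ne_zero⟩
  obtain ⟨ℓ, hB, hprime, hmod⟩ :=
    Nat.forall_exists_prime_gt_and_eq_mod (q := q ^ 2) (a := (u : ZMod (q ^ 2))) u.isUnit B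
  refine ⟨ℓ, hB, hprime, ?_, ?_⟩
  · intro hdvd
    have h1 : IsUnit (ℓ : ZMod (q ^ 2)) := hmod ▸ u.isUnit
    rw [ZMod.isUnit_iff_coprime] at h1
    have h2 : Nat.Coprime ℓ q := Nat.Coprime.coprime_dvd_right (dvd_pow_self q two_ne_zero) h1
    exact (Nat.Prime.coprime_iff_not_dvd hq.out).mp h2.symm hdvd
  · intro m hm
    have h1 : ((ℓ : ZMod (q ^ 2))) ^ m = 1 := by
      have hpos : 1 ≤ ℓ ^ m := Nat.one_le_pow _ _ hprime.pos
      have h0 := (ZMod.natCast_eq_zero_iff (ℓ ^ m - 1) (q ^ 2)).mpr hm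
      rw [Nat.cast_sub hpos] at h0
      push_cast at h0
      exact sub_eq_zero.mp h0
    rw [hmod] at h1
    have h2 : u ^ m = 1 := Units.ext (by simpa using h1)
    have := orderOf_dvd_of_pow_eq_one h2
    rw [hu] at this
    simpa using this

theorem good_val_base (hodd : Odd q) {ℓ : ℕ} (hℓ : 1 < ℓ) (hndvd : ¬ q ∣ ℓ) (hG : Good q ℓ) :
    padicValNat q (ℓ ^ (q - 1) - 1) = 1 := by
  have hq1 : 0 < q - 1 := by have := hq.out.two_le; omega
  have hx : 1 < ℓ ^ (q - 1) := Nat.one_lt_pow (by omega) hℓ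
  apply le_antisymm _ (one_le_val_base hℓ hndvd)
  by_contra hlt
  push Not at hlt
  have h2 : q ^ 2 ∣ ℓ ^ (q - 1) - 1 := by
    rw [padicValNat_dvd_iff_le (by omega)]
    omega
  have h3 := Nat.le_of_dvd hq1 (hG _ h2)
  have : 2 * (q - 1) ≤ q * (q - 1) := Nat.mul_le_mul_right _ hq.out.two_le
  omega

theorem good_dvd (hodd : Odd q) {ℓ : ℕ} (hℓ : 1 < ℓ) (hndvd : ¬ q ∣ ℓ) (hG : Good q ℓ)
    {m : ℕ} (hm : 0 < m) (h : q ∣ ℓ ^ m - 1) : (q - 1) ∣ m := by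
  have hx : 1 < ℓ ^ m := Nat.one_lt_pow (by omega) hℓ
  have hlte := padicValNat.pow_sub_pow hodd hx (by simpa using h)
    (fun h' => hndvd (hq.out.dvd_of_dvd_pow h')) hq.out.ne_zero
  have h1 : 1 ≤ padicValNat q (ℓ ^ m - 1) := one_le_padicValNat_of_dvd (by omega) h
  have h2 : q ^ 2 ∣ ℓ ^ (m * q) - 1 := by
    have hx2 : 1 < ℓ ^ (m * q) := Nat.one_lt_pow (by have := hq.out.pos; positivity) hℓ
    rw [padicValNat_dvd_iff_le (by omega)]
    have : padicValNat q ((ℓ ^ m) ^ q - 1 ^ q) = padicValNat q (ℓ ^ (m * q) - 1) := by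
      rw [one_pow, pow_mul]
    rw [← this, hlte]
    simp only [Nat.sub_self, padicValNat_self] at *
    simp at hlte ⊢
    omega
  have h3 := hG _ h2
  rw [mul_comm m q] at h3
  exact Nat.dvd_of_mul_dvd_mul_left hq.out.pos h3

end odd
end Groth.Agent.Lib.helper26.NG

namespace Groth.Agent.Lib.helper26.NG

theorem sub_prod_dvd (ℓ g h : ℕ) (hh : 0 < h) :
    ∏ i ∈ Icc 1 (g / h), (ℓ ^ (2 * (h * i)) - 1) ∣ ∏ a ∈ Icc 1 g, (ℓ ^ (2 * a) - 1) := by
  have hinj : Set.InjOn (fun i => h * i) (Icc 1 (g / h) : Finset ℕ) := by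
    intro x _ y _ hxy
    exact Nat.eq_of_mul_eq_mul_left hh hxy
  have : ∏ i ∈ Icc 1 (g / h), (ℓ ^ (2 * (h * i)) - 1) =
      ∏ a ∈ (Icc 1 (g / h)).image (fun i => h * i), (ℓ ^ (2 * a) - 1) := by
    rw [Finset.prod_image hinj]
  rw [this]
  apply Finset.prod_dvd_prod_of_subset
  intro a ha
  rw [Finset.mem_image] at ha
  obtain ⟨i, hi, rfl⟩ := ha
  rw [Finset.mem_Icc] at hi ⊢
  constructor
  · exact Nat.one_le_iff_ne_zero.mpr (Nat.mul_ne_zero (by omega) (by omega))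
  · calc h * i ≤ h * (g / h) := Nat.mul_le_mul_left _ hi.2
      _ ≤ g := Nat.mul_div_le g h

theorem filter_eq_image (g h : ℕ) (hh : 0 < h) :
    (Icc 1 g).filter (fun a => h ∣ a) = (Icc 1 (g / h)).image (fun i => h * i) := by
  ext a
  simp only [Finset.mem_filter, Finset.mem_Icc, Finset.mem_image]
  constructor
  · rintro ⟨⟨h1, h2⟩, i, rfl⟩
    refine ⟨i, ⟨?_, ?_⟩, rfl⟩
    · rcases Nat.eq_zero_or_pos i with rfl | hi
      · simp at h1
      · exact hi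
    · calc i = h * i / h := (Nat.mul_div_cancel_left i hh).symm
        _ ≤ g / h := Nat.div_le_div_right h2
  · rintro ⟨i, ⟨h1, h2⟩, rfl⟩
    refine ⟨⟨Nat.one_le_iff_ne_zero.mpr (Nat.mul_ne_zero (by omega) (by omega)), ?_⟩, dvd_mul_right _ _⟩
    calc h * i ≤ h * (g / h) := Nat.mul_le_mul_left _ h2
      _ ≤ g := Nat.mul_div_le g h

section odd
variable {q : ℕ} [hq : Fact q.Prime]

/-- the exponent -/
def E (g p : ℕ) : ℕ := (2 * g) / (p - 1) + ∑ i ∈ Icc 1 ((2 * g) / (p - 1)), padicValNat p i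

theorem exists_half (hodd : Odd q) : ∃ h, 0 < h ∧ q - 1 = 2 * h := by
  obtain ⟨k, hk⟩ := hodd
  have := hq.out.two_le
  exact ⟨k, by omega, by omega⟩

theorem pow_E_dvd (hodd : Odd q) {ℓ : ℕ} (hℓ : 1 < ℓ) (hndvd : ¬ q ∣ ℓ) (g : ℕ) :
    q ^ E g q ∣ ∏ a ∈ Icc 1 g, (ℓ ^ (2 * a) - 1) := by
  obtain ⟨h, hh, hq1⟩ := exists_half hodd
  have ht : (2 * g) / (q - 1) = g / h := by rw [hq1, Nat.mul_div_mul_left _ _ (by norm_num)]
  refine dvd_trans ?_ (sub_prod_dvd ℓ g h hh)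
  have hE : q ^ E g q = ∏ i ∈ Icc 1 (g / h), q ^ (1 + padicValNat q i) := by
    rw [Finset.prod_pow_eq_pow_sum, E, ht, Finset.sum_add_distrib]
    simp
  rw [hE]
  apply Finset.prod_dvd_prod_of_dvd
  intro i hi
  rw [Finset.mem_Icc] at hi
  have hexp : 2 * (h * i) = (q - 1) * i := by rw [hq1]; ring
  rw [hexp]
  have hx : 1 < ℓ ^ ((q - 1) * i) :=
    Nat.one_lt_pow (Nat.mul_ne_zero (by omega) (by omega)) hℓ
  rw [padicValNat_dvd_iff_le (by omega), val_pow_mul hodd hℓ hndvd (by omega)]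
  have := one_le_val_base (q := q) hℓ hndvd
  omega

theorem good_val_prod (hodd : Odd q) {ℓ : ℕ} (hℓ : 1 < ℓ) (hndvd : ¬ q ∣ ℓ) (hG : Good q ℓ) (g : ℕ) :
    padicValNat q (∏ a ∈ Icc 1 g, (ℓ ^ (2 * a) - 1)) = E g q := by
  obtain ⟨h, hh, hq1⟩ := exists_half hodd
  have ht : (2 * g) / (q - 1) = g / h := by rw [hq1, Nat.mul_div_mul_left _ _ (by norm_num)]
  rw [val_prod q _ _ (fun a ha => factor_ne_zero hℓ (Finset.mem_Icc.mp ha).1)]
  have hfilter : ∑ a ∈ (Icc 1 g).filter (fun a => h ∣ a), padicValNat q (ℓ ^ (2 * a) - 1) =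
      ∑ a ∈ Icc 1 g, padicValNat q (ℓ ^ (2 * a) - 1) := by
    apply Finset.sum_filter_of_ne
    intro a ha hne
    rw [Finset.mem_Icc] at ha
    have hdvd : q ∣ ℓ ^ (2 * a) - 1 := by
      by_contra hnd
      exact hne (padicValNat.eq_zero_of_not_dvd hnd)
    have := good_dvd hodd hℓ hndvd hG (by omega : 0 < 2 * a) hdvd
    rw [hq1] at this
    exact Nat.dvd_of_mul_dvd_mul_left (by norm_num) this
  rw [← hfilter, filter_eq_image g h hh, Finset.sum_image (by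
    intro x _ y _ hxy
    exact Nat.eq_of_mul_eq_mul_left hh hxy)]
  rw [E, ht]
  have : ∀ i ∈ Icc 1 (g / h), padicValNat q (ℓ ^ (2 * (h * i)) - 1) = 1 + padicValNat q i := by
    intro i hi
    rw [Finset.mem_Icc] at hi
    have hexp : 2 * (h * i) = (q - 1) * i := by rw [hq1]; ring
    rw [hexp, val_pow_mul hodd hℓ hndvd (by omega), good_val_base hodd hℓ hndvd hG]
  rw [Finset.sum_congr rfl this, Finset.sum_add_distrib]
  simp

end odd

theorem two_pow_dvd {g ℓ : ℕ} (hℓ : ℓ.Prime) (hlt : 2 * g + 1 < ℓ) :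
    2 ^ (3 * g + padicValNat 2 g.factorial) ∣ ∏ a ∈ Icc 1 g, (ℓ ^ (2 * a) - 1) := by
  rcases Nat.eq_zero_or_pos g with rfl | hg
  · simp
  have hodd : ¬ 2 ∣ ℓ := by
    intro h
    have := (Nat.prime_dvd_prime_iff_eq Nat.prime_two hℓ).mp h
    omega
  have h1 : 1 < ℓ := hℓ.one_lt
  have hne : ∏ a ∈ Icc 1 g, (ℓ ^ (2 * a) - 1) ≠ 0 :=
    Finset.prod_ne_zero_iff.mpr (fun a ha => factor_ne_zero h1 (Finset.mem_Icc.mp ha).1)
  rw [padicValNat_dvd_iff_le hne, val_two_prod h1 hodd]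
  have := three_le_val h1 hodd
  have : 3 * g ≤ (padicValNat 2 (ℓ + 1) + padicValNat 2 (ℓ - 1)) * g := Nat.mul_le_mul_right _ this
  omega

theorem main (g B d : ℕ) (hB : 2 * g + 1 ≤ B) :
    (∀ ℓ : ℕ, ℓ.Prime → B < ℓ → d ∣ ∏ a ∈ Icc 1 g, (ℓ ^ (2 * a) - 1)) ↔
      d ∣ 2 ^ (3 * g + padicValNat 2 g.factorial) *
        ∏ p ∈ (Icc 3 (2 * g + 1)).filter Nat.Prime,
          p ^ ((2 * g) / (p - 1) + ∑ i ∈ Icc 1 ((2 * g) / (p - 1)), padicValNat p i) := by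
  change _ ↔ d ∣ 2 ^ (3 * g + padicValNat 2 g.factorial) *
        ∏ p ∈ (Icc 3 (2 * g + 1)).filter Nat.Prime, p ^ E g p
  constructor
  · intro H
    rw [Nat.dvd_iff_prime_pow_dvd_dvd]
    intro p k hp hpk
    have : Fact p.Prime := ⟨hp⟩
    rcases hp.eq_two_or_odd' with rfl | hodd
    · -- p = 2
      obtain ⟨ℓ, hBℓ, hℓ, hmod⟩ := Nat.forall_exists_prime_gt_and_modEq B (q := 8) (a := 3)
        (by norm_num) (by decide)
      have h8 : ℓ % 8 = 3 := hmod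
      have hodd : ¬ 2 ∣ ℓ := by omega
      have h1 : 1 < ℓ := hℓ.one_lt
      have hdvd := dvd_trans hpk (H ℓ hℓ hBℓ)
      have hne : ∏ a ∈ Icc 1 g, (ℓ ^ (2 * a) - 1) ≠ 0 :=
        Finset.prod_ne_zero_iff.mpr (fun a ha => factor_ne_zero h1 (Finset.mem_Icc.mp ha).1)
      rw [padicValNat_dvd_iff_le hne, val_two_prod h1 hodd, val_eq_three h8] at hdvd
      exact dvd_mul_of_dvd_left (pow_dvd_pow 2 hdvd) _
    · -- p odd
      obtain ⟨ℓ, hBℓ, hℓ, hndvd, hG⟩ := exists_good (q := p) hodd B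
      have h1 : 1 < ℓ := hℓ.one_lt
      have hdvd := dvd_trans hpk (H ℓ hℓ hBℓ)
      have hne : ∏ a ∈ Icc 1 g, (ℓ ^ (2 * a) - 1) ≠ 0 :=
        Finset.prod_ne_zero_iff.mpr (fun a ha => factor_ne_zero h1 (Finset.mem_Icc.mp ha).1)
      rw [padicValNat_dvd_iff_le hne, good_val_prod hodd h1 hndvd hG] at hdvd
      have hp3 : 3 ≤ p := by
        have := hp.two_le
        obtain ⟨j, hj⟩ := hodd
        omega
      by_cases hmem : p ≤ 2 * g + 1
      · have hpS : p ∈ (Icc 3 (2 * g + 1)).filter Nat.Prime := by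
          rw [Finset.mem_filter, Finset.mem_Icc]; exact ⟨⟨hp3, hmem⟩, hp⟩
        refine dvd_mul_of_dvd_right ?_ _
        exact dvd_trans (pow_dvd_pow p hdvd)
          (Finset.dvd_prod_of_mem (fun p => p ^ E g p) hpS)
      · have hE0 : E g p = 0 := by
          have : (2 * g) / (p - 1) = 0 := Nat.div_eq_of_lt (by omega)
          simp [E, this]
        have hk : k = 0 := by omega
        subst hk
        simp
  · intro H ℓ hℓ hBℓ
    refine dvd_trans H ?_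
    have h1 : 1 < ℓ := hℓ.one_lt
    apply Nat.Coprime.mul_dvd_of_dvd_of_dvd
    · apply Nat.Coprime.pow_left
      apply Nat.Coprime.prod_right
      intro p hp
      rw [Finset.mem_filter, Finset.mem_Icc] at hp
      apply Nat.Coprime.pow_right
      exact (Nat.coprime_primes Nat.prime_two hp.2).mpr (by omega)
    · exact two_pow_dvd hℓ (by omega)
    · apply Finset.prod_dvd_of_isRelPrime
      · intro p hp r hr hpr
        simp only [Finset.coe_filter, Finset.mem_Icc, Set.mem_ofPred_eq] at hp hr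
        rw [Function.onFun, ← Nat.coprime_iff_isRelPrime]
        exact Nat.Coprime.pow _ _ ((Nat.coprime_primes hp.2 hr.2).mpr hpr)
      · intro p hp
        rw [Finset.mem_filter, Finset.mem_Icc] at hp
        have : Fact p.Prime := ⟨hp.2⟩
        have hodd : Odd p := by
          rcases hp.2.eq_two_or_odd' with h2 | hodd
          · omega
          · exact hodd
        have hndvd : ¬ p ∣ ℓ := by
          intro h
          have := (Nat.prime_dvd_prime_iff_eq hp.2 hℓ).mp h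
          omega
        exact pow_E_dvd hodd h1 hndvd g

end Groth.Agent.Lib.helper26.NG
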