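import Mathlib
import Groth.Prelude.Def_Found
import Groth.Agent.Lib.helper26.N1CritB
import Groth.Agent.Lib.helper26.FinNagField

set_option autoImplicit false
universe u

namespace Groth.Agent.Lib.helper26.NagCrit

open Groth.Agent.Lib.helper26.N1Crit

/-- local N-1: a finite domain over a ring whose localizations at maximal ideals are Nagata has
N-1 local rings at maximal ideals. -/
theorem isN1_atPrime_of_nagata_local {A : Type u} [CommRing A] [IsNoetherianRing A]
    (h1 : ∀ (m : Ideal A) [m.IsMaximal], CAlg.IsNagata (Localization.AtPrime m))
    (B' K' : Type u) [CommRing B'] [IsDomain B'] [Field K'] [Algebra A B'] [Module.Finite A B']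
    [Algebra B' K'] [IsFractionRing B' K'] (n : Ideal B') [n.IsMaximal] :
    CAlg.IsN1 (Localization.AtPrime n) := by
  classical
  letI algAK' : Algebra A K' := ((algebraMap B' K').comp (algebraMap A B')).toAlgebra
  haveI : IsScalarTower A B' K' := IsScalarTower.of_algebraMap_eq (fun _ => rfl)
  haveI : Algebra.IsIntegral A B' := Algebra.IsIntegral.of_finite A B'
  haveI : IsNoetherianRing B' := IsNoetherianRing.of_finite A B'
  set m := n.comap (algebraMap A B') with hm
  haveI : m.IsMaximal := Ideal.isMaximal_comap_of_isIntegral_of_isMaximal n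
  have hNag := h1 m
  haveI : IsNoetherianRing (Localization.AtPrime n) :=
    IsLocalization.isNoetherianRing n.primeCompl _ inferInstance
  have hinjB' : Function.Injective (algebraMap B' K') := IsFractionRing.injective B' K'
  have hunitS : ∀ y : n.primeCompl, IsUnit (algebraMap B' K' y) := fun y =>
    IsUnit.mk0 _ (fun h0 => y.2 (by
      have := hinjB' (h0.trans (map_zero _).symm)
      rw [this]; exact n.zero_mem))
  letI algSK' : Algebra (Localization.AtPrime n) K' := (IsLocalization.lift hunitS).toAlgebra
  haveI : IsScalarTower B' (Localization.AtPrime n) K' :=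
    IsScalarTower.of_algebraMap_eq (fun x => (IsLocalization.lift_eq hunitS x).symm)
  haveI : IsFractionRing (Localization.AtPrime n) K' :=
    IsFractionRing.isFractionRing_of_isDomain_of_isLocalization n.primeCompl _ K'
  have hunitA : ∀ y : m.primeCompl, IsUnit (algebraMap A K' y) := fun y =>
    hunitS ⟨algebraMap A B' y, y.2⟩
  letI algAmK' : Algebra (Localization.AtPrime m) K' := (IsLocalization.lift hunitA).toAlgebra
  haveI : IsScalarTower A (Localization.AtPrime m) K' :=
    IsScalarTower.of_algebraMap_eq (fun x => (IsLocalization.lift_eq hunitA x).symm)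
  have hmn : m.primeCompl ≤ n.primeCompl.comap (algebraMap A B') := fun y hy => hy
  letI algAmS : Algebra (Localization.AtPrime m) (Localization.AtPrime n) :=
    (IsLocalization.map (Localization.AtPrime n) (algebraMap A B') hmn).toAlgebra
  haveI : IsScalarTower (Localization.AtPrime m) (Localization.AtPrime n) K' := by
    refine IsScalarTower.of_algebraMap_eq' ?_
    refine IsLocalization.ringHom_ext m.primeCompl ?_
    ext a
    show IsLocalization.lift hunitA (algebraMap A _ a) =
      IsLocalization.lift hunitS (IsLocalization.map (Localization.AtPrime n) (algebraMap A B') hmn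
        (algebraMap A _ a))
    rw [IsLocalization.lift_eq, IsLocalization.map_eq, IsLocalization.lift_eq]
    rfl
  -- generators
  obtain ⟨s0, hs0⟩ := (Module.Finite.fg_top : (⊤ : Submodule A B').FG)
  let t : Finset K' := s0.image (algebraMap B' K')
  have hB'mem : ∀ b : B', algebraMap B' K' b ∈
      Subfield.closure (Set.range (algebraMap (Localization.AtPrime m) K') ∪ (t : Set K')) := by
    intro b
    have hb : b ∈ Submodule.span A (s0 : Set B') := by rw [hs0]; trivial
    refine Submodule.span_induction (p := fun b _ => algebraMap B' K' b ∈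
      Subfield.closure (Set.range (algebraMap (Localization.AtPrime m) K') ∪ (t : Set K')))
      ?_ ?_ ?_ ?_ hb
    · intro x hx
      refine Subfield.subset_closure (Or.inr ?_)
      exact Finset.mem_coe.2 (Finset.mem_image.2 ⟨x, hx, rfl⟩)
    · rw [map_zero]; exact zero_mem _
    · intro x y _ _ hx hy
      rw [map_add]; exact add_mem hx hy
    · intro a x _ hx
      rw [Algebra.smul_def, map_mul]
      refine mul_mem (Subfield.subset_closure (Or.inl ⟨algebraMap A _ a, ?_⟩)) hx
      rw [← IsScalarTower.algebraMap_apply A (Localization.AtPrime m) K']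
      rfl
  have ht : ∀ e : K', e ∈
      Subfield.closure (Set.range (algebraMap (Localization.AtPrime m) K') ∪ (t : Set K')) := by
    intro e
    obtain ⟨b₁, b₂, -, rfl⟩ := IsFractionRing.div_surjective (A := B') e
    exact div_mem (hB'mem b₁) (hB'mem b₂)
  have hD : Module.Finite (Localization.AtPrime m)
      (integralClosure (Localization.AtPrime m) K') :=
    FinNag.finite_integralClosure_field (Localization.AtPrime m) hNag K' t ht
  obtain ⟨T, hTint, hT⟩ := exists_finset_span hD
  rw [isN1_iff (Localization.AtPrime n) K']
  refine finite_of_forall_mem_span T (fun x hx => ?_)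
  obtain ⟨u, hu⟩ := IsIntegral.exists_multiple_integral_of_isLocalization n.primeCompl x hx
  have hu' : IsIntegral A (u • x) := isIntegral_trans (A := B') _ hu
  have hu'' : IsIntegral (Localization.AtPrime m) (u • x) := hu'.tower_top
  have h1' := hT _ hu''
  have h2' : u • x ∈ Submodule.span (Localization.AtPrime n) (T : Set K') :=
    Submodule.span_le_restrictScalars (Localization.AtPrime m) (Localization.AtPrime n) _ h1'
  have hunit : IsUnit (algebraMap B' (Localization.AtPrime n) (u : B')) :=
    IsLocalization.map_units _ u
  obtain ⟨v, hv⟩ := hunit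
  have h3 : x = (↑v⁻¹ : Localization.AtPrime n) • (u • x) := by
    rw [Submonoid.smul_def, ← algebraMap_smul (Localization.AtPrime n) (u : B') x, ← hv,
      smul_smul, Units.inv_mul, one_smul]
  rw [h3]
  exact Submodule.smul_mem _ _ h2'

end Groth.Agent.Lib.helper26.NagCrit
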