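import Mathlib
import Groth.Prelude.Def_Found
import Groth.Agent.Lib.helper26.NagCritA
import Groth.Agent.Lib.helper26.PInsepN2
import Groth.Agent.Lib.helper26.NagLoc

set_option autoImplicit false
universe u

namespace Groth.Agent.Lib.helper26.NagCrit

open Groth.Agent.Lib.helper26.N1Crit

/-- N-1 criterion of S0571 (⇐). -/
theorem isN1_of_local (R : Type u) [CommRing R] [IsDomain R] [IsNoetherianRing R]
    (f : R) (hf : f ≠ 0) (hn : IsIntegrallyClosed (Localization.Away f))
    (hloc : ∀ (m : Ideal R) [m.IsMaximal], CAlg.IsN1 (Localization.AtPrime m)) : CAlg.IsN1 R :=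
  finite_of_local f hf (cover_of_isIntegrallyClosed f hf hn)
    (fun m _ => local_stab m f (cover_of_isIntegrallyClosed f hf hn) (hloc m))

section transfer
variable {D K' : Type*} [CommRing D] [Field K'] [Algebra D K'] (B' : Subalgebra D K')
  [Module.Finite D B']

/-- integral closures over `D` and over a finite subalgebra agree. -/
theorem finite_integralClosure_iff :
    Module.Finite D (integralClosure D K') ↔ Module.Finite D (integralClosure B' K') := by
  haveI : Algebra.IsIntegral D B' := Algebra.IsIntegral.of_finite D B'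
  let φ : integralClosure D K' →ₗ[D] integralClosure B' K' :=
    { toFun := fun z => ⟨z.1, z.2.tower_top⟩
      map_add' := fun _ _ => rfl
      map_smul' := fun a z => by
        apply Subtype.ext
        show a • (z : K') = a • (z : K')
        rfl }
  let φ' : integralClosure B' K' →ₗ[D] integralClosure D K' :=
    { toFun := fun z => ⟨z.1, isIntegral_trans (R := D) (A := B') z.1 z.2⟩
      map_add' := fun _ _ => rfl
      map_smul' := fun a z => by
        apply Subtype.ext
        show a • (z : K') = a • (z : K')
        rfl }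
  constructor
  · intro h
    refine Module.Finite.of_surjective φ ?_
    rintro ⟨z, hz⟩
    exact ⟨⟨z, isIntegral_trans (R := D) (A := B') z hz⟩, rfl⟩
  · intro h
    refine Module.Finite.of_surjective φ' ?_
    rintro ⟨z, hz⟩
    exact ⟨⟨z, hz.tower_top⟩, rfl⟩

end transfer

section choose
variable (D : Type u) [CommRing D] [IsDomain D] (K' : Type u) [Field K'] [Algebra D K']
  [Algebra (FractionRing D) K'] [IsScalarTower D (FractionRing D) K']
  [FiniteDimensional (FractionRing D) K']

/-- a finite subalgebra with the given fraction field. -/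
theorem exists_finite_subalgebra :
    ∃ B' : Subalgebra D K', Module.Finite D B' ∧ IsFractionRing B' K' := by
  classical
  obtain ⟨s, b, hb⟩ := FiniteDimensional.exists_is_basis_integral D (FractionRing D) K'
  let B' : Subalgebra D K' := Algebra.adjoin D (Set.range b)
  have hfg : (Subalgebra.toSubmodule B').FG :=
    fg_adjoin_of_finite (Set.finite_range b) (by rintro _ ⟨i, rfl⟩; exact hb i)
  refine ⟨B', Module.Finite.iff_fg.2 hfg, ?_⟩
  haveI : FaithfulSMul B' K' :=
    (faithfulSMul_iff_algebraMap_injective _ _).2 Subtype.val_injective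
  refine IsFractionRing.of_field B' K' (fun z => ?_)
  obtain ⟨d, hd⟩ := IsLocalization.exist_integer_multiples (nonZeroDivisors D) Finset.univ
    (fun i => b.repr z i)
  have hd0 : (d : D) ≠ 0 := nonZeroDivisors.ne_zero d.2
  choose a ha using fun i => hd i (Finset.mem_univ i)
  have hz : algebraMap D K' (d : D) * z = ∑ i, algebraMap D K' (a i) * b i := by
    conv_lhs => rw [← b.sum_repr z, Finset.mul_sum]
    refine Finset.sum_congr rfl (fun i _ => ?_)
    have h1 := ha i
    rw [Algebra.smul_def, IsScalarTower.algebraMap_apply D (FractionRing D) K',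
      IsScalarTower.algebraMap_apply D (FractionRing D) K' (a i), h1]
    rw [Algebra.smul_def (d : D) ((b.repr z) i), map_mul, mul_assoc]
  have hmem : algebraMap D K' (d : D) * z ∈ B' := by
    rw [hz]
    refine Subalgebra.sum_mem _ (fun i _ => ?_)
    exact Subalgebra.mul_mem _ (Subalgebra.algebraMap_mem _ _)
      (Algebra.subset_adjoin ⟨i, rfl⟩)
  have hdK : algebraMap D K' (d : D) ≠ 0 := by
    rw [IsScalarTower.algebraMap_apply D (FractionRing D) K']
    intro h0
    have h1 := (algebraMap (FractionRing D) K').injective (h0.trans (map_zero _).symm)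
    exact hd0 ((IsFractionRing.injective D (FractionRing D)) (h1.trans (map_zero _).symm))
  refine ⟨⟨_, hmem⟩, ⟨algebraMap D K' (d : D), Subalgebra.algebraMap_mem _ _⟩, ?_⟩
  show z = (algebraMap D K' (d : D) * z) / algebraMap D K' (d : D)
  field_simp

end choose

section main
variable (A : Type u) [CommRing A] [IsNoetherianRing A]

theorem forward (hA : CAlg.IsNagata A) :
    ((∀ (m : Ideal A) [m.IsMaximal] (P : Ideal (Localization.AtPrime m)) [P.IsPrime],
          CAlg.IsN2 (Localization.AtPrime m ⧸ P)) ∧
        ∀ (p : Ideal A) [p.IsPrime] (K' : Type u) [Field K'] [Algebra (A ⧸ p) K']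
          [Algebra (FractionRing (A ⧸ p)) K'] [IsScalarTower (A ⧸ p) (FractionRing (A ⧸ p)) K']
          [FiniteDimensional (FractionRing (A ⧸ p)) K']
          [IsPurelyInseparable (FractionRing (A ⧸ p)) K']
          (B' : Subalgebra (A ⧸ p) K'), Module.Finite (A ⧸ p) B' → IsFractionRing B' K' →
            ∃ f : B', f ≠ 0 ∧ IsIntegrallyClosed (Localization.Away f)) := by
  refine ⟨fun m _ P _ =>
    (NagLoc.isNagata_of_isLocalization A hA m.primeCompl (Localization.AtPrime m)).2 P, ?_⟩
  intro p _ K' _ _ _ _ _ _ B' hfin hfrac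
  haveI := hfin
  haveI := hfrac
  have hD : Module.Finite (A ⧸ p) (integralClosure (A ⧸ p) K') := hA.2 p K' inferInstance
  have h1 : Module.Finite (A ⧸ p) (integralClosure B' K') := (finite_integralClosure_iff B').1 hD
  haveI := h1
  have h2 : Module.Finite B' (integralClosure B' K') :=
    Module.Finite.of_restrictScalars_finite (A ⧸ p) B' _
  exact exists_isIntegrallyClosed_away ((isN1_iff B' K').2 h2)

theorem backward
    (h1 : ∀ (m : Ideal A) [m.IsMaximal] (P : Ideal (Localization.AtPrime m)) [P.IsPrime],
          CAlg.IsN2 (Localization.AtPrime m ⧸ P))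
    (h2 : ∀ (p : Ideal A) [p.IsPrime] (K' : Type u) [Field K'] [Algebra (A ⧸ p) K']
          [Algebra (FractionRing (A ⧸ p)) K'] [IsScalarTower (A ⧸ p) (FractionRing (A ⧸ p)) K']
          [FiniteDimensional (FractionRing (A ⧸ p)) K']
          [IsPurelyInseparable (FractionRing (A ⧸ p)) K']
          (B' : Subalgebra (A ⧸ p) K'), Module.Finite (A ⧸ p) B' → IsFractionRing B' K' →
            ∃ f : B', f ≠ 0 ∧ IsIntegrallyClosed (Localization.Away f)) :
    CAlg.IsNagata A := by
  refine ⟨inferInstance, fun p _ => ?_⟩
  have hNagloc : ∀ (m : Ideal A) [m.IsMaximal], CAlg.IsNagata (Localization.AtPrime m) :=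
    fun m _ => ⟨IsLocalization.isNoetherianRing m.primeCompl _ inferInstance,
      fun P _ => h1 m P⟩
  refine PInsepN2.isN2_of_purelyInseparable (A ⧸ p) ?_
  intro K' _ _ _ _ hfd hpi
  obtain ⟨B', hfin, hfrac⟩ := exists_finite_subalgebra (A ⧸ p) K'
  haveI := hfin
  haveI := hfrac
  obtain ⟨f, hf0, hfic⟩ := h2 p K' B' hfin hfrac
  letI algAB' : Algebra A B' := ((algebraMap (A ⧸ p) B').comp (Ideal.Quotient.mk p)).toAlgebra
  haveI : IsScalarTower A (A ⧸ p) B' := IsScalarTower.of_algebraMap_eq (fun _ => rfl)
  haveI : Module.Finite A B' := Module.Finite.trans (A ⧸ p) B'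
  haveI : IsNoetherianRing B' := IsNoetherianRing.of_finite A B'
  have hN1 : CAlg.IsN1 B' := isN1_of_local B' f hf0 hfic
    (fun n _ => isN1_atPrime_of_nagata_local hNagloc B' K' n)
  have h3 : Module.Finite B' (integralClosure B' K') := (isN1_iff B' K').1 hN1
  haveI := h3
  have h4 : Module.Finite (A ⧸ p) (integralClosure B' K') := Module.Finite.trans B' _
  exact (finite_integralClosure_iff B').2 h4

end main

end Groth.Agent.Lib.helper26.NagCrit
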