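import Mathlib
import Groth.Prelude.Def_Found
import Groth.Agent.Lib.helper26.FinNagField

set_option autoImplicit false
universe u

namespace Groth.Agent.Lib.helper26.NagSmooth

open TensorProduct

/-- an étale algebra over a domain is reduced -/
theorem isReduced_of_etale_domain (P T : Type u) [CommRing P] [IsDomain P] [CommRing T]
    [Algebra P T] [Algebra.Etale P T] : IsReduced T := by
  let F := FractionRing P
  haveI : IsReduced (F ⊗[P] T) := Algebra.FormallyUnramified.isReduced_of_field F (F ⊗[P] T)
  have hinj : Function.Injective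
      (Algebra.TensorProduct.includeRight : T →ₐ[P] F ⊗[P] T) :=
    Algebra.TensorProduct.includeRight_injective (IsFractionRing.injective P F)
  exact isReduced_of_injective (Algebra.TensorProduct.includeRight : T →ₐ[P] F ⊗[P] T) hinj

/-- a smooth algebra over a field is reduced -/
theorem isReduced_of_smooth_field (L T : Type u) [Field L] [CommRing T] [Algebra L T]
    [Algebra.Smooth L T] : IsReduced T := by
  constructor
  intro x hx
  by_contra hx0
  let I : Ideal T := (Submodule.span T {x}).annihilator
  have hI : ∀ r : T, r ∈ I ↔ r * x = 0 := fun r => by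
    rw [Submodule.mem_annihilator_span_singleton, smul_eq_mul]
  have hne : I ≠ ⊤ := by
    intro h
    have : (1 : T) ∈ I := h ▸ Submodule.mem_top
    rw [hI, one_mul] at this
    exact hx0 this
  obtain ⟨m, hm, hIm⟩ := Ideal.exists_le_maximal I hne
  haveI : m.IsPrime := hm.isPrime
  obtain ⟨f, hfm, n, _, _, _⟩ :=
    Algebra.IsSmoothAt.exists_isStandardEtale_mvPolynomial (R := L) (p := m)
  haveI : IsReduced (Localization.Away f) :=
    isReduced_of_etale_domain (MvPolynomial (Fin n) L) (Localization.Away f)
  have h1 : IsNilpotent (algebraMap T (Localization.Away f) x) := hx.map _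
  have h2 : algebraMap T (Localization.Away f) x = 0 := h1.eq_zero
  rw [IsLocalization.map_eq_zero_iff (Submonoid.powers f)] at h2
  obtain ⟨⟨_, k, rfl⟩, hk⟩ := h2
  have h3 : f ^ k ∈ I := (hI _).2 hk
  exact hfm (hm.isPrime.mem_of_pow_mem k (hIm h3))

/-- Core finiteness: a reduced Noetherian algebra `T` over a Nagata ring `S` whose residue
fields at minimal primes are finitely generated fields over `S` has finite integral closure. -/
theorem finite_integralClosure_core (S : Type u) [CommRing S] (hS : CAlg.IsNagata S)
    (T : Type u) [CommRing T] [Algebra S T] [IsReduced T] [IsNoetherianRing T]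
    (hgen : ∀ (P : Ideal T) [P.IsPrime], P ∈ minimalPrimes T →
      ∃ t : Finset (FractionRing (T ⧸ P)), ∀ e : FractionRing (T ⧸ P),
        e ∈ Subfield.closure (Set.range (algebraMap S (FractionRing (T ⧸ P))) ∪ (t : Set _))) :
    Module.Finite S (integralClosure S T) := by
  haveI := hS.1
  haveI : Finite (minimalPrimes T) := minimalPrimes.finite_of_isNoetherianRing T
  haveI hprime : ∀ q : minimalPrimes T, q.1.IsPrime := fun q => Ideal.minimalPrimes_isPrime q.2
  refine FinNag.finite_integralClosure_of_pi (J := minimalPrimes T)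
    (fun q => FractionRing (T ⧸ q.1))
    (fun q => (IsScalarTower.toAlgHom S (T ⧸ q.1) (FractionRing (T ⧸ q.1))).comp
      (Ideal.Quotient.mkₐ S q.1)) ?_ ?_
  · intro t ht
    have h1 : t ∈ sInf (minimalPrimes T) := by
      rw [Submodule.mem_sInf]
      intro (q : Ideal T) hq
      have h2 := ht ⟨q, hq⟩
      have h3 : algebraMap (T ⧸ q) (FractionRing (T ⧸ q)) (Ideal.Quotient.mk q t) = 0 := h2
      haveI : q.IsPrime := Ideal.minimalPrimes_isPrime hq
      have h4 := (IsFractionRing.injective (T ⧸ q) (FractionRing (T ⧸ q)))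
        (h3.trans (map_zero _).symm)
      exact Ideal.Quotient.eq_zero_iff_mem.1 h4
    rw [minimalPrimes, Ideal.sInf_minimalPrimes] at h1
    have h2 : t ∈ nilradical T := h1
    rw [nilradical_eq_zero] at h2
    exact h2
  · intro q
    obtain ⟨t, ht⟩ := hgen q.1 q.2
    exact FinNag.finite_integralClosure_field S hS (FractionRing (T ⧸ q.1)) t ht

/-- descent of finiteness of the integral closure along a smooth faithfully flat map to a Nagata
ring, for a finitely generated field over the base. -/
theorem finite_integralClosure_descent (R S : Type u) [CommRing R] [CommRing S] [Algebra R S]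
    [Algebra.Smooth R S] [Module.FaithfullyFlat R S] (hS : CAlg.IsNagata S)
    (L : Type u) [Field L] [Algebra R L] (s : Finset L)
    (hs : ∀ l : L, l ∈ Subfield.closure (Set.range (algebraMap R L) ∪ (s : Set L))) :
    Module.Finite R (integralClosure R L) := by
  classical
  let e : S ⊗[R] L ≃ₐ[R] L ⊗[R] S := Algebra.TensorProduct.comm R S L
  haveI : Algebra.Smooth L (L ⊗[R] S) := inferInstance
  haveI : IsReduced (L ⊗[R] S) := isReduced_of_smooth_field L _
  haveI : IsNoetherianRing (L ⊗[R] S) := Algebra.FiniteType.isNoetherianRing L _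
  haveI : IsReduced (S ⊗[R] L) := isReduced_of_injective e.toRingEquiv.toRingHom e.injective
  haveI : IsNoetherianRing (S ⊗[R] L) :=
    isNoetherianRing_of_ringEquiv (L ⊗[R] S) e.symm.toRingEquiv
  have hcore : Module.Finite S (integralClosure S (S ⊗[R] L)) := by
    refine finite_integralClosure_core S hS (S ⊗[R] L) ?_
    intro P hP hPmin
    let ρ : S ⊗[R] L →+* FractionRing ((S ⊗[R] L) ⧸ P) :=
      (algebraMap ((S ⊗[R] L) ⧸ P) (FractionRing ((S ⊗[R] L) ⧸ P))).comp (Ideal.Quotient.mk P)
    let σ : L →+* FractionRing ((S ⊗[R] L) ⧸ P) :=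
      ρ.comp (Algebra.TensorProduct.includeRight : L →ₐ[R] S ⊗[R] L).toRingHom
    refine ⟨s.image σ, ?_⟩
    set C := Subfield.closure (Set.range (algebraMap S (FractionRing ((S ⊗[R] L) ⧸ P))) ∪
      ((s.image σ : Finset (FractionRing ((S ⊗[R] L) ⧸ P))) : Set _)) with hC
    have hSC : ∀ a : S, algebraMap S (FractionRing ((S ⊗[R] L) ⧸ P)) a ∈ C :=
      fun a => Subfield.subset_closure (Or.inl ⟨a, rfl⟩)
    have hρS : ∀ a : S, ρ (a ⊗ₜ 1) = algebraMap S (FractionRing ((S ⊗[R] L) ⧸ P)) a := by
      intro a
      rfl
    have hσL : ∀ l : L, σ l ∈ C := by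
      have hle : Subfield.closure (Set.range (algebraMap R L) ∪ (s : Set L)) ≤ C.comap σ := by
        rw [Subfield.closure_le]
        rintro l (⟨r, rfl⟩ | hl)
        · show σ (algebraMap R L r) ∈ C
          have h1 : σ (algebraMap R L r) = ρ ((algebraMap R S r) ⊗ₜ 1) := by
            show ρ ((1 : S) ⊗ₜ[R] (algebraMap R L r)) = ρ ((algebraMap R S r) ⊗ₜ 1)
            congr 1
            rw [Algebra.algebraMap_eq_smul_one, Algebra.algebraMap_eq_smul_one,
              TensorProduct.smul_tmul]
          rw [h1, hρS]
          exact hSC _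
        · show σ l ∈ C
          exact Subfield.subset_closure (Or.inr (by
            rw [Finset.coe_image]; exact ⟨l, hl, rfl⟩))
      intro l
      exact hle (hs l)
    have hT : ∀ t : S ⊗[R] L, ρ t ∈ C := by
      intro t
      induction t with
      | zero => rw [map_zero]; exact C.zero_mem
      | add x y hx hy => rw [map_add]; exact C.add_mem hx hy
      | tmul a l =>
        have h1 : a ⊗ₜ[R] l = (a ⊗ₜ[R] (1 : L)) * ((1 : S) ⊗ₜ[R] l) := by
          rw [Algebra.TensorProduct.tmul_mul_tmul, mul_one, one_mul]
        rw [h1, map_mul, hρS]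
        exact C.mul_mem (hSC a) (hσL l)
    intro x
    obtain ⟨a, b, hb, rfl⟩ := IsFractionRing.div_surjective (A := (S ⊗[R] L) ⧸ P) x
    obtain ⟨a, rfl⟩ := Ideal.Quotient.mk_surjective a
    obtain ⟨b, rfl⟩ := Ideal.Quotient.mk_surjective b
    exact C.div_mem (hT a) (hT b)
  have hbij := TensorProduct.toIntegralClosure_bijective_of_smooth (R := R) (S := S) (B := L)
  let φ := LinearEquiv.ofBijective (TensorProduct.toIntegralClosure R S L).toLinearMap hbij
  haveI : Module.Finite S (S ⊗[R] integralClosure R L) := Module.Finite.equiv φ.symm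
  exact Module.Finite.of_finite_tensorProduct_of_faithfullyFlat S

/-- The Nagata property descends along smooth ring maps surjective on spectra. -/
theorem isNagata_of_smooth (R S : Type u) [CommRing R] [CommRing S] [Algebra R S]
    [Algebra.Smooth R S]
    (hs : Function.Surjective (PrimeSpectrum.comap (algebraMap R S))) (hS : CAlg.IsNagata S) :
    CAlg.IsNagata R := by
  haveI : Module.FaithfullyFlat R S := Module.FaithfullyFlat.of_comap_surjective hs
  haveI := hS.1
  refine ⟨?_, ?_⟩
  · rw [isNoetherianRing_iff_ideal_fg]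
    intro I
    exact Ideal.FG.of_FG_map_of_faithfullyFlat (S := S) (IsNoetherian.noetherian _)
  · intro p hp L _ _ _ _ hfd
    letI algRL : Algebra R L := ((algebraMap (R ⧸ p) L).comp (Ideal.Quotient.mk p)).toAlgebra
    haveI : IsScalarTower R (R ⧸ p) L := IsScalarTower.of_algebraMap_eq (fun r => rfl)
    obtain ⟨s, hs'⟩ := (Module.Finite.fg_top (R := FractionRing (R ⧸ p)) (M := L))
    have hgen : ∀ l : L, l ∈ Subfield.closure (Set.range (algebraMap R L) ∪ (s : Set L)) := by
      set C := Subfield.closure (Set.range (algebraMap R L) ∪ (s : Set L)) with hC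
      have hR : ∀ a : R ⧸ p, algebraMap (R ⧸ p) L a ∈ C := by
        intro a
        obtain ⟨r, rfl⟩ := Ideal.Quotient.mk_surjective a
        exact Subfield.subset_closure (Or.inl ⟨r, rfl⟩)
      have hK : ∀ k : FractionRing (R ⧸ p), algebraMap (FractionRing (R ⧸ p)) L k ∈ C := by
        intro k
        obtain ⟨a, b, hb, rfl⟩ := IsFractionRing.div_surjective (A := R ⧸ p) k
        rw [map_div₀, ← IsScalarTower.algebraMap_apply, ← IsScalarTower.algebraMap_apply]
        exact C.div_mem (hR a) (hR b)
      intro l
      have hl : l ∈ Submodule.span (FractionRing (R ⧸ p)) (s : Set L) := by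
        rw [hs']; exact Submodule.mem_top
      induction hl using Submodule.span_induction with
      | mem x hx => exact Subfield.subset_closure (Or.inr hx)
      | zero => exact C.zero_mem
      | add x y _ _ hx hy => exact C.add_mem hx hy
      | smul k x _ hx =>
        rw [Algebra.smul_def]
        exact C.mul_mem (hK k) hx
    have h1 := finite_integralClosure_descent R S hS L s hgen
    have hfg : (integralClosure R L).toSubmodule.FG := Module.Finite.iff_fg.1 h1
    obtain ⟨g, hg⟩ := hfg
    haveI : Algebra.IsIntegral R (R ⧸ p) :=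
      Algebra.isIntegral_of_surjective Ideal.Quotient.mk_surjective
    show Module.Finite (R ⧸ p) (integralClosure (R ⧸ p) L)
    refine (Module.Finite.iff_fg (N := (integralClosure (R ⧸ p) L).toSubmodule)).2 ⟨g, ?_⟩
    apply le_antisymm
    · rw [Submodule.span_le]
      intro x hx
      have hx' : x ∈ (integralClosure R L).toSubmodule := hg ▸ Submodule.subset_span hx
      have hx'' : IsIntegral R x := hx'
      exact hx''.tower_top
    · intro x hx
      have hx' : IsIntegral (R ⧸ p) x := hx
      have hx'' : IsIntegral R x := isIntegral_trans x hx'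
      have h2 : x ∈ Submodule.span R (g : Set L) := by
        rw [hg]; exact hx''
      exact Submodule.span_le_restrictScalars R (R ⧸ p) (g : Set L) h2

end Groth.Agent.Lib.helper26.NagSmooth
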