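import Mathlib
import Groth.Prelude.Def_Found
import Groth.Agent.Lib.helper26.NagSmooth

set_option autoImplicit false
universe u

namespace Groth.Agent.Lib.helper26.NagFlat

open TensorProduct Groth.Agent.Lib.helper26.NagSmooth

/-- residue fields of `S ⊗[R] L` are finitely generated fields over `S` when `L` is a finitely
generated field over `R`. -/
theorem hgen_tensor (R S : Type u) [CommRing R] [CommRing S] [Algebra R S]
    (L : Type u) [Field L] [Algebra R L] (s : Finset L)
    (hs : ∀ l : L, l ∈ Subfield.closure (Set.range (algebraMap R L) ∪ (s : Set L)))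
    (P : Ideal (S ⊗[R] L)) [P.IsPrime] :
    ∃ t : Finset (FractionRing ((S ⊗[R] L) ⧸ P)), ∀ e : FractionRing ((S ⊗[R] L) ⧸ P),
      e ∈ Subfield.closure (Set.range (algebraMap S (FractionRing ((S ⊗[R] L) ⧸ P))) ∪
        (t : Set _)) := by
  classical
  let ρ : S ⊗[R] L →+* FractionRing ((S ⊗[R] L) ⧸ P) :=
    (algebraMap ((S ⊗[R] L) ⧸ P) (FractionRing ((S ⊗[R] L) ⧸ P))).comp (Ideal.Quotient.mk P)
  let σ : L →+* FractionRing ((S ⊗[R] L) ⧸ P) :=
    ρ.comp (Algebra.TensorProduct.includeRight : L →ₐ[R] S ⊗[R] L).toRingHom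
  refine ⟨s.image σ, ?_⟩
  set C := Subfield.closure (Set.range (algebraMap S (FractionRing ((S ⊗[R] L) ⧸ P))) ∪
    ((s.image σ : Finset (FractionRing ((S ⊗[R] L) ⧸ P))) : Set _)) with hC
  have hSC : ∀ a : S, algebraMap S (FractionRing ((S ⊗[R] L) ⧸ P)) a ∈ C :=
    fun a => Subfield.subset_closure (Or.inl ⟨a, rfl⟩)
  have hρS : ∀ a : S, ρ (a ⊗ₜ 1) = algebraMap S (FractionRing ((S ⊗[R] L) ⧸ P)) a := by
    intro a
    rfl
  have hσL : ∀ l : L, σ l ∈ C := by
    have hle : Subfield.closure (Set.range (algebraMap R L) ∪ (s : Set L)) ≤ C.comap σ := by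
      rw [Subfield.closure_le]
      rintro l (⟨r, rfl⟩ | hl)
      · show σ (algebraMap R L r) ∈ C
        have h1 : σ (algebraMap R L r) = ρ ((algebraMap R S r) ⊗ₜ 1) := by
          show ρ ((1 : S) ⊗ₜ[R] (algebraMap R L r)) = ρ ((algebraMap R S r) ⊗ₜ 1)
          congr 1
          rw [Algebra.algebraMap_eq_smul_one, Algebra.algebraMap_eq_smul_one,
            TensorProduct.smul_tmul]
        rw [h1, hρS]
        exact hSC _
      · show σ l ∈ C
        exact Subfield.subset_closure (Or.inr (by
          rw [Finset.coe_image]; exact ⟨l, hl, rfl⟩))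
    intro l
    exact hle (hs l)
  have hT : ∀ t : S ⊗[R] L, ρ t ∈ C := by
    intro t
    induction t with
    | zero => rw [map_zero]; exact C.zero_mem
    | add x y hx hy => rw [map_add]; exact C.add_mem hx hy
    | tmul a l =>
      have h1 : a ⊗ₜ[R] l = (a ⊗ₜ[R] (1 : L)) * ((1 : S) ⊗ₜ[R] l) := by
        rw [Algebra.TensorProduct.tmul_mul_tmul, mul_one, one_mul]
      rw [h1, map_mul, hρS]
      exact C.mul_mem (hSC a) (hσL l)
  intro x
  obtain ⟨a, b, hb, rfl⟩ := IsFractionRing.div_surjective (A := (S ⊗[R] L) ⧸ P) x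
  obtain ⟨a, rfl⟩ := Ideal.Quotient.mk_surjective a
  obtain ⟨b, rfl⟩ := Ideal.Quotient.mk_surjective b
  exact C.div_mem (hT a) (hT b)

/-- descent of finiteness of the integral closure along a faithfully flat map to a Nagata ring,
for a finitely generated field `L` over the base with `S ⊗ L` reduced and Noetherian. -/
theorem finite_integralClosure_descent_flat (R S : Type u) [CommRing R] [CommRing S]
    [Algebra R S] [Module.FaithfullyFlat R S] (hS : CAlg.IsNagata S)
    (L : Type u) [Field L] [Algebra R L] (s : Finset L)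
    (hs : ∀ l : L, l ∈ Subfield.closure (Set.range (algebraMap R L) ∪ (s : Set L)))
    [IsReduced (S ⊗[R] L)] [IsNoetherianRing (S ⊗[R] L)] :
    Module.Finite R (integralClosure R L) := by
  haveI := hS.1
  have hcore : Module.Finite S (integralClosure S (S ⊗[R] L)) :=
    finite_integralClosure_core S hS (S ⊗[R] L) (fun P _ _ => hgen_tensor R S L s hs P)
  have hinj := TensorProduct.toIntegralClosure_injective_of_flat (R := R) (S := S) (B := L)
  haveI : Module.Finite S (S ⊗[R] integralClosure R L) :=
    Module.Finite.of_injective (TensorProduct.toIntegralClosure R S L).toLinearMap hinj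
  exact Module.Finite.of_finite_tensorProduct_of_faithfullyFlat S

/-- reduction of `IsN2 (R ⧸ p)` to finiteness over `R`. -/
theorem isN2_quotient_of_finite (R : Type u) [CommRing R] (p : Ideal R) [p.IsPrime]
    (h : ∀ (L : Type u) [Field L] [Algebra R L] [Algebra (R ⧸ p) L] [IsScalarTower R (R ⧸ p) L]
      [Algebra (FractionRing (R ⧸ p)) L] [IsScalarTower (R ⧸ p) (FractionRing (R ⧸ p)) L]
      [FiniteDimensional (FractionRing (R ⧸ p)) L] (s : Finset L),
      (∀ l : L, l ∈ Subfield.closure (Set.range (algebraMap R L) ∪ (s : Set L))) →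
        Module.Finite R (integralClosure R L)) : CAlg.IsN2 (R ⧸ p) := by
  intro L _ _ _ _ hfd
  letI algRL : Algebra R L := ((algebraMap (R ⧸ p) L).comp (Ideal.Quotient.mk p)).toAlgebra
  haveI : IsScalarTower R (R ⧸ p) L := IsScalarTower.of_algebraMap_eq (fun r => rfl)
  obtain ⟨s, hs'⟩ := (Module.Finite.fg_top (R := FractionRing (R ⧸ p)) (M := L))
  have hgen : ∀ l : L, l ∈ Subfield.closure (Set.range (algebraMap R L) ∪ (s : Set L)) := by
    set C := Subfield.closure (Set.range (algebraMap R L) ∪ (s : Set L)) with hC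
    have hR : ∀ a : R ⧸ p, algebraMap (R ⧸ p) L a ∈ C := by
      intro a
      obtain ⟨r, rfl⟩ := Ideal.Quotient.mk_surjective a
      exact Subfield.subset_closure (Or.inl ⟨r, rfl⟩)
    have hK : ∀ k : FractionRing (R ⧸ p), algebraMap (FractionRing (R ⧸ p)) L k ∈ C := by
      intro k
      obtain ⟨a, b, hb, rfl⟩ := IsFractionRing.div_surjective (A := R ⧸ p) k
      rw [map_div₀, ← IsScalarTower.algebraMap_apply, ← IsScalarTower.algebraMap_apply]
      exact C.div_mem (hR a) (hR b)
    intro l
    have hl : l ∈ Submodule.span (FractionRing (R ⧸ p)) (s : Set L) := by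
      rw [hs']; exact Submodule.mem_top
    induction hl using Submodule.span_induction with
    | mem x hx => exact Subfield.subset_closure (Or.inr hx)
    | zero => exact C.zero_mem
    | add x y _ _ hx hy => exact C.add_mem hx hy
    | smul k x _ hx =>
      rw [Algebra.smul_def]
      exact C.mul_mem (hK k) hx
  have h1 := h L s hgen
  have hfg : (integralClosure R L).toSubmodule.FG := Module.Finite.iff_fg.1 h1
  obtain ⟨g, hg⟩ := hfg
  haveI : Algebra.IsIntegral R (R ⧸ p) :=
    Algebra.isIntegral_of_surjective Ideal.Quotient.mk_surjective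
  show Module.Finite (R ⧸ p) (integralClosure (R ⧸ p) L)
  refine (Module.Finite.iff_fg (N := (integralClosure (R ⧸ p) L).toSubmodule)).2 ⟨g, ?_⟩
  apply le_antisymm
  · rw [Submodule.span_le]
    intro x hx
    have hx' : x ∈ (integralClosure R L).toSubmodule := hg ▸ Submodule.subset_span hx
    have hx'' : IsIntegral R x := hx'
    exact hx''.tower_top
  · intro x hx
    have hx' : IsIntegral (R ⧸ p) x := hx
    have hx'' : IsIntegral R x := isIntegral_trans x hx'
    have h2 : x ∈ Submodule.span R (g : Set L) := by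
      rw [hg]; exact hx''
    exact Submodule.span_le_restrictScalars R (R ⧸ p) (g : Set L) h2

end Groth.Agent.Lib.helper26.NagFlat
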