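import Mathlib
import Groth.Prelude.Def_Found
import Groth.Agent.Lib.helper26.NagFlat
import Groth.Agent.Lib.helper14.SepGenReduced

set_option autoImplicit false
universe u

namespace Groth.Agent.Lib.helper26.NagDvr

open TensorProduct Groth.Agent.Lib.helper26.NagFlat

/-- a field is N-2 -/
theorem isN2_of_isField (k : Type u) [CommRing k] [IsDomain k] (hk : IsField k) : CAlg.IsN2 k := by
  intro L _ _ _ _ hfd
  have hsurj : Function.Surjective (algebraMap k (FractionRing k)) :=
    IsFractionRing.surjective_iff_isField.2 hk
  haveI : Module.Finite k (FractionRing k) :=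
    Module.Finite.of_surjective (Algebra.linearMap k (FractionRing k)) hsurj
  haveI : Module.Finite k L := Module.Finite.trans (FractionRing k) L
  letI := hk.toField
  haveI : IsNoetherian k L := inferInstance
  exact Module.Finite.of_injective (integralClosure k L).val.toLinearMap Subtype.val_injective

/-- `B ⊗[A] L'` is finite over `B ⊗[A] K` when `L'` is finite over `K`. -/
theorem isNoetherianRing_tensor (A B K L' : Type u) [CommRing A] [CommRing B] [Algebra A B]
    [IsNoetherianRing B] [IsDomain A]
    [Field K] [Algebra A K] [IsFractionRing A K] [Field L'] [Algebra A L'] [Algebra K L']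
    [IsScalarTower A K L'] [FiniteDimensional K L'] : IsNoetherianRing (B ⊗[A] L') := by
  classical
  haveI : IsNoetherianRing (B ⊗[A] K) :=
    IsLocalization.isNoetherianRing (Algebra.algebraMapSubmonoid B (nonZeroDivisors A))
      (B ⊗[A] K) inferInstance
  let φ : B ⊗[A] K →ₐ[A] B ⊗[A] L' :=
    Algebra.TensorProduct.map (AlgHom.id A B) (IsScalarTower.toAlgHom A K L')
  letI algBKT : Algebra (B ⊗[A] K) (B ⊗[A] L') := φ.toRingHom.toAlgebra
  have hsmul : ∀ (x : B ⊗[A] K) (t : B ⊗[A] L'), x • t = φ x * t := fun x t => rfl
  obtain ⟨s, hs⟩ := Module.Finite.fg_top (R := K) (M := L')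
  haveI : Module.Finite (B ⊗[A] K) (B ⊗[A] L') := by
    refine ⟨⟨s.image (fun l => (1 : B) ⊗ₜ[A] l), ?_⟩⟩
    rw [eq_top_iff]
    rintro t -
    induction t with
    | zero => exact Submodule.zero_mem _
    | add x y hx hy => exact Submodule.add_mem _ hx hy
    | tmul b l =>
      have hl : l ∈ Submodule.span K (s : Set L') := by rw [hs]; exact Submodule.mem_top
      induction hl using Submodule.span_induction with
      | mem x hx =>
        have h1 : b ⊗ₜ[A] x = (b ⊗ₜ[A] (1 : K)) • ((1 : B) ⊗ₜ[A] x) := by
          rw [hsmul]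
          show _ = (b ⊗ₜ[A] (algebraMap K L' 1)) * ((1 : B) ⊗ₜ[A] x)
          rw [Algebra.TensorProduct.tmul_mul_tmul, mul_one, map_one, one_mul]
        rw [h1]
        refine Submodule.smul_mem _ _ (Submodule.subset_span ?_)
        rw [Finset.coe_image]
        exact ⟨x, hx, rfl⟩
      | zero => rw [TensorProduct.tmul_zero]; exact Submodule.zero_mem _
      | add x y _ _ hx hy => rw [TensorProduct.tmul_add]; exact Submodule.add_mem _ hx hy
      | smul k x _ hx =>
        have h1 : b ⊗ₜ[A] (k • x) = ((1 : B) ⊗ₜ[A] k) • (b ⊗ₜ[A] x) := by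
          rw [hsmul]
          show _ = ((1 : B) ⊗ₜ[A] (algebraMap K L' k)) * (b ⊗ₜ[A] x)
          rw [Algebra.TensorProduct.tmul_mul_tmul, one_mul, Algebra.smul_def]
        rw [h1]
        exact Submodule.smul_mem _ _ hx
  exact IsNoetherianRing.of_finite (B ⊗[A] K) (B ⊗[A] L')

/-- `B ⊗[A] L'` is reduced when `Frac B` is separable over `Frac A`. -/
theorem isReduced_tensor (A B K L L' : Type u) [CommRing A] [IsDomain A] [CommRing B] [IsDomain B]
    [Algebra A B] [Field K] [Field L] [Algebra A K] [IsFractionRing A K] [Algebra B L]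
    [IsFractionRing B L] [Algebra K L] [Algebra A L] [IsScalarTower A K L] [IsScalarTower A B L]
    [Algebra.IsSeparable K L] [Field L'] [Algebra A L'] [Algebra K L'] [IsScalarTower A K L'] :
    IsReduced (B ⊗[A] L') := by
  haveI : Module.Flat A K := IsLocalization.flat K (nonZeroDivisors A)
  haveI : Module.Flat A L' := Module.Flat.trans A K L'
  haveI h1 : IsReduced (L' ⊗[K] L) := H14.SG.isReduced_tensor_of_isSeparable K L' L
  haveI h2 : IsReduced (L ⊗[K] L') :=
    isReduced_of_injective (Algebra.TensorProduct.comm K L L').toRingEquiv.toRingHom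
      (Algebra.TensorProduct.comm K L L').injective
  let e := IsLocalization.algebraTensorEquiv (nonZeroDivisors A) K L L'
  haveI h3 : IsReduced (L ⊗[A] L') :=
    isReduced_of_injective e.symm.toRingEquiv.toRingHom e.symm.injective
  let ι : B ⊗[A] L' →ₐ[A] L ⊗[A] L' :=
    Algebra.TensorProduct.map (IsScalarTower.toAlgHom A B L) (AlgHom.id A L')
  have hι : Function.Injective ι :=
    Module.Flat.rTensor_preserves_injective_linearMap (M := L')
      (IsScalarTower.toAlgHom A B L).toLinearMap (IsFractionRing.injective B L)
  exact isReduced_of_injective ι hι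

/-- Let `A → B` be an extension of discrete valuation rings with separable fraction field
extension. If `B` is Nagata then so is `A`. -/
theorem isNagata_of_dvr_separable (A B K L : Type u) [CommRing A] [IsDomain A]
    [IsDiscreteValuationRing A] [CommRing B] [IsDomain B] [IsDiscreteValuationRing B]
    [Algebra A B] [IsLocalHom (algebraMap A B)]
    (hinj : Function.Injective (algebraMap A B))
    [Field K] [Field L] [Algebra A K] [IsFractionRing A K] [Algebra B L] [IsFractionRing B L]
    [Algebra K L] [Algebra A L] [IsScalarTower A K L] [IsScalarTower A B L]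
    [Algebra.IsSeparable K L] (hB : CAlg.IsNagata B) :
    CAlg.IsNagata A := by
  refine ⟨inferInstance, ?_⟩
  intro p hp
  by_cases hp0 : p = ⊥
  · subst hp0
    apply isN2_quotient_of_finite
    intro L' _ _ _ _ _ _ hfd s hs
    haveI : FaithfulSMul A B := (faithfulSMul_iff_algebraMap_injective A B).2 hinj
    haveI : Module.Flat A B := inferInstance
    haveI : Module.FaithfullyFlat A B := Module.FaithfullyFlat.of_flat_of_isLocalHom
    -- the `K`-algebra structure on `L'`
    have hq : Function.Injective (algebraMap (A ⧸ (⊥ : Ideal A)) L') := by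
      rw [IsScalarTower.algebraMap_eq (A ⧸ (⊥ : Ideal A))
        (FractionRing (A ⧸ (⊥ : Ideal A))) L']
      exact (algebraMap (FractionRing (A ⧸ (⊥ : Ideal A))) L').injective.comp
        (IsFractionRing.injective _ _)
    have hAL' : Function.Injective (algebraMap A L') := by
      rw [IsScalarTower.algebraMap_eq A (A ⧸ (⊥ : Ideal A)) L']
      refine hq.comp ?_
      show Function.Injective (Ideal.Quotient.mk (⊥ : Ideal A))
      rw [RingHom.injective_iff_ker_eq_bot, Ideal.mk_ker]
    letI algKL' : Algebra K L' := (IsFractionRing.lift hAL').toAlgebra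
    haveI : IsScalarTower A K L' :=
      IsScalarTower.of_algebraMap_eq (fun a => (IsFractionRing.lift_algebraMap hAL' a).symm)
    haveI : FiniteDimensional K L' := by
      obtain ⟨g, hg⟩ := Module.Finite.fg_top (R := FractionRing (A ⧸ (⊥ : Ideal A))) (M := L')
      refine ⟨⟨g, ?_⟩⟩
      rw [eq_top_iff]
      rintro x -
      have hx : x ∈ Submodule.span (FractionRing (A ⧸ (⊥ : Ideal A))) (g : Set L') := by
        rw [hg]; exact Submodule.mem_top
      induction hx using Submodule.span_induction with
      | mem y hy => exact Submodule.subset_span hy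
      | zero => exact Submodule.zero_mem _
      | add y z _ _ hy hz => exact Submodule.add_mem _ hy hz
      | smul k y _ hy =>
        obtain ⟨a, b, hb, rfl⟩ := IsFractionRing.div_surjective (A := A ⧸ (⊥ : Ideal A)) k
        obtain ⟨a', rfl⟩ := Ideal.Quotient.mk_surjective a
        obtain ⟨b', rfl⟩ := Ideal.Quotient.mk_surjective b
        have h1 : (algebraMap (A ⧸ (⊥ : Ideal A)) (FractionRing (A ⧸ (⊥ : Ideal A)))
            (Ideal.Quotient.mk ⊥ a') /
            algebraMap (A ⧸ (⊥ : Ideal A)) (FractionRing (A ⧸ (⊥ : Ideal A)))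
            (Ideal.Quotient.mk ⊥ b')) • y = (algebraMap A K a' / algebraMap A K b') • y := by
          rw [Algebra.smul_def, Algebra.smul_def, map_div₀, map_div₀,
            ← IsScalarTower.algebraMap_apply (A ⧸ (⊥ : Ideal A)) _ L',
            ← IsScalarTower.algebraMap_apply (A ⧸ (⊥ : Ideal A)) _ L',
            ← IsScalarTower.algebraMap_apply A K L', ← IsScalarTower.algebraMap_apply A K L',
            IsScalarTower.algebraMap_apply A (A ⧸ (⊥ : Ideal A)) L' a',
            IsScalarTower.algebraMap_apply A (A ⧸ (⊥ : Ideal A)) L' b']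
          rfl
        rw [h1]
        exact Submodule.smul_mem _ _ hy
    haveI := hB.1
    haveI : IsReduced (B ⊗[A] L') := isReduced_tensor A B K L L'
    haveI : IsNoetherianRing (B ⊗[A] L') := isNoetherianRing_tensor A B K L'
    exact finite_integralClosure_descent_flat A B hB L' s hs
  · haveI : p.IsMaximal := hp.isMaximal hp0
    exact isN2_of_isField (A ⧸ p)
      ((Ideal.Quotient.maximal_ideal_iff_isField_quotient p).1 inferInstance)

end Groth.Agent.Lib.helper26.NagDvr
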