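import Mathlib

set_option autoImplicit false
universe u

namespace Groth.Agent.Lib.helper26.NodeIso

open MvPowerSeries IsLocalRing

variable {A : Type u} [CommRing A]

/-- exponent `(i,j)`. -/
noncomputable def e (i j : ℕ) : Fin 2 →₀ ℕ := Finsupp.single 0 i + Finsupp.single 1 j

@[simp] lemma e_zero (i j : ℕ) : e i j 0 = i := by simp [e]
@[simp] lemma e_one (i j : ℕ) : e i j 1 = j := by simp [e]

lemma eq_e_iff (n : Fin 2 →₀ ℕ) (i j : ℕ) : n = e i j ↔ n 0 = i ∧ n 1 = j := by
  constructor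
  · rintro rfl; simp
  · rintro ⟨h0, h1⟩
    ext x
    fin_cases x <;> simp [h0, h1]

lemma e_eta (n : Fin 2 →₀ ℕ) : e (n 0) (n 1) = n := ((eq_e_iff _ _ _).2 ⟨rfl, rfl⟩).symm

lemma e_add (i j i' j' : ℕ) : e i j + e i' j' = e (i + i') (j + j') := by
  rw [eq_e_iff]; simp

lemma e_zero_zero : e 0 0 = 0 := by
  rw [eq_comm, eq_e_iff]; simp

lemma coeff_e_mul (f g : MvPowerSeries (Fin 2) A) (i j : ℕ) :
    coeff (e i j) (f * g) = ∑ p ∈ Finset.HasAntidiagonal.antidiagonal i, ∑ q ∈ Finset.HasAntidiagonal.antidiagonal j,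
      coeff (e p.1 q.1) f * coeff (e p.2 q.2) g := by
  rw [MvPowerSeries.coeff_mul, ← Finset.sum_product']
  refine Finset.sum_nbij' (fun p => ((p.1 0, p.2 0), (p.1 1, p.2 1)))
    (fun q => (e q.1.1 q.2.1, e q.1.2 q.2.2)) ?_ ?_ ?_ ?_ ?_
  · intro p hp
    rw [Finset.HasAntidiagonal.mem_antidiagonal] at hp
    simp only [Finset.mem_product, Finset.HasAntidiagonal.mem_antidiagonal]
    constructor
    · have := DFunLike.congr_fun hp 0
      simpa using this
    · have := DFunLike.congr_fun hp 1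
      simpa using this
  · intro q hq
    simp only [Finset.mem_product, Finset.HasAntidiagonal.mem_antidiagonal] at hq
    rw [Finset.HasAntidiagonal.mem_antidiagonal, e_add, hq.1, hq.2]
  · intro p _
    simp [e_eta]
  · intro q _
    simp
  · intro p _
    simp [e_eta]


section formulas
variable (f g : MvPowerSeries (Fin 2) A)

lemma mul00 : coeff (e 0 0) (f * g) = coeff (e 0 0) f * coeff (e 0 0) g := by
  rw [coeff_e_mul]; simp

lemma mul10 : coeff (e 1 0) (f * g) =
    coeff (e 0 0) f * coeff (e 1 0) g + coeff (e 1 0) f * coeff (e 0 0) g := by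
  rw [coeff_e_mul]; simp [Finset.Nat.antidiagonal_succ]

lemma mul01 : coeff (e 0 1) (f * g) =
    coeff (e 0 0) f * coeff (e 0 1) g + coeff (e 0 1) f * coeff (e 0 0) g := by
  rw [coeff_e_mul]; simp [Finset.Nat.antidiagonal_succ]

lemma mul20 : coeff (e 2 0) (f * g) =
    coeff (e 0 0) f * coeff (e 2 0) g + coeff (e 1 0) f * coeff (e 1 0) g
      + coeff (e 2 0) f * coeff (e 0 0) g := by
  rw [coeff_e_mul]; simp [Finset.Nat.antidiagonal_succ]; ring

lemma mul02 : coeff (e 0 2) (f * g) =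
    coeff (e 0 0) f * coeff (e 0 2) g + coeff (e 0 1) f * coeff (e 0 1) g
      + coeff (e 0 2) f * coeff (e 0 0) g := by
  rw [coeff_e_mul]; simp [Finset.Nat.antidiagonal_succ]; ring

lemma mul11 : coeff (e 1 1) (f * g) =
    coeff (e 0 0) f * coeff (e 1 1) g + coeff (e 1 0) f * coeff (e 0 1) g
      + coeff (e 0 1) f * coeff (e 1 0) g + coeff (e 1 1) f * coeff (e 0 0) g := by
  rw [coeff_e_mul]; simp [Finset.Nat.antidiagonal_succ]; ring

lemma mul21 : coeff (e 2 1) (f * g) =
    coeff (e 0 0) f * coeff (e 2 1) g + coeff (e 1 0) f * coeff (e 1 1) g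
      + coeff (e 2 0) f * coeff (e 0 1) g + coeff (e 0 1) f * coeff (e 2 0) g
      + coeff (e 1 1) f * coeff (e 1 0) g + coeff (e 2 1) f * coeff (e 0 0) g := by
  rw [coeff_e_mul]; simp [Finset.Nat.antidiagonal_succ]; ring

lemma mul12 : coeff (e 1 2) (f * g) =
    coeff (e 0 0) f * coeff (e 1 2) g + coeff (e 0 1) f * coeff (e 1 1) g
      + coeff (e 0 2) f * coeff (e 1 0) g + coeff (e 1 0) f * coeff (e 0 2) g
      + coeff (e 1 1) f * coeff (e 0 1) g + coeff (e 1 2) f * coeff (e 0 0) g := by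
  rw [coeff_e_mul]; simp [Finset.Nat.antidiagonal_succ]; ring

end formulas


lemma e_eq_e_iff (i j i' j' : ℕ) : e i j = e i' j' ↔ i = i' ∧ j = j' := by
  rw [eq_e_iff]; simp

lemma X0X1 : (X 0 * X 1 : MvPowerSeries (Fin 2) A) = monomial (e 1 1) 1 := by
  simp [X_def, monomial_mul_monomial, e]

lemma coeff_X0 (i j : ℕ) :
    coeff (e i j) (X 0 : MvPowerSeries (Fin 2) A) = if i = 1 ∧ j = 0 then 1 else 0 := by
  have : (Finsupp.single 0 1 : Fin 2 →₀ ℕ) = e 1 0 := by simp [e]
  rw [X_def, this, coeff_monomial]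
  simp only [e_eq_e_iff]

lemma coeff_X1 (i j : ℕ) :
    coeff (e i j) (X 1 : MvPowerSeries (Fin 2) A) = if i = 0 ∧ j = 1 then 1 else 0 := by
  have : (Finsupp.single 1 1 : Fin 2 →₀ ℕ) = e 0 1 := by simp [e]
  rw [X_def, this, coeff_monomial]
  simp only [e_eq_e_iff]

lemma coeff_C' (a : A) (i j : ℕ) :
    coeff (e i j) (C a : MvPowerSeries (Fin 2) A) = if i = 0 ∧ j = 0 then a else 0 := by
  rw [coeff_C, ← e_zero_zero]
  simp only [e_eq_e_iff]

lemma coeff_q (α : A) (i j : ℕ) :
    coeff (e i j) (X 0 * X 1 - C α : MvPowerSeries (Fin 2) A) =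
      (if i = 1 ∧ j = 1 then 1 else 0) - (if i = 0 ∧ j = 0 then α else 0) := by
  rw [map_sub, coeff_C', X0X1, coeff_monomial]
  simp only [e_eq_e_iff]

section qformulas
variable (α : A) (S : MvPowerSeries (Fin 2) A)

lemma q00 : coeff (e 0 0) ((X 0 * X 1 - C α) * S) = -(α * coeff (e 0 0) S) := by
  rw [mul00]; simp [coeff_q]
lemma q10 : coeff (e 1 0) ((X 0 * X 1 - C α) * S) = -(α * coeff (e 1 0) S) := by
  rw [mul10]; simp [coeff_q]
lemma q01 : coeff (e 0 1) ((X 0 * X 1 - C α) * S) = -(α * coeff (e 0 1) S) := by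
  rw [mul01]; simp [coeff_q]
lemma q20 : coeff (e 2 0) ((X 0 * X 1 - C α) * S) = -(α * coeff (e 2 0) S) := by
  rw [mul20]; simp [coeff_q]
lemma q02 : coeff (e 0 2) ((X 0 * X 1 - C α) * S) = -(α * coeff (e 0 2) S) := by
  rw [mul02]; simp [coeff_q]
lemma q11 : coeff (e 1 1) ((X 0 * X 1 - C α) * S) = coeff (e 0 0) S - α * coeff (e 1 1) S := by
  rw [mul11]; simp [coeff_q]; ring
lemma q21 : coeff (e 2 1) ((X 0 * X 1 - C α) * S) = coeff (e 1 0) S - α * coeff (e 2 1) S := by
  rw [mul21]; simp [coeff_q]; ring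
lemma q12 : coeff (e 1 2) ((X 0 * X 1 - C α) * S) = coeff (e 0 1) S - α * coeff (e 1 2) S := by
  rw [mul12]; simp [coeff_q]; ring

end qformulas


lemma CX0 (a : A) : (C a * X 0 : MvPowerSeries (Fin 2) A) = monomial (e 1 0) a := by
  have : (Finsupp.single 0 1 : Fin 2 →₀ ℕ) = e 1 0 := by simp [e]
  rw [X_def, this, ← monomial_zero_eq_C_apply, monomial_mul_monomial]; simp

lemma CX1 (a : A) : (C a * X 1 : MvPowerSeries (Fin 2) A) = monomial (e 0 1) a := by
  have : (Finsupp.single 1 1 : Fin 2 →₀ ℕ) = e 0 1 := by simp [e]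
  rw [X_def, this, ← monomial_zero_eq_C_apply, monomial_mul_monomial]; simp

lemma X0X1C (a : A) : (X 0 * X 1 * C a : MvPowerSeries (Fin 2) A) = monomial (e 1 1) a := by
  rw [X0X1, ← monomial_zero_eq_C_apply, monomial_mul_monomial]; simp

lemma decomp (H : MvPowerSeries (Fin 2) A) : ∃ U V W : MvPowerSeries (Fin 2) A,
    H = C (coeff (e 0 0) H) + C (coeff (e 1 0) H) * X 0 + C (coeff (e 0 1) H) * X 1
        + X 0 ^ 2 * U + X 0 * X 1 * V + X 1 ^ 2 * W := by
  set g₁ : MvPowerSeries (Fin 2) A := fun n => if 2 ≤ n 0 then coeff n H else 0 with hg₁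
  set g₂ : MvPowerSeries (Fin 2) A := fun n => if n 0 < 2 ∧ 2 ≤ n 1 then coeff n H else 0 with hg₂
  have h1 : (X 0 : MvPowerSeries (Fin 2) A) ^ 2 ∣ g₁ := by
    rw [X_pow_dvd_iff]
    intro m hm
    change (if 2 ≤ m 0 then coeff m H else 0) = 0
    rw [if_neg (by omega)]
  have h2 : (X 1 : MvPowerSeries (Fin 2) A) ^ 2 ∣ g₂ := by
    rw [X_pow_dvd_iff]
    intro m hm
    change (if m 0 < 2 ∧ 2 ≤ m 1 then coeff m H else 0) = 0
    rw [if_neg (by omega)]
  obtain ⟨U, hU⟩ := h1
  obtain ⟨W, hW⟩ := h2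
  refine ⟨U, C (coeff (e 1 1) H), W, ?_⟩
  rw [← hU, ← hW, CX0, CX1, X0X1C]
  ext n
  rw [← e_eta n]
  generalize n 0 = i
  generalize n 1 = j
  simp only [map_add, coeff_C', coeff_monomial, e_eq_e_iff]
  have e1 : coeff (e i j) g₁ = if 2 ≤ i then coeff (e i j) H else 0 := by
    change (if 2 ≤ (e i j) 0 then coeff (e i j) H else 0) = _
    simp
  have e2 : coeff (e i j) g₂ = if i < 2 ∧ 2 ≤ j then coeff (e i j) H else 0 := by
    change (if (e i j) 0 < 2 ∧ 2 ≤ (e i j) 1 then coeff (e i j) H else 0) = _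
    simp
  rw [e1, e2]
  obtain _ | _ | i := i <;> obtain _ | _ | j := j <;> simp


lemma mk_eq_mk_iff (α : A) (f g : MvPowerSeries (Fin 2) A) :
    Ideal.Quotient.mk (Ideal.span {(X 0 * X 1 - C α : MvPowerSeries (Fin 2) A)}) f =
      Ideal.Quotient.mk _ g ↔ ∃ S, f - g = (X 0 * X 1 - C α) * S := by
  rw [Ideal.Quotient.eq, Ideal.mem_span_singleton']
  constructor
  · rintro ⟨a, ha⟩; exact ⟨a, by rw [← ha, mul_comm]⟩
  · rintro ⟨a, ha⟩; exact ⟨a, by rw [ha, mul_comm]⟩

variable [IsLocalRing A]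

/-- the main computation. -/
lemma main_comp (α β : A) (hα : α ∈ maximalIdeal A) (F G S : MvPowerSeries (Fin 2) A)
    (hS : F * G - C β = (X 0 * X 1 - C α) * S)
    (hF00 : coeff (e 0 0) F ∈ maximalIdeal A) (hG00 : coeff (e 0 0) G ∈ maximalIdeal A)
    (hF01 : coeff (e 0 1) F ∈ maximalIdeal A) (hG10 : coeff (e 1 0) G ∈ maximalIdeal A)
    (hF10 : IsUnit (coeff (e 1 0) F)) (hG01 : IsUnit (coeff (e 0 1) G)) :
    α ∈ Ideal.span {β} ⊔ maximalIdeal A * Ideal.span {α} := by
  set I : Ideal A := Ideal.span {β} ⊔ maximalIdeal A * Ideal.span {α} with hI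
  set π := Ideal.Quotient.mk I with hπ
  have hβ0 : π β = 0 :=
    Ideal.Quotient.eq_zero_iff_mem.2 (Ideal.mem_sup_left (Ideal.mem_span_singleton_self β))
  have hαm : ∀ t ∈ maximalIdeal A, π α * π t = 0 := by
    intro t ht
    rw [← map_mul]
    refine Ideal.Quotient.eq_zero_iff_mem.2 (Ideal.mem_sup_right ?_)
    have := Ideal.mul_mem_mul ht (Ideal.mem_span_singleton_self α)
    rwa [mul_comm t α] at this
  -- coefficient identities
  have k00 := congrArg (coeff (e 0 0)) hS
  have k11 := congrArg (coeff (e 1 1)) hS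
  have k10 := congrArg (coeff (e 1 0)) hS
  have k21 := congrArg (coeff (e 2 1)) hS
  have k01 := congrArg (coeff (e 0 1)) hS
  have k12 := congrArg (coeff (e 1 2)) hS
  rw [map_sub, mul00, q00, coeff_C'] at k00
  rw [map_sub, mul11, q11, coeff_C'] at k11
  rw [map_sub, mul10, q10, coeff_C'] at k10
  rw [map_sub, mul21, q21, coeff_C'] at k21
  rw [map_sub, mul01, q01, coeff_C'] at k01
  rw [map_sub, mul12, q12, coeff_C'] at k12
  simp only [and_self, if_true, one_ne_zero, and_false, false_and, if_false, sub_zero,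
    OfNat.ofNat_ne_zero, OfNat.ofNat_ne_one] at k00 k11 k10 k21 k01 k12
  replace k00 := congrArg π k00
  replace k11 := congrArg π k11
  replace k10 := congrArg π k10
  replace k21 := congrArg π k21
  replace k01 := congrArg π k01
  replace k12 := congrArg π k12
  simp only [map_sub, map_add, map_mul, map_neg] at k00 k11 k10 k21 k01 k12
  obtain ⟨u', hu'⟩ := hF10.exists_right_inv
  obtain ⟨v', hv'⟩ := hG01.exists_right_inv
  have hw : IsUnit (1 - v' * u' * coeff (e 0 1) F * coeff (e 1 0) G) := by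
    apply IsLocalRing.isUnit_one_sub_self_of_mem_nonunits
    rw [← IsLocalRing.mem_maximalIdeal]
    exact Ideal.mul_mem_left _ _ hG10
  obtain ⟨w', hw'⟩ := hw.exists_right_inv
  replace hu' := congrArg π hu'
  replace hv' := congrArg π hv'
  replace hw' := congrArg π hw'
  simp only [map_sub, map_add, map_mul, map_one] at hu' hv' hw'
  have za := hαm _ hF00
  have zb := hαm _ hG00
  have zm1 := hαm _ hF01
  have zm2 := hαm _ hG10
  have zal := hαm _ hα
  -- abbreviations
  suffices h : π α = 0 from Ideal.Quotient.eq_zero_iff_mem.1 h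
  generalize π α = al at *
  generalize π (coeff (e 0 0) F) = a at *
  generalize π (coeff (e 0 0) G) = b at *
  generalize π (coeff (e 1 0) F) = u at *
  generalize π (coeff (e 0 1) G) = v at *
  generalize π (coeff (e 0 1) F) = m1 at *
  generalize π (coeff (e 1 0) G) = m2 at *
  generalize π (coeff (e 1 1) F) = f11 at *
  generalize π (coeff (e 1 1) G) = g11 at *
  generalize π (coeff (e 2 0) F) = f20 at *
  generalize π (coeff (e 2 0) G) = g20 at *
  generalize π (coeff (e 0 2) F) = f02 at *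
  generalize π (coeff (e 0 2) G) = g02 at *
  generalize π (coeff (e 2 1) F) = f21 at *
  generalize π (coeff (e 2 1) G) = g21 at *
  generalize π (coeff (e 1 2) F) = f12 at *
  generalize π (coeff (e 1 2) G) = g12 at *
  generalize π (coeff (e 0 0) S) = s00 at *
  generalize π (coeff (e 1 0) S) = s10 at *
  generalize π (coeff (e 0 1) S) = s01 at *
  generalize π (coeff (e 1 1) S) = s11 at *
  generalize π (coeff (e 2 1) S) = s21 at *
  generalize π (coeff (e 1 2) S) = s12 at *
  generalize π u' = pu at *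
  generalize π v' = pv at *
  generalize π w' = pw at *
  have E0 : a * b + al * u * v = 0 := by
    linear_combination k00 + al * k11 + hβ0 - g11 * za - m2 * zm1 - f11 * zb - s11 * zal
  have E1 : a * m2 + u * b + al * (u * g11 + f20 * v) = 0 := by
    linear_combination k10 + al * k21 - g21 * za - g20 * zm1 - f11 * zm2 - f21 * zb - s21 * zal
  have E2 : a * v + m1 * b + al * (u * g02 + f11 * v) = 0 := by
    linear_combination k01 + al * k12 - g12 * za - g11 * zm1 - f02 * zm2 - f12 * zb - s12 * zal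
  have hb : b = -(pu * (a * m2 + al * (u * g11 + f20 * v))) := by
    linear_combination pu * E1 - b * hu'
  have ha : a = -(pv * (m1 * b + al * (u * g02 + f11 * v))) := by
    linear_combination pv * E2 - a * hv'
  have ha2 : a * (1 - pv * pu * m1 * m2) = -(pv * al * (u * g02 + f11 * v)) := by
    linear_combination ha - pv * m1 * hb + pv * pu * (u * g11 + f20 * v) * zm1
  have ha3 : a = -(pw * pv * al * (u * g02 + f11 * v)) := by
    linear_combination pw * ha2 - a * hw'
  have hab : a * b = 0 := by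
    linear_combination b * ha3 - pw * pv * (u * g02 + f11 * v) * zb
  have hauv : al * u * v = 0 := by
    linear_combination E0 - hab
  linear_combination pu * pv * hauv - al * v * pv * hu' - al * hv'


lemma coeff00_one : coeff (e 0 0) (1 : MvPowerSeries (Fin 2) A) = 1 := by
  rw [← map_one (C : A →+* MvPowerSeries (Fin 2) A), coeff_C']; simp

lemma isUnit_coeff_of_isUnit_mk (α : A) (hα : α ∈ maximalIdeal A) (T : MvPowerSeries (Fin 2) A)
    (h : IsUnit (Ideal.Quotient.mk
      (Ideal.span {(X 0 * X 1 - C α : MvPowerSeries (Fin 2) A)}) T)) :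
    IsUnit (coeff (e 0 0) T) := by
  obtain ⟨y, hy⟩ := h.exists_right_inv
  obtain ⟨T', rfl⟩ := Ideal.Quotient.mk_surjective y
  rw [← map_mul, ← map_one (Ideal.Quotient.mk _), mk_eq_mk_iff] at hy
  obtain ⟨S, hS⟩ := hy
  have h0 := congrArg (coeff (e 0 0)) hS
  rw [map_sub, mul00, q00, coeff00_one] at h0
  have h1 : coeff (e 0 0) T * coeff (e 0 0) T' = 1 - α * coeff (e 0 0) S := by
    linear_combination h0
  have h2 : IsUnit (1 - α * coeff (e 0 0) S) := by
    apply IsLocalRing.isUnit_one_sub_self_of_mem_nonunits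
    rw [← IsLocalRing.mem_maximalIdeal]
    exact Ideal.mul_mem_right _ _ hα
  rw [← h1] at h2
  exact isUnit_of_mul_isUnit_left h2

lemma phi_C (α β : A)
    (φ : (MvPowerSeries (Fin 2) A ⧸ Ideal.span {(X 0 * X 1 - C β : MvPowerSeries (Fin 2) A)}) ≃ₐ[A]
      (MvPowerSeries (Fin 2) A ⧸ Ideal.span {(X 0 * X 1 - C α : MvPowerSeries (Fin 2) A)}))
    (a : A) : φ (Ideal.Quotient.mk _ (C a)) = Ideal.Quotient.mk _ (C a) := by
  have h1 : ∀ γ : A, Ideal.Quotient.mk
      (Ideal.span {(X 0 * X 1 - C γ : MvPowerSeries (Fin 2) A)}) (C a) =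
      algebraMap A _ a := by
    intro γ
    rw [← Ideal.Quotient.mk_algebraMap, MvPowerSeries.algebraMap_apply]
    rfl
  rw [h1, h1, φ.commutes]


lemma coeff00_mem (α β : A) (hα : α ∈ maximalIdeal A)
    (φ : (MvPowerSeries (Fin 2) A ⧸ Ideal.span {(X 0 * X 1 - C β : MvPowerSeries (Fin 2) A)}) ≃ₐ[A]
      (MvPowerSeries (Fin 2) A ⧸ Ideal.span {(X 0 * X 1 - C α : MvPowerSeries (Fin 2) A)}))
    (i : Fin 2) (F : MvPowerSeries (Fin 2) A)
    (hF : Ideal.Quotient.mk _ F = φ (Ideal.Quotient.mk _ (X i))) :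
    coeff (e 0 0) F ∈ maximalIdeal A := by
  by_contra h
  rw [IsLocalRing.mem_maximalIdeal, mem_nonunits_iff, not_not] at h
  obtain ⟨a', ha'⟩ := h.exists_right_inv
  have hu : IsUnit (1 - C a' * X i : MvPowerSeries (Fin 2) A) := by
    rw [MvPowerSeries.isUnit_iff_constantCoeff]
    simp
  have h2 : Ideal.Quotient.mk (Ideal.span {(X 0 * X 1 - C α : MvPowerSeries (Fin 2) A)})
      (1 - C a' * F) = φ (Ideal.Quotient.mk _ (1 - C a' * X i)) := by
    simp only [map_sub, map_one, map_mul, phi_C, hF]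
  have h3 : IsUnit (Ideal.Quotient.mk (Ideal.span {(X 0 * X 1 - C α : MvPowerSeries (Fin 2) A)})
      (1 - C a' * F)) := by
    rw [h2]; exact (hu.map _).map φ
  have h4 := isUnit_coeff_of_isUnit_mk α hα _ h3
  rw [map_sub, coeff00_one, mul00, coeff_C'] at h4
  simp only [and_self, if_true] at h4
  rw [mul_comm, ha', sub_self] at h4
  exact not_isUnit_zero h4

lemma step3 (α β : A) (hα : α ∈ maximalIdeal A)
    (φ : (MvPowerSeries (Fin 2) A ⧸ Ideal.span {(X 0 * X 1 - C β : MvPowerSeries (Fin 2) A)}) ≃ₐ[A]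
      (MvPowerSeries (Fin 2) A ⧸ Ideal.span {(X 0 * X 1 - C α : MvPowerSeries (Fin 2) A)}))
    (F G : MvPowerSeries (Fin 2) A)
    (hF : Ideal.Quotient.mk _ F = φ (Ideal.Quotient.mk _ (X 0)))
    (hG : Ideal.Quotient.mk _ G = φ (Ideal.Quotient.mk _ (X 1)))
    (hF0 : residue A (coeff (e 0 0) F) = 0) (hG0 : residue A (coeff (e 0 0) G) = 0)
    (H T : MvPowerSeries (Fin 2) A)
    (hT : Ideal.Quotient.mk _ T = φ (Ideal.Quotient.mk _ H)) :
    residue A (coeff (e 1 0) T) =
        residue A (coeff (e 1 0) H) * residue A (coeff (e 1 0) F)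
          + residue A (coeff (e 0 1) H) * residue A (coeff (e 1 0) G) ∧
      residue A (coeff (e 0 1) T) =
        residue A (coeff (e 1 0) H) * residue A (coeff (e 0 1) F)
          + residue A (coeff (e 0 1) H) * residue A (coeff (e 0 1) G) := by
  obtain ⟨U, V, W, hH⟩ := decomp H
  obtain ⟨U', hU'⟩ := Ideal.Quotient.mk_surjective (φ (Ideal.Quotient.mk _ U))
  obtain ⟨V', hV'⟩ := Ideal.Quotient.mk_surjective (φ (Ideal.Quotient.mk _ V))
  obtain ⟨W', hW'⟩ := Ideal.Quotient.mk_surjective (φ (Ideal.Quotient.mk _ W))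
  have h1 : Ideal.Quotient.mk (Ideal.span {(X 0 * X 1 - C α : MvPowerSeries (Fin 2) A)}) T =
      Ideal.Quotient.mk _ (C (coeff (e 0 0) H) + C (coeff (e 1 0) H) * F + C (coeff (e 0 1) H) * G
        + F ^ 2 * U' + F * G * V' + G ^ 2 * W') := by
    have hT' : Ideal.Quotient.mk (Ideal.span {(X 0 * X 1 - C α : MvPowerSeries (Fin 2) A)}) T =
        φ (Ideal.Quotient.mk _ (C (coeff (e 0 0) H) + C (coeff (e 1 0) H) * X 0
          + C (coeff (e 0 1) H) * X 1 + X 0 ^ 2 * U + X 0 * X 1 * V + X 1 ^ 2 * W)) := by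
      rw [← hH]; exact hT
    rw [hT']
    simp only [map_add, map_mul, map_pow, phi_C, hF, hG, hU', hV', hW']
  rw [mk_eq_mk_iff] at h1
  obtain ⟨S, hS⟩ := h1
  have hα0 : residue A α = 0 := (residue_eq_zero_iff _).2 hα
  constructor
  · have := congrArg (fun x => residue A (coeff (e 1 0) x)) hS
    beta_reduce at this
    rw [q10] at this
    simp only [map_sub, map_add, mul10, mul00, pow_two, coeff_C', map_mul, map_neg,
      hF0, hG0, hα0] at this
    simp at this
    linear_combination this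
  · have := congrArg (fun x => residue A (coeff (e 0 1) x)) hS
    beta_reduce at this
    rw [q01] at this
    simp only [map_sub, map_add, mul01, mul00, pow_two, coeff_C', map_mul, map_neg,
      hF0, hG0, hα0] at this
    simp at this
    linear_combination this


lemma isUnit_of_residue_ne_zero {x : A} (h : residue A x ≠ 0) : IsUnit x := by
  by_contra hnu
  exact h ((residue_eq_zero_iff _).2 ((IsLocalRing.mem_maximalIdeal _).2 hnu))

theorem mem_of_algEquiv (α β : A) (hα : α ∈ maximalIdeal A)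
    (φ : (MvPowerSeries (Fin 2) A ⧸ Ideal.span {(X 0 * X 1 - C β : MvPowerSeries (Fin 2) A)}) ≃ₐ[A]
      (MvPowerSeries (Fin 2) A ⧸ Ideal.span {(X 0 * X 1 - C α : MvPowerSeries (Fin 2) A)})) :
    α ∈ Ideal.span {β} ⊔ maximalIdeal A * Ideal.span {α} := by
  obtain ⟨F, hF⟩ := Ideal.Quotient.mk_surjective (φ (Ideal.Quotient.mk _ (X 0)))
  obtain ⟨G, hG⟩ := Ideal.Quotient.mk_surjective (φ (Ideal.Quotient.mk _ (X 1)))
  have hF00 := coeff00_mem α β hα φ 0 F hF
  have hG00 := coeff00_mem α β hα φ 1 G hG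
  have h1 : Ideal.Quotient.mk (Ideal.span {(X 0 * X 1 - C α : MvPowerSeries (Fin 2) A)}) (F * G) =
      Ideal.Quotient.mk _ (C β) := by
    rw [map_mul, hF, hG, ← map_mul, ← map_mul, ← phi_C α β φ β]
    congr 1
    rw [mk_eq_mk_iff]
    exact ⟨1, by ring⟩
  rw [mk_eq_mk_iff] at h1
  obtain ⟨S, hS⟩ := h1
  have hF0 : residue A (coeff (e 0 0) F) = 0 := (residue_eq_zero_iff _).2 hF00
  have hG0 : residue A (coeff (e 0 0) G) = 0 := (residue_eq_zero_iff _).2 hG00
  have hα0 : residue A α = 0 := (residue_eq_zero_iff _).2 hα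
  have e3 : residue A (coeff (e 1 0) F) * residue A (coeff (e 1 0) G) = 0 := by
    have := congrArg (fun x => residue A (coeff (e 2 0) x)) hS
    beta_reduce at this
    rw [q20] at this
    simp only [map_sub, mul20, coeff_C', map_add, map_mul, map_neg, hF0, hG0, hα0] at this
    simp only [OfNat.ofNat_ne_zero, false_and, if_false, map_zero, zero_mul, mul_zero, add_zero,
      zero_add, sub_zero, neg_zero] at this
    exact this
  have e4 : residue A (coeff (e 0 1) F) * residue A (coeff (e 0 1) G) = 0 := by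
    have := congrArg (fun x => residue A (coeff (e 0 2) x)) hS
    beta_reduce at this
    rw [q02] at this
    simp only [map_sub, mul02, coeff_C', map_add, map_mul, map_neg, hF0, hG0, hα0] at this
    simp only [OfNat.ofNat_ne_zero, and_false, if_false, map_zero, zero_mul, mul_zero, add_zero,
      zero_add, sub_zero, neg_zero] at this
    exact this
  obtain ⟨H, hH⟩ : ∃ H, φ (Ideal.Quotient.mk _ H) =
      Ideal.Quotient.mk (Ideal.span {(X 0 * X 1 - C α : MvPowerSeries (Fin 2) A)}) (X 0) := by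
    obtain ⟨y, hy⟩ := φ.surjective (Ideal.Quotient.mk _ (X 0))
    obtain ⟨H, rfl⟩ := Ideal.Quotient.mk_surjective y
    exact ⟨H, hy⟩
  obtain ⟨H', hH'⟩ : ∃ H, φ (Ideal.Quotient.mk _ H) =
      Ideal.Quotient.mk (Ideal.span {(X 0 * X 1 - C α : MvPowerSeries (Fin 2) A)}) (X 1) := by
    obtain ⟨y, hy⟩ := φ.surjective (Ideal.Quotient.mk _ (X 1))
    obtain ⟨H, rfl⟩ := Ideal.Quotient.mk_surjective y
    exact ⟨H, hy⟩
  have i1 := step3 α β hα φ F G hF hG hF0 hG0 H (X 0) hH.symm
  have i2 := step3 α β hα φ F G hF hG hF0 hG0 H' (X 1) hH'.symm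
  rw [coeff_X0, coeff_X0] at i1
  rw [coeff_X1, coeff_X1] at i2
  simp only [and_self, if_true, one_ne_zero, zero_ne_one, and_false, false_and, if_false,
    map_one, map_zero] at i1 i2
  obtain ⟨i11, i12⟩ := i1
  obtain ⟨i21, i22⟩ := i2
  rcases mul_eq_zero.1 e3 with hp | hr <;> rcases mul_eq_zero.1 e4 with hq | hs
  · -- p = 0, q = 0 : impossible
    exfalso
    simp only [hp, hq, mul_zero, zero_add, add_zero] at i11 i12 i21 i22
    have hs : residue A (coeff (e 0 1) G) = 0 := by
      have h01 : residue A (coeff (e 0 1) H) ≠ 0 := by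
        intro h0; rw [h0, zero_mul] at i11; exact one_ne_zero i11
      rcases mul_eq_zero.1 i12.symm with h | h
      · exact absurd h h01
      · exact h
    rw [hs, mul_zero] at i22
    exact one_ne_zero i22
  · -- p = 0, s = 0 : swapped case
    simp only [hp, hs, mul_zero, zero_add, add_zero] at i11 i12 i21 i22
    have hG10 : IsUnit (coeff (e 1 0) G) := by
      apply isUnit_of_residue_ne_zero
      intro h0; rw [h0, mul_zero] at i11; exact one_ne_zero i11
    have hF01 : IsUnit (coeff (e 0 1) F) := by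
      apply isUnit_of_residue_ne_zero
      intro h0; rw [h0, mul_zero] at i22; exact one_ne_zero i22
    exact main_comp α β hα G F S (by rw [mul_comm]; exact hS) hG00 hF00
      ((residue_eq_zero_iff _).1 hs) ((residue_eq_zero_iff _).1 hp) hG10 hF01
  · -- r = 0, q = 0 : main case
    simp only [hr, hq, mul_zero, zero_add, add_zero] at i11 i12 i21 i22
    have hF10 : IsUnit (coeff (e 1 0) F) := by
      apply isUnit_of_residue_ne_zero
      intro h0; rw [h0, mul_zero] at i11; exact one_ne_zero i11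
    have hG01 : IsUnit (coeff (e 0 1) G) := by
      apply isUnit_of_residue_ne_zero
      intro h0; rw [h0, mul_zero] at i22; exact one_ne_zero i22
    exact main_comp α β hα F G S hS hF00 hG00
      ((residue_eq_zero_iff _).1 hq) ((residue_eq_zero_iff _).1 hr) hF10 hG01
  · -- r = 0, s = 0 : impossible
    exfalso
    simp only [hr, hs, mul_zero, zero_add, add_zero] at i11 i12 i21 i22
    have hq : residue A (coeff (e 0 1) F) = 0 := by
      have h10 : residue A (coeff (e 1 0) H) ≠ 0 := by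
        intro h0; rw [h0, zero_mul] at i11; exact one_ne_zero i11
      rcases mul_eq_zero.1 i12.symm with h | h
      · exact absurd h h10
      · exact h
    rw [hq, mul_zero] at i22
    exact one_ne_zero i22


theorem span_le_of_algEquiv (α β : A) (hα : α ∈ maximalIdeal A)
    (φ : (MvPowerSeries (Fin 2) A ⧸ Ideal.span {(X 0 * X 1 - C β : MvPowerSeries (Fin 2) A)}) ≃ₐ[A]
      (MvPowerSeries (Fin 2) A ⧸ Ideal.span {(X 0 * X 1 - C α : MvPowerSeries (Fin 2) A)})) :
    Ideal.span {α} ≤ Ideal.span {β} := by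
  have h := mem_of_algEquiv α β hα φ
  refine Submodule.le_of_le_smul_of_le_jacobson_bot (I := maximalIdeal A)
    (Submodule.fg_span_singleton α) ?_ ?_
  · rw [IsLocalRing.jacobson_eq_maximalIdeal ⊥ bot_ne_top]
  · rw [Ideal.smul_eq_mul, Ideal.span_singleton_le_iff_mem]
    exact h

end Groth.Agent.Lib.helper26.NodeIso
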