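import Mathlib
import Groth.Prelude.Def_Pi1
import Groth.Agent.Lib.helper26.DimFun3

universe u
open TopologicalSpace Topology AlgebraicGeometry CategoryTheory

namespace Groth.Agent.Lib.helper26.NormComp

open Groth.Agent.Lib.helper26.DimPts

/-- two irreducible components of a quasi-sober T0 space with a common point, all of whose
points have a unique maximal generization, are equal. -/
theorem comp_eq_of_mem {T : Type*} [TopologicalSpace T] [QuasiSober T] [T0Space T]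
    (huniq : ∀ x σ₁ σ₂ : T, σ₁ ⤳ x → σ₂ ⤳ x → (∀ η, η ⤳ σ₁ → η = σ₁) →
      (∀ η, η ⤳ σ₂ → η = σ₂) → σ₁ = σ₂)
    (Z Z' : Set T) (hZ : Z ∈ irreducibleComponents T) (hZ' : Z' ∈ irreducibleComponents T)
    (x : T) (hx : x ∈ Z) (hx' : x ∈ Z') : Z = Z' := by
  obtain ⟨ξ, hξ⟩ := QuasiSober.sober hZ.1 (isClosed_of_mem_irreducibleComponents Z hZ)
  obtain ⟨ξ', hξ'⟩ := QuasiSober.sober hZ'.1 (isClosed_of_mem_irreducibleComponents Z' hZ')
  have m1 := (helper7.DimSch.closure_mem_irreducibleComponents_iff ξ).mp (by rw [hξ.def]; exact hZ)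
  have m2 := (helper7.DimSch.closure_mem_irreducibleComponents_iff ξ').mp
    (by rw [hξ'.def]; exact hZ')
  have := huniq x ξ ξ' (hξ.specializes hx) (hξ'.specializes hx') m1 m2
  rw [← hξ.def, ← hξ'.def, this]

/-- S9799 -/
theorem components_open_disjoint (X : Scheme.{u})
    (hfin : ∀ U : X.Opens, IsCompact (U : Set X) → (irreducibleComponents ↥U).Finite)
    (hN : Pi1.IsNormalScheme X) :
    (∀ Z ∈ irreducibleComponents X, IsOpen Z) ∧
      ∀ Z ∈ irreducibleComponents X, ∀ Z' ∈ irreducibleComponents X, Z ≠ Z' → Disjoint Z Z' := by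
  have huniq : ∀ x σ₁ σ₂ : X, σ₁ ⤳ x → σ₂ ⤳ x → (∀ η, η ⤳ σ₁ → η = σ₁) →
      (∀ η, η ⤳ σ₂ → η = σ₂) → σ₁ = σ₂ := by
    intro x σ₁ σ₂ h1 h2 m1 m2
    haveI := (hN x).1
    exact eq_of_maximal_of_isDomain_stalk x σ₁ σ₂ h1 h2 m1 m2
  have hdisj : ∀ Z ∈ irreducibleComponents X, ∀ Z' ∈ irreducibleComponents X, Z ≠ Z' →
      Disjoint Z Z' := by
    intro Z hZ Z' hZ' hne
    rw [Set.disjoint_left]
    intro x hx hx'
    exact hne (comp_eq_of_mem huniq Z Z' hZ hZ' x hx hx')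
  refine ⟨?_, hdisj⟩
  intro Z hZ
  rw [isOpen_iff_forall_mem_open]
  intro x hx
  obtain ⟨_, ⟨V, hV, rfl⟩, hxV, -⟩ := X.isBasis_affineOpens.exists_subset_of_mem_open
    (Set.mem_univ x) isOpen_univ
  have hV' : IsAffineOpen V := hV
  have hfinV := hfin V hV'.isCompact
  haveI : QuasiSober ↥V := inferInstanceAs (QuasiSober (V : Scheme.{u}))
  haveI : T0Space ↥V := inferInstanceAs (T0Space (V : Scheme.{u}))
  have huniqV : ∀ x σ₁ σ₂ : ↥V, σ₁ ⤳ x → σ₂ ⤳ x → (∀ η, η ⤳ σ₁ → η = σ₁) →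
      (∀ η, η ⤳ σ₂ → η = σ₂) → σ₁ = σ₂ := by
    intro y σ₁ σ₂ h1 h2 m1 m2
    have lift : ∀ σ : ↥V, (∀ η, η ⤳ σ → η = σ) → ∀ η : X, η ⤳ (σ : X) → η = σ := by
      intro σ m η hη
      have hηV : η ∈ V := hη.mem_open V.isOpen σ.2
      have := m ⟨η, hηV⟩ ((subtype_specializes_iff (⟨η, hηV⟩ : ↥V) σ).mpr hη)
      exact congrArg Subtype.val this
    have := huniq y σ₁ σ₂ ((subtype_specializes_iff σ₁ y).mp h1)
      ((subtype_specializes_iff σ₂ y).mp h2) (lift σ₁ m1) (lift σ₂ m2)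
    exact Subtype.ext this
  -- the component of `↥V` through x
  obtain ⟨D, hD, hxD⟩ := exists_mem_irreducibleComponents_subset_of_isIrreducible
    ({(⟨x, hxV⟩ : ↥V)}) isIrreducible_singleton
  have hxD' : (⟨x, hxV⟩ : ↥V) ∈ D := hxD rfl
  have hDopen : IsOpen D := by
    have hcompl : Dᶜ = ⋃₀ (irreducibleComponents ↥V \ {D}) := by
      ext t
      constructor
      · intro ht
        obtain ⟨D', hD', htD'⟩ := exists_mem_irreducibleComponents_subset_of_isIrreducible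
          ({t}) isIrreducible_singleton
        refine ⟨D', ⟨hD', ?_⟩, htD' rfl⟩
        rintro rfl
        exact ht (htD' rfl)
      · rintro ⟨D', ⟨hD', hne⟩, htD'⟩ htD
        exact hne (comp_eq_of_mem huniqV D' D hD' hD t htD' htD)
    have hclosed : IsClosed (Dᶜ) := by
      rw [hcompl, Set.sUnion_eq_biUnion]
      exact (hfinV.subset Set.diff_subset).isClosed_biUnion fun W hW =>
        isClosed_of_mem_irreducibleComponents W hW.1
    exact isClosed_compl_iff.mp hclosed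
  have himgopen : IsOpen (Subtype.val '' D : Set X) := V.isOpen.isOpenMap_subtype_val D hDopen
  have hirr : IsIrreducible (Subtype.val '' D : Set X) :=
    hD.1.image Subtype.val continuous_subtype_val.continuousOn
  obtain ⟨Z'', hZ'', hsub⟩ := exists_mem_irreducibleComponents_subset_of_isIrreducible _ hirr
  have hxZ'' : x ∈ Z'' := hsub ⟨⟨x, hxV⟩, hxD', rfl⟩
  have hZeq : Z'' = Z := comp_eq_of_mem huniq Z'' Z hZ'' hZ x hxZ'' hx
  exact ⟨_, hZeq ▸ hsub, himgopen, ⟨⟨x, hxV⟩, hxD', rfl⟩⟩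

end Groth.Agent.Lib.helper26.NormComp
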