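import Mathlib
import Groth.Agent.Lib.helper26.MulDiv
import Groth.Agent.Lib.helper26.CDivLib9
import Groth.Agent.Lib.helper26.SpecDim
import Groth.Agent.Lib.helper26.DimFun5
import Groth.Agent.Lib.helper6.IdealComap

universe u
open AlgebraicGeometry CategoryTheory Topology TopologicalSpace IsLocalRing

namespace Groth.Agent.Lib.helper26.NormDiv

open Groth.Agent.Lib.helper7.DimSch
open Groth.Agent.Lib.helper26.MulDiv

variable {S : Scheme.{u}}

/-- primes `p ≠ m` of the local ring at `x` come from proper generizations in an affine chart. -/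
theorem exists_generization_of_prime {V : S.Opens} (hV : IsAffineOpen V) (x : S) (hxV : x ∈ V)
    (p : Ideal (S.presheaf.stalk x)) (hp : p.IsPrime) (hpm : p ≠ maximalIdeal (S.presheaf.stalk x)) :
    ∃ z : V, (z : S) ⤳ x ∧ (z : S) ≠ x ∧
      ∀ s : Γ(S, V), s ∉ (hV.primeIdealOf z).asIdeal → S.presheaf.germ V x hxV s ∉ p := by
  letI := S.presheaf.algebra_section_stalk (U := V) ⟨x, hxV⟩
  haveI := hV.isLocalization_stalk ⟨x, hxV⟩
  set P := (hV.primeIdealOf ⟨x, hxV⟩).asIdeal with hP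
  set Q : Ideal Γ(S, V) := p.comap (algebraMap Γ(S, V) (S.presheaf.stalk x)) with hQ
  haveI : Q.IsPrime := Ideal.comap_isPrime _ _
  obtain ⟨z, hz⟩ := exists_primeIdealOf_eq hV ⟨Q, inferInstance⟩
  have hzQ : (hV.primeIdealOf z).asIdeal = Q := by rw [hz]
  have hm : (maximalIdeal (S.presheaf.stalk x)).comap
      (algebraMap Γ(S, V) (S.presheaf.stalk x)) = P :=
    IsLocalization.AtPrime.comap_maximalIdeal (S.presheaf.stalk x) P
  have hQP : Q ≤ P := by
    rw [← hm]
    exact Ideal.comap_mono (IsLocalRing.le_maximalIdeal hp.ne_top)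
  have hzx : (z : S) ⤳ x := by
    have := (primeIdealOf_le_iff hV z ⟨x, hxV⟩).mp (by
      show (hV.primeIdealOf z).asIdeal ≤ (hV.primeIdealOf ⟨x, hxV⟩).asIdeal
      rw [hzQ]; exact hQP)
    exact this
  refine ⟨z, hzx, ?_, ?_⟩
  · intro h
    have hzx' : z = ⟨x, hxV⟩ := Subtype.ext h
    apply hpm
    have h1 : Q = P := by rw [← hzQ, hzx']
    have h2 : p = Q.map (algebraMap Γ(S, V) (S.presheaf.stalk x)) :=
      (IsLocalization.map_comap P.primeCompl (S.presheaf.stalk x) p).symm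
    rw [h2, h1]
    exact IsLocalization.AtPrime.map_eq_maximalIdeal P (S.presheaf.stalk x)
  · intro s hs hsp
    apply hs
    rw [hzQ]
    exact hsp

/-- a common affine chart on which both ideals are principal, with regular germs. -/
theorem exists_common_chart (D E : S.IdealSheafData)
    (hD : (∀ x : S, ∃ U : S.affineOpens, x ∈ (U : S.Opens) ∧ ∃ g : Γ(S, U),
      g ∈ nonZeroDivisors Γ(S, U) ∧ D.ideal U = Ideal.span {g}))
    (hE : (∀ x : S, ∃ U : S.affineOpens, x ∈ (U : S.Opens) ∧ ∃ g : Γ(S, U),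
      g ∈ nonZeroDivisors Γ(S, U) ∧ E.ideal U = Ideal.span {g}))
    (s : S) (W : S.Opens) (hsW : s ∈ W) :
    ∃ V : S.affineOpens, ∃ hs : s ∈ V.1, V.1 ≤ W ∧ ∃ d e : Γ(S, V.1),
      D.ideal V = Ideal.span {d} ∧ E.ideal V = Ideal.span {e} ∧
      S.presheaf.germ V.1 s hs d ∈ nonZeroDivisors (S.presheaf.stalk s) ∧
      S.presheaf.germ V.1 s hs e ∈ nonZeroDivisors (S.presheaf.stalk s) := by
  obtain ⟨U3, h3, d, hd, hDd⟩ := hD s
  obtain ⟨U4, h4, e, he, hEe⟩ := hE s
  obtain ⟨V, hV, hsV, hVle⟩ := (Opens.isBasis_iff_nbhd.1 S.isBasis_affineOpens)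
    (show s ∈ (U3.1 ⊓ U4.1 ⊓ W : S.Opens) from ⟨⟨h3, h4⟩, hsW⟩)
  have h3le : (⟨V, hV⟩ : S.affineOpens) ≤ U3 := hVle.trans (inf_le_left.trans inf_le_left)
  have h4le : (⟨V, hV⟩ : S.affineOpens) ≤ U4 := hVle.trans (inf_le_left.trans inf_le_right)
  refine ⟨⟨V, hV⟩, hsV, hVle.trans inf_le_right, S.presheaf.map (homOfLE h3le).op d,
    S.presheaf.map (homOfLE h4le).op e, ?_, ?_, ?_, ?_⟩
  · rw [← D.map_ideal h3le, hDd, Ideal.map_span, Set.image_singleton]
  · rw [← E.map_ideal h4le, hEe, Ideal.map_span, Set.image_singleton]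
  · have e1 : S.presheaf.germ V s hsV (S.presheaf.map (homOfLE h3le).op d) =
        S.presheaf.germ U3.1 s h3 d := TopCat.Presheaf.germ_res_apply _ (homOfLE h3le) s hsV d
    rw [e1]
    exact germ_mem_nonZeroDivisors U3 s h3 d hd
  · have e1 : S.presheaf.germ V s hsV (S.presheaf.map (homOfLE h4le).op e) =
        S.presheaf.germ U4.1 s h4 e := TopCat.Presheaf.germ_res_apply _ (homOfLE h4le) s hsV e
    rw [e1]
    exact germ_mem_nonZeroDivisors U4 s h4 e he

/-- reduction to DVR points: on a normal locally Noetherian scheme, inclusion of the stalks of two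
locally principal regular ideal sheaves can be checked at points whose local ring is a DVR. -/
theorem stalk_le_aux [IsLocallyNoetherian S]
    (hnorm : ∀ x : S, IsDomain (S.presheaf.stalk x) ∧ IsIntegrallyClosed (S.presheaf.stalk x))
    (D E : S.IdealSheafData)
    (hD : (∀ x : S, ∃ U : S.affineOpens, x ∈ (U : S.Opens) ∧ ∃ g : Γ(S, U),
      g ∈ nonZeroDivisors Γ(S, U) ∧ D.ideal U = Ideal.span {g}))
    (hE : (∀ x : S, ∃ U : S.affineOpens, x ∈ (U : S.Opens) ∧ ∃ g : Γ(S, U),
      g ∈ nonZeroDivisors Γ(S, U) ∧ E.ideal U = Ideal.span {g}))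
    (hdvr : ∀ (V : S.affineOpens) (s : S) (hs : s ∈ V.1),
      (haveI := (hnorm s).1; IsDiscreteValuationRing (S.presheaf.stalk s)) →
      (D.ideal V).map (S.presheaf.germ V.1 s hs).hom ≤
        (E.ideal V).map (S.presheaf.germ V.1 s hs).hom) :
    ∀ (n : ℕ) (s : S), ringKrullDim (S.presheaf.stalk s) = n → ∀ (V : S.affineOpens)
      (hs : s ∈ V.1), (D.ideal V).map (S.presheaf.germ V.1 s hs).hom ≤
        (E.ideal V).map (S.presheaf.germ V.1 s hs).hom := by
  intro n
  induction n using Nat.strong_induction_on with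
  | _ n ih =>
    intro s hn V0 hs0
    obtain ⟨V, hs, -, d, e, hDd, hEe, hdn, hen⟩ := exists_common_chart D E hD hE s ⊤ trivial
    rw [map_germ_eq D s V0 V hs0 hs, map_germ_eq E s V0 V hs0 hs]
    haveI := (hnorm s).1
    haveI := (hnorm s).2
    by_contra hnle
    apply hnle
    refine hdvr V s hs ?_
    set A := S.presheaf.stalk s with hA
    set ds := S.presheaf.germ V.1 s hs d with hds
    set es := S.presheaf.germ V.1 s hs e with hes
    have hes0 : algebraMap A (FractionRing A) es ≠ 0 := by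
      intro h0
      have : es = 0 := IsFractionRing.injective A (FractionRing A) (h0.trans (map_zero _).symm)
      exact nonZeroDivisors.ne_zero hen this
    have hdepth : LocCoh.depth A A = 1 := by
      apply Groth.Agent.Lib.helper26.DepthOne.depth_eq_one_of_frac (K := FractionRing A)
        (algebraMap A (FractionRing A) ds / algebraMap A (FractionRing A) es)
      · rintro ⟨a, ha⟩
        apply hnle
        rw [hDd, hEe, Ideal.map_span, Ideal.map_span, Set.image_singleton, Set.image_singleton,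
          Ideal.span_singleton_le_span_singleton]
        refine ⟨a, ?_⟩
        rw [eq_div_iff hes0, ← map_mul] at ha
        have := IsFractionRing.injective A (FractionRing A) ha
        rw [mul_comm]
        exact this.symm
      · intro p hp hpm
        obtain ⟨z, hzs, hzne, hz⟩ := exists_generization_of_prime V.2 s hs p hp hpm
        have hlt := Groth.Agent.Lib.helper26.SpecDim.stalk_dim_lt_of_specializes hzs hzne
        obtain ⟨m, hm⟩ := Groth.Agent.Lib.helper26.DimFun5.exists_nat_dim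
          (S.presheaf.stalk (z : S))
        rw [hm, hn] at hlt
        have hmn : m < n := by exact_mod_cast hlt
        have hle := ih m hmn z hm V z.2
        rw [hDd, hEe, Ideal.map_span, Ideal.map_span, Set.image_singleton, Set.image_singleton,
          Ideal.span_singleton_le_span_singleton] at hle
        obtain ⟨c, hc⟩ := hle
        letI := S.presheaf.algebra_section_stalk (U := V.1) ⟨z, z.2⟩
        haveI := V.2.isLocalization_stalk z
        obtain ⟨⟨c₀, u⟩, hcu⟩ := IsLocalization.surj (V.2.primeIdealOf z).asIdeal.primeCompl c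
        have hcu' : c * algebraMap Γ(S, V.1) (S.presheaf.stalk (z : S)) u.1 =
            algebraMap Γ(S, V.1) (S.presheaf.stalk (z : S)) c₀ := hcu
        have hc' : algebraMap Γ(S, V.1) (S.presheaf.stalk (z : S)) d =
            algebraMap Γ(S, V.1) (S.presheaf.stalk (z : S)) e * c := hc
        have heq : algebraMap Γ(S, V.1) (S.presheaf.stalk (z : S)) (u.1 * d) =
            algebraMap Γ(S, V.1) (S.presheaf.stalk (z : S)) (c₀ * e) := by
          rw [map_mul, map_mul, hc', ← hcu']; ring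
        obtain ⟨u', hu'⟩ := (IsLocalization.eq_iff_exists
          (V.2.primeIdealOf z).asIdeal.primeCompl (S.presheaf.stalk (z : S))).1 heq
        refine ⟨S.presheaf.germ V.1 s hs (u'.1 * u.1), hz _ ?_,
          S.presheaf.germ V.1 s hs (u'.1 * c₀), ?_⟩
        · exact ((V.2.primeIdealOf z).asIdeal.primeCompl.mul_mem u'.2 u.2)
        · have key : S.presheaf.germ V.1 s hs (u'.1 * u.1) * ds =
              S.presheaf.germ V.1 s hs (u'.1 * c₀) * es := by
            rw [hds, hes, ← map_mul, ← map_mul]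
            congr 1
            rw [mul_assoc, hu', mul_assoc]
          rw [← mul_div_assoc, div_eq_iff hes0, ← map_mul, key, map_mul]
    exact (Groth.Agent.Lib.helper26.CDivLib.dvr_of_normal_of_depth_one A hdepth).2

/-- the locus where the germ of a section vanishes is open. -/
theorem isOpen_germ_eq_zero {X : Scheme.{u}} (U : X.Opens) (t : Γ(X, U)) :
    IsOpen {x : X | ∃ hx : x ∈ U, X.presheaf.germ U x hx t = 0} := by
  rw [isOpen_iff_forall_mem_open]
  rintro x ⟨hx, h0⟩
  have h0' : X.presheaf.germ U x hx t = X.presheaf.germ U x hx 0 := by rw [h0, map_zero]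
  obtain ⟨W, hxW, iU, iV, hW⟩ := X.presheaf.germ_eq x hx hx t 0 h0'
  refine ⟨W, ?_, W.2, hxW⟩
  intro y hy
  refine ⟨iU.le hy, ?_⟩
  have e1 : X.presheaf.germ U y (iU.le hy) t = X.presheaf.germ W y hy (X.presheaf.map iU.op t) :=
    (TopCat.Presheaf.germ_res_apply _ iU y hy t).symm
  rw [e1, hW, map_zero, map_zero]

theorem stalk_le_of_valuationRing {S' : Scheme.{u}} (f : S' ⟶ S) [QuasiCompact f]
    (hcl : IsClosedMap f) (hker : f.ker = ⊥)
    (D E : S.IdealSheafData)
    (hD : (∀ x : S, ∃ U : S.affineOpens, x ∈ (U : S.Opens) ∧ ∃ g : Γ(S, U),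
      g ∈ nonZeroDivisors Γ(S, U) ∧ D.ideal U = Ideal.span {g}))
    (hE : (∀ x : S, ∃ U : S.affineOpens, x ∈ (U : S.Opens) ∧ ∃ g : Γ(S, U),
      g ∈ nonZeroDivisors Γ(S, U) ∧ E.ideal U = Ideal.span {g}))
    (h : D.comap f = E.comap f)
    (s : S) [IsDomain (S.presheaf.stalk s)] [ValuationRing (S.presheaf.stalk s)]
    (V0 : S.affineOpens) (hs0 : s ∈ V0.1) :
    (D.ideal V0).map (S.presheaf.germ V0.1 s hs0).hom ≤
      (E.ideal V0).map (S.presheaf.germ V0.1 s hs0).hom := by
  obtain ⟨V, hs, -, d, e, hDd, hEe, hdn, hen⟩ := exists_common_chart D E hD hE s ⊤ trivial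
  rw [map_germ_eq D s V0 V hs0 hs, map_germ_eq E s V0 V hs0 hs]
  rw [hDd, hEe, Ideal.map_span, Ideal.map_span, Set.image_singleton, Set.image_singleton,
    Ideal.span_singleton_le_span_singleton]
  by_contra hnd
  rcases ValuationRing.dvd_total (S.presheaf.germ V.1 s hs d) (S.presheaf.germ V.1 s hs e) with
    h1 | h1
  swap
  · exact hnd h1
  obtain ⟨c, hc⟩ := h1
  have hcu : ¬ IsUnit c := fun hu => hnd ⟨↑hu.unit⁻¹, by
    rw [hc, mul_assoc, IsUnit.mul_val_inv, mul_one]⟩
  -- the pulled back section vanishes at every point of the fibre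
  have hzero : ∀ (s' : S') (hs' : f s' = s),
      ∃ hx : s' ∈ f ⁻¹ᵁ V.1, S'.presheaf.germ (f ⁻¹ᵁ V.1) s' hx (f.app V.1 d) = 0 := by
    intro s' hs'
    subst hs'
    refine ⟨hs, ?_⟩
    obtain ⟨U', hU', hs'U', hU'le⟩ := (Opens.isBasis_iff_nbhd.1 S'.isBasis_affineOpens)
      (show s' ∈ f ⁻¹ᵁ V.1 from hs)
    have k1 := Groth.Agent.Lib.helper6.comap_ideal_of_le f D ⟨U', hU'⟩ V hU'le
    have k2 := Groth.Agent.Lib.helper6.comap_ideal_of_le f E ⟨U', hU'⟩ V hU'le
    rw [h, k2, hDd, hEe, Ideal.map_span, Ideal.map_span, Set.image_singleton,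
      Set.image_singleton] at k1
    have hmem : (f.appLE V.1 U' hU'le).hom d ∈ Ideal.span {(f.appLE V.1 U' hU'le).hom e} := by
      rw [k1]; exact Ideal.subset_span rfl
    obtain ⟨w, hw⟩ := Ideal.mem_span_singleton'.1 hmem
    have g1 : ∀ x : Γ(S, V.1), S'.presheaf.germ U' s' hs'U' ((f.appLE V.1 U' hU'le).hom x) =
        f.stalkMap s' (S.presheaf.germ V.1 (f s') hs x) := by
      intro x
      rw [Scheme.Hom.germ_stalkMap_apply]
      exact TopCat.Presheaf.germ_res_apply _ (homOfLE hU'le) s' hs'U' (f.app V.1 x)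
    have hw' := congrArg (S'.presheaf.germ U' s' hs'U') hw
    rw [map_mul, g1, g1, hc, map_mul] at hw'
    rw [← Scheme.Hom.germ_stalkMap_apply]
    set φd := f.stalkMap s' (S.presheaf.germ V.1 (f s') hs d) with hφd
    set φc := f.stalkMap s' c with hφc
    set gw := S'.presheaf.germ U' s' hs'U' w with hgw
    have hφc : ¬ IsUnit φc := fun hu => hcu ((isUnit_map_iff (f.stalkMap s').hom c).1 hu)
    have hmem' : gw * φc ∈ IsLocalRing.maximalIdeal (S'.presheaf.stalk s') :=
      Ideal.mul_mem_left _ _ ((IsLocalRing.mem_maximalIdeal _).2 hφc)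
    have hunit : IsUnit (1 - gw * φc) := IsLocalRing.isUnit_one_sub_self_of_mem_nonunits _
      ((IsLocalRing.mem_maximalIdeal _).1 hmem')
    have : φd * (1 - gw * φc) = 0 := by
      linear_combination (-1 : (S'.presheaf.stalk s' : Type u)) * hw'
    exact (hunit.mul_left_eq_zero).1 this
  have hopen := isOpen_germ_eq_zero (f ⁻¹ᵁ V.1) (f.app V.1 d)
  set W : Set S' := {x : S' | ∃ hx : x ∈ f ⁻¹ᵁ V.1,
    S'.presheaf.germ (f ⁻¹ᵁ V.1) x hx (f.app V.1 d) = 0} with hW
  have hC : IsClosed (f '' Wᶜ) := hcl _ hopen.isClosed_compl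
  have hsC : s ∉ f '' Wᶜ := by
    rintro ⟨s', hs'W, hs's⟩
    exact hs'W (hzero s' hs's)
  obtain ⟨V', hV', hsV', hV'le⟩ := (Opens.isBasis_iff_nbhd.1 S.isBasis_affineOpens)
    (show s ∈ (V.1 ⊓ ⟨(f '' Wᶜ)ᶜ, hC.isOpen_compl⟩ : S.Opens) from ⟨hs, hsC⟩)
  have hV'V : V' ≤ V.1 := hV'le.trans inf_le_left
  -- the restriction of `d` to `V'` pulls back to zero
  have hres : f.app V' (S.presheaf.map (homOfLE hV'V).op d) = 0 := by
    apply TopCat.Presheaf.section_ext S'.sheaf (f ⁻¹ᵁ V')
    intro x hx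
    have hxW : x ∈ W := by
      by_contra hxW
      exact (hV'le hx).2 ⟨x, hxW, rfl⟩
    obtain ⟨hxV, hx0⟩ := hxW
    have e1 : f.app V' (S.presheaf.map (homOfLE hV'V).op d) =
        S'.presheaf.map (homOfLE (f.preimage_mono hV'V)).op
          (f.app V.1 d) := by
      rw [← ConcreteCategory.comp_apply, ← ConcreteCategory.comp_apply]
      congr 2
      exact (f.naturality (homOfLE hV'V).op)
    rw [e1]
    exact (TopCat.Presheaf.germ_res_apply _ _ x hx (f.app V.1 d)).trans (hx0.trans (map_zero _).symm)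
  have hinj : RingHom.ker (f.app V').hom = ⊥ := by
    rw [← Scheme.Hom.ker_apply f ⟨V', hV'⟩, hker]
    rfl
  have hd0 : S.presheaf.map (homOfLE hV'V).op d = 0 := by
    have : S.presheaf.map (homOfLE hV'V).op d ∈ RingHom.ker (f.app V').hom := hres
    rw [hinj] at this
    exact this
  have hds0 : S.presheaf.germ V.1 s hs d = 0 := by
    rw [← TopCat.Presheaf.germ_res_apply _ (homOfLE hV'V) s hsV' d, hd0, map_zero]
  rw [hds0] at hdn
  exact zero_notMem_nonZeroDivisors hdn

theorem le_of_comap_eq [IsLocallyNoetherian S]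
    (hnorm : ∀ x : S, IsDomain (S.presheaf.stalk x) ∧ IsIntegrallyClosed (S.presheaf.stalk x))
    {S' : Scheme.{u}} (f : S' ⟶ S) [QuasiCompact f] (hcl : IsClosedMap f) (hker : f.ker = ⊥)
    (D E : S.IdealSheafData)
    (hD : (∀ x : S, ∃ U : S.affineOpens, x ∈ (U : S.Opens) ∧ ∃ g : Γ(S, U),
      g ∈ nonZeroDivisors Γ(S, U) ∧ D.ideal U = Ideal.span {g}))
    (hE : (∀ x : S, ∃ U : S.affineOpens, x ∈ (U : S.Opens) ∧ ∃ g : Γ(S, U),
      g ∈ nonZeroDivisors Γ(S, U) ∧ E.ideal U = Ideal.span {g}))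
    (h : D.comap f = E.comap f) : D ≤ E := by
  intro V
  rw [V.2.ideal_le_iff]
  intro s hs
  obtain ⟨n, hn⟩ := Groth.Agent.Lib.helper26.DimFun5.exists_nat_dim (S.presheaf.stalk s)
  refine stalk_le_aux hnorm D E hD hE ?_ n s hn V hs
  intro V1 s1 hs1 hdvr
  haveI := (hnorm s1).1
  haveI : IsDiscreteValuationRing (S.presheaf.stalk s1) := hdvr
  exact stalk_le_of_valuationRing f hcl hker D E hD hE h s1 V1 hs1

theorem eq_of_comap_eq [IsLocallyNoetherian S]
    (hnorm : ∀ x : S, IsDomain (S.presheaf.stalk x) ∧ IsIntegrallyClosed (S.presheaf.stalk x))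
    {S' : Scheme.{u}} (f : S' ⟶ S) [QuasiCompact f] (hcl : IsClosedMap f) (hker : f.ker = ⊥)
    (D E : S.IdealSheafData)
    (hD : (∀ x : S, ∃ U : S.affineOpens, x ∈ (U : S.Opens) ∧ ∃ g : Γ(S, U),
      g ∈ nonZeroDivisors Γ(S, U) ∧ D.ideal U = Ideal.span {g}))
    (hE : (∀ x : S, ∃ U : S.affineOpens, x ∈ (U : S.Opens) ∧ ∃ g : Γ(S, U),
      g ∈ nonZeroDivisors Γ(S, U) ∧ E.ideal U = Ideal.span {g}))
    (h : D.comap f = E.comap f) : D = E :=
  le_antisymm (le_of_comap_eq hnorm f hcl hker D E hD hE h)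
    (le_of_comap_eq hnorm f hcl hker E D hE hD h.symm)

end Groth.Agent.Lib.helper26.NormDiv
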