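import Mathlib

set_option autoImplicit false
universe u

namespace Groth.Agent.Lib.helper26.NormField

open Polynomial

/-- the integral closure of a ring in a field is integrally closed. -/
theorem isIntegrallyClosed_integralClosure_field (A L : Type*) [CommRing A] [Field L]
    [Algebra A L] : IsIntegrallyClosed (integralClosure A L) := by
  rw [isIntegrallyClosed_iff (FractionRing (integralClosure A L))]
  intro x hx
  let ι : FractionRing (integralClosure A L) →+* L :=
    IsFractionRing.lift (g := (integralClosure A L).val.toRingHom) Subtype.val_injective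
  have hι : ∀ b : integralClosure A L, ι (algebraMap _ _ b) = b.1 := fun b =>
    IsFractionRing.lift_algebraMap _ b
  letI := ι.toAlgebra
  haveI : IsScalarTower (integralClosure A L) (FractionRing (integralClosure A L)) L :=
    IsScalarTower.of_algebraMap_eq (fun b => (hι b).symm)
  have h1 : IsIntegral (integralClosure A L) (ι x) :=
    hx.map (IsScalarTower.toAlgHom (integralClosure A L)
      (FractionRing (integralClosure A L)) L)
  have h2 : IsIntegral A (ι x) := isIntegral_trans (ι x) h1
  refine ⟨⟨ι x, h2⟩, ?_⟩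
  apply ι.injective
  rw [hι]

section range
variable {A F K L Q : Type*} [CommRing A] [IsDomain A] [Field F] [Algebra A F] [IsFractionRing A F]
  [Field K] (φ : F →+* K) [Field L] [Algebra A L] (e : L ≃+* K)
  (he : ∀ a, e (algebraMap A L a) = φ (algebraMap A F a)) [CommRing Q] (σ : Q →+* K)
  (γ : integralClosure A L →+* Q) (hσγ : ∀ b, σ (γ b) = e b.1)
  (hfrac : ∀ s : Q, ∃ b b' : integralClosure A L, IsUnit (γ b') ∧ s * γ b' = γ b)
  (hunit : ∀ a : A, a ≠ 0 → IsUnit (γ (algebraMap A (integralClosure A L) a)))

include he hσγ hfrac hunit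

theorem injective_of_frac : Function.Injective σ := by
  rw [injective_iff_map_eq_zero]
  intro s hs0
  obtain ⟨b, b', hu, hs⟩ := hfrac s
  have h1 : e b.1 = 0 := by
    rw [← hσγ, ← hs, map_mul, hs0, zero_mul]
  have h2 : b = 0 := Subtype.ext (e.injective (h1.trans (map_zero e).symm))
  rw [h2, map_zero] at hs
  exact (hu.mul_left_eq_zero).1 hs

theorem range_eq_integralElem : Set.range σ = {y : K | φ.IsIntegralElem y} := by
  letI algFK : Algebra F K := φ.toAlgebra
  letI algAK : Algebra A K := (φ.comp (algebraMap A F)).toAlgebra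
  haveI : IsScalarTower A F K := IsScalarTower.of_algebraMap_eq (fun _ => rfl)
  let e' : L ≃ₐ[A] K := AlgEquiv.ofRingEquiv (f := e) he
  have hint : ∀ b : integralClosure A L, IsIntegral F (e b.1) := by
    intro b
    have h1 : IsIntegral A (e' b.1) := b.2.map e'.toAlgHom
    exact h1.tower_top
  ext y
  simp only [Set.mem_range, Set.mem_setOf_eq]
  constructor
  · rintro ⟨s, rfl⟩
    obtain ⟨b, b', hu, hs⟩ := hfrac s
    have h1 : σ s * e b'.1 = e b.1 := by
      rw [← hσγ, ← hσγ, ← map_mul, hs]
    have hne : e b'.1 ≠ 0 := by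
      rw [← hσγ]
      exact (hu.map σ).ne_zero
    have h2 : σ s = e b.1 * (e b'.1)⁻¹ := by
      rw [← h1, mul_assoc, mul_inv_cancel₀ hne, mul_one]
    show IsIntegral F (σ s)
    rw [h2]
    exact (hint b).mul (hint b').inv
  · intro hy
    have hy' : IsIntegral F y := hy
    obtain ⟨m, hm⟩ := IsIntegral.exists_multiple_integral_of_isLocalization
      (nonZeroDivisors A) y hy'
    have hm0 : (m : A) ≠ 0 := nonZeroDivisors.ne_zero m.2
    have hβ : IsIntegral A (e'.symm (m • y)) := hm.map e'.symm.toAlgHom
    obtain ⟨u, hu⟩ := hunit (m : A) hm0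
    refine ⟨γ ⟨_, hβ⟩ * ((u⁻¹ : Qˣ) : Q), ?_⟩
    have h3 : σ ((u⁻¹ : Qˣ) : Q) * φ (algebraMap A F m) = 1 := by
      rw [← he, ← map_one σ, ← u.inv_mul, map_mul, hu, hσγ]
      rfl
    have hφm : φ (algebraMap A F m) ≠ 0 := by
      intro h0
      rw [h0, mul_zero] at h3
      exact zero_ne_one h3
    rw [map_mul, hσγ]
    have h4 : e (e'.symm (m • y)) = m • y := e'.apply_symm_apply _
    rw [h4]
    have h5 : (m • y : K) = φ (algebraMap A F m) * y := by
      rw [Submonoid.smul_def, Algebra.smul_def]
      rfl
    rw [h5, mul_comm (φ _) y, mul_assoc, mul_comm (φ _), h3, mul_one]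

end range

end Groth.Agent.Lib.helper26.NormField
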