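import Mathlib
import Groth.Prelude.Def_Pi1
import Groth.Agent.Lib.helper26.NormGen
import Groth.Agent.Lib.helper26.NormFieldAlg

set_option autoImplicit false
universe u
open CategoryTheory CategoryTheory.Limits AlgebraicGeometry

namespace Groth.Agent.Lib.helper26.NormField

open Groth.Agent.Lib.helper26.NormAff Groth.Agent.Lib.helper26.NormGen

section
variable (X : Scheme.{u}) [IsIntegral X] (K : Type u) [Field K] (φ : X.functionField →+* K)
  [QuasiCompact (gK X K φ)] [QuasiSeparated (gK X K φ)]

theorem isNormalScheme_normalization : Pi1.IsNormalScheme (gK X K φ).normalization := by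
  intro y
  refine ⟨inferInstance, ?_⟩
  obtain ⟨U, hxU⟩ := exists_affine_nhd X ((gK X K φ).fromNormalization y)
  have hgen : genericPoint X ∈ U.1 := genericPoint_mem X U.1 ⟨_, hxU⟩
  obtain ⟨q, rfl⟩ := exists_point (gK X K φ) U y hxU
  obtain ⟨e⟩ := nonempty_stalk_equiv (gK X K φ) U q
  letI := ((gK X K φ).app U.1).hom.toAlgebra
  letI := (isField_secK X K φ U.1 hgen).toField
  have hdom : IsDomain (integralClosure Γ(X, U.1)
      Γ(Spec (CommRingCat.of K), gK X K φ ⁻¹ᵁ U.1)) := inferInstance
  have hic : IsIntegrallyClosed (integralClosure Γ(X, U.1)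
      Γ(Spec (CommRingCat.of K), gK X K φ ⁻¹ᵁ U.1)) :=
    isIntegrallyClosed_integralClosure_field _ _
  exact @NormAff.isIntegrallyClosed_loc _ _ hdom hic q _ _ e

theorem gK_apply (z : Spec (CommRingCat.of K)) : gK X K φ z = genericPoint X := by
  have hz : gK X K φ z ∈ Set.range (gen X) := ⟨Spec.map (CommRingCat.ofHom φ) z, rfl⟩
  rw [Scheme.range_fromSpecStalk] at hz
  exact ((hz : gK X K φ z ⤳ genericPoint X).antisymm
    ((genericPoint_spec X).specializes (Set.mem_univ _))).eq

theorem toNormalization_closedPoint :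
    (gK X K φ).toNormalization (IsLocalRing.closedPoint K) =
      genericPoint (gK X K φ).normalization := by
  have hdense : DenseRange (gK X K φ).toNormalization := (gK X K φ).toNormalization.denseRange
  have hrange : Set.range (gK X K φ).toNormalization =
      {(gK X K φ).toNormalization (IsLocalRing.closedPoint K)} := by
    ext y
    constructor
    · rintro ⟨z, rfl⟩
      have : z = IsLocalRing.closedPoint K := Subsingleton.elim _ _
      rw [this]; rfl
    · rintro rfl
      exact ⟨_, rfl⟩
  have hgp : IsGenericPoint ((gK X K φ).toNormalization (IsLocalRing.closedPoint K))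
      (Set.univ : Set (gK X K φ).normalization) := by
    rw [isGenericPoint_def, ← hrange]
    exact hdense.closure_range
  exact hgp.eq (genericPoint_spec _)

theorem fromNormalization_genericPoint :
    (gK X K φ).fromNormalization (genericPoint (gK X K φ).normalization) = genericPoint X := by
  rw [← toNormalization_closedPoint X K φ]
  have h := congrArg (fun f => f (IsLocalRing.closedPoint K))
    (gK X K φ).toNormalization_fromNormalization
  exact h.trans (gK_apply X K φ _)

omit [IsIntegral X] [QuasiCompact (gK X K φ)] [QuasiSeparated (gK X K φ)] in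
theorem eq_of_le_of_comap_eq {A B : Type*} [CommRing A] [CommRing B] [Algebra A B]
    [Algebra.IsIntegral A B] (Q' Q : PrimeSpectrum B) (hle : Q' ≤ Q)
    (hc : Q'.asIdeal.comap (algebraMap A B) = Q.asIdeal.comap (algebraMap A B)) : Q' = Q := by
  by_contra hne
  have hlt : Q'.asIdeal < Q.asIdeal :=
    lt_of_le_of_ne hle (fun h => hne (PrimeSpectrum.ext h))
  have := Ideal.IsIntegral.comap_lt_comap (R := A) hlt
  rw [hc] at this
  exact lt_irrefl _ this

theorem chart_injective_of_specializes (U : X.affineOpens) :
    letI := ((gK X K φ).app U.1).hom.toAlgebra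
    ∀ q' q : PrimeSpectrum (integralClosure Γ(X, U.1)
        Γ(Spec (CommRingCat.of K), gK X K φ ⁻¹ᵁ U.1)),
      ((gK X K φ).normalizationOpenCover.f U) q' ⤳ ((gK X K φ).normalizationOpenCover.f U) q →
      (gK X K φ).fromNormalization (((gK X K φ).normalizationOpenCover.f U) q') =
        (gK X K φ).fromNormalization (((gK X K φ).normalizationOpenCover.f U) q) → q' = q := by
  letI := ((gK X K φ).app U.1).hom.toAlgebra
  intro q' q hspec hν
  have hspec' : q' ⤳ q :=
    (((gK X K φ).normalizationOpenCover.f U).isOpenEmbedding.isInducing.specializes_iff).1 hspec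
  have hle : q' ≤ q := (PrimeSpectrum.le_iff_specializes _ _).2 hspec'
  have hc := comm_point (gK X K φ) U q
  have hc' := comm_point (gK X K φ) U q'
  have hpp : (Spec.map ((gK X K φ).normalizationDiagramMap.app (.op U.1))) q' =
      (Spec.map ((gK X K φ).normalizationDiagramMap.app (.op U.1))) q :=
    U.2.fromSpec.isOpenEmbedding.injective ((hc'.symm.trans hν).trans hc)
  have hpp' : q'.asIdeal.comap
        (algebraMap Γ(X, U.1) (integralClosure Γ(X, U.1)
          Γ(Spec (CommRingCat.of K), gK X K φ ⁻¹ᵁ U.1))) =
      q.asIdeal.comap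
        (algebraMap Γ(X, U.1) (integralClosure Γ(X, U.1)
          Γ(Spec (CommRingCat.of K), gK X K φ ⁻¹ᵁ U.1))) :=
    congrArg PrimeSpectrum.asIdeal hpp
  exact eq_of_le_of_comap_eq (A := Γ(X, U.1)) q' q hle hpp'

theorem preimage_genericPoint :
    (gK X K φ).fromNormalization.base ⁻¹' {genericPoint X} =
      {genericPoint (gK X K φ).normalization} := by
  ext y
  simp only [Set.mem_preimage, Set.mem_singleton_iff]
  constructor
  · intro hy
    have hy' : (gK X K φ).fromNormalization y = genericPoint X := hy
    obtain ⟨U, hxU⟩ := exists_affine_nhd X (genericPoint X)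
    have hyU : (gK X K φ).fromNormalization y ∈ U.1 := by rw [hy']; exact hxU
    have hgU : (gK X K φ).fromNormalization (genericPoint (gK X K φ).normalization) ∈ U.1 := by
      rw [fromNormalization_genericPoint]; exact hxU
    obtain ⟨q, hq⟩ := exists_point (gK X K φ) U y hyU
    obtain ⟨q', hq'⟩ := exists_point (gK X K φ) U _ hgU
    have hspec : genericPoint (gK X K φ).normalization ⤳ y :=
      (genericPoint_spec _).specializes (Set.mem_univ y)
    rw [← hq, ← hq'] at hspec
    have hqq := chart_injective_of_specializes X K φ U q' q hspec (by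
      rw [hq, hq', hy', fromNormalization_genericPoint])
    rw [← hq, ← hq']
    exact congrArg _ hqq.symm
  · intro hy
    rw [hy]
    exact fromNormalization_genericPoint X K φ

theorem stalkClosedPointTo_props :
    Function.Injective (Scheme.stalkClosedPointTo (gK X K φ).toNormalization).hom ∧
    Set.range (Scheme.stalkClosedPointTo (gK X K φ).toNormalization).hom =
      {y : K | φ.IsIntegralElem y} := by
  obtain ⟨U, hxU⟩ := exists_affine_nhd X (genericPoint X)
  haveI : Nonempty U.1 := ⟨⟨_, hxU⟩⟩
  letI algL := ((gK X K φ).app U.1).hom.toAlgebra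
  letI fL := (isField_secK X K φ U.1 hxU).toField
  haveI : IsDomain Γ(X, U.1) := IsIntegral.component_integral U.1
  haveI := functionField_isFractionRing_of_isAffineOpen X U.1 U.2
  have hνξ : (gK X K φ).fromNormalization
      ((gK X K φ).toNormalization (IsLocalRing.closedPoint K)) = genericPoint X := by
    have h := congrArg (fun f => f (IsLocalRing.closedPoint K))
      (gK X K φ).toNormalization_fromNormalization
    exact h.trans (gK_apply X K φ _)
  have hmemW : (gK X K φ).toNormalization (IsLocalRing.closedPoint K) ∈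
      (gK X K φ).fromNormalization ⁻¹ᵁ U.1 := by
    show (gK X K φ).fromNormalization _ ∈ U.1
    rw [hνξ]; exact hxU
  have hgU : (gK X K φ) (IsLocalRing.closedPoint K) ∈ U.1 := by
    rw [gK_apply]; exact hxU
  let isoU := ((Spec (CommRingCat.of K)).presheaf.mapIso
    (eqToIso (Scheme.preimage_eq_top_of_closedPoint_mem (gK X K φ) hgU).symm).op ≪≫
      Scheme.ΓSpecIso (CommRingCat.of K))
  let e : Γ(Spec (CommRingCat.of K), gK X K φ ⁻¹ᵁ U.1) ≃+* K := isoU.commRingCatIsoToRingEquiv
  have h1 := Scheme.germ_stalkClosedPointTo (gK X K φ) U.1 hgU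
  haveI : IsLocalHom (CommRingCat.ofHom φ).hom := by
    show IsLocalHom φ
    infer_instance
  have h2 := Scheme.germ_stalkClosedPointTo_Spec_fromSpecStalk (X := X)
    (x := genericPoint X) (CommRingCat.ofHom φ) U.1 hgU
  have he : ∀ a : Γ(X, U.1), e (algebraMap Γ(X, U.1)
      Γ(Spec (CommRingCat.of K), gK X K φ ⁻¹ᵁ U.1) a) =
      φ (algebraMap Γ(X, U.1) X.functionField a) := by
    intro a
    have h3 := h1.symm.trans h2
    exact congrArg (fun f => f.hom a) h3
  have hWaff : IsAffineOpen ((gK X K φ).fromNormalization ⁻¹ᵁ U.1) :=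
    U.2.preimage (gK X K φ).fromNormalization
  let γ : integralClosure Γ(X, U.1) Γ(Spec (CommRingCat.of K), gK X K φ ⁻¹ᵁ U.1) →+*
      (gK X K φ).normalization.presheaf.stalk
        ((gK X K φ).toNormalization (IsLocalRing.closedPoint K)) :=
    ((gK X K φ).normalization.presheaf.germ ((gK X K φ).fromNormalization ⁻¹ᵁ U.1) _ hmemW).hom.comp
      ((gK X K φ).normalizationObjIso U.2).inv.hom
  have h4 := Scheme.germ_stalkClosedPointTo (gK X K φ).toNormalization
    ((gK X K φ).fromNormalization ⁻¹ᵁ U.1) hmemW
  have h5 := (gK X K φ).toNormalization_app_preimage U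
  have hσγ : ∀ b, (Scheme.stalkClosedPointTo (gK X K φ).toNormalization).hom (γ b) = e b.1 := by
    intro b
    have h6 := congrArg (fun f => f.hom (((gK X K φ).normalizationObjIso U.2).inv b)) h4
    simp only [CommRingCat.hom_comp, RingHom.comp_apply] at h6
    rw [h5] at h6
    refine h6.trans ?_
    have h7 := congrArg (fun f => f.hom b) ((gK X K φ).normalizationObjIso U.2).inv_hom_id
    simp only [CommRingCat.hom_comp, RingHom.comp_apply, CommRingCat.hom_id,
      RingHom.id_apply] at h7
    simp only [CommRingCat.hom_comp, RingHom.comp_apply, Iso.trans_hom, Functor.mapIso_hom,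
      Iso.op_hom, eqToIso.hom]
    have h8 : (CommRingCat.Hom.hom ((gK X K φ).normalizationObjIso U.2).hom)
        ((ConcreteCategory.hom ((gK X K φ).normalizationObjIso U.2).inv) b) = b := h7
    rw [h8]
    show _ = (Scheme.ΓSpecIso (CommRingCat.of K)).hom.hom
      (((Spec (CommRingCat.of K)).presheaf.map (eqToHom
        (Scheme.preimage_eq_top_of_closedPoint_mem (gK X K φ) hgU).symm).op).hom b.1)
    congr 1
  have hfrac : ∀ s : (gK X K φ).normalization.presheaf.stalk
      ((gK X K φ).toNormalization (IsLocalRing.closedPoint K)),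
      ∃ b b' : integralClosure Γ(X, U.1) Γ(Spec (CommRingCat.of K), gK X K φ ⁻¹ᵁ U.1),
        IsUnit (γ b') ∧ s * γ b' = γ b := by
    intro s
    letI := TopCat.Presheaf.algebra_section_stalk (gK X K φ).normalization.presheaf
      ⟨(gK X K φ).toNormalization (IsLocalRing.closedPoint K), hmemW⟩
    haveI hloc := hWaff.isLocalization_stalk
      ⟨(gK X K φ).toNormalization (IsLocalRing.closedPoint K), hmemW⟩
    obtain ⟨⟨c, d⟩, hcd⟩ := IsLocalization.surj
      (hWaff.primeIdealOf ⟨(gK X K φ).toNormalization (IsLocalRing.closedPoint K),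
        hmemW⟩).asIdeal.primeCompl s
    have hγ : ∀ c : Γ((gK X K φ).normalization, (gK X K φ).fromNormalization ⁻¹ᵁ U.1),
        γ (((gK X K φ).normalizationObjIso U.2).hom c) =
          (gK X K φ).normalization.presheaf.germ _ _ hmemW c := by
      intro c
      have h9 := congrArg (fun f => f.hom c) ((gK X K φ).normalizationObjIso U.2).hom_inv_id
      simp only [CommRingCat.hom_comp, RingHom.comp_apply, CommRingCat.hom_id,
        RingHom.id_apply] at h9
      show (gK X K φ).normalization.presheaf.germ _ _ hmemW
        ((((gK X K φ).normalizationObjIso U.2).inv)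
          ((((gK X K φ).normalizationObjIso U.2).hom) c)) = _
      exact congrArg _ h9
    refine ⟨((gK X K φ).normalizationObjIso U.2).hom c,
      ((gK X K φ).normalizationObjIso U.2).hom d.1, ?_, ?_⟩
    · rw [hγ]
      exact IsLocalization.map_units _ d
    · rw [hγ, hγ]
      exact hcd
  have hunit : ∀ a : Γ(X, U.1), a ≠ 0 → IsUnit (γ (algebraMap Γ(X, U.1)
      (integralClosure Γ(X, U.1) Γ(Spec (CommRingCat.of K), gK X K φ ⁻¹ᵁ U.1)) a)) := by
    intro a ha
    haveI : IsLocalHom (Scheme.stalkClosedPointTo (gK X K φ).toNormalization).hom :=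
      inferInstance
    apply isUnit_of_map_unit (Scheme.stalkClosedPointTo (gK X K φ).toNormalization).hom
    rw [hσγ]
    show IsUnit (e (algebraMap Γ(X, U.1) Γ(Spec (CommRingCat.of K), gK X K φ ⁻¹ᵁ U.1) a))
    rw [he, isUnit_iff_ne_zero]
    intro h0
    rw [map_eq_zero] at h0
    exact ha ((IsFractionRing.injective Γ(X, U.1) X.functionField) (h0.trans (map_zero _).symm))
  exact ⟨injective_of_frac φ e he _ γ hσγ hfrac hunit,
    range_eq_integralElem φ e he _ γ hσγ hfrac hunit⟩

end

end Groth.Agent.Lib.helper26.NormField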