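import Mathlib
import Groth.Prelude.Def_Curv2
import Groth.Prelude.Def_Pi1
import Groth.Agent.Lib.helper26.NormAff2
import Groth.Agent.Lib.helper26.NormVar
import Groth.Agent.Lib.helper26.NormField

set_option autoImplicit false
universe u
open CategoryTheory CategoryTheory.Limits AlgebraicGeometry

namespace Groth.Agent.Lib.helper26.NormUniq
open Groth.Agent.Lib.helper26.NormAff

/-- sections of a normal integral scheme over an affine open are integrally closed -/
theorem isIntegrallyClosed_sec (Y : Scheme.{u}) [IsIntegral Y] (hY : Pi1.IsNormalScheme Y)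
    (V : Y.Opens) (hV : IsAffineOpen V) (hne : (V : Set Y).Nonempty) :
    IsIntegrallyClosed Γ(Y, V) := by
  haveI : Nonempty V := ⟨⟨_, hne.some_mem⟩⟩
  haveI : IsDomain Γ(Y, V) := IsIntegral.component_integral V
  refine IsIntegrallyClosed.of_localization_maximal fun p _ hp => ?_
  let y : PrimeSpectrum Γ(Y, V) := ⟨p, hp.isPrime⟩
  have hy : hV.fromSpec y ∈ V := by
    have : hV.fromSpec y ∈ Set.range hV.fromSpec := ⟨y, rfl⟩
    rwa [hV.range_fromSpec] at this
  letI := TopCat.Presheaf.algebra_section_stalk Y.presheaf ⟨hV.fromSpec y, hy⟩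
  haveI : IsLocalization.AtPrime (Y.presheaf.stalk (hV.fromSpec y)) p :=
    hV.isLocalization_stalk' y hy
  haveI := (hY (hV.fromSpec y)).2
  exact IsIntegrallyClosed.of_equiv
    (IsLocalization.algEquiv p.primeCompl (Y.presheaf.stalk (hV.fromSpec y))
      (Localization.AtPrime p)).toRingEquiv

theorem appLE_of_eq_comp {P Q R : Scheme.{u}} (a : P ⟶ R) (b : P ⟶ Q) (c : Q ⟶ R)
    (h : a = b ≫ c) (U : R.Opens) (V : Q.Opens) (W : P.Opens) (e₁ : V ≤ c ⁻¹ᵁ U)
    (e₂ : W ≤ b ⁻¹ᵁ V) (e : W ≤ a ⁻¹ᵁ U) :
    a.appLE U W e = c.appLE U V e₁ ≫ b.appLE V W e₂ := by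
  subst h
  exact (Scheme.Hom.appLE_comp_appLE b c U V W e₁ e₂).symm


section main
variable (X : Scheme.{u}) [IsIntegral X] [QuasiCompact (gen X)] [QuasiSeparated (gen X)]
  {Y : Scheme.{u}} [IsIntegral Y] (f : Y ⟶ X) [IsIntegralHom f] (hY : Pi1.IsNormalScheme Y)
  (f₁ : Spec (X.presheaf.stalk (genericPoint X)) ⟶ Y) (H : gen X = f₁ ≫ f)

include hY in
theorem bijective_desc_appLE (U : X.affineOpens) (hne : (U.1 : Set X).Nonempty)
    (hWV : (gen X).fromNormalization ⁻¹ᵁ U.1 ≤
      (gen X).normalizationDesc f₁ f H ⁻¹ᵁ (f ⁻¹ᵁ U.1)) :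
    Function.Bijective (((gen X).normalizationDesc f₁ f H).appLE (f ⁻¹ᵁ U.1)
      ((gen X).fromNormalization ⁻¹ᵁ U.1) hWV).hom := by
  have hgen : genericPoint X ∈ U.1 := genericPoint_mem X U.1 hne
  set d := (gen X).normalizationDesc f₁ f H with hd
  have hd2 : (gen X).toNormalization ≫ d = f₁ :=
    (gen X).toNormalization_normalizationDesc f₁ f H
  have hTW : gen X ⁻¹ᵁ U.1 ≤
      (gen X).toNormalization ⁻¹ᵁ ((gen X).fromNormalization ⁻¹ᵁ U.1) := by
    rw [← Scheme.Hom.comp_preimage, (gen X).toNormalization_fromNormalization]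
  have hTV : gen X ⁻¹ᵁ U.1 ≤ f₁ ⁻¹ᵁ (f ⁻¹ᵁ U.1) := by
    rw [← Scheme.Hom.comp_preimage, ← H]
  have key1 := appLE_of_eq_comp f₁ (gen X).toNormalization d hd2.symm (f ⁻¹ᵁ U.1) _ _ hWV hTW hTV
  have key2 := appLE_of_eq_comp (gen X) f₁ f H U.1 (f ⁻¹ᵁ U.1) (gen X ⁻¹ᵁ U.1) le_rfl hTV le_rfl
  have key3 := (gen X).normalizationObjIso_hom_val U.2
  letI := ((gen X).app U.1).hom.toAlgebra
  letI := (isField_sec X U.1 hgen).toField
  haveI := isFractionRing_sec X U.1 U.2 hgen
  haveI : Nonempty U.1 := ⟨⟨_, hgen⟩⟩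
  haveI : IsDomain Γ(X, U.1) := IsIntegral.component_integral U.1
  have hVne : ((f ⁻¹ᵁ U.1 : Y.Opens) : Set Y).Nonempty := by
    let z : Spec (X.presheaf.stalk (genericPoint X)) :=
      IsLocalRing.closedPoint (X.presheaf.stalk (genericPoint X))
    have hz : z ∈ gen X ⁻¹ᵁ U.1 := by
      rw [preimage_eq_top X U.1 hgen]; trivial
    exact ⟨f₁ z, hTV hz⟩
  haveI : Nonempty (f ⁻¹ᵁ U.1 : Y.Opens) := ⟨⟨_, hVne.some_mem⟩⟩
  haveI : IsDomain Γ(Y, f ⁻¹ᵁ U.1) := IsIntegral.component_integral _
  haveI hicB : IsIntegrallyClosed Γ(Y, f ⁻¹ᵁ U.1) :=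
    isIntegrallyClosed_sec Y hY _ (U.2.preimage f) hVne
  letI algAB : Algebra Γ(X, U.1) Γ(Y, f ⁻¹ᵁ U.1) := (f.app U.1).hom.toAlgebra
  haveI : Algebra.IsIntegral Γ(X, U.1) Γ(Y, f ⁻¹ᵁ U.1) :=
    ⟨fun x => f.isIntegral_app U.1 U.2 x⟩
  set lam : Γ(Y, f ⁻¹ᵁ U.1) →+* Γ(Spec (X.presheaf.stalk (genericPoint X)), gen X ⁻¹ᵁ U.1) :=
    (f₁.appLE (f ⁻¹ᵁ U.1) (gen X ⁻¹ᵁ U.1) hTV).hom with hlam
  have hcomp : ∀ a : Γ(X, U.1), lam (algebraMap Γ(X, U.1) Γ(Y, f ⁻¹ᵁ U.1) a) =
      algebraMap Γ(X, U.1) Γ(Spec (X.presheaf.stalk (genericPoint X)), gen X ⁻¹ᵁ U.1) a := by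
    intro a
    have := congrArg (fun t => t.hom a) key2
    simp only [CommRingCat.hom_comp, RingHom.comp_apply] at this
    rw [RingHom.algebraMap_toAlgebra, RingHom.algebraMap_toAlgebra, Scheme.Hom.app_eq_appLE,
      Scheme.Hom.app_eq_appLE]
    exact this.symm
  have hinjA : Function.Injective (algebraMap Γ(X, U.1)
      Γ(Spec (X.presheaf.stalk (genericPoint X)), gen X ⁻¹ᵁ U.1)) :=
    IsFractionRing.injective _ _
  have hlam_inj : Function.Injective lam := by
    rw [RingHom.injective_iff_ker_eq_bot]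
    apply Ideal.eq_bot_of_comap_eq_bot (R := Γ(X, U.1))
    ext a
    rw [Ideal.mem_comap, RingHom.mem_ker, hcomp, Ideal.mem_bot]
    exact ⟨fun h => hinjA (h.trans (map_zero _).symm), fun h => by rw [h, map_zero]⟩
  letI algBF : Algebra Γ(Y, f ⁻¹ᵁ U.1)
      Γ(Spec (X.presheaf.stalk (genericPoint X)), gen X ⁻¹ᵁ U.1) := lam.toAlgebra
  haveI : IsScalarTower Γ(X, U.1) Γ(Y, f ⁻¹ᵁ U.1)
      Γ(Spec (X.presheaf.stalk (genericPoint X)), gen X ⁻¹ᵁ U.1) :=
    IsScalarTower.of_algebraMap_eq fun a => (hcomp a).symm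
  haveI : FaithfulSMul Γ(Y, f ⁻¹ᵁ U.1)
      Γ(Spec (X.presheaf.stalk (genericPoint X)), gen X ⁻¹ᵁ U.1) :=
    (faithfulSMul_iff_algebraMap_injective _ _).2 hlam_inj
  haveI : IsFractionRing Γ(Y, f ⁻¹ᵁ U.1)
      Γ(Spec (X.presheaf.stalk (genericPoint X)), gen X ⁻¹ᵁ U.1) := by
    refine IsFractionRing.of_field _ _ fun z => ?_
    obtain ⟨a, s, _, h⟩ := IsFractionRing.div_surjective (A := Γ(X, U.1)) z
    refine ⟨algebraMap _ _ a, algebraMap _ _ s, ?_⟩
    rw [← h, ← IsScalarTower.algebraMap_apply, ← IsScalarTower.algebraMap_apply]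
  -- τ is injective with image in the integral closure
  have hτ : ∀ w : Γ((gen X).normalization, (gen X).fromNormalization ⁻¹ᵁ U.1),
      ((gen X).toNormalization.appLE _ _ hTW).hom w =
        ((((gen X).normalizationObjIso U.2).hom w : integralClosure Γ(X, U.1)
          Γ(Spec (X.presheaf.stalk (genericPoint X)), gen X ⁻¹ᵁ U.1)) :
          Γ(Spec (X.presheaf.stalk (genericPoint X)), gen X ⁻¹ᵁ U.1)) := by
    intro w
    have := congrArg (fun t => t.hom w) key3
    exact this.symm
  have hτ_inj : Function.Injective ((gen X).toNormalization.appLE _ _ hTW).hom := by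
    intro w w' hww
    rw [hτ, hτ] at hww
    exact (ConcreteCategory.bijective_of_isIso ((gen X).normalizationObjIso U.2).hom).1
      (Subtype.ext hww)
  have hfac : ∀ b, lam b = ((gen X).toNormalization.appLE _ _ hTW).hom
      ((d.appLE (f ⁻¹ᵁ U.1) ((gen X).fromNormalization ⁻¹ᵁ U.1) hWV).hom b) := by
    intro b
    have := congrArg (fun t => t.hom b) key1
    exact this
  constructor
  · intro b b' hbb
    apply hlam_inj
    rw [hfac, hfac, hbb]
  · intro w
    have hint : IsIntegral Γ(X, U.1) (((gen X).toNormalization.appLE _ _ hTW).hom w) := by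
      rw [hτ]
      exact (((gen X).normalizationObjIso U.2).hom w).2
    have hintB : IsIntegral Γ(Y, f ⁻¹ᵁ U.1) (((gen X).toNormalization.appLE _ _ hTW).hom w) :=
      hint.tower_top
    obtain ⟨b, hb⟩ := IsIntegrallyClosed.isIntegral_iff.1 hintB
    refine ⟨b, hτ_inj ?_⟩
    rw [← hfac]
    exact hb

include hY in
theorem isIso_desc : IsIso ((gen X).normalizationDesc f₁ f H) := by
  have hd1 : (gen X).normalizationDesc f₁ f H ≫ f = (gen X).fromNormalization :=
    (gen X).normalizationDesc_comp f₁ f H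
  let 𝒱 : {U : X.affineOpens // (U.1 : Set X).Nonempty} → Y.Opens := fun U => f ⁻¹ᵁ U.1.1
  have hsup : iSup 𝒱 = ⊤ := by
    rw [eq_top_iff]
    intro y _
    obtain ⟨U, hU⟩ := exists_affine_nhd X (f y)
    exact TopologicalSpace.Opens.mem_iSup.2 ⟨⟨U, ⟨_, hU⟩⟩, hU⟩
  have hmain := (IsZariskiLocalAtTarget.iff_of_iSup_eq_top
    (P := MorphismProperty.isomorphisms Scheme.{u})
    (f := (gen X).normalizationDesc f₁ f H) 𝒱 hsup).2 ?_
  · exact hmain
  intro U
  show IsIso ((gen X).normalizationDesc f₁ f H ∣_ (f ⁻¹ᵁ U.1.1))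
  haveI : IsAffineHom ((gen X).normalizationDesc f₁ f H) := inferInstance
  rw [isIso_morphismRestrict_iff_isIso_app (f := (gen X).normalizationDesc f₁ f H)
    (U.1.2.preimage f), ConcreteCategory.isIso_iff_bijective]
  have hWV : (gen X).fromNormalization ⁻¹ᵁ U.1.1 =
      (gen X).normalizationDesc f₁ f H ⁻¹ᵁ (f ⁻¹ᵁ U.1.1) := by
    rw [← Scheme.Hom.comp_preimage, hd1]
  have hb := bijective_desc_appLE X f hY f₁ H U.1 U.2 hWV.le
  rw [Scheme.Hom.app_eq_appLE]
  exact (Scheme.Hom.appLE_congr _ hWV.le rfl hWV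
    (fun φ => Function.Bijective φ.hom)).1 hb

end main

section construct
variable (X : Scheme.{u}) [IsIntegral X] {Y : Scheme.{u}} [IsIntegral Y] (f : Y ⟶ X)

theorem exists_section (hη : f (genericPoint Y) = genericPoint X)
    [IsIso (f.stalkMap (genericPoint Y))] :
    ∃ f₁ : Spec (X.presheaf.stalk (genericPoint X)) ⟶ Y, gen X = f₁ ≫ f := by
  have hsp : f (genericPoint Y) ⤳ genericPoint X := specializes_of_eq hη
  haveI : IsIso (X.presheaf.stalkSpecializes hsp) :=
    inferInstanceAs (IsIso (X.presheaf.stalkCongr (Inseparable.of_eq hη.symm)).hom)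
  let θ := X.presheaf.stalkSpecializes hsp ≫ f.stalkMap (genericPoint Y)
  haveI : IsIso θ := inferInstance
  refine ⟨Spec.map (inv θ) ≫ gen Y, ?_⟩
  have h1 : gen Y ≫ f = Spec.map θ ≫ gen X := by
    rw [Spec.map_comp, Category.assoc, Scheme.SpecMap_stalkSpecializes_fromSpecStalk,
      Scheme.SpecMap_stalkMap_fromSpecStalk]
  rw [Category.assoc, h1, ← Category.assoc, ← Spec.map_comp, IsIso.hom_inv_id, Spec.map_id,
    Category.id_comp]

end construct

section forward

theorem bijective_residue_of_isField (R : Type*) [CommRing R] [IsLocalRing R] (h : IsField R) :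
    Function.Bijective (IsLocalRing.residue R) := by
  refine ⟨?_, IsLocalRing.residue_surjective⟩
  rw [RingHom.injective_iff_ker_eq_bot, IsLocalRing.ker_residue]
  exact IsLocalRing.isField_iff_maximalIdeal_eq.1 h

theorem isField_stalk_of_eq (Z : Scheme.{u}) [IsIntegral Z] (z : Z) (hz : z = genericPoint Z) :
    IsField (Z.presheaf.stalk z) := by
  subst hz
  letI : Field (Z.presheaf.stalk (genericPoint Z)) := inferInstanceAs (Field Z.functionField)
  exact Field.toIsField _

theorem chart_injective_of_specializes {X' X : Scheme.{u}} (f : X' ⟶ X) [QuasiCompact f]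
    [QuasiSeparated f] (U : X.affineOpens) :
    letI := (f.app U.1).hom.toAlgebra
    ∀ q' q : PrimeSpectrum (integralClosure Γ(X, U.1) Γ(X', f ⁻¹ᵁ U.1)),
      (f.normalizationOpenCover.f U) q' ⤳ (f.normalizationOpenCover.f U) q →
      f.fromNormalization ((f.normalizationOpenCover.f U) q') =
        f.fromNormalization ((f.normalizationOpenCover.f U) q) → q' = q := by
  letI := (f.app U.1).hom.toAlgebra
  intro q' q hspec hν
  have hspec' : q' ⤳ q :=
    ((f.normalizationOpenCover.f U).isOpenEmbedding.isInducing.specializes_iff).1 hspec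
  have hle : q' ≤ q := (PrimeSpectrum.le_iff_specializes _ _).2 hspec'
  have hc := NormGen.comm_point f U q
  have hc' := NormGen.comm_point f U q'
  have hpp : (Spec.map (f.normalizationDiagramMap.app (.op U.1))) q' =
      (Spec.map (f.normalizationDiagramMap.app (.op U.1))) q :=
    U.2.fromSpec.isOpenEmbedding.injective ((hc'.symm.trans hν).trans hc)
  have hpp' : q'.asIdeal.comap
        (algebraMap Γ(X, U.1) (integralClosure Γ(X, U.1) Γ(X', f ⁻¹ᵁ U.1))) =
      q.asIdeal.comap
        (algebraMap Γ(X, U.1) (integralClosure Γ(X, U.1) Γ(X', f ⁻¹ᵁ U.1))) :=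
    congrArg PrimeSpectrum.asIdeal hpp
  exact NormField.eq_of_le_of_comap_eq (A := Γ(X, U.1)) q' q hle hpp'

variable (X : Scheme.{u}) [IsIntegral X] [QuasiCompact (gen X)] [QuasiSeparated (gen X)]

theorem preimage_genericPoint :
    (gen X).fromNormalization.base ⁻¹' {genericPoint X} =
      {genericPoint (gen X).normalization} := by
  ext y
  simp only [Set.mem_preimage, Set.mem_singleton_iff]
  constructor
  · intro hy
    have hy' : (gen X).fromNormalization y = genericPoint X := hy
    obtain ⟨U, hxU⟩ := exists_affine_nhd X (genericPoint X)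
    have hyU : (gen X).fromNormalization y ∈ U.1 := by rw [hy']; exact hxU
    have hgU : (gen X).fromNormalization (genericPoint (gen X).normalization) ∈ U.1 := by
      rw [fromNormalization_genericPoint]; exact hxU
    obtain ⟨q, hq⟩ := NormGen.exists_point (gen X) U y hyU
    obtain ⟨q', hq'⟩ := NormGen.exists_point (gen X) U _ hgU
    have hspec : genericPoint (gen X).normalization ⤳ y :=
      (genericPoint_spec _).specializes (Set.mem_univ y)
    rw [← hq, ← hq'] at hspec
    have hqq := chart_injective_of_specializes (gen X) U q' q hspec (by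
      rw [hq, hq', hy', fromNormalization_genericPoint])
    rw [← hq, ← hq']
    exact congrArg _ hqq.symm
  · intro hy
    rw [hy]
    exact fromNormalization_genericPoint X

theorem isIso_stalkMap_genericPoint :
    IsIso ((gen X).fromNormalization.stalkMap (genericPoint (gen X).normalization)) := by
  rw [ConcreteCategory.isIso_iff_bijective]
  have hsq := Scheme.residue_residueFieldMap (gen X).fromNormalization
    (genericPoint (gen X).normalization)
  have h1 : Function.Bijective (X.residue ((gen X).fromNormalization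
      (genericPoint (gen X).normalization))).hom :=
    bijective_residue_of_isField _ (isField_stalk_of_eq X _ (fromNormalization_genericPoint X))
  have h2 : Function.Bijective ((gen X).normalization.residue
      (genericPoint (gen X).normalization)).hom :=
    bijective_residue_of_isField _ (isField_stalk_of_eq _ _ rfl)
  have h3 := bijective_residueFieldMap_genericPoint X
  have h4 : Function.Bijective (((gen X).normalization.residue
      (genericPoint (gen X).normalization)).hom ∘
      ((gen X).fromNormalization.stalkMap (genericPoint (gen X).normalization)).hom) := by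
    have : (((gen X).normalization.residue (genericPoint (gen X).normalization)).hom ∘
      ((gen X).fromNormalization.stalkMap (genericPoint (gen X).normalization)).hom) =
      ((gen X).fromNormalization.residueFieldMap (genericPoint (gen X).normalization)).hom ∘
      (X.residue ((gen X).fromNormalization (genericPoint (gen X).normalization))).hom := by
      funext a
      exact (congrArg (fun t => t.hom a) hsq).symm
    rw [this]
    exact h3.comp h1
  exact ⟨(Function.Injective.of_comp h4.1), fun b => by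
    obtain ⟨a, ha⟩ := h4.2 (((gen X).normalization.residue
      (genericPoint (gen X).normalization)).hom b)
    exact ⟨a, h2.1 ha⟩⟩

end forward

section assemble
variable (X : Scheme.{u}) [IsIntegral X] [QuasiCompact (gen X)] [QuasiSeparated (gen X)]

theorem forward_props {Y : Scheme.{u}} (e : Y ≅ (gen X).normalization) :
    Pi1.IsNormalScheme Y ∧ IsIntegralHom (e.hom ≫ (gen X).fromNormalization) ∧
      ∃ _ : IrreducibleSpace ↥Y,
        (e.hom ≫ (gen X).fromNormalization).base ⁻¹' {genericPoint X} = {genericPoint Y} ∧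
          IsIso ((e.hom ≫ (gen X).fromNormalization).stalkMap (genericPoint Y)) := by
  haveI : Nonempty Y := ⟨e.inv (genericPoint _)⟩
  haveI : IsIntegral Y := isIntegral_of_isOpenImmersion e.hom
  have hgp : e.hom (genericPoint Y) = genericPoint (gen X).normalization :=
    genericPoint_eq_of_isOpenImmersion e.hom
  refine ⟨?_, inferInstance, inferInstance, ?_, ?_⟩
  · intro y
    let E : (gen X).normalization.presheaf.stalk (e.hom y) ≃+* Y.presheaf.stalk y :=
      (asIso (e.hom.stalkMap y)).commRingCatIsoToRingEquiv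
    obtain ⟨h1, h2⟩ := isNormalScheme_normalization X (e.hom y)
    exact ⟨E.symm.toMulEquiv.isDomain, IsIntegrallyClosed.of_equiv E⟩
  · ext y
    simp only [Set.mem_preimage, Set.mem_singleton_iff]
    have h1 : (e.hom ≫ (gen X).fromNormalization) y = (gen X).fromNormalization (e.hom y) := rfl
    constructor
    · intro hy
      have hy' : e.hom y ∈ (gen X).fromNormalization.base ⁻¹' {genericPoint X} := by
        rw [Set.mem_preimage, Set.mem_singleton_iff]
        exact hy
      rw [preimage_genericPoint X, Set.mem_singleton_iff, ← hgp] at hy'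
      exact e.hom.homeomorph.injective hy'
    · rintro rfl
      show (gen X).fromNormalization (e.hom (genericPoint Y)) = genericPoint X
      rw [hgp, fromNormalization_genericPoint]
  · rw [Scheme.Hom.stalkMap_comp]
    have key : ∀ x', x' = genericPoint (gen X).normalization →
        IsIso ((gen X).fromNormalization.stalkMap x') := by
      rintro _ rfl
      exact isIso_stalkMap_genericPoint X
    have h1 := key _ hgp
    have h2 : IsIso (e.hom.stalkMap (genericPoint Y)) := inferInstance
    exact IsIso.comp_isIso' h1 h2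

theorem iso_iff {Y : Scheme.{u}} (f : Y ⟶ X) :
    (∃ e : Y ≅ (gen X).normalization, e.hom ≫ (gen X).fromNormalization = f) ↔
      Pi1.IsNormalScheme Y ∧ IsIntegralHom f ∧
        ∃ _ : IrreducibleSpace ↥Y, f.base ⁻¹' {genericPoint X} = {genericPoint Y} ∧
          IsIso (f.stalkMap (genericPoint Y)) := by
  constructor
  · rintro ⟨e, rfl⟩
    exact forward_props X e
  · rintro ⟨hY, hint, hirr, hfib, hiso⟩
    haveI : IsReduced Y := by
      haveI : ∀ y : Y, _root_.IsReduced (Y.presheaf.stalk y) := fun y => by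
        haveI := (hY y).1
        infer_instance
      exact isReduced_of_isReduced_stalk Y
    haveI : IsIntegral Y := isIntegral_of_irreducibleSpace_of_isReduced Y
    have hη : f (genericPoint Y) = genericPoint X := by
      have : genericPoint Y ∈ f.base ⁻¹' {genericPoint X} := by rw [hfib]; rfl
      exact this
    obtain ⟨f₁, H⟩ := exists_section X f hη
    haveI := isIso_desc X f hY f₁ H
    refine ⟨(asIso ((gen X).normalizationDesc f₁ f H)).symm, ?_⟩
    show inv _ ≫ _ = f
    rw [IsIso.inv_comp_eq, (gen X).normalizationDesc_comp]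

end assemble

end Groth.Agent.Lib.helper26.NormUniq
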