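import Mathlib
import Groth.Prelude.Def_Curv2
import Groth.Prelude.Def_Pi1
import Groth.Agent.Lib.helper26.NormUniq

set_option autoImplicit false
universe u
open CategoryTheory CategoryTheory.Limits AlgebraicGeometry

namespace Groth.Agent.Lib.helper26.NormUniq
open Groth.Agent.Lib.helper26.NormAff

section dense
variable (X : Scheme.{u}) [IsIntegral X]

theorem isReduced_of_normal {Y : Scheme.{u}} (hY : Pi1.IsNormalScheme Y) : IsReduced Y := by
  haveI : ∀ y : Y, _root_.IsReduced (Y.presheaf.stalk y) := fun y => by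
    haveI := (hY y).1
    infer_instance
  exact isReduced_of_isReduced_stalk Y

theorem birational_of_dense {Y : Scheme.{u}} (f : Y ⟶ X) (hY : Pi1.IsNormalScheme Y)
    (U : X.Opens) (hU : Dense (U : Set X)) (hfU : Dense ((f ⁻¹ᵁ U : Y.Opens) : Set Y))
    [IsIso (f ∣_ U)] :
    ∃ _ : IrreducibleSpace ↥Y, f.base ⁻¹' {genericPoint X} = {genericPoint Y} ∧
      IsIso (f.stalkMap (genericPoint Y)) := by
  haveI : Nonempty U := ⟨⟨_, hU.nonempty.some_mem⟩⟩
  haveI : Nonempty (f ⁻¹ᵁ U : Y.Opens) :=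
    ⟨(inv (f ∣_ U)) (⟨_, hU.nonempty.some_mem⟩ : U)⟩
  haveI : IsIntegral U.toScheme := inferInstance
  haveI : IsIntegral (f ⁻¹ᵁ U).toScheme := isIntegral_of_isOpenImmersion (f ∣_ U)
  haveI hirr : IrreducibleSpace Y := by
    rw [irreducibleSpace_def]
    have h1 := ((IrreducibleSpace.isIrreducible_univ (f ⁻¹ᵁ U).toScheme).image _
      (f ⁻¹ᵁ U).ι.continuous.continuousOn).closure
    have h2 : closure ((f ⁻¹ᵁ U).ι '' (Set.univ : Set (f ⁻¹ᵁ U).toScheme)) = Set.univ := by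
      rw [Set.image_univ, Scheme.Opens.range_ι]
      exact hfU.closure_eq
    rwa [h2] at h1
  haveI : IsReduced Y := isReduced_of_normal hY
  haveI : IsIntegral Y := isIntegral_of_irreducibleSpace_of_isReduced Y
  have hg1 : (f ∣_ U) (genericPoint (f ⁻¹ᵁ U).toScheme) = genericPoint U.toScheme :=
    genericPoint_eq_of_isOpenImmersion (f ∣_ U)
  have hg2 : (f ⁻¹ᵁ U).ι (genericPoint (f ⁻¹ᵁ U).toScheme) = genericPoint Y :=
    genericPoint_eq_of_isOpenImmersion (f ⁻¹ᵁ U).ι
  have hg3 : U.ι (genericPoint U.toScheme) = genericPoint X :=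
    genericPoint_eq_of_isOpenImmersion U.ι
  have hsq : ∀ y' : (f ⁻¹ᵁ U).toScheme, U.ι ((f ∣_ U) y') = f ((f ⁻¹ᵁ U).ι y') := by
    intro y'
    have := congrArg (fun t => t y') (morphismRestrict_ι f U)
    exact this
  have hη : f (genericPoint Y) = genericPoint X := by
    rw [← hg2, ← hsq, hg1, hg3]
  refine ⟨hirr, ?_, ?_⟩
  · ext y
    simp only [Set.mem_preimage, Set.mem_singleton_iff]
    constructor
    · intro hy
      have hy' : f y = genericPoint X := hy
      have hyU : y ∈ f ⁻¹ᵁ U := by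
        show f y ∈ U
        rw [hy', ← hg3]
        exact (genericPoint U.toScheme).2
      have h1 : U.ι ((f ∣_ U) ⟨y, hyU⟩) = U.ι ((f ∣_ U) (genericPoint (f ⁻¹ᵁ U).toScheme)) := by
        rw [hsq, hsq, hg2, hη]
        exact hy'
      have h2 := U.ι.isOpenEmbedding.injective h1
      have h3 := (f ∣_ U).homeomorph.injective h2
      rw [← hg2, ← h3]
      rfl
    · rintro rfl
      exact hη
  · have hmem : genericPoint Y ∈ f ⁻¹ᵁ U := by
      rw [← hg2]
      exact (genericPoint (f ⁻¹ᵁ U).toScheme).2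
    have e := morphismRestrictStalkMap f U ⟨genericPoint Y, hmem⟩
    have h1 : IsIso ((f ∣_ U).stalkMap ⟨genericPoint Y, hmem⟩) := inferInstance
    exact ((MorphismProperty.isomorphisms CommRingCat).arrow_mk_iso_iff e).1 h1

theorem isIntegrallyClosed_sec' (V : X.Opens) (hV : IsAffineOpen V)
    (hne : (V : Set X).Nonempty) (h : ∀ x ∈ V, IsIntegrallyClosed (X.presheaf.stalk x)) :
    IsIntegrallyClosed Γ(X, V) := by
  haveI : Nonempty V := ⟨⟨_, hne.some_mem⟩⟩
  haveI : IsDomain Γ(X, V) := IsIntegral.component_integral V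
  refine IsIntegrallyClosed.of_localization_maximal fun p _ hp => ?_
  let y : PrimeSpectrum Γ(X, V) := ⟨p, hp.isPrime⟩
  have hy : hV.fromSpec y ∈ V := by
    have : hV.fromSpec y ∈ Set.range hV.fromSpec := ⟨y, rfl⟩
    rwa [hV.range_fromSpec] at this
  letI := TopCat.Presheaf.algebra_section_stalk X.presheaf ⟨hV.fromSpec y, hy⟩
  haveI : IsLocalization.AtPrime (X.presheaf.stalk (hV.fromSpec y)) p :=
    hV.isLocalization_stalk' y hy
  haveI := h _ hy
  exact IsIntegrallyClosed.of_equiv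
    (IsLocalization.algEquiv p.primeCompl (X.presheaf.stalk (hV.fromSpec y))
      (Localization.AtPrime p)).toRingEquiv

variable [QuasiCompact (gen X)] [QuasiSeparated (gen X)]

theorem dense_iff
    (hV : ∃ V : X.Opens, (V : Set ↥X).Nonempty ∧
      ∀ x ∈ V, IsIntegrallyClosed (X.presheaf.stalk x))
    {Y : Scheme.{u}} (f : Y ⟶ X) :
    (∃ e : Y ≅ (gen X).normalization, e.hom ≫ (gen X).fromNormalization = f) ↔
      Pi1.IsNormalScheme Y ∧ IsIntegralHom f ∧
        ∃ U : X.Opens, Dense (U : Set ↥X) ∧ Dense ((f ⁻¹ᵁ U : Y.Opens) : Set ↥Y) ∧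
          IsIso (f ∣_ U) := by
  constructor
  · rintro ⟨e, rfl⟩
    obtain ⟨hn, hint, hirr, -, -⟩ := forward_props X e
    obtain ⟨V, ⟨x, hx⟩, hVic⟩ := hV
    obtain ⟨_, ⟨U, hU, rfl⟩, hxU, hUV⟩ :=
      X.isBasis_affineOpens.exists_subset_of_mem_open hx V.isOpen
    have hic := isIntegrallyClosed_sec' X U hU ⟨x, hxU⟩ (fun z hz => hVic z (hUV hz))
    have hiso : IsIso ((gen X).fromNormalization ∣_ U) :=
      NormVar.isIso_restrict_of_isIntegrallyClosed X ⟨U, hU⟩ ⟨x, hxU⟩ hic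
    have hiso' : IsIso ((e.hom ≫ (gen X).fromNormalization) ∣_ U) := by
      rw [morphismRestrict_comp]
      have h1 : IsIso (e.hom ∣_ (gen X).fromNormalization ⁻¹ᵁ U) := inferInstance
      exact IsIso.comp_isIso' h1 hiso
    refine ⟨hn, hint, U, U.isOpen.dense ⟨x, hxU⟩, ?_, hiso'⟩
    refine ((e.hom ≫ (gen X).fromNormalization) ⁻¹ᵁ U).isOpen.dense ?_
    exact ⟨_, ((inv ((e.hom ≫ (gen X).fromNormalization) ∣_ U)) (⟨x, hxU⟩ : U)).2⟩
  · rintro ⟨hY, hint, U, hU, hfU, hiso⟩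
    exact (iso_iff X f).2 ⟨hY, hint, birational_of_dense X f hY U hU hfU⟩

end dense

end Groth.Agent.Lib.helper26.NormUniq
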