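import Mathlib
import Groth.Agent.Lib.helper26.CDivLib12

universe u
open AlgebraicGeometry CategoryTheory Topology TopologicalSpace IsLocalRing Order

namespace Groth.Agent.Lib.helper26.OrdFin

open Groth.Agent.Lib.helper26.CDivLib

variable {X : Scheme.{u}} [IsIntegral X] [IsLocallyNoetherian X]

/-- a height one prime of a domain containing a nonzero `a` is minimal over `(a)`. -/
theorem mem_minimalPrimes_span_of_height_one {A : Type u} [CommRing A] [IsDomain A]
    (P : Ideal A) [hP : P.IsPrime] (hht : P.height = 1) (a : A) (ha : a ≠ 0) (haP : a ∈ P) :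
    P ∈ (Ideal.span {a}).minimalPrimes := by
  refine ⟨⟨hP, (Ideal.span_singleton_le_iff_mem _).2 haP⟩, fun q ⟨hq, hqa⟩ hqP => ?_⟩
  by_contra hnle
  have hlt : q < P := lt_of_le_of_ne hqP (fun h => hnle (h ▸ le_rfl))
  haveI := hq
  have h1 := Ideal.height_add_one_le_of_lt_of_isPrime hlt
  rw [hht] at h1
  have h2 : q.height = 0 := by
    have h3 : q.height + 1 ≤ 0 + 1 := by simpa using h1
    have := (ENat.add_le_add_iff_right (by decide : (1 : ℕ∞) ≠ ⊤)).1 h3
    exact le_antisymm this zero_le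
  have h4 : q = ⊥ := Ideal.height_eq_zero_iff_eq_bot.1 h2
  apply ha
  have : a ∈ q := hqa (Ideal.subset_span rfl)
  rw [h4] at this
  exact this

theorem locallyFinite_ord_ne_zero (f : X.functionField) (hf : f ≠ 0) :
    LocallyFinite (fun ξ : {ξ : X // coheight ξ = 1 ∧ Scheme.ord f ξ ≠ 0} =>
      closure ({ξ.1} : Set X)) := by
  intro x
  obtain ⟨V, hV, hxV, -⟩ := (Opens.isBasis_iff_nbhd.1 X.isBasis_affineOpens)
    (show x ∈ (⊤ : X.Opens) from trivial)
  have hV' : IsAffineOpen V := hV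
  haveI : Nonempty V := ⟨⟨x, hxV⟩⟩
  haveI : IsNoetherianRing Γ(X, V) := IsLocallyNoetherian.component_noetherian ⟨V, hV⟩
  haveI := functionField_isFractionRing_of_isAffineOpen X V hV'
  obtain ⟨a, b, hb, hab⟩ := IsFractionRing.div_surjective (A := Γ(X, V)) f
  have hb0 : b ≠ 0 := nonZeroDivisors.ne_zero hb
  have hbK : algebraMap Γ(X, V) X.functionField b ≠ 0 := by
    intro h0
    exact hb0 (IsFractionRing.injective Γ(X, V) X.functionField (h0.trans (map_zero _).symm))
  have ha0 : a ≠ 0 := by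
    rintro rfl
    rw [map_zero, zero_div] at hab
    exact hf hab.symm
  have hmul : X.germToFunctionField V b * f = X.germToFunctionField V a := by
    have : algebraMap Γ(X, V) X.functionField b * f = algebraMap Γ(X, V) X.functionField a := by
      rw [← hab, mul_div_cancel₀ _ hbK]
    exact this
  refine ⟨V, V.2.mem_nhds hxV, ?_⟩
  -- the finite set of primes
  set F : Set (Ideal Γ(X, V)) := (Ideal.span {a}).minimalPrimes ∪ (Ideal.span {b}).minimalPrimes
    with hF
  have hFfin : F.Finite :=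
    (Ideal.finite_minimalPrimes_of_isNoetherianRing _ _).union
      (Ideal.finite_minimalPrimes_of_isNoetherianRing _ _)
  classical
  let g : {ξ : X // coheight ξ = 1 ∧ Scheme.ord f ξ ≠ 0} → Ideal Γ(X, V) := fun ξ =>
    if h : ξ.1 ∈ V then (hV'.primeIdealOf ⟨ξ.1, h⟩).asIdeal else ⊥
  have hmemV : ∀ ξ : {ξ : X // coheight ξ = 1 ∧ Scheme.ord f ξ ≠ 0},
      (closure ({ξ.1} : Set X) ∩ V).Nonempty → ξ.1 ∈ V := by
    rintro ξ ⟨y, hy, hyV⟩
    exact (specializes_iff_mem_closure.2 hy).mem_open V.2 hyV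
  refine Set.Finite.of_injOn (f := g) (t := F) ?_ ?_ hFfin
  · intro ξ hξ
    have hξV := hmemV ξ hξ
    show g ξ ∈ F
    simp only [g, dif_pos hξV]
    have hht : (hV'.primeIdealOf ⟨ξ.1, hξV⟩).asIdeal.height = 1 := by
      have h1 := Groth.Agent.Lib.helper26.Haupt.stalk_dim_eq_height hV' ξ.1 hξV
      rw [ringKrullDim_stalk_eq_coheight, ξ.2.1] at h1
      exact_mod_cast h1.symm
    have hor : a ∈ (hV'.primeIdealOf ⟨ξ.1, hξV⟩).asIdeal ∨
        b ∈ (hV'.primeIdealOf ⟨ξ.1, hξV⟩).asIdeal := by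
      by_contra hcon
      push_neg at hcon
      apply ξ.2.2
      have hu := mem_stalkUnits_of_frac hV' ξ.1 hξV (Units.mk0 f hf) b a hcon.2 hcon.1 hmul
      exact ord_eq_zero_of_mem_stalkUnits ξ.2.1 (Units.mk0 f hf) hu
    rcases hor with h | h
    · exact Or.inl (mem_minimalPrimes_span_of_height_one _ hht a ha0 h)
    · exact Or.inr (mem_minimalPrimes_span_of_height_one _ hht b hb0 h)
  · intro ξ hξ ξ' hξ' hgg
    have hξV := hmemV ξ hξ
    have hξ'V := hmemV ξ' hξ'
    simp only [g, dif_pos hξV, dif_pos hξ'V] at hgg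
    have h1 : hV'.primeIdealOf ⟨ξ.1, hξV⟩ = hV'.primeIdealOf ⟨ξ'.1, hξ'V⟩ :=
      PrimeSpectrum.ext hgg
    have h2 := congrArg hV'.fromSpec h1
    rw [hV'.fromSpec_primeIdealOf, hV'.fromSpec_primeIdealOf] at h2
    exact Subtype.ext h2

end Groth.Agent.Lib.helper26.OrdFin
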