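import Mathlib
import Groth.Prelude.Def_Flat
import Groth.Agent.Lib.helper26.BrFib5
import Groth.Agent.Lib.helper26.NormField

set_option autoImplicit false
universe u
open CategoryTheory CategoryTheory.Limits AlgebraicGeometry

namespace Groth.Agent.Lib.helper26.PInsNorm

open Groth.Agent.Lib.helper26.NormAff Groth.Agent.Lib.helper26.NormGen

section compat
variable (Y : Scheme.{u}) [IsIntegral Y] (L : Type u) [Field L] (φ : Y.functionField →+* L)

theorem secEquivTop_apply (R : CommRingCat.{u}) (W : (Spec R).Opens) (hW : W = ⊤) (x : R) :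
    secEquivTop R W hW x =
      (Spec R).presheaf.map (homOfLE (le_top : W ≤ ⊤)).op ((Scheme.ΓSpecIso R).inv x) := rfl

theorem ψ_secEquivTop (U : Y.Opens) (h : genericPoint Y ∈ U) (x : Y.functionField) :
    ψ Y L φ U (secEquivTop (Y.presheaf.stalk (genericPoint Y)) (gen Y ⁻¹ᵁ U)
        (NormAff.preimage_eq_top Y U h) x) =
      secEquivTop (CommRingCat.of L) (gK Y L φ ⁻¹ᵁ U) (NormGen.preimage_eq_top Y L φ U h)
        (φ x) := by
  rw [secEquivTop_apply, secEquivTop_apply]
  have h1 := Scheme.ΓSpecIso_inv_naturality (CommRingCat.ofHom φ)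
  have h2 := ConcreteCategory.congr_hom h1 x
  have h3 := (Spec.map (CommRingCat.ofHom φ)).naturality
    (homOfLE (le_top : gen Y ⁻¹ᵁ U ≤ ⊤)).op
  have h4 := ConcreteCategory.congr_hom h3
    ((Scheme.ΓSpecIso (Y.presheaf.stalk (genericPoint Y))).inv x)
  simp only [CommRingCat.comp_apply] at h2 h4
  show ((Spec.map (CommRingCat.ofHom φ)).app (gen Y ⁻¹ᵁ U)).hom _ = _
  erw [h4]
  erw [← h2]
  rfl

end compat

section alg

/-- ring-level heart: maps out of the integral closure in a purely inseparable extension are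
determined on the integral closure in the base field. -/
theorem eq_of_comp_eq {A F L' E : Type*} [CommRing A] [CommRing F] [CommRing L'] [Field E]
    [Algebra A F] [Algebra A L'] (ψ : F →ₐ[A] L') (hψ : Function.Injective ψ) (p : ℕ)
    (hp : p = 1 ∨ (p.Prime ∧ (p : A) = 0))
    (hpi : ∀ z : L', ∃ n : ℕ, z ^ (p ^ n) ∈ ψ.range)
    (σ₁ σ₂ : integralClosure A L' →+* E)
    (h : σ₁.comp (ψ.mapIntegralClosure : integralClosure A F →+* integralClosure A L') =
      σ₂.comp (ψ.mapIntegralClosure : integralClosure A F →+* integralClosure A L')) :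
    σ₁ = σ₂ := by
  ext b
  obtain ⟨n, c₀, hc₀'⟩ := hpi b.1
  have hc₀ : ψ c₀ = (b : L') ^ (p ^ n) := hc₀'
  have hc₀int : IsIntegral A c₀ := by
    rw [← isIntegral_algHom_iff ψ hψ, hc₀]
    exact b.2.pow _
  have hb : ψ.mapIntegralClosure ⟨c₀, hc₀int⟩ = b ^ (p ^ n) := Subtype.ext hc₀
  have h1 : σ₁ (b ^ (p ^ n)) = σ₂ (b ^ (p ^ n)) := by
    rw [← hb]
    exact RingHom.congr_fun h ⟨c₀, hc₀int⟩
  rw [map_pow, map_pow] at h1
  rcases hp with hp | ⟨hp, hpA⟩
  · rw [hp, one_pow, pow_one, pow_one] at h1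
    exact h1
  · have hE0 : (p : E) = 0 := by
      have : (p : E) = σ₁ (algebraMap A _ (p : A)) := by
        rw [map_natCast, map_natCast]
      rw [this, hpA, map_zero, map_zero]
    haveI : CharP E p := (CharP.charP_iff_prime_eq_zero hp).2 hE0
    haveI : ExpChar E p := ExpChar.prime hp
    exact iterateFrobenius_inj E p n h1

end alg

section chart
variable (Y : Scheme.{u}) [IsIntegral Y] (L : Type u) [Field L] (φ : Y.functionField →+* L)

/-- `ψ` as an algebra hom over `Γ(Y, U)`. -/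
noncomputable def ψAlg (U : Y.Opens) :
    letI := ((gK Y L φ).app U).hom.toAlgebra
    letI := ((gen Y).app U).hom.toAlgebra
    Γ(Spec (Y.presheaf.stalk (genericPoint Y)), gen Y ⁻¹ᵁ U) →ₐ[Γ(Y, U)]
      Γ(Spec (CommRingCat.of L), gK Y L φ ⁻¹ᵁ U) :=
  letI := ((gK Y L φ).app U).hom.toAlgebra
  letI := ((gen Y).app U).hom.toAlgebra
  { ψ Y L φ U with commutes' := fun _ => rfl }

theorem ψAlg_injective (U : Y.Opens) (h : genericPoint Y ∈ U) :
    Function.Injective (ψAlg Y L φ U) := by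
  intro a b hab
  obtain ⟨x, rfl⟩ := (secEquivTop (Y.presheaf.stalk (genericPoint Y)) (gen Y ⁻¹ᵁ U)
    (NormAff.preimage_eq_top Y U h)).surjective a
  obtain ⟨y, rfl⟩ := (secEquivTop (Y.presheaf.stalk (genericPoint Y)) (gen Y ⁻¹ᵁ U)
    (NormAff.preimage_eq_top Y U h)).surjective b
  have h1 : ψ Y L φ U _ = ψ Y L φ U _ := hab
  rw [ψ_secEquivTop Y L φ U h, ψ_secEquivTop Y L φ U h] at h1
  have h2 := (secEquivTop (CommRingCat.of L) (gK Y L φ ⁻¹ᵁ U)
    (NormGen.preimage_eq_top Y L φ U h)).injective h1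
  rw [φ.injective h2]

theorem ψAlg_pinsep (U : Y.Opens) (h : genericPoint Y ∈ U) (p : ℕ)
    (hpi : ∀ l : L, ∃ n : ℕ, l ^ (p ^ n) ∈ φ.range)
    (z : Γ(Spec (CommRingCat.of L), gK Y L φ ⁻¹ᵁ U)) :
    ∃ (n : ℕ) (c : Γ(Spec (Y.presheaf.stalk (genericPoint Y)), gen Y ⁻¹ᵁ U)),
      ψ Y L φ U c = z ^ (p ^ n) := by
  obtain ⟨l, rfl⟩ := (secEquivTop (CommRingCat.of L) (gK Y L φ ⁻¹ᵁ U)
    (NormGen.preimage_eq_top Y L φ U h)).surjective z
  obtain ⟨n, k, hk⟩ := hpi l
  refine ⟨n, secEquivTop (Y.presheaf.stalk (genericPoint Y)) (gen Y ⁻¹ᵁ U)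
    (NormAff.preimage_eq_top Y U h) k, ?_⟩
  rw [ψ_secEquivTop Y L φ U h, hk, map_pow]

theorem natCast_eq_zero_of_charP (U : Y.affineOpens) (h : genericPoint Y ∈ U.1) (p : ℕ)
    [CharP Y.functionField p] : (p : Γ(Y, U.1)) = 0 := by
  letI := ((gen Y).app U.1).hom.toAlgebra
  haveI := isFractionRing_sec Y U.1 U.2 h
  apply IsFractionRing.injective Γ(Y, U.1)
    Γ(Spec (Y.presheaf.stalk (genericPoint Y)), gen Y ⁻¹ᵁ U.1)
  rw [map_natCast, map_zero]
  have : (p : Γ(Spec (Y.presheaf.stalk (genericPoint Y)), gen Y ⁻¹ᵁ U.1)) =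
      secEquivTop (Y.presheaf.stalk (genericPoint Y)) (gen Y ⁻¹ᵁ U.1)
        (NormAff.preimage_eq_top Y U.1 h) (p : Y.functionField) := (map_natCast _ p).symm
  rw [this, CharP.cast_eq_zero, map_zero]

end chart

section main
variable (Y : Scheme.{u}) [IsIntegral Y] (L : Type u) [Field L] (φ : Y.functionField →+* L)
  [QuasiCompact (gK Y L φ)] [QuasiSeparated (gK Y L φ)]
  [QuasiCompact (gen Y)] [QuasiSeparated (gen Y)]

set_option maxHeartbeats 1600000 in
theorem comp_injective [UniversallyInjective (gen Y).fromNormalization] (p : ℕ)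
    [ExpChar Y.functionField p] (hpi : ∀ l : L, ∃ n : ℕ, l ^ (p ^ n) ∈ φ.range)
    (E : Type u) [Field E] (g₁ g₂ : Spec (CommRingCat.of E) ⟶ (gK Y L φ).normalization)
    (hg : g₁ ≫ (gK Y L φ).fromNormalization = g₂ ≫ (gK Y L φ).fromNormalization) :
    g₁ = g₂ := by
  let pt : Spec (CommRingCat.of E) := IsLocalRing.closedPoint E
  have hall : ∀ z : Spec (CommRingCat.of E), z = pt := fun z => Subsingleton.elim _ _
  have hx : (gK Y L φ).fromNormalization (g₁ pt) = (gK Y L φ).fromNormalization (g₂ pt) :=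
    congrArg (fun k : Spec (CommRingCat.of E) ⟶ Y => k pt) hg
  obtain ⟨U, hxU⟩ := exists_affine_nhd Y ((gK Y L φ).fromNormalization (g₁ pt))
  have hgen : genericPoint Y ∈ U.1 := genericPoint_mem Y U.1 ⟨_, hxU⟩
  letI algL := ((gK Y L φ).app U.1).hom.toAlgebra
  letI algF := ((gen Y).app U.1).hom.toAlgebra
  have hr : ∀ g : Spec (CommRingCat.of E) ⟶ (gK Y L φ).normalization,
      (gK Y L φ).fromNormalization (g pt) ∈ U.1 →
      Set.range g ⊆ Set.range ((gK Y L φ).normalizationOpenCover.f U) := by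
    intro g hgU
    rintro _ ⟨z, rfl⟩
    rw [hall z]
    have h1 : g pt ∈ (gK Y L φ).fromNormalization ⁻¹ᵁ U.1 := hgU
    rw [(gK Y L φ).fromNormalization_preimage U] at h1
    exact h1
  have hl₁ := IsOpenImmersion.lift_fac ((gK Y L φ).normalizationOpenCover.f U) g₁ (hr g₁ hxU)
  have hl₂ := IsOpenImmersion.lift_fac ((gK Y L φ).normalizationOpenCover.f U) g₂
    (hr g₂ (hx ▸ hxU))
  set l₁ := IsOpenImmersion.lift ((gK Y L φ).normalizationOpenCover.f U) g₁ (hr g₁ hxU)
  set l₂ := IsOpenImmersion.lift ((gK Y L φ).normalizationOpenCover.f U) g₂ (hr g₂ (hx ▸ hxU))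
  -- ring maps
  let s₁ : CommRingCat.of (integralClosure Γ(Y, U.1) Γ(Spec (CommRingCat.of L),
      gK Y L φ ⁻¹ᵁ U.1)) ⟶ CommRingCat.of E := Spec.preimage l₁
  let s₂ : CommRingCat.of (integralClosure Γ(Y, U.1) Γ(Spec (CommRingCat.of L),
      gK Y L φ ⁻¹ᵁ U.1)) ⟶ CommRingCat.of E := Spec.preimage l₂
  have hs₁ : Spec.map s₁ = l₁ := Spec.map_preimage _
  have hs₂ : Spec.map s₂ = l₂ := Spec.map_preimage _
  suffices hs : s₁ = s₂ by
    rw [← hl₁, ← hl₂, ← hs₁, ← hs₂, hs]
  -- the comparison map of charts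
  let β : integralClosure Γ(Y, U.1) Γ(Spec (Y.presheaf.stalk (genericPoint Y)), gen Y ⁻¹ᵁ U.1) →+*
      integralClosure Γ(Y, U.1) Γ(Spec (CommRingCat.of L), gK Y L φ ⁻¹ᵁ U.1) :=
    ((ψAlg Y L φ U.1).mapIntegralClosure : _ →+* _)
  -- E-points of the normalization of Y
  have he : Spec.map (CommRingCat.ofHom (s₁.hom.comp β)) ≫ (gen Y).normalizationOpenCover.f U =
      Spec.map (CommRingCat.ofHom (s₂.hom.comp β)) ≫ (gen Y).normalizationOpenCover.f U := by
    have htfae : UniversallyInjective (gen Y).fromNormalization ↔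
        ∀ (K : Type u) [Field K], Function.Injective
          (fun g : Spec (.of K) ⟶ (gen Y).normalization ↦ g ≫ (gen Y).fromNormalization) :=
      (tfae_universallyInjective (gen Y).fromNormalization).out 0 1
    have hinj := htfae.1 inferInstance E
    apply hinj
    show (Spec.map (CommRingCat.ofHom (s₁.hom.comp β)) ≫ (gen Y).normalizationOpenCover.f U) ≫
        (gen Y).fromNormalization =
      (Spec.map (CommRingCat.ofHom (s₂.hom.comp β)) ≫ (gen Y).normalizationOpenCover.f U) ≫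
        (gen Y).fromNormalization
    have hι : (gen Y).normalizationOpenCover.f U ≫ (gen Y).fromNormalization =
        Spec.map ((gen Y).normalizationDiagramMap.app (.op U.1)) ≫ U.2.fromSpec :=
      (gen Y).ι_fromNormalization U
    have hιK : (gK Y L φ).normalizationOpenCover.f U ≫ (gK Y L φ).fromNormalization =
        Spec.map ((gK Y L φ).normalizationDiagramMap.app (.op U.1)) ≫ U.2.fromSpec :=
      (gK Y L φ).ι_fromNormalization U
    have key : ∀ (a : CommRingCat.of (integralClosure Γ(Y, U.1)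
        Γ(Spec (Y.presheaf.stalk (genericPoint Y)), gen Y ⁻¹ᵁ U.1)) ⟶ CommRingCat.of E),
        (Spec.map a ≫ (gen Y).normalizationOpenCover.f U) ≫ (gen Y).fromNormalization =
        Spec.map ((gen Y).normalizationDiagramMap.app (.op U.1) ≫ a) ≫ U.2.fromSpec := by
      intro a
      refine (Category.assoc _ _ _).trans ?_
      refine (congrArg (fun t => Spec.map a ≫ t) hι).trans ?_
      refine (Category.assoc _ _ _).symm.trans ?_
      exact congrArg (fun t => t ≫ U.2.fromSpec) (Spec.map_comp _ _).symm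
    have keyK : ∀ (a : CommRingCat.of (integralClosure Γ(Y, U.1)
        Γ(Spec (CommRingCat.of L), gK Y L φ ⁻¹ᵁ U.1)) ⟶ CommRingCat.of E),
        (Spec.map a ≫ (gK Y L φ).normalizationOpenCover.f U) ≫ (gK Y L φ).fromNormalization =
        Spec.map ((gK Y L φ).normalizationDiagramMap.app (.op U.1) ≫ a) ≫ U.2.fromSpec := by
      intro a
      refine (Category.assoc _ _ _).trans ?_
      refine (congrArg (fun t => Spec.map a ≫ t) hιK).trans ?_
      refine (Category.assoc _ _ _).symm.trans ?_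
      exact congrArg (fun t => t ≫ U.2.fromSpec) (Spec.map_comp _ _).symm
    refine (key _).trans (Eq.trans ?_ (key _).symm)
    have h3 : (Spec.map s₁ ≫ (gK Y L φ).normalizationOpenCover.f U) ≫
        (gK Y L φ).fromNormalization =
        (Spec.map s₂ ≫ (gK Y L φ).normalizationOpenCover.f U) ≫
        (gK Y L φ).fromNormalization := by
      have e1 : Spec.map s₁ ≫ (gK Y L φ).normalizationOpenCover.f U = g₁ :=
        (congrArg (fun t => t ≫ (gK Y L φ).normalizationOpenCover.f U) hs₁).trans hl₁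
      have e2 : Spec.map s₂ ≫ (gK Y L φ).normalizationOpenCover.f U = g₂ :=
        (congrArg (fun t => t ≫ (gK Y L φ).normalizationOpenCover.f U) hs₂).trans hl₂
      exact (congrArg (fun t => t ≫ (gK Y L φ).fromNormalization) e1).trans
        (hg.trans (congrArg (fun t => t ≫ (gK Y L φ).fromNormalization) e2).symm)
    replace h3 := (keyK s₁).symm.trans (h3.trans (keyK s₂))
    have h4 := (cancel_mono U.2.fromSpec).1 h3
    have h5 := Spec.map_injective h4
    have h6 : ∀ i : CommRingCat.of (integralClosure Γ(Y, U.1) Γ(Spec (CommRingCat.of L),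
        gK Y L φ ⁻¹ᵁ U.1)) ⟶ CommRingCat.of E,
        (gen Y).normalizationDiagramMap.app (.op U.1) ≫ CommRingCat.ofHom (i.hom.comp β) =
        (gK Y L φ).normalizationDiagramMap.app (.op U.1) ≫ i := by
      intro i
      ext a
      rfl
    rw [h6, h6, h5]
  have he' := (cancel_mono ((gen Y).normalizationOpenCover.f U)).1 he
  have he'' := Spec.map_injective he'
  have hcomp : s₁.hom.comp β = s₂.hom.comp β := by
    have := congrArg CommRingCat.Hom.hom he''
    exact this
  ext1
  have hp : p = 1 ∨ (p.Prime ∧ (p : Γ(Y, U.1)) = 0) := by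
    rcases ‹ExpChar Y.functionField p› with _ | ⟨hprime⟩
    · exact Or.inl rfl
    · exact Or.inr ⟨hprime, natCast_eq_zero_of_charP Y U hgen p⟩
  refine eq_of_comp_eq (ψAlg Y L φ U.1) (ψAlg_injective Y L φ U.1 hgen) p hp ?_ s₁.hom s₂.hom hcomp
  intro z
  obtain ⟨n, c, hc⟩ := ψAlg_pinsep Y L φ U.1 hgen p hpi z
  exact ⟨n, c, hc⟩

end main

section final
variable (Y : Scheme.{u}) [IsIntegral Y] (L : Type u) [Field L] (φ : Y.functionField →+* L)
  [QuasiCompact (gK Y L φ)] [QuasiSeparated (gK Y L φ)]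
  [QuasiCompact (gen Y)] [QuasiSeparated (gen Y)]

theorem surjective_fromNormalization :
    Function.Surjective (gK Y L φ).fromNormalization := by
  have hcl : IsClosed (Set.range (gK Y L φ).fromNormalization) :=
    (gK Y L φ).fromNormalization.isClosedMap.isClosed_range
  have hmem : genericPoint Y ∈ Set.range (gK Y L φ).fromNormalization :=
    ⟨_, NormField.fromNormalization_genericPoint Y L φ⟩
  have h1 := ((genericPoint_spec Y).mem_closed_set_iff hcl).1 hmem
  intro y
  exact h1 (Set.mem_univ y)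

theorem isUnivHomeo_fromNormalization
    (hY : ∀ y : Y, CAlg2.IsGeomUnibranch (Y.presheaf.stalk y)) (p : ℕ)
    [ExpChar Y.functionField p] (hpi : ∀ l : L, ∃ n : ℕ, l ^ (p ^ n) ∈ φ.range) :
    FlatMor.IsUnivHomeo (gK Y L φ).fromNormalization := by
  have hν := BrFib.isUnivHomeo_normalization Y hY
  haveI : UniversallyInjective (gen Y).fromNormalization :=
    ⟨fun X' Y' i₁ i₂ f' h => (hν i₁ i₂ f' h).injective⟩
  have htfae : UniversallyInjective (gK Y L φ).fromNormalization ↔
      ∀ (K : Type u) [Field K], Function.Injective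
        (fun g : Spec (.of K) ⟶ (gK Y L φ).normalization ↦ g ≫ (gK Y L φ).fromNormalization) :=
    (tfae_universallyInjective (gK Y L φ).fromNormalization).out 0 1
  haveI : UniversallyInjective (gK Y L φ).fromNormalization :=
    htfae.2 (fun E _ g₁ g₂ hg => comp_injective Y L φ p hpi E g₁ g₂ hg)
  haveI : Surjective (gK Y L φ).fromNormalization := ⟨surjective_fromNormalization Y L φ⟩
  exact BrFib.isUnivHomeo_of _

end final

end Groth.Agent.Lib.helper26.PInsNorm
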