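import Mathlib

set_option autoImplicit false
universe u

namespace Groth.Agent.Lib.helper26.PolyRing

open Polynomial

attribute [local instance] Polynomial.algebra

section fin
variable (A B : Type*) [CommRing A] [CommRing B] [Algebra A B]

theorem isScalarTower_poly : IsScalarTower A A[X] B[X] := by
  refine IsScalarTower.of_algebraMap_eq (fun a => ?_)
  show _ = (mapRingHom (algebraMap A B)) (C a)
  simp [Polynomial.algebraMap_apply]

theorem finite_poly [Module.Finite A B] : Module.Finite A[X] B[X] := by
  haveI := isScalarTower_poly A B
  haveI : Algebra.IsIntegral A B := Algebra.IsIntegral.of_finite A B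
  haveI : Algebra.FiniteType A B[X] :=
    Algebra.FiniteType.trans (inferInstance : Algebra.FiniteType A B) inferInstance
  haveI : Algebra.FiniteType A[X] B[X] := Algebra.FiniteType.of_restrictScalars_finiteType A _ _
  haveI : Algebra.IsIntegral A[X] B[X] :=
    ⟨fun w => Polynomial.isIntegral_iff_isIntegral_coeff.2
      (fun n => Algebra.IsIntegral.isIntegral _)⟩
  exact Algebra.IsIntegral.finite

end fin

section iota
variable (R : Type u) [CommRing R] [IsDomain R]

/-- `Frac R → Frac R[X]`. -/
noncomputable def κ : FractionRing R →+* FractionRing R[X] :=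
  IsFractionRing.lift (A := R) (K := FractionRing R)
    (g := (algebraMap R[X] (FractionRing R[X])).comp C)
    ((IsFractionRing.injective R[X] (FractionRing R[X])).comp C_injective)

theorem κ_algebraMap (r : R) :
    κ R (algebraMap R (FractionRing R) r) = algebraMap R[X] (FractionRing R[X]) (C r) :=
  IsFractionRing.lift_algebraMap _ r

/-- `R'[X] → Frac R[X]`, `R'` the integral closure of `R`. -/
noncomputable def ι : (integralClosure R (FractionRing R))[X] →+* FractionRing R[X] :=
  eval₂RingHom ((κ R).comp (algebraMap (integralClosure R (FractionRing R)) (FractionRing R)))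
    (algebraMap R[X] (FractionRing R[X]) X)

theorem ι_map (p : R[X]) :
    ι R (p.map (algebraMap R (integralClosure R (FractionRing R)))) =
      algebraMap R[X] (FractionRing R[X]) p := by
  show eval₂ _ _ (p.map _) = _
  rw [eval₂_map]
  have h : ((κ R).comp (algebraMap (integralClosure R (FractionRing R)) (FractionRing R))).comp
      (algebraMap R (integralClosure R (FractionRing R))) =
      (algebraMap R[X] (FractionRing R[X])).comp C := by
    ext r
    exact κ_algebraMap R r
  rw [h, ← hom_eval₂, eval₂_C_X]

theorem ι_algebraMap (p : R[X]) :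
    ι R (algebraMap R[X] (integralClosure R (FractionRing R))[X] p) =
      algebraMap R[X] (FractionRing R[X]) p := ι_map R p

theorem ι_injective : Function.Injective (ι R) := by
  haveI : Algebra.IsIntegral R[X] (integralClosure R (FractionRing R))[X] :=
    ⟨fun w => Polynomial.isIntegral_iff_isIntegral_coeff.2
      (fun n => Algebra.IsIntegral.isIntegral _)⟩
  rw [RingHom.injective_iff_ker_eq_bot]
  refine Ideal.eq_bot_of_comap_eq_bot (R := R[X])
    (S := (integralClosure R (FractionRing R))[X]) ?_
  rw [eq_bot_iff]
  intro p hp
  rw [Ideal.mem_comap, RingHom.mem_ker, ι_algebraMap] at hp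
  exact (IsFractionRing.injective R[X] (FractionRing R[X])) (hp.trans (map_zero _).symm)

end iota

section n1
variable (R : Type u) [CommRing R] [IsDomain R]

/-- the algebra structure `R'[X] → Frac R[X]`. -/
@[reducible] noncomputable def algι :
    Algebra (integralClosure R (FractionRing R))[X] (FractionRing R[X]) := (ι R).toAlgebra

attribute [local instance] algι

theorem isScalarTower_ι :
    IsScalarTower R[X] (integralClosure R (FractionRing R))[X] (FractionRing R[X]) :=
  IsScalarTower.of_algebraMap_eq (fun p => (ι_algebraMap R p).symm)

theorem faithfulSMul_ι :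
    FaithfulSMul (integralClosure R (FractionRing R))[X] (FractionRing R[X]) :=
  (faithfulSMul_iff_algebraMap_injective _ _).2 (ι_injective R)

theorem isFractionRing_ι :
    IsFractionRing (integralClosure R (FractionRing R))[X] (FractionRing R[X]) := by
  haveI := faithfulSMul_ι R
  refine IsFractionRing.of_field (integralClosure R (FractionRing R))[X] (FractionRing R[X])
    (fun z => ?_)
  obtain ⟨a, b, hb, rfl⟩ := IsFractionRing.div_surjective (A := R[X]) z
  refine ⟨algebraMap R[X] _ a, algebraMap R[X] _ b, ?_⟩
  show _ = ι R _ / ι R _
  rw [ι_algebraMap, ι_algebraMap]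

theorem mem_range_ι_of_isIntegral (z : FractionRing R[X]) (hz : IsIntegral R[X] z) :
    ∃ w, ι R w = z := by
  haveI := isScalarTower_ι R
  haveI := isFractionRing_ι R
  haveI : IsIntegrallyClosed (integralClosure R (FractionRing R)) :=
    integralClosure.isIntegrallyClosedOfFiniteExtension (FractionRing R)
  have hz' : IsIntegral (integralClosure R (FractionRing R))[X] z := hz.tower_top
  obtain ⟨w, hw⟩ := IsIntegrallyClosed.isIntegral_iff.1 hz'
  exact ⟨w, hw⟩

theorem isIntegral_ι (w : (integralClosure R (FractionRing R))[X]) : IsIntegral R[X] (ι R w) := by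
  haveI := isScalarTower_ι R
  have h1 : IsIntegral R[X] w :=
    Polynomial.isIntegral_iff_isIntegral_coeff.2 (fun n => Algebra.IsIntegral.isIntegral _)
  exact h1.map (IsScalarTower.toAlgHom R[X] (integralClosure R (FractionRing R))[X]
    (FractionRing R[X]))

theorem finite_integralClosure_poly
    (h : Module.Finite R (integralClosure R (FractionRing R))) :
    Module.Finite R[X] (integralClosure R[X] (FractionRing R[X])) := by
  haveI := isScalarTower_ι R
  haveI := h
  haveI := finite_poly R (integralClosure R (FractionRing R))
  let φ : (integralClosure R (FractionRing R))[X] →ₐ[R[X]] FractionRing R[X] :=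
    IsScalarTower.toAlgHom R[X] _ _
  let φ' : (integralClosure R (FractionRing R))[X] →ₐ[R[X]]
      integralClosure R[X] (FractionRing R[X]) :=
    φ.codRestrict _ (fun w => isIntegral_ι R w)
  refine Module.Finite.of_surjective φ'.toLinearMap ?_
  rintro ⟨z, hz⟩
  obtain ⟨w, hw⟩ := mem_range_ι_of_isIntegral R z hz
  exact ⟨w, Subtype.ext hw⟩

end n1

end Groth.Agent.Lib.helper26.PolyRing
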