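import Mathlib
import Groth.Agent.Lib.helper26.PolyRingA

set_option autoImplicit false
universe u

namespace Groth.Agent.Lib.helper26.PolyRing

open Polynomial

section cover
variable {A A' : Type*} [CommRing A] [CommRing A'] [Algebra A A']

/-- the Frobenius cover `A[X] → A'[X]`, `X ↦ X ^ q`. -/
noncomputable def ψ (q : ℕ) : A[X] →+* A'[X] :=
  (expand A' q : A'[X] →ₐ[A'] A'[X]).toRingHom.comp (mapRingHom (algebraMap A A'))

lemma ψ_monomial (q : ℕ) (i : ℕ) (c : A) :
    ψ (A' := A') q (monomial i c) = monomial (i * q) (algebraMap A A' c) := by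
  show expand A' q (Polynomial.map (algebraMap A A') (monomial i c)) = _
  rw [map_monomial, expand_monomial, mul_comm]

lemma ψ_C (q : ℕ) (c : A) : ψ (A' := A') q (C c) = C (algebraMap A A' c) := by
  show expand A' q (Polynomial.map (algebraMap A A') (C c)) = _
  rw [map_C, expand_C]

lemma ψ_X (q : ℕ) : ψ (A := A) (A' := A') q X = X ^ q := by
  show expand A' q (Polynomial.map (algebraMap A A') X) = _
  rw [map_X, expand_X]

lemma ψ_injective {q : ℕ} (hq : 0 < q) (hinj : Function.Injective (algebraMap A A')) :
    Function.Injective (ψ (A := A) (A' := A') q) := by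
  intro x y hxy
  have h1 : expand A' q (Polynomial.map (algebraMap A A') x) =
      expand A' q (Polynomial.map (algebraMap A A') y) := hxy
  exact Polynomial.map_injective _ hinj (expand_injective hq h1)

lemma ψ_finite [Module.Finite A A'] {q : ℕ} (hq : 0 < q) :
    (ψ (A := A) (A' := A') q).Finite := by
  letI : Algebra A[X] A'[X] := (ψ q).toAlgebra
  show Module.Finite A[X] A'[X]
  haveI : IsScalarTower A A[X] A'[X] := by
    refine IsScalarTower.of_algebraMap_eq (fun c => ?_)
    show _ = ψ q (algebraMap A A[X] c)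
    rw [Polynomial.algebraMap_apply, Polynomial.algebraMap_apply, Algebra.algebraMap_self,
      RingHom.id_apply, ψ_C]
  haveI : Algebra.IsIntegral A A' := Algebra.IsIntegral.of_finite A A'
  haveI : Algebra.FiniteType A A'[X] :=
    Algebra.FiniteType.trans (inferInstance : Algebra.FiniteType A A') inferInstance
  haveI : Algebra.FiniteType A[X] A'[X] :=
    Algebra.FiniteType.of_restrictScalars_finiteType A _ _
  haveI : Algebra.IsIntegral A[X] A'[X] := by
    refine ⟨fun w => ?_⟩
    induction w using Polynomial.induction_on with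
    | C c =>
      have h1 : IsIntegral A c := Algebra.IsIntegral.isIntegral c
      have h2 : IsIntegral A (C c : A'[X]) :=
        h1.map (IsScalarTower.toAlgHom A A' A'[X])
      exact h2.tower_top
    | add x y hx hy => exact hx.add hy
    | monomial n c hx =>
      rw [pow_succ, ← mul_assoc]
      refine hx.mul ?_
      refine IsIntegral.of_pow hq ?_
      have : (X : A'[X]) ^ q = algebraMap A[X] _ X := (ψ_X q).symm
      rw [this]
      exact isIntegral_algebraMap
  exact Algebra.IsIntegral.finite

lemma exists_pow_eq_ψ (p n : ℕ) [ExpChar A' p] (w : A[X])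
    (hw : ∀ i ∈ w.support, ∃ β : A', β ^ (p ^ n) = algebraMap A A' (w.coeff i)) :
    ∃ w' : A'[X], w' ^ (p ^ n) = ψ (p ^ n) w := by
  classical
  have hex : ∀ i : ℕ, ∃ β : A', i ∈ w.support → β ^ (p ^ n) = algebraMap A A' (w.coeff i) := by
    intro i
    by_cases hi : i ∈ w.support
    · obtain ⟨β, hβ⟩ := hw i hi
      exact ⟨β, fun _ => hβ⟩
    · exact ⟨0, fun h => (hi h).elim⟩
  choose β hβ using hex
  refine ⟨∑ i ∈ w.support, monomial i (β i), ?_⟩
  rw [sum_pow_char_pow]
  conv_rhs => rw [w.as_sum_support, map_sum]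
  refine Finset.sum_congr rfl (fun i hi => ?_)
  rw [monomial_pow, ψ_monomial, hβ i hi]

end cover

end Groth.Agent.Lib.helper26.PolyRing
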