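import Mathlib
import Groth.Prelude.Def_Found
import Groth.Agent.Lib.helper26.PolyRingB
import Groth.Agent.Lib.helper26.PolyN2b

set_option autoImplicit false
universe u

namespace Groth.Agent.Lib.helper26.PolyRing

open Polynomial

section hc
variable (R : Type u) [CommRing R] [IsDomain R] [IsNoetherianRing R]

theorem hcover_poly (hN2 : CAlg.IsN2 R) (p : ℕ) [ExpChar (FractionRing R) p]
    (T : Finset (integralClosure R (FractionRing R))[X]) (n : ℕ) :
    ∃ (P' : Type u) (_ : CommRing P') (_ : IsDomain P')
      (_ : IsNoetherianRing P') (_ : IsIntegrallyClosed P')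
      (ψ : (integralClosure R (FractionRing R))[X] →+* P'),
      Function.Injective ψ ∧ ψ.Finite ∧ ∀ w ∈ T, ∃ w' : P', w' ^ (p ^ n) = ψ w := by
  classical
  let K := FractionRing R
  let B : Finset K := T.biUnion (fun w => w.support.image (fun i => ((w.coeff i : _) : K)))
  have hq : 0 < p ^ n := expChar_pow_pos K p n
  have hroot : ∀ c : K, ∃ z : AlgebraicClosure K, z ^ (p ^ n) = algebraMap K _ c :=
    fun c => IsAlgClosed.exists_pow_nat_eq _ hq
  choose r hr using hroot
  let S : Set (AlgebraicClosure K) := r '' (B : Set K)
  let K' : IntermediateField K (AlgebraicClosure K) := IntermediateField.adjoin K S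
  haveI : Finite S := (B.finite_toSet.image r).to_subtype
  haveI : FiniteDimensional K K' :=
    IntermediateField.finiteDimensional_adjoin (fun x _ => Algebra.IsIntegral.isIntegral x)
  haveI : ExpChar K' p := expChar_of_injective_algebraMap (algebraMap K K').injective p
  haveI hfin'' : Module.Finite R (integralClosure R K') := hN2 K' inferInstance
  haveI hfin' : Module.Finite R (integralClosure R K) := hN2 K inferInstance
  haveI : IsNoetherianRing (integralClosure R K') := IsNoetherianRing.of_finite R _
  haveI : IsIntegrallyClosed (integralClosure R K') :=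
    integralClosure.isIntegrallyClosedOfFiniteExtension K
  let j : integralClosure R K →ₐ[R] integralClosure R K' :=
    (IsScalarTower.toAlgHom R K K').mapIntegralClosure
  letI algj : Algebra (integralClosure R K) (integralClosure R K') := j.toRingHom.toAlgebra
  haveI : IsScalarTower R (integralClosure R K) (integralClosure R K') :=
    IsScalarTower.of_algebraMap_eq (fun x => (j.commutes x).symm)
  haveI : Module.Finite (integralClosure R K) (integralClosure R K') :=
    Module.Finite.of_restrictScalars_finite R _ _
  have hjinj : Function.Injective (algebraMap (integralClosure R K) (integralClosure R K')) := by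
    intro x y hxy
    have h1 : algebraMap K K' (x : K) = algebraMap K K' (y : K) :=
      congrArg (fun z : integralClosure R K' => (z : K')) hxy
    exact Subtype.ext ((algebraMap K K').injective h1)
  haveI : ExpChar (integralClosure R K') p :=
    RingHom.expChar (integralClosure R K').val.toRingHom Subtype.val_injective p
  refine ⟨(integralClosure R K')[X], inferInstance, inferInstance, inferInstance, inferInstance,
    ψ (p ^ n), ψ_injective hq hjinj, ψ_finite hq, fun w hw => ?_⟩
  refine exists_pow_eq_ψ p n w (fun i hi => ?_)
  have hmem : ((w.coeff i : _) : K) ∈ B := by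
    rw [Finset.mem_biUnion]
    exact ⟨w, hw, Finset.mem_image.2 ⟨i, hi, rfl⟩⟩
  have hrK' : r ((w.coeff i : _) : K) ∈ K' :=
    IntermediateField.subset_adjoin K S ⟨_, hmem, rfl⟩
  have hpow : (⟨r ((w.coeff i : _) : K), hrK'⟩ : K') ^ (p ^ n) =
      algebraMap K K' ((w.coeff i : _) : K) := by
    apply Subtype.ext
    show r _ ^ (p ^ n) = _
    rw [hr]
    rfl
  have hint : IsIntegral R (⟨r ((w.coeff i : _) : K), hrK'⟩ : K') := by
    refine IsIntegral.of_pow hq ?_
    rw [hpow]
    exact (w.coeff i).2.map (IsScalarTower.toAlgHom R K K')
  refine ⟨⟨⟨r ((w.coeff i : _) : K), hrK'⟩, hint⟩, ?_⟩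
  apply Subtype.ext
  exact hpow

end hc

section n2
variable (R : Type u) [CommRing R] [IsDomain R] [IsNoetherianRing R]

attribute [local instance] Polynomial.algebra

theorem κ_injective : Function.Injective (κ R) := (κ R).injective

theorem isN2_poly (hN2 : CAlg.IsN2 R) : CAlg.IsN2 R[X] := by
  intro L _ _ _ _ hfd
  haveI hfin' : Module.Finite R (integralClosure R (FractionRing R)) :=
    hN2 (FractionRing R) inferInstance
  letI := algι R
  haveI := isScalarTower_ι R
  haveI := isFractionRing_ι R
  haveI : IsNoetherianRing (integralClosure R (FractionRing R)) := IsNoetherianRing.of_finite R _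
  haveI : IsIntegrallyClosed (integralClosure R (FractionRing R)) :=
    integralClosure.isIntegrallyClosedOfFiniteExtension (FractionRing R)
  letI algPL : Algebra (integralClosure R (FractionRing R))[X] L :=
    ((algebraMap (FractionRing R[X]) L).comp (ι R)).toAlgebra
  haveI : IsScalarTower (integralClosure R (FractionRing R))[X] (FractionRing R[X]) L :=
    IsScalarTower.of_algebraMap_eq (fun _ => rfl)
  haveI : ExpChar (FractionRing R[X]) (ringExpChar (FractionRing R)) :=
    expChar_of_injective_ringHom (κ_injective R) _
  have h1 : Module.Finite (integralClosure R (FractionRing R))[X]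
      (integralClosure (integralClosure R (FractionRing R))[X] L) :=
    PolyN2.finite_of_hcover (F := FractionRing R[X]) (ringExpChar (FractionRing R))
      (hcover_poly R hN2 (ringExpChar (FractionRing R)))
  haveI : IsScalarTower R[X] (integralClosure R (FractionRing R))[X] L := by
    refine IsScalarTower.of_algebraMap_eq (fun a => ?_)
    show _ = algebraMap (FractionRing R[X]) L (ι R (algebraMap R[X] _ a))
    rw [ι_algebraMap, ← IsScalarTower.algebraMap_apply]
  haveI := finite_poly R (integralClosure R (FractionRing R))
  haveI := h1
  have h2 : Module.Finite R[X]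
      (integralClosure (integralClosure R (FractionRing R))[X] L) :=
    Module.Finite.trans (integralClosure R (FractionRing R))[X] _
  haveI := h2
  haveI : Algebra.IsIntegral R[X] (integralClosure R (FractionRing R))[X] :=
    Algebra.IsIntegral.of_finite _ _
  let proj : integralClosure (integralClosure R (FractionRing R))[X] L →ₗ[R[X]]
      integralClosure R[X] L :=
    { toFun := fun z => ⟨z.1, isIntegral_trans (R := R[X])
        (A := (integralClosure R (FractionRing R))[X]) z.1 z.2⟩
      map_add' := fun _ _ => rfl
      map_smul' := fun a z => by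
        apply Subtype.ext
        show a • (z : L) = a • (z : L)
        rfl }
  refine Module.Finite.of_surjective proj ?_
  rintro ⟨z, hz⟩
  exact ⟨⟨z, hz.tower_top⟩, rfl⟩

omit [IsNoetherianRing R] in
theorem isN1_poly (hN1 : CAlg.IsN1 R) : CAlg.IsN1 R[X] :=
  finite_integralClosure_poly R hN1

end n2

end Groth.Agent.Lib.helper26.PolyRing
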