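import Mathlib
import Groth.Prelude.Def_CurvBase

set_option autoImplicit false
universe u
open CategoryTheory CategoryTheory.Limits AlgebraicGeometry MorphismProperty

namespace Groth.Agent.Lib.helper26.PropDesc

theorem isSeparated_eq_diagonal_universallyClosed :
    @IsSeparated = MorphismProperty.diagonal @UniversallyClosed := by
  ext X Y f
  rw [IsSeparated.isSeparated_eq_diagonal_isClosedImmersion]
  constructor
  · intro h
    haveI : IsClosedImmersion (pullback.diagonal f) := h
    show UniversallyClosed (pullback.diagonal f)
    infer_instance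
  · intro h
    haveI : UniversallyClosed (pullback.diagonal f) := h
    exact IsClosedImmersion.of_isPreimmersion _ (pullback.diagonal f).isClosedMap.isClosed_range

instance descendsAlong_isSeparated :
    MorphismProperty.DescendsAlong @IsSeparated (@Surjective ⊓ @Flat ⊓ @QuasiCompact) := by
  rw [isSeparated_eq_diagonal_universallyClosed]
  infer_instance

instance descendsAlong_isProper :
    MorphismProperty.DescendsAlong @IsProper (@Surjective ⊓ @Flat ⊓ @QuasiCompact) := by
  rw [isProper_eq]
  infer_instance

theorem isProper_of_bc (k : Type u) [Field k] (X : Scheme.{u}) [X.Over (Spec (CommRingCat.of k))]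
    (K : Type u) [Field K] [Algebra k K]
    [IsProper (Curv2.bcSnd k X K)] : IsProper (X ↘ (Spec (CommRingCat.of k))) := by
  have hg : (@Surjective ⊓ @Flat ⊓ @QuasiCompact : MorphismProperty Scheme.{u})
      (Spec.map (CommRingCat.ofHom (algebraMap k K))) := by
    have hff : (CommRingCat.ofHom (algebraMap k K)).hom.FaithfullyFlat := by
      rw [CommRingCat.hom_ofHom, RingHom.faithfullyFlat_algebraMap_iff]
      infer_instance
    have := (flat_and_surjective_SpecMap_iff (CommRingCat.ofHom (algebraMap k K))).2 hff
    exact ⟨⟨this.2, this.1⟩, inferInstance⟩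
  exact MorphismProperty.of_pullback_snd_of_descendsAlong (P := @IsProper)
    (Q := @Surjective ⊓ @Flat ⊓ @QuasiCompact) (f := X ↘ (Spec (CommRingCat.of k)))
    (g := Spec.map (CommRingCat.ofHom (algebraMap k K))) hg ‹_›

end Groth.Agent.Lib.helper26.PropDesc
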