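import Mathlib
import Groth.Agent.Lib.helper26.CartNotIn
import Groth.Agent.Lib.helper26.CatDim
import Groth.Agent.Lib.helper26.DimFun4
import Groth.Agent.Lib.helper26.DimFun2

universe u
open AlgebraicGeometry CategoryTheory Topology TopologicalSpace

namespace Groth.Agent.Lib.helper26.PropInt

open Groth.Agent.Lib.helper26.Haupt Groth.Agent.Lib.helper7 Groth.Agent.Lib.helper26.CartNotIn
  Groth.Agent.Lib.helper26.DimJac

variable {X : Scheme.{u}}

/-- ring dimension of a stalk as a height in a chart -/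
theorem ringKrullDim_stalk_eq_height {U : X.Opens} (hU : IsAffineOpen U) (y : X) (hy : y ∈ U) :
    ringKrullDim (X.presheaf.stalk y) =
      ((hU.primeIdealOf ⟨y, hy⟩).asIdeal.height : WithBot ℕ∞) := by
  letI := X.presheaf.algebra_section_stalk (U := U) ⟨y, hy⟩
  haveI := hU.isLocalization_stalk ⟨y, hy⟩
  exact IsLocalization.AtPrime.ringKrullDim_eq_height (hU.primeIdealOf ⟨y, hy⟩).asIdeal _

/-- a point of an effective Cartier divisor on a locally Noetherian scheme generizes to a point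
of the divisor whose local ring has dimension at most one. -/
theorem exists_dim_le_one [IsLocallyNoetherian X] (𝓘 : X.IdealSheafData)
    (h𝓘 : BlowUp.IsEffCartierIdeal 𝓘) (ζ : X) (hζ : ζ ∈ 𝓘.support) :
    ∃ y : X, y ∈ 𝓘.support ∧ ringKrullDim (X.presheaf.stalk y) ≤ 1 ∧ y ⤳ ζ := by
  obtain ⟨U, hζU, t, -, ht⟩ := h𝓘 ζ
  haveI : IsNoetherianRing Γ(X, U.1) := IsLocallyNoetherian.component_noetherian U
  have hle := (mem_support_iff_le 𝓘 U ζ hζU).mp hζ
  obtain ⟨q₀, hq₀, hq₀le⟩ := Ideal.exists_minimalPrimes_le hle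
  haveI : q₀.IsPrime := hq₀.1.1
  obtain ⟨y, hy⟩ := DimSch.exists_primeIdealOf_eq U.2 ⟨q₀, hq₀.1.1⟩
  refine ⟨y.1, ?_, ?_, ?_⟩
  · rw [mem_support_iff_le 𝓘 U y.1 y.2, hy]; exact hq₀.1.2
  · rw [ringKrullDim_stalk_eq_height U.2 y.1 y.2, hy]
    haveI : (𝓘.ideal U).IsPrincipal := ⟨⟨t, by rw [ht]⟩⟩
    have : q₀.height ≤ 1 := Ideal.height_le_one_of_isPrincipal_of_mem_minimalPrimes _ q₀ hq₀
    exact_mod_cast this
  · rw [← DimSch.primeIdealOf_le_iff U.2 y ⟨ζ, hζU⟩, hy]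
    exact hq₀le

/-- on an irreducible locally Noetherian scheme, a maximal point `ζ` of an effective Cartier
divisor has no generizations besides itself and the generic point. -/
theorem immediate_of_maximal {Z : Scheme.{u}} [IrreducibleSpace Z] [IsLocallyNoetherian Z]
    (𝓙 : Z.IdealSheafData) (h𝓙 : BlowUp.IsEffCartierIdeal 𝓙) (ζ : Z) (hζ : ζ ∈ 𝓙.support)
    (hmax : ∀ ζ' ∈ 𝓙.support, ζ' ⤳ ζ → ζ' = ζ) (z : Z) (hz : z ⤳ ζ) :
    z = genericPoint Z ∨ z = ζ := by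
  by_cases hzs : z ∈ 𝓙.support
  · right; exact hmax z hzs hz
  left
  obtain ⟨U, hζU, t, -, ht⟩ := h𝓙 ζ
  haveI : IsNoetherianRing Γ(Z, U.1) := IsLocallyNoetherian.component_noetherian U
  have hzU : z ∈ U.1 := hz.mem_open U.1.isOpen hζU
  have hgU : genericPoint Z ∈ U.1 := (genericPoint_specializes z).mem_open U.1.isOpen hzU
  set qζ := (U.2.primeIdealOf ⟨ζ, hζU⟩).asIdeal with hqζ
  set qz := (U.2.primeIdealOf ⟨z, hzU⟩).asIdeal with hqz
  set qg := (U.2.primeIdealOf ⟨genericPoint Z, hgU⟩).asIdeal with hqg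
  have hmin : qζ ∈ (𝓙.ideal U).minimalPrimes := by
    refine ⟨⟨inferInstance, (mem_support_iff_le 𝓙 U ζ hζU).mp hζ⟩, ?_⟩
    rintro q ⟨hqp, hqle⟩ hqq
    obtain ⟨y, hy⟩ := DimSch.exists_primeIdealOf_eq U.2 ⟨q, hqp⟩
    have hys : y.1 ∈ 𝓙.support := by
      rw [mem_support_iff_le 𝓙 U y.1 y.2, hy]; exact hqle
    have hysp : y.1 ⤳ ζ := by
      rw [← DimSch.primeIdealOf_le_iff U.2 y ⟨ζ, hζU⟩, hy]; exact hqq
    have hyeq : y = ⟨ζ, hζU⟩ := Subtype.ext (hmax y.1 hys hysp)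
    rw [hyeq] at hy
    rw [hqζ, hy]
  haveI : (𝓙.ideal U).IsPrincipal := ⟨⟨t, by rw [ht]⟩⟩
  have hht : qζ.height ≤ 1 := Ideal.height_le_one_of_isPrincipal_of_mem_minimalPrimes _ _ hmin
  have hle : qz ≤ qζ := (DimSch.primeIdealOf_le_iff U.2 ⟨z, hzU⟩ ⟨ζ, hζU⟩).mpr hz
  have hne : qz ≠ qζ := by
    intro h
    apply hzs
    rw [mem_support_iff_le 𝓙 U z hzU]
    change 𝓙.ideal U ≤ qz
    rw [h]; exact hmin.1.2
  have hlt : qz < qζ := lt_of_le_of_ne hle hne
  have h1 := Ideal.height_add_one_le_of_lt_of_isPrime hlt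
  have h0 : qz.height = 0 := by
    have h2 : qz.height + 1 ≤ 1 := h1.trans hht
    have hfin : qz.height ≠ ⊤ := Ideal.height_ne_top_of_isPrime
    obtain ⟨n, hn⟩ := ENat.ne_top_iff_exists.mp hfin
    rw [← hn] at h2 ⊢
    have : n + 1 ≤ 1 := by exact_mod_cast h2
    have : n = 0 := by omega
    subst this; rfl
  have hzmin : qz ∈ minimalPrimes Γ(Z, U.1) := Ideal.height_eq_zero_iff.mp h0
  have hgle : qg ≤ qz :=
    (DimSch.primeIdealOf_le_iff U.2 ⟨genericPoint Z, hgU⟩ ⟨z, hzU⟩).mpr (genericPoint_specializes z)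
  have hzg : qz ≤ qg := hzmin.2 ⟨inferInstance, bot_le⟩ hgle
  have heq : U.2.primeIdealOf ⟨z, hzU⟩ = U.2.primeIdealOf ⟨genericPoint Z, hgU⟩ :=
    PrimeSpectrum.ext (le_antisymm hzg hgle)
  exact congrArg Subtype.val (DimSch.primeIdealOf_injective U.2 heq)

theorem main {X Z : Scheme.{u}}
    [IsLocallyNoetherian X] [IrreducibleSpace ↥X]
    (hcat : ∀ x : ↥X, CAlg.IsCatenary ↑(X.presheaf.stalk x))
    (𝓘 : X.IdealSheafData) (hY : BlowUp.IsEffCartierIdeal 𝓘)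
    (i : Z ⟶ X) [IsClosedImmersion i] [IsIntegral Z] (hc : BlowUp.IsEffCartierIdeal (𝓘.comap i)) :
    (∀ ζ : ↥X, ζ ∈ (𝓘.support : Set ↥X) ∩ Set.range i.base →
        (∀ ζ' : ↥X, ζ' ∈ (𝓘.support : Set ↥X) ∩ Set.range i.base → ζ' ⤳ ζ → ζ' = ζ) →
        ringKrullDim ↑(X.presheaf.stalk ζ) =
          (⨅ y : (𝓘.support : Set ↥X), ringKrullDim ↑(X.presheaf.stalk y.1)) +
            ringKrullDim ↑(X.presheaf.stalk (i (genericPoint ↥Z)))) := by
  rintro ζ ⟨hζs, ζZ, rfl⟩ hmax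
  haveI : IsLocallyNoetherian Z := LocallyOfFiniteType.isLocallyNoetherian i
  have hinf : (⨅ y : (𝓘.support : Set X), ringKrullDim (X.presheaf.stalk y.1)) = 1 := by
    apply le_antisymm
    · obtain ⟨y, hys, hy1, -⟩ := exists_dim_le_one 𝓘 hY _ hζs
      exact (iInf_le (fun y : (𝓘.support : Set X) => ringKrullDim (X.presheaf.stalk y.1))
        ⟨y, hys⟩).trans hy1
    · exact le_iInf fun y => one_le_dim_stalk 𝓘 hY y.1 y.2
  have hsupp : ∀ z : Z, z ∈ (𝓘.comap i).support ↔ i z ∈ 𝓘.support := by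
    intro z; rw [Scheme.IdealSheafData.support_comap]; rfl
  have hinj : Function.Injective i := i.isEmbedding.injective
  have hmaxZ : ∀ ζ' ∈ (𝓘.comap i).support, ζ' ⤳ ζZ → ζ' = ζZ := by
    intro ζ' h1 h2
    exact hinj (hmax (i ζ') ⟨(hsupp ζ').mp h1, ⟨ζ', rfl⟩⟩ (h2.map i.continuous))
  have himmZ := immediate_of_maximal (𝓘.comap i) hc ζZ ((hsupp ζZ).mpr hζs) hmaxZ
  have hηζ : i (genericPoint Z) ⤳ i ζZ := (genericPoint_specializes ζZ).map i.continuous
  have hηne : i (genericPoint Z) ≠ i ζZ := by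
    intro h
    have h1 : genericPoint Z = ζZ := hinj h
    obtain ⟨z, hz, hzne⟩ := CartDim.exists_generization (𝓘.comap i) hc ζZ ((hsupp ζZ).mpr hζs)
    apply hzne
    rw [← h1] at hz ⊢
    exact (hz.antisymm (genericPoint_specializes z)).eq
  have hc1 : cdim X (i (genericPoint Z)) (i ζZ) = 1 := by
    apply le_antisymm
    · apply DimPts.cdim_le_one_of_immediate _ _ hηζ
      intro z h1 h2
      have hzr : z ∈ Set.range i.base :=
        h1.mem_closed i.isClosedEmbedding.isClosed_range ⟨_, rfl⟩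
      obtain ⟨z', rfl⟩ := hzr
      have h2' : z' ⤳ ζZ := (i.isEmbedding.isInducing.specializes_iff).mp h2
      rcases himmZ z' h2' with h | h
      · left; rw [h]
      · right; rw [h]
    · exact DimPts.one_le_cdim _ _ hηζ hηne
  have hS : PtTop.IsCatenarySpace X := (CatOrd.isCatenarySpace_iff_stalks X).mpr hcat
  obtain ⟨a, b, c, ha, hb, hc', habc⟩ := CatOrd.cdim_add_of_catenary hS (genericPoint X)
    (i (genericPoint Z)) (i ζZ) (genericPoint_specializes _) hηζ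
  rw [DimFun4.cdim_genericPoint] at ha hb
  rw [hc1] at hc'
  rw [hinf, ha, hb]
  have h1 : c = 1 := by exact_mod_cast hc'.symm
  subst h1; subst habc
  push_cast; rw [add_comm]

end Groth.Agent.Lib.helper26.PropInt
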