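import Mathlib
import Groth.Agent.Lib.helper26.DimFun6
import Groth.Agent.Lib.helper7.DimSch16

universe u
open AlgebraicGeometry CategoryTheory Topology TopologicalSpace IsLocalRing Limits

namespace Groth.Agent.Lib.helper26.PullMax

open Groth.Agent.Lib.helper7.DimSch

theorem flat_specMap_of_field {K L : Type u} [Field K] [Field L] (φ : CommRingCat.of K ⟶ CommRingCat.of L) :
    Flat (Spec.map φ) := by
  rw [HasRingHomProperty.Spec_iff (P := @Flat)]
  letI := φ.hom.toAlgebra
  change Module.Flat K L
  infer_instance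

/-- a maximal point of a fibre product maps to a point maximal in its fibre. -/
theorem maximal_in_fiber {P X Y Z : Scheme.{u}} {fst : P ⟶ X} {snd : P ⟶ Y} {f : X ⟶ Z}
    {g : Y ⟶ Z} (h : IsPullback fst snd f g) (p : P) (hmax : ∀ q : P, q ⤳ p → q = p) :
    ∀ v : X, f v = f (fst p) → v ⤳ fst p → v = fst p := by
  intro v hv hsp
  set y := snd p with hy
  have hpb := isPullback_fiberToSpecResidueField_of_isPullback h y
  set ρ : snd.fiber y ⟶ f.fiber (g y) :=
    pullback.map _ _ _ _ fst (Spec.map (g.residueFieldMap y)) g h.w.symm (by simp) with hρ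
  haveI : Flat (Spec.map (g.residueFieldMap y)) := flat_specMap_of_field _
  haveI : Flat ρ := MorphismProperty.of_isPullback hpb.flip inferInstance
  have hρι : ρ ≫ f.fiberι (g y) = snd.fiberι y ≫ fst := by
    rw [hρ]
    exact pullback.lift_fst _ _ _
  obtain ⟨z', hz'⟩ : p ∈ Set.range (snd.fiberι y) := by
    rw [Scheme.Hom.range_fiberι]; rfl
  have hw : f.fiberι (g y) (ρ z') = fst p := by
    rw [← hz']
    exact congrArg (fun φ : snd.fiber y ⟶ X => φ z') hρι
  have hfg : f (fst p) = g y := congrArg (fun φ : P ⟶ Z => φ p) h.w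
  obtain ⟨v', hv'⟩ : v ∈ Set.range (f.fiberι (g y)) := by
    rw [Scheme.Hom.range_fiberι]
    change f v = g y
    rw [hv, hfg]
  have hsp' : v' ⤳ ρ z' := by
    rw [← (f.fiberι (g y)).isEmbedding.isInducing.specializes_iff, hv', hw]
    exact hsp
  obtain ⟨z'', hz''sp, hz''⟩ := Flat.generalizingMap ρ hsp'
  have h1 : snd.fiberι y z'' ⤳ p := by
    rw [← hz']; exact hz''sp.map (snd.fiberι y).continuous
  have h2 := hmax _ h1
  rw [← hz'] at h2
  have h3 : z'' = z' := (snd.fiberι y).isEmbedding.injective h2
  rw [← hv', ← hz'', h3, hw]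

/-- a maximal point of `X ×_S S'` (with `S' → S` flat, `X` irreducible) lies over the generic point. -/
theorem fst_eq_genericPoint {X S S' : Scheme.{u}} (a : X ⟶ S) (g : S' ⟶ S) [Flat g]
    [IrreducibleSpace X] (x' : ↥(pullback a g)) (hmax : ∀ q : ↥(pullback a g), q ⤳ x' → q = x') :
    (pullback.fst a g) x' = genericPoint X := by
  have hsp : genericPoint X ⤳ (pullback.fst a g) x' := genericPoint_specializes _
  obtain ⟨q, hq, hq'⟩ := Flat.generalizingMap (pullback.fst a g) hsp
  rw [← hq', hmax q hq]

theorem trdeg_eq_of_fiberι_eq {X Y : Scheme.{u}} (f : X ⟶ Y) [LocallyOfFiniteType f] (y : Y)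
    (z : f.fiber y) (x : X) (hx : f.fiberι y z = x) :
    @Algebra.trdeg (Y.residueField (f x)) (X.residueField x) _ _
      (f.residueFieldMap x).hom.toAlgebra = (fiberTrdegNat f y z : Cardinal) := by
  subst hx
  exact trdeg_residueFieldMap_eq_fiberTrdegNat f y z

/-- the fibre through the generic point of an irreducible scheme is irreducible, of dimension the
transcendence degree. -/
theorem generic_fiber_components {X S : Scheme.{u}} (a : X ⟶ S) [LocallyOfFiniteType a]
    [IrreducibleSpace X] (n : ℕ)
    (hn : @Algebra.trdeg (S.residueField (a (genericPoint X))) (X.residueField (genericPoint X)) _ _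
      (a.residueFieldMap (genericPoint X)).hom.toAlgebra = n)
    (s : S) (hs : a (genericPoint X) = s) :
    ∀ Z ∈ irreducibleComponents (a.fiber s : Type u), topologicalKrullDim Z = (n : WithBot ℕ∞) := by
  subst hs
  intro Z hZ
  obtain ⟨z, hz⟩ := QuasiSober.sober hZ.1 (isClosed_of_mem_irreducibleComponents Z hZ)
  have hcl : closure ({z} : Set (a.fiber (a (genericPoint X)))) = Z := hz.def
  have hmax : ∀ z', z' ⤳ z → z' = z :=
    (closure_mem_irreducibleComponents_iff z).mp (by rw [hcl]; exact hZ)
  set z0 := a.asFiber (genericPoint X) with hz0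
  have hz0ι : a.fiberι _ z0 = genericPoint X := a.fiberι_asFiber _
  have hsp : z0 ⤳ z := by
    rw [← (a.fiberι _).isEmbedding.isInducing.specializes_iff, hz0ι]
    exact genericPoint_specializes _
  have hzz : z0 = z := hmax z0 hsp
  rw [← hcl, topologicalKrullDim_fiber_closure_singleton, ← hzz]
  have h1 := trdeg_eq_of_fiberι_eq a _ z0 _ hz0ι
  rw [hn] at h1
  have : n = fiberTrdegNat a (a (genericPoint X)) z0 := by exact_mod_cast h1
  rw [this]

/-- the statement of S1939 in library form. -/
theorem delta_pullback_generic {S S' X : Scheme.{u}} (δS : S → ℤ) (δS' : S' → ℤ)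
    (g : S' ⟶ S) [Flat g] (c : ℤ)
    (hc : ∀ s' : S', (∀ y, g y = g s' → y ⤳ s' → y = s') → δS' s' = δS (g s') + c)
    (a : X ⟶ S) [LocallyOfFiniteType a] [IrreducibleSpace X] (δX : X → ℤ)
    (hX : Cyc.DeltaCompat a δX δS) (δX' : ↥(pullback a g) → ℤ)
    (hX' : Cyc.DeltaCompat (pullback.snd a g) δX' δS') (x' : ↥(pullback a g))
    (hx' : ∀ y : ↥(pullback a g), y ⤳ x' → y = x') :
    δX' x' = δX (genericPoint X) + c := by
  have hfst := fst_eq_genericPoint a g x' hx'
  set s' := (pullback.snd a g) x' with hs'
  have hflip : IsPullback (pullback.snd a g) (pullback.fst a g) g a :=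
    (IsPullback.of_hasPullback a g).flip
  have hs'max := maximal_in_fiber hflip x' hx'
  have hδs' : δS' s' = δS (g s') + c := hc s' hs'max
  have hag : a (genericPoint X) = g s' := by
    rw [← hfst]
    exact congrArg (fun φ : pullback a g ⟶ S => φ x') pullback.condition
  obtain ⟨n, hn, hδη⟩ := hX (genericPoint X)
  have hn' : @Algebra.trdeg (S.residueField (a (genericPoint X))) (X.residueField (genericPoint X))
      _ _ (a.residueFieldMap (genericPoint X)).hom.toAlgebra = n := hn
  have hfib := generic_fiber_components a n hn' (g s') hag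
  obtain ⟨z2, hz2⟩ : x' ∈ Set.range ((pullback.snd a g).fiberι s') := by
    rw [Scheme.Hom.range_fiberι]; rfl
  have hz2max : ∀ z, z ⤳ z2 → z = z2 := by
    intro z hz
    have h1 : (pullback.snd a g).fiberι s' z ⤳ x' := by
      rw [← hz2]; exact hz.map ((pullback.snd a g).fiberι s').continuous
    have h2 := hx' _ h1
    rw [← hz2] at h2
    exact ((pullback.snd a g).fiberι s').isEmbedding.injective h2
  have hcomp := (closure_mem_irreducibleComponents_iff z2).mpr hz2max
  have hdim := fiber_components_dim_baseChange a g s' n hfib _ hcomp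
  rw [topologicalKrullDim_fiber_closure_singleton] at hdim
  have hnz : fiberTrdegNat (pullback.snd a g) s' z2 = n := by exact_mod_cast hdim
  obtain ⟨m, hm, hδx'⟩ := hX' x'
  have hm' : @Algebra.trdeg (S'.residueField ((pullback.snd a g) x'))
      ((pullback a g).residueField x') _ _
      ((pullback.snd a g).residueFieldMap x').hom.toAlgebra = m := hm
  have h3 := trdeg_eq_of_fiberι_eq (pullback.snd a g) s' z2 x' hz2
  rw [hm'] at h3
  have hmn : m = fiberTrdegNat (pullback.snd a g) s' z2 := by exact_mod_cast h3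
  rw [hδx', ← hs', hδs', hδη, hag, hmn, hnz]
  ring

end Groth.Agent.Lib.helper26.PullMax
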