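import Mathlib
import Groth.Prelude.Def_Found
import Groth.Agent.Lib.helper26.N1CritB

set_option autoImplicit false
universe u

namespace Groth.Agent.Lib.helper26.QFinN2

open Polynomial

section ZC
variable {R' L D' : Type*} [CommRing R'] [IsDomain R'] [IsIntegrallyClosed R'] [Field L]
  [Algebra R' L] [IsFractionRing R' L] [CommRing D'] [Algebra R' D'] [Algebra.FiniteType R' D']
  [Algebra.QuasiFinite R' D'] (ψ : D' →ₐ[R'] L)

/-- the image in `L = Frac R'` of a quasi-finite finite type algebra over a normal domain `R'`
is integrally closed in `L`. -/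
theorem mem_range_of_root (x : L) (P : L[X]) (hP : P.Monic)
    (hcoeff : ∀ i, P.coeff i ∈ ψ.range) (hx : P.eval x = 0) : x ∈ ψ.range := by
  classical
  -- the conductor-like ideal
  let I : Ideal ψ.range :=
    { carrier := {d | (d : L) * x ∈ ψ.range}
      add_mem' := by
        intro a b ha hb
        show ((a + b : ψ.range) : L) * x ∈ ψ.range
        rw [Subalgebra.coe_add, add_mul]
        exact add_mem ha hb
      zero_mem' := by
        show ((0 : ψ.range) : L) * x ∈ ψ.range
        rw [Subalgebra.coe_zero, zero_mul]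
        exact zero_mem _
      smul_mem' := by
        intro c a ha
        show ((c * a : ψ.range) : L) * x ∈ ψ.range
        rw [Subalgebra.coe_mul, mul_assoc]
        exact mul_mem c.2 ha }
  by_contra hxD
  have hI : I ≠ ⊤ := by
    intro h
    have h1 : (1 : ψ.range) ∈ I := by rw [h]; trivial
    have h2 : ((1 : ψ.range) : L) * x ∈ ψ.range := h1
    rw [Subalgebra.coe_one, one_mul] at h2
    exact hxD h2
  obtain ⟨p, hpmax, hIp⟩ := Ideal.exists_le_maximal I hI
  haveI := hpmax.isPrime
  let ψ' : D' →+* ψ.range := ψ.rangeRestrict.toRingHom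
  haveI : (p.comap ψ').IsPrime := Ideal.comap_isPrime _ _
  have hZ : Algebra.ZariskisMainProperty R' (p.comap ψ') :=
    Algebra.ZariskisMainProperty.of_finiteType _
  obtain ⟨r', hr'p, hr'int, hr'⟩ := Algebra.zariskisMainProperty_iff.1 hZ
  -- the element r
  have hrint : IsIntegral R' (ψ r') := hr'int.map ψ
  obtain ⟨ρ, hρ⟩ := IsIntegrallyClosed.isIntegral_iff.1 hrint
  have hρ0 : ρ ≠ 0 := by
    rintro rfl
    rw [map_zero] at hρ
    apply hr'p
    show ψ' r' ∈ p
    have : ψ' r' = 0 := Subtype.ext hρ.symm
    rw [this]; exact zero_mem _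
  -- elements of the range become elements of R' after multiplication by a power of ρ
  have hmul : ∀ d ∈ ψ.range, ∃ (m : ℕ) (a : R'), algebraMap R' L ρ ^ m * d = algebraMap R' L a := by
    rintro _ ⟨d', rfl⟩
    obtain ⟨m, hm⟩ := hr' d'
    have h1 : IsIntegral R' (ψ (r' ^ m * d')) := hm.map ψ
    obtain ⟨a, ha⟩ := IsIntegrallyClosed.isIntegral_iff.1 h1
    refine ⟨m, a, ?_⟩
    rw [ha, map_mul, map_pow, hρ]
    rfl
  have hρL : algebraMap R' L ρ ≠ 0 := by
    intro h0
    exact hρ0 ((IsFractionRing.injective R' L) (h0.trans (map_zero _).symm))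
  haveI : IsIntegrallyClosed (Localization.Away ρ) :=
    isIntegrallyClosed_of_isLocalization (Localization.Away ρ) (Submonoid.powers ρ)
      (powers_le_nonZeroDivisors_of_noZeroDivisors hρ0)
  letI algEL : Algebra (Localization.Away ρ) L :=
    (IsLocalization.lift (M := Submonoid.powers ρ) (g := algebraMap R' L) (by
      rintro ⟨_, n, rfl⟩
      rw [map_pow]
      exact (isUnit_iff_ne_zero.2 hρL).pow n)).toAlgebra
  haveI : IsScalarTower R' (Localization.Away ρ) L :=
    IsScalarTower.of_algebraMap_eq (fun a => (IsLocalization.lift_eq _ a).symm)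
  haveI : IsFractionRing (Localization.Away ρ) L :=
    IsFractionRing.isFractionRing_of_isDomain_of_isLocalization (Submonoid.powers ρ)
      (Localization.Away ρ) L
  have hmk : ∀ (a : R') (m : ℕ), algebraMap (Localization.Away ρ) L
      (IsLocalization.mk' (Localization.Away ρ) a
        (⟨ρ ^ m, m, rfl⟩ : Submonoid.powers ρ)) * algebraMap R' L ρ ^ m = algebraMap R' L a := by
    intro a m
    have h1 := IsLocalization.mk'_spec (Localization.Away ρ) a
      (⟨ρ ^ m, m, rfl⟩ : Submonoid.powers ρ)
    have h2 := congrArg (algebraMap (Localization.Away ρ) L) h1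
    rw [map_mul, ← IsScalarTower.algebraMap_apply, ← IsScalarTower.algebraMap_apply,
      map_pow] at h2
    exact h2
  have hlift : P ∈ Polynomial.lifts (algebraMap (Localization.Away ρ) L) := by
    rw [Polynomial.lifts_iff_coeff_lifts]
    intro i
    obtain ⟨m, a, hma⟩ := hmul _ (hcoeff i)
    refine ⟨IsLocalization.mk' (Localization.Away ρ) a
      (⟨ρ ^ m, m, rfl⟩ : Submonoid.powers ρ), ?_⟩
    have h1 := hmk a m
    rw [← hma, mul_comm] at h1
    exact mul_left_cancel₀ (pow_ne_zero m hρL) h1
  obtain ⟨Q, hQmap, -, hQmonic⟩ := Polynomial.lifts_and_natDegree_eq_and_monic hlift hP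
  have hxE : IsIntegral (Localization.Away ρ) x := by
    refine ⟨Q, hQmonic, ?_⟩
    rw [← Polynomial.eval_map, hQmap]
    exact hx
  obtain ⟨y, hy⟩ := IsIntegrallyClosed.isIntegral_iff.1 hxE
  obtain ⟨a, ⟨_, m, rfl⟩, rfl⟩ := IsLocalization.exists_mk'_eq (Submonoid.powers ρ) y
  have h5 : algebraMap R' L ρ ^ m * x = algebraMap R' L a := by
    rw [← hy, mul_comm]
    exact hmk a m
  have h6 : (ψ' r') ^ m ∈ I := by
    show (((ψ' r') ^ m : ψ.range) : L) * x ∈ ψ.range
    rw [Subalgebra.coe_pow]
    have : ((ψ' r' : ψ.range) : L) = algebraMap R' L ρ := hρ.symm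
    rw [this, h5]
    exact Subalgebra.algebraMap_mem _ _
  exact hr'p (hpmax.isPrime.mem_of_pow_mem m (hIp h6))

end ZC

open TensorProduct in
theorem isN2_of_quasiFinite {R S : Type u} [CommRing R] [IsDomain R] [IsNoetherianRing R]
    [CommRing S] [IsDomain S] [Algebra R S] (hinj : Function.Injective (algebraMap R S))
    [Algebra.FiniteType R S] [Algebra.QuasiFinite R S] (hR : CAlg.IsN2 R) : CAlg.IsN2 S := by
  classical
  intro L _ _ _ _ hfd
  haveI : FaithfulSMul R S := (faithfulSMul_iff_algebraMap_injective R S).2 hinj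
  haveI : FaithfulSMul R (FractionRing S) := by
    rw [faithfulSMul_iff_algebraMap_injective, IsScalarTower.algebraMap_eq R S (FractionRing S)]
    exact (IsFractionRing.injective S (FractionRing S)).comp hinj
  letI algKF : Algebra (FractionRing R) (FractionRing S) :=
    FractionRing.liftAlgebra R (FractionRing S)
  haveI : IsScalarTower R (FractionRing R) (FractionRing S) :=
    FractionRing.isScalarTower_liftAlgebra R _
  haveI : Algebra.QuasiFinite R (FractionRing S) := Algebra.QuasiFinite.trans R S (FractionRing S)
  haveI : Algebra.QuasiFinite (FractionRing R) (FractionRing S) :=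
    Algebra.QuasiFinite.of_restrictScalars R _ _
  haveI : Module.Finite (FractionRing R) (FractionRing S) := Module.Finite.of_quasiFinite
  letI algRL : Algebra R L := ((algebraMap S L).comp (algebraMap R S)).toAlgebra
  haveI : IsScalarTower R S L := IsScalarTower.of_algebraMap_eq (fun _ => rfl)
  letI algKL : Algebra (FractionRing R) L :=
    ((algebraMap (FractionRing S) L).comp
      (algebraMap (FractionRing R) (FractionRing S))).toAlgebra
  haveI : IsScalarTower (FractionRing R) (FractionRing S) L :=
    IsScalarTower.of_algebraMap_eq (fun _ => rfl)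
  haveI : IsScalarTower R (FractionRing R) L := by
    refine IsScalarTower.of_algebraMap_eq (fun r => ?_)
    show algebraMap S L (algebraMap R S r) = algebraMap (FractionRing S) L
      (algebraMap (FractionRing R) (FractionRing S) (algebraMap R (FractionRing R) r))
    rw [← IsScalarTower.algebraMap_apply R (FractionRing R) (FractionRing S),
      IsScalarTower.algebraMap_apply R S (FractionRing S),
      ← IsScalarTower.algebraMap_apply S (FractionRing S) L]
  haveI : FiniteDimensional (FractionRing R) L := Module.Finite.trans (FractionRing S) L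
  have hR' : Module.Finite R (integralClosure R L) := hR L inferInstance
  haveI : IsIntegrallyClosed (integralClosure R L) :=
    integralClosure.isIntegrallyClosedOfFiniteExtension (FractionRing R)
  haveI : IsFractionRing (integralClosure R L) L :=
    IsIntegralClosure.isFractionRing_of_finite_extension R (FractionRing R) L _
  let ψ : (integralClosure R L) ⊗[R] S →ₐ[integralClosure R L] L :=
    Algebra.TensorProduct.lift (Algebra.ofId _ L) (IsScalarTower.toAlgHom R S L)
      (fun _ _ => Commute.all _ _)
  obtain ⟨T, -, hT⟩ := N1Crit.exists_finset_span hR'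
  have hrange : ∀ z ∈ ψ.range, z ∈ Submodule.span S (T : Set L) := by
    rintro _ ⟨w, rfl⟩
    show ψ w ∈ Submodule.span S (T : Set L)
    induction w using TensorProduct.induction_on with
    | zero => rw [map_zero]; exact zero_mem _
    | tmul r' s =>
      have h1 : (r' : L) ∈ Submodule.span S (T : Set L) :=
        Submodule.span_le_restrictScalars R S _ (hT r'.1 r'.2)
      have h2 : ψ (r' ⊗ₜ[R] s) = s • (r' : L) := by
        simp only [ψ, Algebra.TensorProduct.lift_tmul, Algebra.ofId_apply,
          IsScalarTower.coe_toAlgHom', Algebra.smul_def]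
        rw [mul_comm]
        rfl
      rw [h2]
      exact Submodule.smul_mem _ _ h1
    | add a b ha hb => rw [map_add]; exact add_mem ha hb
  have hC : ∀ x : L, IsIntegral S x → x ∈ ψ.range := by
    intro x hx
    obtain ⟨P₀, hmonic, heval⟩ := hx
    refine mem_range_of_root ψ x (P₀.map (algebraMap S L)) (hmonic.map _) (fun i => ?_) ?_
    · rw [Polynomial.coeff_map]
      refine ⟨(1 : integralClosure R L) ⊗ₜ[R] P₀.coeff i, ?_⟩
      show ψ ((1 : integralClosure R L) ⊗ₜ[R] P₀.coeff i) = _
      simp only [ψ, Algebra.TensorProduct.lift_tmul, map_one, one_mul,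
        IsScalarTower.coe_toAlgHom']
    · rw [Polynomial.eval_map]; exact heval
  haveI : IsNoetherianRing S := Algebra.FiniteType.isNoetherianRing R S
  have hle : (integralClosure S L).toSubmodule ≤ Submodule.span S (T : Set L) :=
    fun x hx => hrange x (hC x hx)
  exact Module.Finite.of_fg (Submodule.FG.of_le (Submodule.fg_span T.finite_toSet) hle)

end Groth.Agent.Lib.helper26.QFinN2
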