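import Mathlib
import Groth.Agent.Lib.helper26.RCF
import Groth.Agent.S18735

universe u
open AlgebraicGeometry CategoryTheory Topology TopologicalSpace CategoryTheory.Limits

namespace Groth.Agent.Lib.helper26.RCF

open ModPair

theorem adm_rightFraction ⦃X Y : ModPair.Pair.{u}⦄
    (φ : (ModPair.Pair.admBlowup.{u}).LeftFraction X Y) :
    ∃ (ψ : (ModPair.Pair.admBlowup.{u}).RightFraction X Y), ψ.s ≫ φ.f = ψ.f ≫ φ.s := by
  obtain ⟨h1, h2, h3⟩ := Groth.Agent.S18735.result φ.Y'.mod X.mod Y.mod φ.Y'.isEffCartier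
    X.isEffCartier Y.isEffCartier φ.f.hom φ.f.cond φ.s.hom φ.hs
  let X' : ModPair.Pair.{u} :=
    ⟨ModPair.mprod φ.s.hom φ.f.hom Y.mod X.mod, _, h1⟩
  let s' : X' ⟶ X := ⟨ModPair.mprodι φ.s.hom φ.f.hom Y.mod X.mod ≫ pullback.snd φ.s.hom φ.f.hom,
    le_refl _⟩
  let f' : X' ⟶ Y := ⟨ModPair.mprodι φ.s.hom φ.f.hom Y.mod X.mod ≫ pullback.fst φ.s.hom φ.f.hom,
    h3⟩
  refine ⟨⟨s', h2, f'⟩, ?_⟩
  apply ModPair.Pair.Hom.ext
  show (ModPair.mprodι φ.s.hom φ.f.hom Y.mod X.mod ≫ pullback.snd φ.s.hom φ.f.hom) ≫ φ.f.hom =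
    (ModPair.mprodι φ.s.hom φ.f.hom Y.mod X.mod ≫ pullback.fst φ.s.hom φ.f.hom) ≫ φ.s.hom
  rw [Category.assoc, Category.assoc, pullback.condition]

theorem main : (ModPair.Pair.admBlowup.{u}).HasRightCalculusOfFractions where
  exists_rightFraction := adm_rightFraction
  ext := fun X Y Y' f₁ f₂ s hs h =>
    ⟨X, 𝟙 X, adm_id X, by rw [Category.id_comp, Category.id_comp]; exact adm_ext f₁ f₂ s hs h⟩

end Groth.Agent.Lib.helper26.RCF
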