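import Mathlib
import Groth.Agent.Lib.helper7.Jac2
import Groth.Agent.Lib.helper7.DimSch3
import Groth.Agent.Lib.helper6.SerreConvE
import Groth.Agent.Lib.helper9.Depth11
import Groth.Agent.Lib.helper9.Depth24

universe u
open TopologicalSpace Topology AlgebraicGeometry CategoryTheory

namespace Groth.Agent.Lib.helper26.RegCl

/-- every point of a locally Noetherian scheme specializes to a closed point. -/
theorem exists_isClosed_specializes {X : Scheme.{u}} [IsLocallyNoetherian X] (x : X) :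
    ∃ y : X, x ⤳ y ∧ IsClosed ({y} : Set X) := by
  obtain ⟨_, ⟨V, hV, rfl⟩, hxV, -⟩ := X.isBasis_affineOpens.exists_subset_of_mem_open
    (Set.mem_univ x) isOpen_univ
  have hV' : IsAffineOpen V := hV
  obtain ⟨m, hm, hle⟩ := Ideal.exists_le_maximal (hV'.primeIdealOf ⟨x, hxV⟩).asIdeal
    (hV'.primeIdealOf ⟨x, hxV⟩).isPrime.ne_top
  obtain ⟨u, hu⟩ := helper7.DimSch.exists_primeIdealOf_eq hV' ⟨m, hm.isPrime⟩
  have hxu : x ⤳ (u : X) := by
    have := (helper7.DimSch.primeIdealOf_le_iff hV' ⟨x, hxV⟩ u).mp (by rw [hu]; exact hle)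
    exact this
  have hsingle : ({(u : X)} : Set X) = (V : Set X) ∩ closure ({(u : X)} : Set X) := by
    ext t
    constructor
    · rintro rfl
      exact ⟨u.2, subset_closure rfl⟩
    · rintro ⟨htV, htc⟩
      have hut : (u : X) ⤳ t := specializes_iff_mem_closure.mpr htc
      have h1 : hV'.primeIdealOf u ≤ hV'.primeIdealOf ⟨t, htV⟩ :=
        (helper7.DimSch.primeIdealOf_le_iff hV' u ⟨t, htV⟩).mpr hut
      have h2 : (hV'.primeIdealOf u).asIdeal = (hV'.primeIdealOf ⟨t, htV⟩).asIdeal := by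
        have hmax : (hV'.primeIdealOf u).asIdeal.IsMaximal := by rw [hu]; exact hm
        exact hmax.eq_of_le (hV'.primeIdealOf ⟨t, htV⟩).isPrime.ne_top h1
      have h3 := helper7.DimSch.primeIdealOf_injective hV' (PrimeSpectrum.ext h2)
      exact (congrArg Subtype.val h3).symm
  have hlc : IsLocallyClosed ({(u : X)} : Set X) := by
    rw [hsingle]
    exact V.isOpen.isLocallyClosed.inter isClosed_closure.isLocallyClosed
  by_cases hcl : IsClosed ({(u : X)} : Set X)
  · exact ⟨u, hxu, hcl⟩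
  · have hne : closure ({(u : X)} : Set X) ≠ {(u : X)} := fun h => hcl (h ▸ isClosed_closure)
    have hex : ∃ y ∈ closure ({(u : X)} : Set X), y ≠ (u : X) := by
      by_contra hcon
      push Not at hcon
      apply hne
      apply Set.Subset.antisymm
      · intro y hy
        exact hcon y hy
      · exact subset_closure
    obtain ⟨y, hy, hyu⟩ := hex
    exact ⟨y, hxu.trans (specializes_iff_mem_closure.mpr hy),
      helper7.Jac.isClosed_singleton_of_mem_closure hlc hy hyu⟩

/-- the local ring at a generization is a localization of the local ring at a prime. -/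
theorem exists_localization_stalk {X : Scheme.{u}} (x x₀ : X) (h : x ⤳ x₀) :
    ∃ (𝔭 : Ideal (X.presheaf.stalk x₀)) (_ : 𝔭.IsPrime),
      Nonempty (Localization.AtPrime 𝔭 ≃+* X.presheaf.stalk x) := by
  obtain ⟨_, ⟨V, hV, rfl⟩, hx₀V, -⟩ := X.isBasis_affineOpens.exists_subset_of_mem_open
    (Set.mem_univ x₀) isOpen_univ
  have hV' : IsAffineOpen V := hV
  have hxV : x ∈ V := h.mem_open V.isOpen hx₀V
  set A := Γ(X, V) with hA
  set R := X.presheaf.stalk x₀ with hR
  set T := X.presheaf.stalk x with hT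
  letI a1 : Algebra A R := X.presheaf.algebra_section_stalk ⟨x₀, hx₀V⟩
  haveI l1 : IsLocalization.AtPrime R (hV'.primeIdealOf ⟨x₀, hx₀V⟩).asIdeal :=
    hV'.isLocalization_stalk ⟨x₀, hx₀V⟩
  letI a2 : Algebra A T := X.presheaf.algebra_section_stalk ⟨x, hxV⟩
  haveI l2 : IsLocalization.AtPrime T (hV'.primeIdealOf ⟨x, hxV⟩).asIdeal :=
    hV'.isLocalization_stalk ⟨x, hxV⟩
  set P₀ := (hV'.primeIdealOf ⟨x₀, hx₀V⟩).asIdeal with hP₀
  set P := (hV'.primeIdealOf ⟨x, hxV⟩).asIdeal with hP
  have hle : P ≤ P₀ := (helper7.DimSch.primeIdealOf_le_iff hV' ⟨x, hxV⟩ ⟨x₀, hx₀V⟩).mpr h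
  have hdisj : Disjoint (P₀.primeCompl : Set A) (P : Set A) := by
    rw [Set.disjoint_left]
    intro a ha haP
    exact ha (hle haP)
  set 𝔭 : Ideal R := P.map (algebraMap A R) with h𝔭
  haveI h𝔭prime : 𝔭.IsPrime :=
    IsLocalization.isPrime_of_isPrime_disjoint P₀.primeCompl R P inferInstance hdisj
  have hcomap : 𝔭.comap (algebraMap A R) = P :=
    IsLocalization.comap_map_of_isPrime_disjoint P₀.primeCompl R inferInstance hdisj
  refine ⟨𝔭, h𝔭prime, ?_⟩
  haveI l3 : IsLocalization.AtPrime (Localization.AtPrime 𝔭) (𝔭.comap (algebraMap A R)) :=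
    IsLocalization.isLocalization_isLocalization_atPrime_isLocalization P₀.primeCompl
      (Localization.AtPrime 𝔭) 𝔭
  have hM : (𝔭.comap (algebraMap A R)).primeCompl = P.primeCompl := by
    ext a
    simp only [Ideal.primeCompl, Submonoid.mem_mk, Subsemigroup.mem_mk, Set.mem_compl_iff,
      SetLike.mem_coe]
    rw [hcomap]
  haveI l4 : IsLocalization P.primeCompl (Localization.AtPrime 𝔭) := hM ▸ l3
  exact ⟨(IsLocalization.algEquiv P.primeCompl (Localization.AtPrime 𝔭) T).toRingEquiv⟩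

/-- S9807 -/
theorem regular_iff_closedPoints (X : Scheme.{u}) [IsLocallyNoetherian X] :
    (∀ x : X, IsRegularLocalRing (X.presheaf.stalk x)) ↔
      ∀ x : X, IsClosed ({x} : Set X) → IsRegularLocalRing (X.presheaf.stalk x) := by
  refine ⟨fun h x _ => h x, fun h x => ?_⟩
  obtain ⟨y, hxy, hy⟩ := exists_isClosed_specializes x
  obtain ⟨𝔭, h𝔭, ⟨e⟩⟩ := exists_localization_stalk x y hxy
  haveI := h y hy
  haveI := Groth.Agent.Lib.helper6.SerreConvE.regular_localization (X.presheaf.stalk y) 𝔭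
  exact IsRegularLocalRing.of_ringEquiv e

open LocCoh Groth.Agent.Lib.helper9.Depth in
/-- the localization of a Cohen–Macaulay local ring at a prime is Cohen–Macaulay. -/
theorem isCM_localization (R : Type u) [CommRing R] [IsCohenMacaulayLocalRing R] (𝔭 : Ideal R)
    [𝔭.IsPrime] : IsCohenMacaulayLocalRing (Localization.AtPrime 𝔭) := by
  have hM : IsCohenMacaulayModule R R := IsCohenMacaulayLocalRing.supportDim_eq_depth
  have hsupp : (⟨𝔭, inferInstance⟩ : PrimeSpectrum R) ∈ Module.support R R := by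
    rw [Module.support_eq_zeroLocus, Module.annihilator_eq_bot.mpr inferInstance]
    simp
  obtain ⟨h1, -, -⟩ := isCohenMacaulayModule_localization_and_dim hM ⟨𝔭, inferInstance⟩ hsupp
  refine ⟨?_⟩
  have e := localizedModuleSelfEquiv 𝔭
  rw [← Module.supportDim_eq_of_equiv e, ← depth_localizedModule_self]
  exact h1

open LocCoh Groth.Agent.Lib.helper9.Depth in
/-- Cohen–Macaulay local rings are invariant under ring isomorphisms. -/
theorem isCM_of_ringEquiv {S T : Type u} [CommRing S] [CommRing T] (e : S ≃+* T)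
    [IsCohenMacaulayLocalRing S] : IsCohenMacaulayLocalRing T := by
  haveI : IsNoetherianRing T := isNoetherianRing_of_ringEquiv S e
  haveI : IsLocalRing T := e.isLocalRing
  refine ⟨?_⟩
  have h1 := supportDim_eq_of_addEquiv (R := S) (S := T) (M := S) (M₂ := T) e e.toAddEquiv
    (fun r x => by simp)
  have h2 := depth_eq_of_addEquiv (R := S) (S := T) (M := S) (M₂ := T) e e.toAddEquiv
    (fun r x => by simp)
  rw [← h1, ← h2]
  exact IsCohenMacaulayLocalRing.supportDim_eq_depth

/-- S9808 -/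
theorem cm_iff_closedPoints (X : Scheme.{u}) [IsLocallyNoetherian X] :
    (∀ x : X, LocCoh.IsCohenMacaulayLocalRing (X.presheaf.stalk x)) ↔
      ∀ x : X, IsClosed ({x} : Set X) → LocCoh.IsCohenMacaulayLocalRing (X.presheaf.stalk x) := by
  refine ⟨fun h x _ => h x, fun h x => ?_⟩
  obtain ⟨y, hxy, hy⟩ := exists_isClosed_specializes x
  obtain ⟨𝔭, h𝔭, ⟨e⟩⟩ := exists_localization_stalk x y hxy
  haveI := h y hy
  haveI := isCM_localization (X.presheaf.stalk y) 𝔭
  exact isCM_of_ringEquiv e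

end Groth.Agent.Lib.helper26.RegCl
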