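import Groth.Agent.Lib.helper9.Depth1
import Mathlib

/-!
# Generators of an ideal of large depth form a regular sequence (local Noetherian) (helper26)
-/

set_option autoImplicit false

namespace Groth.Agent.Lib.helper26.RegSeqD

open RingTheory.Sequence IsLocalRing

universe u

section Avoid

variable {A : Type u} [CommRing A] [IsLocalRing A]

/-- Coset prime avoidance in a local ring: if no prime of `S` contains `(x) + I'`, then some
element of the coset `x + I'` avoids all primes of `S`. -/
theorem exists_add_notMem (x : A) (I' : Ideal A) (S : Finset (Ideal A))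
    (hS : ∀ P ∈ S, P.IsPrime) (h : ∀ P ∈ S, ¬ (x ∈ P ∧ I' ≤ P)) :
    ∃ c ∈ I', ∀ P ∈ S, x + c ∉ P := by
  classical
  by_contra hcon
  push Not at hcon
  -- hcon : ∀ c ∈ I', ∃ P ∈ S, x + c ∈ P
  set J := Ideal.span {x} ⊔ I' with hJ
  set I'' := maximalIdeal A * Ideal.span {x} ⊔ I' with hI''
  have hsub : (J : Set A) ⊆ ⋃ P ∈ ((insert I'' S : Finset (Ideal A)) : Set (Ideal A)), (P : Set A) := by
    intro y hy
    obtain ⟨y1, hy1, c, hc, rfl⟩ := Submodule.mem_sup.1 hy
    obtain ⟨r, rfl⟩ := Ideal.mem_span_singleton'.1 hy1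
    simp only [Set.mem_iUnion, SetLike.mem_coe, Finset.coe_insert, Set.mem_insert_iff,
      exists_prop]
    by_cases hr : IsUnit r
    · obtain ⟨u, rfl⟩ := hr
      obtain ⟨P, hP, hxP⟩ := hcon (↑u⁻¹ * c) (I'.mul_mem_left _ hc)
      refine ⟨P, Or.inr hP, ?_⟩
      have : (u : A) * x + c = u * (x + ↑u⁻¹ * c) := by
        rw [mul_add, ← mul_assoc, Units.mul_inv, one_mul]
      rw [this]
      exact P.mul_mem_left _ hxP
    · refine ⟨I'', Or.inl rfl, ?_⟩
      have hrm : r ∈ maximalIdeal A := (mem_maximalIdeal r).2 hr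
      exact Submodule.add_mem_sup (Ideal.mul_mem_mul hrm (Ideal.subset_span rfl)) hc
  rw [Ideal.subset_union_prime (f := fun P : Ideal A => P) I'' I''] at hsub
  · obtain ⟨P, hP, hJP⟩ := hsub
    rw [Finset.mem_insert] at hP
    have hxJ : x ∈ J := Ideal.mem_sup_left (Ideal.subset_span rfl)
    rcases hP with rfl | hP
    · -- J ≤ I'' : Nakayama
      have hx'' : x ∈ I'' := hJP hxJ
      obtain ⟨y, hy, c, hc, hyc⟩ := Submodule.mem_sup.1 hx''
      obtain ⟨r, hr, rfl⟩ := Ideal.mem_mul_span_singleton.1 hy
      have hu : IsUnit (1 - r) := by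
        by_contra hnu
        have h1 : (1 - r) ∈ maximalIdeal A := (mem_maximalIdeal _).2 hnu
        have : (1 : A) ∈ maximalIdeal A := by
          have := (maximalIdeal A).add_mem h1 hr
          rwa [sub_add_cancel] at this
        exact (Ideal.ne_top_iff_one _).1 (maximalIdeal.isMaximal A).ne_top this
      have hxI' : x ∈ I' := by
        have h2 : (1 - r) * x = c := by linear_combination (-1 : A) * hyc
        have h3 : x = ↑hu.unit⁻¹ * c := by
          rw [← h2, ← mul_assoc]
          have : (↑hu.unit⁻¹ : A) * (1 - r) = 1 := by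
            have := hu.unit.inv_mul
            rwa [IsUnit.unit_spec] at this
          rw [this, one_mul]
        rw [h3]
        exact I'.mul_mem_left _ hc
      -- then I' ⊆ ⋃ S
      have hsub' : (I' : Set A) ⊆ ⋃ P ∈ (S : Set (Ideal A)), (P : Set A) := by
        intro c hc
        obtain ⟨P, hP, hxP⟩ := hcon (c - x) (I'.sub_mem hc hxI')
        simp only [Set.mem_iUnion, SetLike.mem_coe, exists_prop]
        refine ⟨P, hP, ?_⟩
        rwa [add_sub_cancel] at hxP
      by_cases hSe : S = ∅
      · subst hSe
        simp only [Finset.coe_empty, Set.biUnion_empty] at hsub'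
        exact hsub' I'.zero_mem
      obtain ⟨P₀, hP₀⟩ := Finset.nonempty_iff_ne_empty.2 hSe
      rw [Ideal.subset_union_prime (f := fun P : Ideal A => P) P₀ P₀
        (fun P hP _ _ => hS P hP)] at hsub'
      obtain ⟨P, hP, hI'P⟩ := hsub'
      exact h P hP ⟨hI'P hxI', hI'P⟩
    · exact h P hP ⟨hJP hxJ, le_sup_right.trans hJP⟩
  · intro P hP hPa _
    rw [Finset.mem_insert] at hP
    rcases hP with rfl | hP
    · exact absurd rfl hPa
    · exact hS P hP

end Avoid

section Congr

open Pointwise

variable {R : Type*} [CommRing R]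

/-- Weak regularity only depends on the action of the elements on the module. -/
theorem isWeaklyRegular_of_forall₂ : ∀ (xs ys : List R) (N : Type*) [AddCommGroup N] [Module R N],
    List.Forall₂ (fun x y : R => ∀ v : N, x • v = y • v) xs ys →
    IsWeaklyRegular N xs → IsWeaklyRegular N ys := by
  intro xs
  induction xs with
  | nil =>
    intro ys N _ _ h _
    cases h
    exact IsWeaklyRegular.nil R N
  | cons x xs ih =>
    intro ys N _ _ h hx
    cases h with
    | cons hxy htail =>
      rename_i y ys'
      rw [isWeaklyRegular_cons_iff] at hx ⊢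
      obtain ⟨hx1, hx2⟩ := hx
      have hreg : IsSMulRegular N y := by
        intro v w hvw
        apply hx1
        simp only at hvw ⊢
        rw [hxy v, hxy w]; exact hvw
      refine ⟨hreg, ?_⟩
      have heq : (x • (⊤ : Submodule R N)) = (y • (⊤ : Submodule R N)) := by
        ext v
        simp only [Submodule.mem_smul_pointwise_iff_exists, Submodule.mem_top, true_and]
        constructor
        · rintro ⟨w, rfl⟩; exact ⟨w, (hxy w).symm⟩
        · rintro ⟨w, rfl⟩; exact ⟨w, hxy w⟩
      have e : QuotSMulTop x N ≃ₗ[R] QuotSMulTop y N := Submodule.quotEquivOfEq _ _ heq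
      rw [← e.isWeaklyRegular_congr]
      apply ih ys' (QuotSMulTop x N) _ hx2
      refine htail.imp ?_
      intro r r' hrr' v
      obtain ⟨w, rfl⟩ := Submodule.Quotient.mk_surjective _ v
      rw [← Submodule.Quotient.mk_smul, ← Submodule.Quotient.mk_smul, hrr' w]

end Congr

section Main

open LocCoh Groth.Agent.Lib.helper9.Depth Pointwise

variable {A : Type u} [CommRing A]

/-- Elements of `(b') + I'` act on `M / b' M` like elements of `I'`. -/
theorem exists_forall₂_of_mem (b' : A) (I' : Ideal A) (M : Type u) [AddCommGroup M] [Module A M] :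
    ∀ rs : List A, (∀ r ∈ rs, r ∈ Ideal.span {b'} ⊔ I') →
      ∃ ys : List A, List.Forall₂ (fun x y : A => ∀ v : QuotSMulTop b' M, x • v = y • v) rs ys ∧
        ∀ y ∈ ys, y ∈ I' := by
  intro rs
  induction rs with
  | nil => intro _; exact ⟨[], List.Forall₂.nil, by simp⟩
  | cons r rs ih =>
    intro h
    obtain ⟨ys, hys, hmem⟩ := ih (fun r' hr' => h r' (List.mem_cons_of_mem _ hr'))
    obtain ⟨z, hz, y, hy, hzy⟩ := Submodule.mem_sup.1 (h r (List.mem_cons_self ..))
    obtain ⟨t, rfl⟩ := Ideal.mem_span_singleton'.1 hz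
    refine ⟨y :: ys, List.Forall₂.cons ?_ hys, ?_⟩
    · intro v
      obtain ⟨w, rfl⟩ := Submodule.Quotient.mk_surjective _ v
      rw [← hzy, add_smul, add_eq_right, ← Submodule.Quotient.mk_smul,
        Submodule.Quotient.mk_eq_zero, mul_smul, smul_comm]
      exact Submodule.smul_mem_pointwise_smul _ _ _ Submodule.mem_top
    · intro y' hy'
      rcases List.mem_cons.1 hy' with rfl | hy'
      · exact hy
      · exact hmem _ hy'

variable [IsLocalRing A] [IsNoetherianRing A]

/-- In a Noetherian local ring, a sequence of `n` elements of the maximal ideal generating an ideal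
of depth at least `n` on `M` is `M`-regular. -/
theorem isWeaklyRegular_of_le_idealDepth : ∀ (bs : List A) (M : Type u) [AddCommGroup M]
    [Module A M] [Module.Finite A M] [Nontrivial M], (∀ b ∈ bs, b ∈ maximalIdeal A) →
    (bs.length : ℕ∞) ≤ idealDepth (Ideal.ofList bs) M → IsWeaklyRegular M bs := by
  intro bs
  induction bs with
  | nil => intro M _ _ _ _ _ _; exact IsWeaklyRegular.nil A M
  | cons b bs ih =>
    intro M _ _ _ _ hmem hdepth
    classical
    set I := Ideal.ofList (b :: bs) with hI
    set I' := Ideal.ofList bs with hI'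
    have hII' : I = Ideal.span {b} ⊔ I' := Ideal.ofList_cons b bs
    have hIm : I ≤ maximalIdeal A := Ideal.span_le.2 hmem
    have hI'm : I' ≤ maximalIdeal A :=
      Ideal.span_le.2 (fun r hr => hmem r (List.mem_cons_of_mem _ hr))
    have hItop : I • (⊤ : Submodule A M) ≠ ⊤ :=
      (Submodule.top_ne_ideal_smul_of_le_jacobson_annihilator
        (hIm.trans (maximalIdeal_le_jacobson _))).symm
    -- a regular element in I
    have h1 : ((1 : ℕ) : ℕ∞) ≤ idealDepth I M := by
      refine le_trans ?_ hdepth
      simp only [List.length_cons, Nat.cast_add, Nat.cast_one]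
      exact le_add_self
    obtain ⟨rs, hlen, hreg, hrsI⟩ := (le_idealDepth_iff hItop 1).1 h1
    obtain ⟨x, rfl⟩ := List.length_eq_one_iff.1 hlen
    have hxI : x ∈ I := hrsI x (List.mem_singleton_self x)
    have hxreg : IsSMulRegular M x := (isWeaklyRegular_singleton_iff M x).1 hreg
    have hAss := biUnion_associatedPrimes_eq_compl_regular A M
    have hfin : (associatedPrimes A M).Finite := associatedPrimes.finite A M
    -- coset avoidance
    obtain ⟨c, hc, hcP⟩ := exists_add_notMem b I' hfin.toFinset
      (fun P hP => ((hfin.mem_toFinset).1 hP).isPrime)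
      (by
        rintro P hP ⟨hbP, hI'P⟩
        have hIP : I ≤ P := by
          rw [hII']
          exact sup_le ((Ideal.span_singleton_le_iff_mem _).2 hbP) hI'P
        have : x ∈ ⋃ p ∈ associatedPrimes A M, (p : Set A) :=
          Set.mem_biUnion ((hfin.mem_toFinset).1 hP) (hIP hxI)
        rw [hAss] at this
        exact this hxreg)
    set b' := b + c with hb'
    have hb'reg : IsSMulRegular M b' := by
      by_contra hnr
      have : b' ∈ ({r : A | IsSMulRegular M r}ᶜ : Set A) := hnr
      rw [← hAss] at this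
      obtain ⟨P, hP, hbP⟩ := Set.mem_iUnion₂.1 this
      exact hcP P ((hfin.mem_toFinset).2 hP) hbP
    have hcI : c ∈ I := by rw [hII']; exact Ideal.mem_sup_right hc
    have hbI : b ∈ I := by rw [hII']; exact Ideal.mem_sup_left (Ideal.subset_span rfl)
    have hb'I : b' ∈ I := I.add_mem hbI hcI
    have hb'm : b' ∈ maximalIdeal A := hIm hb'I
    have hII'' : I = Ideal.span {b'} ⊔ I' := by
      rw [hII']
      apply le_antisymm
      · refine sup_le ?_ le_sup_right
        rw [Ideal.span_singleton_le_iff_mem]
        have : b = b' - c := by rw [hb']; ring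
        rw [this]
        exact Ideal.sub_mem _ (Ideal.mem_sup_left (Ideal.subset_span rfl)) (Ideal.mem_sup_right hc)
      · refine sup_le ?_ le_sup_right
        rw [Ideal.span_singleton_le_iff_mem]
        exact Ideal.add_mem _ (Ideal.mem_sup_left (Ideal.subset_span rfl)) (Ideal.mem_sup_right hc)
    -- depth drops by one
    haveI : Nontrivial (QuotSMulTop b' M) := nontrivial_quotSMulTop_of_mem_maximalIdeal M hb'm
    have hdrop := idealDepth_quotSMulTop_add_one hItop hb'I hb'reg
    have hItop' : I • (⊤ : Submodule A (QuotSMulTop b' M)) ≠ ⊤ :=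
      smul_top_quotSMulTop_ne_top hb'I hItop
    have hn : ((bs.length : ℕ) : ℕ∞) ≤ idealDepth I (QuotSMulTop b' M) := by
      rw [← hdrop] at hdepth
      simp only [List.length_cons, Nat.cast_add, Nat.cast_one] at hdepth
      exact (ENat.add_le_add_iff_right ENat.one_ne_top).1 hdepth
    obtain ⟨rs, hrslen, hrsreg, hrsI⟩ := (le_idealDepth_iff hItop' bs.length).1 hn
    obtain ⟨ys, hys, hysI'⟩ := exists_forall₂_of_mem b' I' M rs (by rw [← hII'']; exact hrsI)
    have hysreg : IsWeaklyRegular (QuotSMulTop b' M) ys :=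
      isWeaklyRegular_of_forall₂ rs ys _ hys hrsreg
    have hyslen : ys.length = bs.length := by rw [← hys.length_eq, hrslen]
    have hn' : ((bs.length : ℕ) : ℕ∞) ≤ idealDepth I' (QuotSMulTop b' M) := by
      rw [← hyslen]
      exact length_le_idealDepth hysreg hysI'
    have hbs : IsWeaklyRegular (QuotSMulTop b' M) bs :=
      ih (QuotSMulTop b' M) (fun r hr => hmem r (List.mem_cons_of_mem _ hr)) hn'
    have h2 : IsWeaklyRegular M (b' :: bs) := (isWeaklyRegular_cons_iff M b' bs).2 ⟨hb'reg, hbs⟩
    -- permute
    have h3 : IsWeaklyRegular M (bs ++ [b']) :=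
      IsLocalRing.isWeaklyRegular_of_perm_of_subset_maximalIdeal h2
        (List.perm_append_singleton b' bs).symm (by
          intro r hr
          rcases List.mem_cons.1 hr with rfl | hr
          · exact hb'm
          · exact hmem r (List.mem_cons_of_mem _ hr))
    rw [isWeaklyRegular_append_iff] at h3
    obtain ⟨h4, h5⟩ := h3
    have h6 : IsWeaklyRegular (M ⧸ (I' • ⊤ : Submodule A M)) [b] := by
      refine isWeaklyRegular_of_forall₂ [b'] [b] _ (List.Forall₂.cons ?_ List.Forall₂.nil) h5
      intro v
      obtain ⟨w, rfl⟩ := Submodule.Quotient.mk_surjective _ v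
      rw [hb', add_smul, add_eq_left, ← Submodule.Quotient.mk_smul, Submodule.Quotient.mk_eq_zero]
      exact Submodule.smul_mem_smul hc Submodule.mem_top
    have h7 : IsWeaklyRegular M (bs ++ [b]) := (isWeaklyRegular_append_iff M bs [b]).2 ⟨h4, h6⟩
    exact IsLocalRing.isWeaklyRegular_of_perm_of_subset_maximalIdeal h7
      (List.perm_append_singleton b bs) (by
        intro r hr
        rcases List.mem_append.1 hr with hr | hr
        · exact hmem r (List.mem_cons_of_mem _ hr)
        · rw [List.mem_singleton] at hr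
          subst hr
          exact hmem _ (List.mem_cons_self ..))

end Main

end Groth.Agent.Lib.helper26.RegSeqD
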