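import Groth.Agent.Lib.helper26.RegSeqD
import Groth.Agent.Lib.helper9.Depth3

/-!
# Connecting regular sequences generating the same ideal (helper26)
-/

set_option autoImplicit false

namespace Groth.Agent.Lib.helper26.RegSeqE

open RingTheory.Sequence IsLocalRing LocCoh Groth.Agent.Lib.helper9.Depth
open Groth.Agent.Lib.helper26.RegSeqD

universe u

variable {A : Type u} [CommRing A]

/-- span of the elements of a list -/
abbrev sp (l : List A) : Ideal A := Ideal.span {x | x ∈ l}

theorem sp_eq_ofList (l : List A) : sp l = Ideal.ofList l := rfl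

theorem sp_append (l₁ l₂ : List A) : sp (l₁ ++ l₂) = sp l₁ ⊔ sp l₂ := Ideal.ofList_append l₁ l₂

theorem sp_cons (x : A) (l : List A) : sp (x :: l) = Ideal.span {x} ⊔ sp l := Ideal.ofList_cons x l

theorem sp_perm {l₁ l₂ : List A} (h : l₁.Perm l₂) : sp l₁ = sp l₂ := by
  unfold sp
  congr 1
  ext x
  exact h.mem_iff

theorem sp_singleton (x : A) : sp [x] = Ideal.span {x} := Ideal.ofList_singleton x

section Local

variable [IsLocalRing A]

/-- Either `b ∈ 𝔪 (xs)` or some element of `xs` can be traded for `b`. -/
theorem exists_trade : ∀ (xs : List A) (b : A), b ∈ sp xs →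
    b ∈ maximalIdeal A * sp xs ∨
      ∃ (x : A) (xs' : List A), xs.Perm (x :: xs') ∧ x ∈ Ideal.span {b} ⊔ sp xs' := by
  intro xs
  induction xs with
  | nil =>
    intro b hb
    left
    have : sp ([] : List A) = ⊥ := Ideal.ofList_nil
    rw [this, Ideal.mem_bot] at hb
    rw [hb]; exact zero_mem _
  | cons x₀ xs₀ ih =>
    intro b hb
    rw [sp_cons] at hb
    obtain ⟨y, hy, b', hb', hyb⟩ := Submodule.mem_sup.1 hb
    obtain ⟨c, rfl⟩ := Ideal.mem_span_singleton'.1 hy
    by_cases hc : IsUnit c
    · right
      refine ⟨x₀, xs₀, List.Perm.refl _, ?_⟩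
      obtain ⟨cu, rfl⟩ := hc
      have : x₀ = ↑cu⁻¹ * b - ↑cu⁻¹ * b' := by
        rw [← hyb, mul_add, ← mul_assoc, Units.inv_mul, one_mul]; ring
      rw [this]
      exact Ideal.sub_mem _ (Ideal.mem_sup_left (Ideal.mul_mem_left _ _ (Ideal.subset_span rfl)))
        (Ideal.mem_sup_right (Ideal.mul_mem_left _ _ hb'))
    · have hcm : c ∈ maximalIdeal A := (mem_maximalIdeal c).2 hc
      rcases ih b' hb' with h1 | ⟨x, xs', hperm, hx⟩
      · left
        rw [← hyb, sp_cons]
        refine Ideal.add_mem _ (Ideal.mul_mem_mul hcm (Ideal.mem_sup_left (Ideal.subset_span rfl)))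
          (Ideal.mul_mono_right le_sup_right h1)
      · right
        refine ⟨x, x₀ :: xs', ?_, ?_⟩
        · exact (List.Perm.cons x₀ hperm).trans (List.Perm.swap x x₀ xs')
        · have hb'eq : b' = b - c * x₀ := by rw [← hyb]; ring
          have hle : Ideal.span {b'} ⊔ sp xs' ≤ Ideal.span {b} ⊔ sp (x₀ :: xs') := by
            refine sup_le ?_ (le_sup_of_le_right ?_)
            · rw [Ideal.span_singleton_le_iff_mem, hb'eq]
              refine Ideal.sub_mem _ (Ideal.mem_sup_left (Ideal.subset_span rfl))
                (Ideal.mem_sup_right ?_)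
              rw [sp_cons]
              exact Ideal.mem_sup_left (Ideal.mul_mem_left _ _ (Ideal.subset_span rfl))
            · rw [sp_cons]; exact le_sup_right
          exact hle hx

end Local

section Main

variable [IsLocalRing A] [IsNoetherianRing A] (I : Ideal A) (n : ℕ)

omit [IsLocalRing A] in
/-- a generating list of an ideal is a maximal weakly regular sequence, if weakly regular -/
theorem length_eq_of_sp_eq (hI : I ≠ ⊤) (l : List A) (hl : sp l = I) (hreg : IsWeaklyRegular A l) :
    (l.length : ℕ∞) = idealDepth I A := by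
  have hItop : I • (⊤ : Submodule A A) ≠ ⊤ := by
    rw [smul_eq_mul, Ideal.mul_top]; exact hI
  refine length_eq_idealDepth_of_maximal l A hItop hreg ?_ ?_
  · intro r hr
    rw [← hl]; exact Ideal.subset_span hr
  · intro r hr hcon
    rw [isWeaklyRegular_append_iff, isWeaklyRegular_singleton_iff] at hcon
    have h2 := hcon.2
    have hnt : Nontrivial (A ⧸ (Ideal.ofList l • ⊤ : Submodule A A)) := by
      rw [Submodule.Quotient.nontrivial_iff, ← sp_eq_ofList, hl]
      exact hItop
    obtain ⟨x, y, hxy⟩ := hnt
    apply hxy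
    apply h2
    have hkill : ∀ z : A ⧸ (Ideal.ofList l • ⊤ : Submodule A A), r • z = 0 := by
      intro z
      obtain ⟨w, rfl⟩ := Submodule.Quotient.mk_surjective _ z
      rw [← Submodule.Quotient.mk_smul, Submodule.Quotient.mk_eq_zero, ← sp_eq_ofList, hl]
      exact Submodule.smul_mem_smul hr Submodule.mem_top
    simp only [hkill]

variable {I n}

/-- F1: every list of `n` generators of `I` is a regular sequence. -/
theorem isRegular_of_sp_eq (hIm : I ≤ maximalIdeal A) (hdepth : idealDepth I A = n)
    (w : List A) (hlen : w.length = n) (hw : sp w = I) : IsRegular A w := by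
  have hmem : ∀ r ∈ w, r ∈ maximalIdeal A := fun r hr => hIm (hw ▸ Ideal.subset_span hr)
  have hwr : IsWeaklyRegular A w := by
    apply isWeaklyRegular_of_le_idealDepth w A hmem
    rw [← sp_eq_ofList, hw, hdepth, hlen]
  exact IsRegular.of_isWeaklyRegular_of_mem_maximalIdeal A hmem hwr

/-- Fact Y: a generating list has at least `n` elements. -/
theorem le_length_of_sp_eq (hIm : I ≤ maximalIdeal A) (hdepth : idealDepth I A = n)
    (l : List A) (hl : sp l = I) : n ≤ l.length := by
  by_contra hlt
  rw [not_le] at hlt
  have hmem : ∀ r ∈ l, r ∈ maximalIdeal A := fun r hr => hIm (hl ▸ Ideal.subset_span hr)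
  have hwr : IsWeaklyRegular A l := by
    apply isWeaklyRegular_of_le_idealDepth l A hmem
    rw [← sp_eq_ofList, hl, hdepth]
    exact_mod_cast hlt.le
  have hI : I ≠ ⊤ := fun h => (maximalIdeal.isMaximal A).ne_top (top_le_iff.1 (h ▸ hIm))
  have := length_eq_of_sp_eq I hI l hl hwr
  rw [hdepth] at this
  have : l.length = n := by exact_mod_cast this
  omega

/-- Exchange lemma. -/
theorem exists_exchange (hIm : I ≤ maximalIdeal A) (hdepth : idealDepth I A = n)
    (p xs rest : List A) (y : A) (v : List A) (hv : sp v = I) (hvlen : v.length = n)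
    (hperm : v.Perm (p ++ y :: rest)) (hw : sp (p ++ xs) = I) :
    ∃ (x : A) (xs' : List A), xs.Perm (x :: xs') ∧ sp (p ++ xs' ++ [y]) = I := by
  have hyI : y ∈ I := by
    rw [← hv]
    exact Ideal.subset_span (hperm.mem_iff.2 (by simp))
  have hy' : y ∈ sp p ⊔ sp xs := by rw [← sp_append, hw]; exact hyI
  obtain ⟨a, ha, b, hb, hab⟩ := Submodule.mem_sup.1 hy'
  rcases exists_trade xs b hb with h1 | ⟨x, xs', hxs, hx⟩
  · -- impossible: then p ++ rest generates
    exfalso
    have hxsI : sp xs ≤ I := by rw [← hw, sp_append]; exact le_sup_right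
    have hpI : sp p ≤ I := by rw [← hw, sp_append]; exact le_sup_left
    have hrestI : sp rest ≤ I := by
      rw [← hv, sp_perm hperm, sp_append, sp_cons]
      exact le_sup_of_le_right le_sup_right
    have hbm : b ∈ maximalIdeal A * I := Ideal.mul_mono_right hxsI h1
    have hle : I ≤ sp (p ++ rest) ⊔ maximalIdeal A * I := by
      conv_lhs => rw [← hv, sp_perm hperm, sp_append, sp_cons]
      refine sup_le (le_sup_of_le_left (by rw [sp_append]; exact le_sup_left)) (sup_le ?_ ?_)
      · rw [Ideal.span_singleton_le_iff_mem, ← hab]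
        exact Ideal.add_mem _ (Ideal.mem_sup_left (by rw [sp_append]; exact Ideal.mem_sup_left ha))
          (Ideal.mem_sup_right hbm)
      · exact le_sup_of_le_left (by rw [sp_append]; exact le_sup_right)
    have hgen : sp (p ++ rest) = I := by
      apply le_antisymm
      · rw [sp_append]; exact sup_le hpI hrestI
      · have hfg : I.FG := (isNoetherianRing_iff_ideal_fg A).1 inferInstance I
        exact Submodule.le_of_le_smul_of_le_jacobson_bot (I := maximalIdeal A)
          (N := sp (p ++ rest)) (N' := I) hfg (maximalIdeal_le_jacobson _) hle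
    have h2 := le_length_of_sp_eq hIm hdepth _ hgen
    have h3 := hperm.length_eq
    simp only [List.length_append, List.length_cons] at h2 h3
    omega
  · refine ⟨x, xs', hxs, ?_⟩
    have hb_eq : b = y - a := by rw [← hab]; ring
    apply le_antisymm
    · rw [sp_append, sp_append, sp_singleton]
      have hxs'I : sp xs' ≤ I := by
        rw [← hw, sp_append, sp_perm hxs, sp_cons]
        exact le_sup_of_le_right le_sup_right
      have hpI : sp p ≤ I := by rw [← hw, sp_append]; exact le_sup_left
      exact sup_le (sup_le hpI hxs'I) ((Ideal.span_singleton_le_iff_mem _).2 hyI)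
    · rw [← hw, sp_append, sp_perm hxs, sp_cons, sp_append, sp_append, sp_singleton]
      refine sup_le (le_sup_of_le_left le_sup_left) (sup_le ?_ (le_sup_of_le_left le_sup_right))
      rw [Ideal.span_singleton_le_iff_mem]
      have hle : Ideal.span {b} ⊔ sp xs' ≤ sp p ⊔ sp xs' ⊔ Ideal.span {y} := by
        refine sup_le ?_ (le_sup_of_le_left le_sup_right)
        rw [Ideal.span_singleton_le_iff_mem, hb_eq]
        exact Ideal.sub_mem _ (Ideal.mem_sup_right (Ideal.subset_span rfl))
          (Ideal.mem_sup_left (Ideal.mem_sup_left ha))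
      exact hle hx

/-- one step of the chain -/
def Step (w w' : List A) : Prop :=
  w.Perm w' ∨ (w.length = w'.length ∧ w.dropLast = w'.dropLast)

/-- regular sequences generating `I` -/
def Good (I : Ideal A) (w : List A) : Prop := IsRegular A w ∧ sp w = I

theorem Good.perm {w w' : List A} (h : Good I w) (hp : w.Perm w') : Good I w' :=
  ⟨IsLocalRing.isRegular_of_perm h.1 hp, (sp_perm hp).symm.trans h.2⟩

theorem Good.length_eq (hI : I ≠ ⊤) (hdepth : idealDepth I A = n) {w : List A} (h : Good I w) :
    w.length = n := by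
  have := length_eq_of_sp_eq I hI w h.2 h.1.toIsWeaklyRegular
  rw [hdepth] at this
  exact_mod_cast this

theorem conn (hI : I ≠ ⊤) (hIm : I ≤ maximalIdeal A) (hdepth : idealDepth I A = n)
    (v : List A) (hv : Good I v) :
    ∀ (rest p xs : List A) (h : Good I (p ++ xs)), v.Perm (p ++ rest) → xs.length = rest.length →
      Relation.ReflTransGen (fun a b : {w : List A // Good I w} => Step a.1 b.1)
        ⟨p ++ xs, h⟩ ⟨v, hv⟩ := by
  intro rest
  induction rest with
  | nil =>
    intro p xs h hperm hlen
    have hxs : xs = [] := List.length_eq_zero_iff.1 hlen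
    subst hxs
    exact Relation.ReflTransGen.single (Or.inl hperm.symm)
  | cons y rest' ih =>
    intro p xs h hperm hlen
    have hvlen := hv.length_eq hI hdepth
    obtain ⟨x, xs', hxs, hgen⟩ := exists_exchange hIm hdepth p xs rest' y v hv.2 hvlen hperm h.2
    have hp1 : (p ++ xs).Perm (p ++ xs' ++ [x]) := by
      rw [List.append_assoc]
      exact List.Perm.append_left p (hxs.trans (List.perm_append_singleton x xs').symm)
    have hw1 : Good I (p ++ xs' ++ [x]) := h.perm hp1
    have hlen1 : (p ++ xs' ++ [x]).length = n := hw1.length_eq hI hdepth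
    have hlen2 : (p ++ xs' ++ [y]).length = n := by
      simp only [List.length_append, List.length_cons, List.length_nil] at hlen1 ⊢
      exact hlen1
    have hw2 : Good I (p ++ xs' ++ [y]) :=
      ⟨isRegular_of_sp_eq hIm hdepth _ hlen2 hgen, hgen⟩
    have hp3 : (p ++ xs' ++ [y]).Perm ((p ++ [y]) ++ xs') := by
      rw [List.append_assoc, List.append_assoc]
      exact List.Perm.append_left p List.perm_append_comm
    have hw3 : Good I ((p ++ [y]) ++ xs') := hw2.perm hp3
    have hxslen : xs'.length = rest'.length := by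
      have := hxs.length_eq
      simp only [List.length_cons] at this hlen
      omega
    have hperm' : v.Perm ((p ++ [y]) ++ rest') := by
      rw [List.append_assoc]; exact hperm
    have hrec := ih (p ++ [y]) xs' hw3 hperm' hxslen
    refine Relation.ReflTransGen.head (b := ⟨p ++ xs' ++ [x], hw1⟩) (Or.inl hp1) ?_
    refine Relation.ReflTransGen.head (b := ⟨p ++ xs' ++ [y], hw2⟩) (Or.inr ⟨?_, ?_⟩) ?_
    · rw [hlen1, hlen2]
    · show (p ++ xs' ++ [x]).dropLast = (p ++ xs' ++ [y]).dropLast
      rw [List.dropLast_concat, List.dropLast_concat]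
    · exact Relation.ReflTransGen.head (b := ⟨(p ++ [y]) ++ xs', hw3⟩) (Or.inl hp3) hrec

omit [IsNoetherianRing A] in
theorem le_maximalIdeal_of_isRegular {u : List A} (hu : IsRegular A u) :
    sp u ≠ ⊤ := by
  intro htop
  have := hu.top_ne_smul
  rw [← sp_eq_ofList, htop] at this
  exact this (by simp)

/-- Two regular sequences generating the same ideal of a Noetherian local ring are connected by a
chain of permutations and changes of the last element. -/
theorem exists_chain (u v : List A) (hu : IsRegular A u) (hv : IsRegular A v)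
    (huv : sp u = sp v) :
    ∃ ws : List (List A), ws.head? = some u ∧ ws.getLast? = some v ∧
      (∀ w ∈ ws, IsRegular A w ∧ sp w = sp u) ∧
      List.IsChain (fun w w' : List A => w.Perm w' ∨
        (w.length = w'.length ∧ w.dropLast = w'.dropLast)) ws := by
  set I := sp u with hIdef
  have hI : I ≠ ⊤ := le_maximalIdeal_of_isRegular hu
  have hIm : I ≤ maximalIdeal A := IsLocalRing.le_maximalIdeal hI
  have hGu : Good I u := ⟨hu, rfl⟩
  have hGv : Good I v := ⟨hv, huv.symm⟩
  have hdepth : idealDepth I A = (u.length : ℕ∞) :=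
    (length_eq_of_sp_eq I hI u rfl hu.toIsWeaklyRegular).symm
  have hvlen : v.length = u.length := hGv.length_eq hI hdepth
  have hconn := conn hI hIm hdepth v hGv v [] u (by simpa using hGu) (by simp) hvlen.symm
  obtain ⟨l, hl1, hl2⟩ := List.exists_isChain_cons_of_relationReflTransGen hconn
  refine ⟨((⟨[] ++ u, by simpa using hGu⟩ : {w : List A // Good I w}) :: l).map Subtype.val,
    by simp, ?_, ?_, ?_⟩
  · rw [List.getLast?_map, List.getLast?_eq_getLast_of_ne_nil (List.cons_ne_nil _ _), hl2]
    rfl
  · intro w hw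
    rw [List.mem_map] at hw
    obtain ⟨⟨w', hw'⟩, _, rfl⟩ := hw
    exact hw'
  · rw [List.isChain_map]
    exact hl1

end Main

end Groth.Agent.Lib.helper26.RegSeqE
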