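import Mathlib
import Groth.Agent.Lib.helper26.SpreadPrinc
import Groth.Agent.Lib.helper7.DimSch2
import Groth.Prelude.Def_MeroSh

universe u
open AlgebraicGeometry CategoryTheory Topology TopologicalSpace IsLocalRing

namespace Groth.Agent.Lib.helper26.RegStalk

open Groth.Agent.Lib.helper7 Groth.Agent.Lib.helper26.SpreadPrinc

variable {X : Scheme.{u}}

/-- a non-zero-divisor on an affine open is a regular section. -/
theorem mem_regSub_of_nonZeroDivisors {U : X.Opens} (hU : IsAffineOpen U) (f : Γ(X, U))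
    (hf : f ∈ nonZeroDivisors Γ(X, U)) : f ∈ Mero.regSub X U := by
  intro y
  letI := X.presheaf.algebra_section_stalk (U := U) y
  haveI := hU.isLocalization_stalk y
  exact IsLocalization.map_nonZeroDivisors_le (hU.primeIdealOf y).asIdeal.primeCompl
    (X.presheaf.stalk y.1) (Submonoid.mem_map_of_mem _ hf)

theorem regStalk_eq_nonZeroDivisors [IsLocallyNoetherian X] (x : X) :
    Mero.regStalk X x = nonZeroDivisors ↑(X.presheaf.stalk x) := by
  apply le_antisymm (Mero.regStalk_le_nonZeroDivisors x)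
  intro g hg
  obtain ⟨_, ⟨U, hU, rfl⟩, hxU, -⟩ := X.isBasis_affineOpens.exists_subset_of_mem_open
    (Set.mem_univ x) isOpen_univ
  have hU' : IsAffineOpen U := hU
  haveI : IsNoetherianRing Γ(X, U) := IsLocallyNoetherian.component_noetherian ⟨U, hU⟩
  letI := X.presheaf.algebra_section_stalk (U := U) ⟨x, hxU⟩
  haveI := hU'.isLocalization_stalk ⟨x, hxU⟩
  set p := (hU'.primeIdealOf ⟨x, hxU⟩).asIdeal with hp
  obtain ⟨a, s, hmk⟩ := IsLocalization.exists_mk'_eq p.primeCompl g
  have hgs : g * algebraMap Γ(X, U) (X.presheaf.stalk x) s.1 = algebraMap Γ(X, U) (X.presheaf.stalk x) a := by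
    rw [← hmk]; exact IsLocalization.mk'_spec _ a s
  have hsu : IsUnit (algebraMap Γ(X, U) (X.presheaf.stalk x) s.1) :=
    IsLocalization.map_units _ s
  have hanzd : algebraMap Γ(X, U) (X.presheaf.stalk x) a ∈ nonZeroDivisors (X.presheaf.stalk x) := by
    rw [← hgs]
    exact mul_mem hg hsu.mem_nonZeroDivisors
  obtain ⟨t, ht, h2⟩ := exists_mul_eq_zero p (X.presheaf.stalk x) a hanzd
  set h := t * s.1 with hh
  have hhp : h ∉ p := fun hmem => (Ideal.IsPrime.mem_or_mem inferInstance hmem).elim ht s.2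
  haveI := hU'.isLocalization_basicOpen h
  have hB := (away_principal h Γ(X, X.basicOpen h) (Ideal.span {a}) a (Ideal.subset_span rfl)
    (fun b hb => Ideal.mul_mem_left _ _ hb)
    (fun z hz => by
      have : h * z = s.1 * (t * z) := by rw [hh]; ring
      rw [this, h2 z hz, mul_zero])).1
  have hhu : IsUnit (algebraMap Γ(X, U) Γ(X, X.basicOpen h) h) :=
    IsLocalization.Away.algebraMap_isUnit h
  have hsu' : IsUnit (algebraMap Γ(X, U) Γ(X, X.basicOpen h) s.1) := by
    rw [hh, map_mul] at hhu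
    exact isUnit_of_mul_isUnit_right hhu
  obtain ⟨v, hv⟩ := hsu'.exists_left_inv
  have hvu : IsUnit v := IsUnit.of_mul_eq_one _ hv
  set f' := algebraMap Γ(X, U) Γ(X, X.basicOpen h) a * v with hf'
  have hf'nzd : f' ∈ nonZeroDivisors Γ(X, X.basicOpen h) := mul_mem hB hvu.mem_nonZeroDivisors
  have hxh : x ∈ X.basicOpen h := by
    rw [DimSch.mem_basicOpen_iff hU' x hxU h]; exact hhp
  refine ⟨X.basicOpen h, hxh, f', mem_regSub_of_nonZeroDivisors (hU'.basicOpen h) f' hf'nzd, ?_⟩
  -- germ computation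
  have hres : ∀ c : Γ(X, U), X.presheaf.germ (X.basicOpen h) x hxh
      (algebraMap Γ(X, U) Γ(X, X.basicOpen h) c) = algebraMap Γ(X, U) (X.presheaf.stalk x) c := by
    intro c
    exact TopCat.Presheaf.germ_res_apply X.presheaf (homOfLE (X.basicOpen_le h)) x hxh c
  have h3 : X.presheaf.germ (X.basicOpen h) x hxh f' *
      algebraMap Γ(X, U) (X.presheaf.stalk x) s.1 = algebraMap Γ(X, U) (X.presheaf.stalk x) a := by
    rw [← hres s.1, ← map_mul, hf']
    have : algebraMap Γ(X, U) Γ(X, X.basicOpen h) a * v *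
        algebraMap Γ(X, U) Γ(X, X.basicOpen h) s.1 = algebraMap Γ(X, U) Γ(X, X.basicOpen h) a := by
      rw [mul_assoc, hv, mul_one]
    rw [this, hres]
  rw [← hgs] at h3
  exact hsu.mul_left_injective h3

end Groth.Agent.Lib.helper26.RegStalk
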