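import Mathlib

universe u
open TensorProduct

namespace Groth.Agent.Lib.helper26.RelCart

theorem nzd_of_isPushout {A B A' B' : Type u} [CommRing A] [CommRing B] [CommRing A'] [CommRing B']
    [Algebra A B] [Algebra A A'] [Algebra B B'] [Algebra A' B'] [Algebra A B']
    [IsScalarTower A B B'] [IsScalarTower A A' B'] [hpo : Algebra.IsPushout A B A' B']
    (t : B) (ht : t ∈ nonZeroDivisors B) [Module.Flat A (B ⧸ Ideal.span {t})] :
    algebraMap B B' t ∈ nonZeroDivisors B' := by
  haveI hsymm : Algebra.IsPushout A A' B B' := Algebra.IsPushout.symm hpo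
  let e := Algebra.IsPushout.equiv A A' B B'
  let g : B →ₗ[A] B := LinearMap.mulLeft A t
  let f : B →ₗ[A] (B ⧸ Ideal.span {t}) := (Ideal.Quotient.mkₐ A (Ideal.span {t})).toLinearMap
  have hf : Function.Surjective f := Ideal.Quotient.mk_surjective
  have hg : Function.Injective g := fun x y h =>
    (mul_cancel_left_mem_nonZeroDivisors ht).1 h
  have H : Function.Exact g f := by
    intro y
    constructor
    · intro hy
      have hy' : Ideal.Quotient.mk (Ideal.span {t}) y = 0 := hy
      rw [Ideal.Quotient.eq_zero_iff_mem, Ideal.mem_span_singleton'] at hy'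
      obtain ⟨c, hc⟩ := hy'
      exact ⟨c, by show t * c = y; rw [mul_comm]; exact hc⟩
    · rintro ⟨c, rfl⟩
      show Ideal.Quotient.mk (Ideal.span {t}) (t * c) = 0
      rw [Ideal.Quotient.eq_zero_iff_mem]
      exact Ideal.mul_mem_right _ _ (Ideal.mem_span_singleton_self t)
  have hinj := LinearMap.lTensor_injective_of_exact_of_flat f hf g hg H A'
  have hcompat : ∀ w : A' ⊗[A] B, e (g.lTensor A' w) = algebraMap B B' t * e w := by
    intro w
    induction w with
    | zero => simp
    | add x y hx hy => rw [map_add, map_add, hx, hy, map_add, mul_add]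
    | tmul a b =>
      simp only [LinearMap.lTensor_tmul, e, Algebra.IsPushout.equiv_tmul, g,
        LinearMap.mulLeft_apply, map_mul]
      ring
  rw [mem_nonZeroDivisors_iff_right]
  intro z hz
  obtain ⟨w, rfl⟩ := e.surjective z
  have h1 : e (g.lTensor A' w) = 0 := by
    rw [hcompat]
    first | exact hz | (rw [mul_comm]; exact hz)
  have h2 : g.lTensor A' w = 0 := e.injective (by rw [h1, map_zero])
  have h3 : w = 0 := hinj (h2.trans (map_zero _).symm)
  rw [h3, map_zero]

end Groth.Agent.Lib.helper26.RelCart
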