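import Mathlib
import Groth.Prelude
import Groth.Agent.Lib.helper26.FibBC

universe u
open AlgebraicGeometry CategoryTheory Limits Topology
open Groth.Agent.Lib.helper7.DimSch

namespace Groth.Agent.Lib.helper26.RelDimDesc

set_option backward.isDefEq.respectTransparency false in
theorem fiber_components_dim_descent {X S X' S' : Scheme.{u}} (f : X ⟶ S)
    [LocallyOfFiniteType f] (g : S' ⟶ S) (g' : X' ⟶ X) (f' : X' ⟶ S') (hsq : IsPullback g' f' f g)
    (y' : S') (n : ℕ)
    (hfib' : ∀ Z' ∈ irreducibleComponents (f'.fiber y' : Type u),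
      topologicalKrullDim Z' = (n : WithBot ℕ∞))
    (Z : Set (f.fiber (g y')))
    (hZ : Z ∈ irreducibleComponents (f.fiber (g y') : Type u)) :
    topologicalKrullDim Z = (n : WithBot ℕ∞) := by
  have hpb := isPullback_fiberToSpecResidueField_of_isPullback hsq y'
  letI : Algebra (IsLocalRing.ResidueField ↑(S.presheaf.stalk (g y'))) ↑(S'.residueField y') :=
    (g.residueFieldMap y').hom.toAlgebra
  haveI : LocallyOfFiniteType (f.fiberToSpecResidueField (g y')) :=
    (MorphismProperty.pullback_snd _ _ inferInstance :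
      LocallyOfFiniteType (f.fiberToSpecResidueField (g y')))
  let e : f'.fiber y' ≅ pullback (f.fiberToSpecResidueField (g y'))
      (Spec.map (CommRingCat.ofHom (algebraMap
        (IsLocalRing.ResidueField ↑(S.presheaf.stalk (g y'))) ↑(S'.residueField y')))) :=
    hpb.isoPullback
  have hset := Groth.Agent.Lib.helper7.TensorDim.image_topologicalKrullDim_irreducibleComponents_pullback
    (k := IsLocalRing.ResidueField ↑(S.presheaf.stalk (g y'))) (K := S'.residueField y')
    (f.fiberToSpecResidueField (g y'))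
  have hmem : topologicalKrullDim ↥Z ∈
      (fun Z : Set ↥(f.fiber (g y')) => topologicalKrullDim ↥Z) ''
        irreducibleComponents ↥(f.fiber (g y')) := ⟨Z, hZ, rfl⟩
  rw [← hset] at hmem
  obtain ⟨W, hW, hWdim⟩ := hmem
  obtain ⟨w, hw⟩ := QuasiSober.sober hW.1 (isClosed_of_mem_irreducibleComponents W hW)
  have hmax := (closure_mem_irreducibleComponents_iff w).mp (by rw [hw.def]; exact hW)
  have hmax' := forall_specializes_homeomorph e.hom.homeomorph.symm w hmax
  have hcomp := (closure_mem_irreducibleComponents_iff (e.hom.homeomorph.symm w)).mpr hmax'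
  have h1 := hfib' _ hcomp
  have h2 : topologicalKrullDim ↥W = topologicalKrullDim ↥(closure ({w} : Set _)) := by
    rw [hw.def]
  rw [← hWdim]
  show topologicalKrullDim ↥W = _
  rw [h2, topologicalKrullDim_closure_singleton_homeomorph e.hom.homeomorph.symm w]
  exact h1

theorem main {X Y X' Y' : Scheme.{u}} (f : X ⟶ Y) [LocallyOfFiniteType f] (g : Y' ⟶ Y)
    [Surjective g] (g' : X' ⟶ X) (f' : X' ⟶ Y') (hsq : IsPullback g' f' f g)
    (d : ℕ) (h : Cyc.HasRelDim f' d) : Cyc.HasRelDim f d := by
  intro y T hT
  obtain ⟨y', rfl⟩ := g.surjective y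
  exact fiber_components_dim_descent f g g' f' hsq y' d (h y') T hT

end Groth.Agent.Lib.helper26.RelDimDesc
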