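import Mathlib

open LieModule

namespace Groth.Agent.Lib.helper26.Sl2Tr

theorem choose_aux (n : ℕ) : 2 * (n + 1).choose 2 = n * (n + 1) ∧
    6 * (n + 2).choose 3 = n * (n + 1) * (n + 2) := by
  induction n with
  | zero => simp
  | succ n ih =>
    obtain ⟨h2, h3⟩ := ih
    have e2 : (n + 1 + 1).choose 2 = (n + 1).choose 1 + (n + 1).choose 2 := Nat.choose_succ_succ' _ _
    have e3 : (n + 1 + 2).choose 3 = (n + 2).choose 2 + (n + 2).choose 3 := Nat.choose_succ_succ' _ _
    have e1 : (n + 1).choose 1 = n + 1 := Nat.choose_one_right _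
    constructor
    · rw [e2, e1]; nlinarith
    · rw [e3]
      have : 2 * (n + 2).choose 2 = (n + 1) * (n + 2) := by
        rw [show n + 2 = n + 1 + 1 from rfl, e2, e1]; nlinarith
      nlinarith

theorem sum_sq {k : Type*} [CommRing k] (a : k) (m : ℕ) :
    3 * ∑ i ∈ Finset.range m, (a - 2 * (i : k)) ^ 2 =
      3 * m * a ^ 2 - 6 * a * m * (m - 1) + 2 * m * (m - 1) * (2 * m - 1) := by
  induction m with
  | zero => simp
  | succ m ih =>
    rw [Finset.sum_range_succ, mul_add, ih]
    push_cast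
    ring

theorem sum_sq' {k : Type*} [Field k] [CharZero k] (n : ℕ) :
    ∑ i : Fin (n + 1), ((n : k) - 2 * ((i : ℕ) : k)) ^ 2 = 2 * (((n + 1 + 1).choose 3 : ℕ) : k) := by
  rw [Fin.sum_univ_eq_sum_range (fun i => ((n : k) - 2 * (i : k)) ^ 2) (n + 1)]
  have h3 : (3 : k) ≠ 0 := by norm_num
  apply mul_left_cancel₀ h3
  rw [sum_sq]
  have := (choose_aux n).2
  have hc : (6 : k) * (((n + 2).choose 3 : ℕ) : k) = n * (n + 1) * (n + 2) := by exact_mod_cast this
  push_cast
  linear_combination (-1 : k) * hc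

end Groth.Agent.Lib.helper26.Sl2Tr
namespace Groth.Agent.Lib.helper26.Sl2Tr

variable {k : Type*} [Field k] [IsAlgClosed k] [CharZero k]
  {L : Type*} [LieRing L] [LieAlgebra k L] {h e f : L}
  {W : Type*} [AddCommGroup W] [Module k W] [LieRingModule L W] [LieModule k L W]

/-- every element of `L` is a combination of `e f h` -/
theorem exists_coeff (t : IsSl2Triple h e f) (hspan : t.toLieSubalgebra k = ⊤) (x : L) :
    ∃ c₁ c₂ c₃ : k, x = c₁ • e + c₂ • f + c₃ • h := by
  have hx : x ∈ t.toLieSubalgebra k := by rw [hspan]; trivial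
  obtain ⟨c₁, c₂, c₃, hc⟩ := IsSl2Triple.mem_toLieSubalgebra_iff.mp hx
  exact ⟨c₁, c₂, c₃, by rw [hc, t.lie_e_f]⟩

theorem core [FiniteDimensional k W] [LieModule.IsIrreducible k L W]
    (t : IsSl2Triple h e f) (hspan : t.toLieSubalgebra k = ⊤) :
    ∃ (n : ℕ) (b : Module.Basis (Fin (n + 1)) k W),
      ∀ i, ⁅h, b i⁆ = ((n : k) - 2 * ((i : ℕ) : k)) • b i := by
  have : Nontrivial W := LieModule.nontrivial_of_isIrreducible k L W
  obtain ⟨μ, m, hm, P⟩ := t.exists_hasPrimitiveVectorWith (R := k) (M := W)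
  obtain ⟨n, rfl⟩ := P.exists_nat
  set ψ : ℕ → W := fun i => ((toEnd k L W f) ^ i) m with hψ
  have hh : ∀ i, ⁅h, ψ i⁆ = ((n : k) - 2 * (i : k)) • ψ i := fun i => P.lie_h_pow_toEnd_f i
  have hf : ∀ i, ⁅f, ψ i⁆ = ψ (i + 1) := fun i => P.lie_f_pow_toEnd_f i
  have he : ∀ i, ⁅e, ψ (i + 1)⁆ = (((i : k) + 1) * ((n : k) - i)) • ψ i :=
    fun i => P.lie_e_pow_succ_toEnd_f i
  have he0 : ⁅e, ψ 0⁆ = 0 := by simpa [hψ] using P.lie_e
  have htop : ψ (n + 1) = 0 := P.pow_toEnd_f_eq_zero_of_eq_nat rfl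
  have hne : ∀ i, i ≤ n → ψ i ≠ 0 := fun i hi => P.pow_toEnd_f_ne_zero_of_eq_nat rfl hi
  let v : Fin (n + 1) → W := fun i => ψ i
  let S : Submodule k W := Submodule.span k (Set.range v)
  have hvS : ∀ i : ℕ, i ≤ n → ψ i ∈ S := fun i hi =>
    Submodule.subset_span ⟨⟨i, by omega⟩, rfl⟩
  -- stability
  have stab : ∀ x : L, ∀ w ∈ S, ⁅x, w⁆ ∈ S := by
    intro x w hw
    obtain ⟨c₁, c₂, c₃, rfl⟩ := exists_coeff t hspan x
    induction hw using Submodule.span_induction with
    | zero => simp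
    | add u u' _ _ hu hu' => rw [lie_add]; exact S.add_mem hu hu'
    | smul c u _ hu => rw [lie_smul]; exact S.smul_mem c hu
    | mem u hu =>
      obtain ⟨⟨i, hi⟩, rfl⟩ := hu
      simp only [add_lie, smul_lie, v]
      refine S.add_mem (S.add_mem (S.smul_mem _ ?_) (S.smul_mem _ ?_)) (S.smul_mem _ ?_)
      · rcases i with _ | i
        · rw [he0]; exact S.zero_mem
        · rw [he i]; exact S.smul_mem _ (hvS i (by omega))
      · rw [hf i]
        by_cases hin : i + 1 ≤ n
        · exact hvS _ hin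
        · have : i + 1 = n + 1 := by omega
          rw [this, htop]; exact S.zero_mem
      · rw [hh i]; exact S.smul_mem _ (hvS i (by omega))
  let N : LieSubmodule k L W := { S with lie_mem := fun {x w} hw => stab x w hw }
  have hNtop : N = ⊤ := by
    refine (IsSimpleOrder.eq_bot_or_eq_top N).resolve_left ?_
    intro hbot
    have : ψ 0 ∈ N := hvS 0 (Nat.zero_le _)
    rw [hbot, LieSubmodule.mem_bot] at this
    exact hne 0 (Nat.zero_le _) this
  have hStop : S = ⊤ := by
    have : N.toSubmodule = ⊤ := by rw [hNtop]; rfl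
    exact this
  have hli : LinearIndependent k v := by
    apply Module.End.eigenvectors_linearIndependent' (toEnd k L W h)
      (fun i : Fin (n + 1) => (n : k) - 2 * ((i : ℕ) : k))
    · intro i j hij
      have : (2 : k) * ((i : ℕ) : k) = 2 * ((j : ℕ) : k) := by linear_combination -hij
      have h2 : ((i : ℕ) : k) = ((j : ℕ) : k) := mul_left_cancel₀ (two_ne_zero) this
      exact Fin.ext (by exact_mod_cast h2)
    · intro i
      rw [Module.End.hasEigenvector_iff]
      refine ⟨?_, hne i (by omega)⟩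
      rw [Module.End.mem_eigenspace_iff]
      exact hh i
  refine ⟨n, Module.Basis.mk hli (le_of_eq hStop.symm), ?_⟩
  intro i
  rw [Module.Basis.mk_apply]
  exact hh i

end Groth.Agent.Lib.helper26.Sl2Tr

namespace Groth.Agent.Lib.helper26.Sl2Tr

variable {k : Type*} [Field k] [IsAlgClosed k] [CharZero k]
  {L : Type*} [LieRing L] [LieAlgebra k L] {h e f : L}
  {W : Type*} [AddCommGroup W] [Module k W] [LieRingModule L W] [LieModule k L W]

theorem trace_irred [FiniteDimensional k W] [LieModule.IsIrreducible k L W]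
    (t : IsSl2Triple h e f) (hspan : t.toLieSubalgebra k = ⊤) :
    LinearMap.trace k W ((toEnd k L W h) ^ 2) =
      2 * (((Module.finrank k W + 1).choose 3 : ℕ) : k) := by
  classical
  obtain ⟨n, b, hb⟩ := core (W := W) t hspan
  have hfin : Module.finrank k W = n + 1 := by
    rw [Module.finrank_eq_card_basis b, Fintype.card_fin]
  rw [hfin, ← sum_sq' n, LinearMap.trace_eq_matrix_trace k b, Matrix.trace]
  apply Finset.sum_congr rfl
  intro i _
  rw [Matrix.diag_apply, LinearMap.toMatrix_apply]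
  have : ((toEnd k L W h) ^ 2) (b i) = (((n : k) - 2 * ((i : ℕ) : k)) ^ 2) • b i := by
    rw [pow_two, Module.End.mul_apply, toEnd_apply_apply, toEnd_apply_apply, hb i, lie_smul, hb i,
      smul_smul, ← pow_two]
  rw [this, map_smul, Module.Basis.repr_self]
  simp

end Groth.Agent.Lib.helper26.Sl2Tr
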