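import Mathlib

/-!
# Symbolic powers under flat maps (helper26)

`Good N`: every `t ∉ 𝔮 = pS` acts injectively on `S ⊗[R] N`.
-/

set_option autoImplicit false

namespace Groth.Agent.Lib.helper26.SymbPow

open TensorProduct

universe u v w

section Mem

variable {T : Type*} [CommRing T] (P : Ideal T) [P.IsPrime]

/-- Membership in the contraction of the extension to the localisation at a prime. -/
theorem mem_comap_map_iff (I : Ideal T) (x : T) :
    x ∈ (I.map (algebraMap T (Localization.AtPrime P))).comap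
        (algebraMap T (Localization.AtPrime P)) ↔ ∃ t, t ∉ P ∧ t * x ∈ I := by
  rw [Ideal.mem_comap, IsLocalization.mem_map_algebraMap_iff P.primeCompl]
  constructor
  · rintro ⟨⟨a, m⟩, h⟩
    rw [← map_mul, IsLocalization.eq_iff_exists P.primeCompl] at h
    obtain ⟨c, hc⟩ := h
    refine ⟨c * m, ?_, ?_⟩
    · exact (c * m).2
    · have : ((c : T) * (m : T)) * x = c * (a : T) := by
        have hc' : (c : T) * (x * (m : T)) = c * (a : T) := hc
        rw [← hc']; ring
      show ((c : T) * (m : T)) * x ∈ I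
      rw [this]
      exact I.mul_mem_left _ a.2
  · rintro ⟨t, ht, htx⟩
    refine ⟨⟨⟨t * x, htx⟩, ⟨t, ht⟩⟩, ?_⟩
    simp [mul_comm]

end Mem

section Flat

variable {R S : Type u} [CommRing R] [CommRing S] [Algebra R S]

/-- `x ⊗ 1 = 0` in `S ⊗ R/I` iff `x ∈ IS`. -/
theorem tmul_one_eq_zero_iff (I : Ideal R) (x : S) :
    x ⊗ₜ[R] (1 : R ⧸ I) = 0 ↔ x ∈ I.map (algebraMap R S) := by
  have h1 : (tensorQuotEquivQuotSMul S I).symm (Submodule.Quotient.mk x) = x ⊗ₜ[R] 1 :=
    tensorQuotEquivQuotSMul_symm_mk I x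
  rw [← h1, LinearEquiv.map_eq_zero_iff, Submodule.Quotient.mk_eq_zero, Ideal.smul_top_eq_map]
  rfl

theorem lTensor_smul {N N' : Type*} [AddCommGroup N] [Module R N] [AddCommGroup N'] [Module R N']
    (f : N →ₗ[R] N') (t : S) (z : S ⊗[R] N) :
    f.lTensor S (t • z) = t • f.lTensor S z :=
  (f.baseChange S).map_smul t z

variable (R S) in
/-- `t ∉ pS` acts injectively on `S ⊗ N`. -/
def Good (p : Ideal R) (N : Type*) [AddCommGroup N] [Module R N] : Prop :=
  ∀ t : S, t ∉ p.map (algebraMap R S) → ∀ z : S ⊗[R] N, t • z = 0 → z = 0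

variable [Module.Flat R S] (p : Ideal R)

theorem Good.of_injective {N N' : Type*} [AddCommGroup N] [Module R N] [AddCommGroup N']
    [Module R N'] (f : N' →ₗ[R] N) (hf : Function.Injective f) (h : Good R S p N) :
    Good R S p N' := by
  intro t ht z hz
  have hinj := Module.Flat.lTensor_preserves_injective_linearMap (M := S) f hf
  apply hinj
  rw [map_zero]
  apply h t ht
  rw [← lTensor_smul, hz, map_zero]

theorem Good.of_exact {N' N N'' : Type*} [AddCommGroup N] [Module R N] [AddCommGroup N']
    [Module R N'] [AddCommGroup N''] [Module R N''] (f : N' →ₗ[R] N) (g : N →ₗ[R] N'')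
    (hf : Function.Injective f) (hg : Function.Surjective g) (hfg : Function.Exact f g)
    (h' : Good R S p N') (h'' : Good R S p N'') : Good R S p N := by
  intro t ht z hz
  have hinj := Module.Flat.lTensor_preserves_injective_linearMap (M := S) f hf
  have hex : Function.Exact (f.lTensor S) (g.lTensor S) := lTensor_exact S hfg hg
  have h1 : g.lTensor S z = 0 := by
    apply h'' t ht
    rw [← lTensor_smul, hz, map_zero]
  obtain ⟨z', rfl⟩ := (hex z).1 h1
  have h2 : z' = 0 := by
    apply h' t ht
    apply hinj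
    rw [lTensor_smul, hz, map_zero]
  rw [h2, map_zero]

omit [Module.Flat R S] in
theorem Good.finsupp {N : Type*} [AddCommGroup N] [Module R N] (ι : Type*)
    (h : Good R S p N) : Good R S p (ι →₀ N) := by
  classical
  intro t ht z hz
  have e := TensorProduct.finsuppRight R S S N ι
  apply e.injective
  rw [map_zero]
  ext i
  apply h t ht
  have : t • e z = 0 := by rw [← map_smul, hz, map_zero]
  have := DFunLike.congr_fun this i
  simpa using this

omit [Module.Flat R S] in
theorem Good.of_subsingleton {N : Type*} [AddCommGroup N] [Module R N] [Subsingleton N] :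
    Good R S p N := by
  intro t ht z hz
  induction z using TensorProduct.induction_on with
  | zero => rfl
  | tmul s x => rw [Subsingleton.elim x 0, tmul_zero]
  | add a b ha hb => exact Subsingleton.elim _ _

variable [p.IsPrime] [(p.map (algebraMap R S)).IsPrime]

/-- Fact 1: elements outside `p` map outside `pS` (flat, `pS` prime). -/
theorem algebraMap_notMem_map (s : R) (hs : s ∉ p) :
    algebraMap R S s ∉ p.map (algebraMap R S) := by
  intro h
  have hne : p.map (algebraMap R S) ≠ ⊤ := Ideal.IsPrime.ne_top inferInstance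
  apply hne
  rw [Ideal.eq_top_iff_one, ← tmul_one_eq_zero_iff]
  -- multiplication by s on R ⧸ p is injective
  let μ : (R ⧸ p) →ₗ[R] (R ⧸ p) := LinearMap.mulLeft R (Ideal.Quotient.mk p s)
  have hμ : Function.Injective μ := by
    intro a b hab
    have : Ideal.Quotient.mk p s ≠ 0 := by
      rwa [Ne, Ideal.Quotient.eq_zero_iff_mem]
    exact mul_left_cancel₀ this hab
  have hinj := Module.Flat.lTensor_preserves_injective_linearMap (M := S) μ hμ
  apply hinj
  rw [map_zero, LinearMap.lTensor_tmul]
  have : μ 1 = s • (1 : R ⧸ p) := by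
    simp [μ, Algebra.smul_def]
  rw [this, ← TensorProduct.smul_tmul, Algebra.smul_def, mul_one, tmul_one_eq_zero_iff]
  exact h

local notation "L" => Localization.AtPrime p
local notation "𝔪" => IsLocalRing.maximalIdeal (Localization.AtPrime p)

omit [Module.Flat R S] [(p.map (algebraMap R S)).IsPrime] in
/-- Every element of `S ⊗ κ(p)` is a pure tensor `s ⊗ [1/d]`. -/
theorem exists_tmul_eq (z : S ⊗[R] (L ⧸ 𝔪)) :
    ∃ (s : S) (d : p.primeCompl),
      z = s ⊗ₜ[R] (Ideal.Quotient.mk 𝔪 (IsLocalization.mk' L (1 : R) d)) := by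
  have mk_smul : ∀ (r : R) (l : L), Ideal.Quotient.mk 𝔪 (r • l) = r • Ideal.Quotient.mk 𝔪 l :=
    fun r l => rfl
  have key : ∀ (d d' : p.primeCompl),
      Ideal.Quotient.mk 𝔪 (IsLocalization.mk' L (1 : R) d) =
        (d' : R) • Ideal.Quotient.mk 𝔪 (IsLocalization.mk' L (1 : R) (d * d')) := by
    intro d d'
    rw [← mk_smul, Algebra.smul_def, ← IsLocalization.mk'_one (M := p.primeCompl) L,
      ← IsLocalization.mk'_mul]
    congr 1
    rw [IsLocalization.mk'_eq_iff_eq]
    congr 1
    simp only [Submonoid.coe_mul, one_mul, mul_one]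
  induction z using TensorProduct.induction_on with
  | zero => exact ⟨0, 1, (zero_tmul _ _).symm⟩
  | tmul s x =>
    obtain ⟨l, rfl⟩ := Ideal.Quotient.mk_surjective x
    obtain ⟨r, d, rfl⟩ := IsLocalization.exists_mk'_eq p.primeCompl l
    refine ⟨r • s, d, ?_⟩
    rw [TensorProduct.smul_tmul, ← mk_smul, Algebra.smul_def,
      ← IsLocalization.mk'_eq_mul_mk'_one]
  | add a b ha hb =>
    obtain ⟨s1, d1, rfl⟩ := ha
    obtain ⟨s2, d2, rfl⟩ := hb
    refine ⟨(d2 : R) • s1 + (d1 : R) • s2, d1 * d2, ?_⟩
    rw [add_tmul, TensorProduct.smul_tmul, TensorProduct.smul_tmul, ← key d1 d2,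
      mul_comm d1 d2, ← key d2 d1]

/-- The inclusion `R/p → κ(p)`. -/
noncomputable def resMap : (R ⧸ p) →ₗ[R] (L ⧸ 𝔪) :=
  Submodule.liftQ p (Algebra.linearMap R (L ⧸ 𝔪)) (by
    intro r hr
    rw [LinearMap.mem_ker, Algebra.linearMap_apply]
    show Ideal.Quotient.mk 𝔪 (algebraMap R L r) = 0
    rw [Ideal.Quotient.eq_zero_iff_mem, IsLocalization.AtPrime.to_map_mem_maximal_iff L p]
    exact hr)

omit [Module.Flat R S] [(p.map (algebraMap R S)).IsPrime] in
theorem resMap_one : resMap p (1 : R ⧸ p) = 1 := by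
  show resMap p (Submodule.Quotient.mk 1) = 1
  rw [resMap, Submodule.liftQ_apply, Algebra.linearMap_apply, map_one]

omit [Module.Flat R S] [(p.map (algebraMap R S)).IsPrime] in
theorem resMap_injective : Function.Injective (resMap p) := by
  rw [← LinearMap.ker_eq_bot, resMap]
  apply Submodule.ker_liftQ_eq_bot
  intro r hr
  rw [LinearMap.mem_ker, Algebra.linearMap_apply] at hr
  have hr' : Ideal.Quotient.mk 𝔪 (algebraMap R L r) = 0 := hr
  rwa [Ideal.Quotient.eq_zero_iff_mem, IsLocalization.AtPrime.to_map_mem_maximal_iff L p] at hr'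

/-- `t ∉ pS` acts injectively on `S ⊗ κ(p)`. -/
theorem good_residue : Good R S p (L ⧸ 𝔪) := by
  intro t ht z hz
  obtain ⟨s, d, rfl⟩ := exists_tmul_eq p z
  have hinj := Module.Flat.lTensor_preserves_injective_linearMap (M := S) (resMap p)
    (resMap_injective p)
  set y := Ideal.Quotient.mk 𝔪 (IsLocalization.mk' L (1 : R) d) with hy
  have hdy : (d : R) • y = 1 := by
    show Ideal.Quotient.mk 𝔪 ((d : R) • IsLocalization.mk' L (1 : R) d) = 1
    rw [Algebra.smul_def, IsLocalization.mk'_spec', map_one, map_one]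
  -- (t s) ⊗ 1 = 0 in S ⊗ κ
  have h1 : (t * s) ⊗ₜ[R] (1 : L ⧸ 𝔪) = 0 := by
    rw [← hdy, TensorProduct.tmul_smul, ← smul_eq_mul, ← TensorProduct.smul_tmul', hz, smul_zero]
  -- hence in S ⊗ R/p
  have h2 : (t * s) ⊗ₜ[R] (1 : R ⧸ p) = 0 := by
    apply hinj
    rw [map_zero, LinearMap.lTensor_tmul, resMap_one, h1]
  rw [tmul_one_eq_zero_iff] at h2
  have h3 : s ∈ p.map (algebraMap R S) :=
    (Ideal.IsPrime.mem_or_mem inferInstance h2).resolve_left ht
  rw [← tmul_one_eq_zero_iff] at h3
  have h4 : s ⊗ₜ[R] (1 : L ⧸ 𝔪) = 0 := by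
    have := congrArg ((resMap p).lTensor S) h3
    rwa [map_zero, LinearMap.lTensor_tmul, resMap_one] at this
  have h5 := congrArg ((LinearMap.mulLeft R y).lTensor S) h4
  rwa [map_zero, LinearMap.lTensor_tmul, LinearMap.mulLeft_apply, mul_one] at h5

/-- An `R_p`-module killed by the maximal ideal is `Good`. -/
theorem good_of_killed (W : Type*) [AddCommGroup W] [Module R W] [Module L W]
    [IsScalarTower R L W] (hW : ∀ a ∈ 𝔪, ∀ w : W, a • w = 0) : Good R S p W := by
  have hT : Module.IsTorsionBySet L W (𝔪 : Set L) := fun w a => hW a.1 a.2 w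
  let _ : Field (L ⧸ 𝔪) := Ideal.Quotient.field 𝔪
  let _ : Module (L ⧸ 𝔪) W := hT.module
  have : IsScalarTower R (L ⧸ 𝔪) W := hT.isScalarTower
  let b := Module.Basis.ofVectorSpace (L ⧸ 𝔪) W
  let e : W ≃ₗ[R] (Module.Basis.ofVectorSpaceIndex (L ⧸ 𝔪) W →₀ (L ⧸ 𝔪)) :=
    b.repr.restrictScalars R
  exact Good.of_injective p e.toLinearMap e.injective (Good.finsupp p _ (good_residue p))

/-- `t ∉ pS` acts injectively on `S ⊗ R_p/p^n R_p`. -/
theorem good_quot_pow (n : ℕ) : Good R S p (L ⧸ (p ^ n).map (algebraMap R L)) := by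
  induction n with
  | zero =>
    have : Subsingleton (L ⧸ (p ^ 0).map (algebraMap R L)) := by
      rw [pow_zero, Ideal.one_eq_top, Ideal.map_top]
      exact Ideal.Quotient.subsingleton_iff.2 rfl
    exact Good.of_subsingleton p
  | succ n ih =>
    have hle : (p ^ (n + 1)).map (algebraMap R L) ≤ (p ^ n).map (algebraMap R L) :=
      Ideal.map_mono (Ideal.pow_le_pow_right (Nat.le_succ n))
    let g : (L ⧸ (p ^ (n + 1)).map (algebraMap R L)) →ₗ[L] (L ⧸ (p ^ n).map (algebraMap R L)) :=
      Submodule.factor hle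
    have hg : Function.Surjective g := Submodule.factor_surjective hle
    have hker : Good R S p (LinearMap.ker g) := by
      apply good_of_killed
      intro a ha w
      obtain ⟨w, hw⟩ := w
      obtain ⟨l, rfl⟩ := Submodule.Quotient.mk_surjective _ w
      rw [LinearMap.mem_ker] at hw
      have hl : l ∈ (p ^ n).map (algebraMap R L) := by
        have : g (Submodule.Quotient.mk l) = Submodule.Quotient.mk l := Submodule.factor_mk hle l
        rw [this, Submodule.Quotient.mk_eq_zero] at hw
        exact hw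
      apply Subtype.ext
      show a • (Submodule.Quotient.mk l : L ⧸ (p ^ (n + 1)).map (algebraMap R L)) = 0
      rw [← Submodule.Quotient.mk_smul, Submodule.Quotient.mk_eq_zero, smul_eq_mul, pow_succ',
        Ideal.map_mul, Localization.AtPrime.map_eq_maximalIdeal]
      exact Ideal.mul_mem_mul ha hl
    exact Good.of_exact p ((LinearMap.ker g).subtype.restrictScalars R) (g.restrictScalars R)
      (Submodule.injective_subtype _) hg (LinearMap.exact_subtype_ker_map g) hker ih

/-- `t ∉ pS` acts injectively on `S ⊗ R/p^{(n)}`. -/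
theorem good_quot_symb (n : ℕ) :
    Good R S p (R ⧸ ((p ^ n).map (algebraMap R L)).comap (algebraMap R L)) := by
  let f : (R ⧸ ((p ^ n).map (algebraMap R L)).comap (algebraMap R L)) →ₗ[R]
      (L ⧸ (p ^ n).map (algebraMap R L)) :=
    Submodule.liftQ _ (Algebra.linearMap R (L ⧸ (p ^ n).map (algebraMap R L))) (by
      intro r hr
      rw [LinearMap.mem_ker, Algebra.linearMap_apply]
      show Ideal.Quotient.mk _ (algebraMap R L r) = 0
      rw [Ideal.Quotient.eq_zero_iff_mem]
      exact hr)
  have hf : Function.Injective f := by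
    rw [← LinearMap.ker_eq_bot]
    apply Submodule.ker_liftQ_eq_bot
    intro r hr
    rw [LinearMap.mem_ker, Algebra.linearMap_apply] at hr
    have hr' : Ideal.Quotient.mk ((p ^ n).map (algebraMap R L)) (algebraMap R L r) = 0 := hr
    rwa [Ideal.Quotient.eq_zero_iff_mem] at hr'
  exact Good.of_injective p f hf (good_quot_pow p n)

/-- Symbolic powers commute with flat extension when the extended prime is prime. -/
theorem symbolicPower_map (n : ℕ) :
    (((p ^ n).map (algebraMap R L)).comap (algebraMap R L)).map (algebraMap R S) =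
      (((p.map (algebraMap R S)) ^ n).map
        (algebraMap S (Localization.AtPrime (p.map (algebraMap R S))))).comap
        (algebraMap S (Localization.AtPrime (p.map (algebraMap R S)))) := by
  apply le_antisymm
  · rw [Ideal.map_le_iff_le_comap]
    intro x hx
    rw [mem_comap_map_iff] at hx
    obtain ⟨s, hs, hsx⟩ := hx
    rw [Ideal.mem_comap, mem_comap_map_iff]
    refine ⟨algebraMap R S s, algebraMap_notMem_map p s hs, ?_⟩
    rw [← map_mul, ← Ideal.map_pow]
    exact Ideal.mem_map_of_mem _ hsx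
  · intro x hx
    rw [mem_comap_map_iff] at hx
    obtain ⟨t, ht, htx⟩ := hx
    rw [← Ideal.map_pow] at htx
    have hle : (p ^ n).map (algebraMap R S) ≤
        (((p ^ n).map (algebraMap R L)).comap (algebraMap R L)).map (algebraMap R S) :=
      Ideal.map_mono Ideal.le_comap_map
    have h1 := hle htx
    rw [← tmul_one_eq_zero_iff] at h1 ⊢
    apply good_quot_symb p n t ht
    rw [TensorProduct.smul_tmul', smul_eq_mul]
    exact h1

end Flat

end Groth.Agent.Lib.helper26.SymbPow
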