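import Mathlib

namespace Groth.Agent.Lib.helper26

open PowerSeries

theorem cmul0 (f g : PowerSeries ℚ) : coeff 0 (f * g) = coeff 0 f * coeff 0 g := by
  rw [PowerSeries.coeff_mul, Finset.Nat.sum_antidiagonal_eq_sum_range_succ_mk]
  simp [Finset.sum_range_succ]

theorem cmul1 (f g : PowerSeries ℚ) :
    coeff 1 (f * g) = coeff 0 f * coeff 1 g + coeff 1 f * coeff 0 g := by
  rw [PowerSeries.coeff_mul, Finset.Nat.sum_antidiagonal_eq_sum_range_succ_mk]
  simp [Finset.sum_range_succ]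

theorem cmul2 (f g : PowerSeries ℚ) :
    coeff 2 (f * g) = coeff 0 f * coeff 2 g + coeff 1 f * coeff 1 g + coeff 2 f * coeff 0 g := by
  rw [PowerSeries.coeff_mul, Finset.Nat.sum_antidiagonal_eq_sum_range_succ_mk]
  simp [Finset.sum_range_succ]

theorem cmul3 (f g : PowerSeries ℚ) :
    coeff 3 (f * g) = coeff 0 f * coeff 3 g + coeff 1 f * coeff 2 g + coeff 2 f * coeff 1 g
      + coeff 3 f * coeff 0 g := by
  rw [PowerSeries.coeff_mul, Finset.Nat.sum_antidiagonal_eq_sum_range_succ_mk]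
  simp [Finset.sum_range_succ]

theorem cB0 : coeff 0 (bernoulli'PowerSeries ℚ) = 1 := by
  simp [bernoulli'PowerSeries]

theorem cB1 : coeff 1 (bernoulli'PowerSeries ℚ) = 1 / 2 := by
  simp [bernoulli'PowerSeries]

theorem cB2 : coeff 2 (bernoulli'PowerSeries ℚ) = 1 / 12 := by
  simp [bernoulli'PowerSeries, bernoulli'_two, Nat.factorial]
  norm_num

theorem cB3 : coeff 3 (bernoulli'PowerSeries ℚ) = 0 := by
  simp [bernoulli'PowerSeries, bernoulli'_three]

/-- coefficients of the inverse of a power series with constant coefficient one -/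
theorem cinv (f : PowerSeries ℚ) (h0 : coeff 0 f = 1) :
    coeff 0 f⁻¹ = 1 ∧ coeff 1 f⁻¹ = - coeff 1 f ∧
    coeff 2 f⁻¹ = (coeff 1 f) ^ 2 - coeff 2 f ∧
    coeff 3 f⁻¹ = - coeff 3 f + 2 * coeff 1 f * coeff 2 f - (coeff 1 f) ^ 3 := by
  have hc : constantCoeff f ≠ 0 := by
    rw [← PowerSeries.coeff_zero_eq_constantCoeff_apply, h0]; exact one_ne_zero
  have hmul : f⁻¹ * f = 1 := PowerSeries.inv_mul_cancel f hc
  have e0 := congrArg (coeff 0) hmul
  have e1 := congrArg (coeff 1) hmul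
  have e2 := congrArg (coeff 2) hmul
  have e3 := congrArg (coeff 3) hmul
  rw [cmul0] at e0
  rw [cmul1] at e1
  rw [cmul2] at e2
  rw [cmul3] at e3
  rw [h0] at e0 e1 e2 e3
  generalize coeff 0 f⁻¹ = x0 at *
  generalize coeff 1 f⁻¹ = x1 at *
  generalize coeff 2 f⁻¹ = x2 at *
  generalize coeff 3 f⁻¹ = x3 at *
  generalize coeff 1 f = y1 at *
  generalize coeff 2 f = y2 at *
  generalize coeff 3 f = y3 at *
  simp only [PowerSeries.coeff_one] at e0 e1 e2 e3
  norm_num at e0 e1 e2 e3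
  subst e0
  have a1 : x1 = - y1 := by linarith
  subst a1
  have a2 : x2 = y1 ^ 2 - y2 := by linarith
  subst a2
  refine ⟨rfl, rfl, rfl, ?_⟩
  linarith

end Groth.Agent.Lib.helper26
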