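import Mathlib
import Groth.Agent.Lib.helper26.Todd

namespace Groth.Agent.Lib.helper26

open PowerSeries

theorem exp_mul_exp_neg : exp ℚ * rescale (-1 : ℚ) (exp ℚ) = 1 := by
  have := exp_mul_exp_eq_exp_add (1 : ℚ) (-1)
  simpa using this

theorem bernoulli'_rescale_neg_one :
    rescale (-1 : ℚ) (bernoulli'PowerSeries ℚ) =
      bernoulli'PowerSeries ℚ * rescale (-1 : ℚ) (exp ℚ) := by
  have h := bernoulli'PowerSeries_mul_exp_sub_one ℚ
  have h1 := congrArg (rescale (-1 : ℚ)) h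
  rw [map_mul, map_mul, map_sub, map_one, rescale_neg_one_X] at h1
  have hee := exp_mul_exp_neg
  have h2 : rescale (-1 : ℚ) (bernoulli'PowerSeries ℚ) * (exp ℚ - 1) = X := by
    have : rescale (-1 : ℚ) (bernoulli'PowerSeries ℚ) * (exp ℚ - 1) =
        - (rescale (-1 : ℚ) (bernoulli'PowerSeries ℚ) * (rescale (-1 : ℚ) (exp ℚ) - 1)) * exp ℚ := by
      linear_combination (rescale (-1 : ℚ) (bernoulli'PowerSeries ℚ)) * hee
    rw [this, h1]
    linear_combination X * hee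
  have h3 : bernoulli'PowerSeries ℚ * rescale (-1 : ℚ) (exp ℚ) * (exp ℚ - 1) = X := by
    linear_combination (rescale (-1 : ℚ) (exp ℚ)) * h + X * hee
  have hne : (exp ℚ - 1 : PowerSeries ℚ) ≠ 0 := by
    intro h0
    have := congrArg (coeff 1) h0
    simp [coeff_exp] at this
  exact mul_right_cancel₀ hne (h2.trans h3.symm)

theorem bernoulli'_rescale_neg (a : ℚ) :
    rescale (-a) (bernoulli'PowerSeries ℚ) =
      rescale a (bernoulli'PowerSeries ℚ) * rescale (-a) (exp ℚ) := by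
  have h1 : rescale (-a) (bernoulli'PowerSeries ℚ) =
      rescale a (rescale (-1 : ℚ) (bernoulli'PowerSeries ℚ)) := by
    rw [rescale_rescale]; congr 2; ring
  rw [h1, bernoulli'_rescale_neg_one, map_mul, rescale_rescale]
  congr 3; ring

/-- the `p`-independent factor -/
noncomputable def toddG (n d : ℕ) (s : ℤ) : PowerSeries ℚ :=
  (rescale (-(d : ℚ)) (bernoulli'PowerSeries ℚ))⁻¹ * bernoulli'PowerSeries ℚ ^ (n + 1) *
    rescale ((s : ℚ) - d - n - 1) (exp ℚ)

theorem todd_eq (n d p : ℕ) (s : ℤ) :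
    (rescale (-(d : ℚ)) (bernoulli'PowerSeries ℚ))⁻¹ *
      rescale (-((d : ℚ) * p)) (bernoulli'PowerSeries ℚ) * bernoulli'PowerSeries ℚ ^ (n + 1) *
      rescale ((d : ℚ) * p - d - n - 1 + s) (exp ℚ) =
    rescale ((d : ℚ) * p) (bernoulli'PowerSeries ℚ) * toddG n d s := by
  rw [bernoulli'_rescale_neg ((d : ℚ) * p), toddG]
  have : rescale (-((d : ℚ) * p)) (exp ℚ) * rescale ((d : ℚ) * p - d - n - 1 + s) (exp ℚ) =
      rescale ((s : ℚ) - d - n - 1) (exp ℚ) := by
    rw [exp_mul_exp_eq_exp_add]; congr 2; ring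
  rw [← this]
  ring

theorem coeff_zero_pow (f : PowerSeries ℚ) (k : ℕ) : coeff 0 (f ^ k) = (coeff 0 f) ^ k := by
  simp [PowerSeries.coeff_zero_eq_constantCoeff]

theorem coeff_one_pow (f : PowerSeries ℚ) (h0 : coeff 0 f = 1) (k : ℕ) :
    coeff 1 (f ^ k) = k * coeff 1 f := by
  induction k with
  | zero => simp
  | succ k ih =>
    rw [pow_succ, cmul1, ih, coeff_zero_pow, h0]
    push_cast
    ring

theorem toddG_coeff_zero (n d : ℕ) (s : ℤ) : coeff 0 (toddG n d s) = 1 := by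
  have hβ0 : coeff 0 (rescale (-(d : ℚ)) (bernoulli'PowerSeries ℚ)) = 1 := by
    rw [coeff_rescale, cB0]; simp
  obtain ⟨a0, -, -, -⟩ := cinv _ hβ0
  rw [toddG, cmul0, cmul0, a0, coeff_zero_pow, cB0, coeff_rescale, coeff_exp]
  simp

theorem toddG_coeff_one (n d : ℕ) (s : ℤ) :
    coeff 1 (toddG n d s) = (2 * (s : ℚ) - d - n - 1) / 2 := by
  have hβ0 : coeff 0 (rescale (-(d : ℚ)) (bernoulli'PowerSeries ℚ)) = 1 := by
    rw [coeff_rescale, cB0]; simp
  obtain ⟨a0, a1, -, -⟩ := cinv _ hβ0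
  rw [toddG, cmul1, cmul1, cmul0, a0, a1, coeff_zero_pow, cB0, coeff_one_pow _ cB0, cB1,
    coeff_rescale, coeff_rescale, coeff_rescale, coeff_exp, coeff_exp, cB1]
  simp
  ring

/-- the coefficient of `p^k` -/
noncomputable def toddC (n d : ℕ) (s : ℤ) (k : ℕ) : ℚ :=
  (d : ℚ) ^ k * (bernoulli' k / (k.factorial : ℚ)) * coeff (n - k) (toddG n d s)

theorem todd_coeff (n d p : ℕ) (s : ℤ) :
    coeff n ((rescale (-(d : ℚ)) (bernoulli'PowerSeries ℚ))⁻¹ *
      rescale (-((d : ℚ) * p)) (bernoulli'PowerSeries ℚ) * bernoulli'PowerSeries ℚ ^ (n + 1) *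
      rescale ((d : ℚ) * p - d - n - 1 + s) (exp ℚ)) =
    ∑ k ∈ Finset.range (n + 1), toddC n d s k * (p : ℚ) ^ k := by
  rw [todd_eq, coeff_mul, Finset.Nat.sum_antidiagonal_eq_sum_range_succ_mk]
  apply Finset.sum_congr rfl
  intro k _
  rw [coeff_rescale, toddC, mul_pow]
  simp [bernoulli'PowerSeries]
  ring

/-- the full polynomial in `p` -/
noncomputable def toddPoly (n d : ℕ) (s : ℤ) : Polynomial ℚ :=
  ∑ k ∈ Finset.range (n + 1), Polynomial.C (toddC n d s k) * Polynomial.X ^ k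

theorem toddPoly_eval (n d p : ℕ) (s : ℤ) :
    (toddPoly n d s).eval (p : ℚ) = ∑ k ∈ Finset.range (n + 1), toddC n d s k * (p : ℚ) ^ k := by
  simp [toddPoly, Polynomial.eval_finsetSum]

theorem toddPoly_coeff (n d : ℕ) (s : ℤ) (j : ℕ) :
    (toddPoly n d s).coeff j = if j < n + 1 then toddC n d s j else 0 := by
  simp only [toddPoly, Polynomial.finsetSum_coeff, Polynomial.coeff_C_mul_X_pow]
  split_ifs with h
  · rw [Finset.sum_eq_single j]
    · simp
    · intro b _ hb; simp [Ne.symm hb]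
    · intro hj; exact absurd (Finset.mem_range.mpr h) hj
  · apply Finset.sum_eq_zero
    intro b hb
    have : b < n + 1 := Finset.mem_range.mp hb
    have : j ≠ b := by omega
    simp [this]

theorem toddC_top (n d : ℕ) (s : ℤ) :
    toddC n d s n = (d : ℚ) ^ n * (bernoulli' n / (n.factorial : ℚ)) := by
  rw [toddC, Nat.sub_self, toddG_coeff_zero, mul_one]

theorem toddC_second (m d : ℕ) (s : ℤ) :
    toddC (m + 1) d s m = (d : ℚ) ^ m * (bernoulli' m / (m.factorial : ℚ)) *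
      ((2 * (s : ℚ) - d - (m + 1 : ℕ) - 1) / 2) := by
  rw [toddC, show m + 1 - m = 1 by omega, toddG_coeff_one]

/-- sign of Bernoulli numbers -/
theorem bernoulli_sign (k : ℕ) (hk : k ≠ 0) : 0 < (-1 : ℚ) ^ (k + 1) * bernoulli (2 * k) := by
  have h := hasSum_zeta_nat hk
  have hge : (1 : ℝ) ≤ (-1 : ℝ) ^ (k + 1) * (2 : ℝ) ^ (2 * k - 1) * Real.pi ^ (2 * k) *
        bernoulli (2 * k) / (2 * k).factorial := by
    have := le_hasSum h 1 (fun j _ => by positivity)
    simpa using this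
  have hpos : 0 < (-1 : ℝ) ^ (k + 1) * (2 : ℝ) ^ (2 * k - 1) * Real.pi ^ (2 * k) *
        bernoulli (2 * k) / (2 * k).factorial := lt_of_lt_of_le one_pos hge
  have h2 : (-1 : ℝ) ^ (k + 1) * (2 : ℝ) ^ (2 * k - 1) * Real.pi ^ (2 * k) *
        bernoulli (2 * k) / (2 * k).factorial =
      (((-1 : ℚ) ^ (k + 1) * bernoulli (2 * k) : ℚ) : ℝ) *
        ((2 : ℝ) ^ (2 * k - 1) * Real.pi ^ (2 * k) / (2 * k).factorial) := by
    push_cast; ring
  rw [h2] at hpos
  have hfac : (0 : ℝ) < (2 : ℝ) ^ (2 * k - 1) * Real.pi ^ (2 * k) / (2 * k).factorial := by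
    positivity
  have := (pos_iff_pos_of_mul_pos hpos).mpr hfac
  exact_mod_cast this

theorem bernoulli'_neg_of_mod_four (n : ℕ) (hn : 2 ≤ n) (h4 : n % 4 = 0) : bernoulli' n < 0 := by
  obtain ⟨j, rfl⟩ : ∃ j, n = 4 * j := ⟨n / 4, by omega⟩
  have hj : j ≠ 0 := by omega
  have h := bernoulli_sign (2 * j) (by omega)
  rw [← bernoulli_eq_bernoulli'_of_ne_one (by omega)]
  have hodd : (-1 : ℚ) ^ (2 * j + 1) = -1 := by
    rw [pow_succ, pow_mul]; simp
  rw [hodd, show 2 * (2 * j) = 4 * j by ring] at h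
  linarith

theorem bernoulli'_pos_of_mod_four (n : ℕ) (h4 : n % 4 = 2) : 0 < bernoulli' n := by
  obtain ⟨j, rfl⟩ : ∃ j, n = 4 * j + 2 := ⟨n / 4, by omega⟩
  have h := bernoulli_sign (2 * j + 1) (by omega)
  rw [← bernoulli_eq_bernoulli'_of_ne_one (by omega)]
  have heven : (-1 : ℚ) ^ (2 * j + 1 + 1) = 1 := by
    rw [show 2 * j + 1 + 1 = 2 * (j + 1) by ring, pow_mul]; simp
  rw [heven, show 2 * (2 * j + 1) = 4 * j + 2 by ring] at h
  linarith

/-- a polynomial with negative leading coefficient and positive degree is eventually negative on ℕ -/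
theorem eventually_neg_of_leadingCoeff_neg (Q : Polynomial ℚ) (m : ℕ) (hm : 0 < m)
    (hcoeff : Q.coeff m < 0) (hdeg : ∀ j, m < j → Q.coeff j = 0) :
    ∃ P : ℕ, ∀ p : ℕ, P ≤ p → Q.eval (p : ℚ) < 0 := by
  have hnat : Q.natDegree = m := by
    apply le_antisymm
    · rw [Polynomial.natDegree_le_iff_coeff_eq_zero]
      exact hdeg
    · exact Polynomial.le_natDegree_of_ne_zero hcoeff.ne
  have hlc : Q.leadingCoeff < 0 := by
    rw [Polynomial.leadingCoeff, hnat]; exact hcoeff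
  have hdeg' : 0 < Q.degree := by
    rw [← Polynomial.natDegree_pos_iff_degree_pos, hnat]; exact hm
  have ht := Polynomial.tendsto_atBot_of_leadingCoeff_nonpos Q hdeg' hlc.le
  have ht2 : Filter.Tendsto (fun p : ℕ => Q.eval (p : ℚ)) Filter.atTop Filter.atBot :=
    ht.comp tendsto_natCast_atTop_atTop
  have := (ht2.eventually (Filter.eventually_lt_atBot 0))
  rw [Filter.eventually_atTop] at this
  exact this

end Groth.Agent.Lib.helper26
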