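import Mathlib
import Groth.Agent.Lib.helper26.DimJac3

universe u
open AlgebraicGeometry CategoryTheory

namespace Groth.Agent.Lib.helper26.DimJac

/-- residue field extensions of étale (more generally unramified) morphisms have transcendence
degree zero. -/
theorem trdeg_residueField_eq_zero_of_unramified {X Y : Scheme.{u}} (f : X ⟶ Y)
    [FormallyUnramified f] [LocallyOfFiniteType f] (x : X) :
    @Algebra.trdeg (Y.residueField (f x)) (X.residueField x) _ _
      (f.residueFieldMap x).hom.toAlgebra = 0 := by
  letI : Algebra (Y.residueField (f x)) (X.residueField x) := (f.residueFieldMap x).hom.toAlgebra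
  haveI : Algebra.IsSeparable (Y.residueField (f x)) (X.residueField x) := inferInstance
  haveI : Algebra.IsAlgebraic (Y.residueField (f x)) (X.residueField x) :=
    Algebra.IsSeparable.isAlgebraic _ _
  exact trdeg_eq_zero

theorem trdeg_residueField_congr {X Y : Scheme.{u}} (g₁ g₂ : X ⟶ Y) (e : g₁ = g₂) (x : X) :
    @Algebra.trdeg (Y.residueField (g₁ x)) (X.residueField x) _ _
      (g₁.residueFieldMap x).hom.toAlgebra =
    @Algebra.trdeg (Y.residueField (g₂ x)) (X.residueField x) _ _
      (g₂.residueFieldMap x).hom.toAlgebra := by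
  subst e
  rfl

/-- S7407 -/
theorem trdeg_residueField_etale_local {U U' V V' : Scheme.{u}} (h : U ⟶ V) (h' : U' ⟶ V')
    (a : U' ⟶ U) (b : V' ⟶ V) [Etale a] [Etale b] (comm : h' ≫ b = a ≫ h) (u' : U') :
    @Algebra.trdeg (V.residueField (h (a u'))) (U.residueField (a u')) _ _
      (h.residueFieldMap (a u')).hom.toAlgebra =
    @Algebra.trdeg (V'.residueField (h' u')) (U'.residueField u') _ _
      (h'.residueFieldMap u').hom.toAlgebra := by
  have e1 := trdeg_residueField_comp a h u'
  have e2 := trdeg_residueField_comp h' b u'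
  have e3 := trdeg_residueField_congr (h' ≫ b) (a ≫ h) comm u'
  rw [trdeg_residueField_eq_zero_of_unramified a u', add_zero] at e1
  rw [trdeg_residueField_eq_zero_of_unramified b (h' u'), zero_add] at e2
  rw [← e1, ← e2, e3]

end Groth.Agent.Lib.helper26.DimJac
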