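import Mathlib
import Groth.Agent.Lib.helper26.StalkQuot
import Groth.Agent.Lib.helper26.CartUFD
import Groth.Agent.Lib.helper26.Haupt

universe u
open AlgebraicGeometry CategoryTheory Topology TopologicalSpace IsLocalRing

namespace Groth.Agent.Lib.helper26.UFDCart

/-- in a Noetherian factorial domain, an ideal all of whose associated primes have height one is
principal. -/
theorem principal_of_ass_height_one (A : Type u) [CommRing A] [IsDomain A] [IsNoetherianRing A]
    [UniqueFactorizationMonoid A] (I : Ideal A)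
    (h : ∀ P ∈ associatedPrimes A (A ⧸ I), P.height = 1) :
    ∃ g : A, g ≠ 0 ∧ I = Ideal.span {g} := by
  induction I using IsNoetherian.induction with
  | _ I ih =>
    by_cases htop : I = ⊤
    · exact ⟨1, one_ne_zero, by rw [htop, Ideal.span_singleton_one]⟩
    haveI : Nontrivial (A ⧸ I) := Ideal.Quotient.nontrivial_iff.2 htop
    obtain ⟨P, hP⟩ := associatedPrimes.nonempty A (A ⧸ I)
    have hPht := h P hP
    haveI hPp : P.IsPrime := hP.isPrime
    obtain ⟨π, hπ, hPπ⟩ := Groth.Agent.Lib.helper26.CartUFD.exists_prime_generator A P hPht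
    have hπ0 : π ≠ 0 := nonZeroDivisors.ne_zero hπ
    have hIP : I ≤ P := by
      have := hP.annihilator_le
      rwa [Submodule.annihilator_top, Ideal.annihilator_quotient] at this
    obtain ⟨-, xb, hx⟩ := (isAssociatedPrime_iff.1 hP)
    obtain ⟨x, rfl⟩ := Ideal.Quotient.mk_surjective xb
    set J : Ideal A := Submodule.colon I ({π} : Set A) with hJ
    have memJ : ∀ a : A, a ∈ J ↔ π * a ∈ I := by
      intro a
      rw [hJ, Submodule.mem_colon_singleton, smul_eq_mul, mul_comm]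
    have hIJ : I ≤ J := fun a ha => (memJ a).2 (Ideal.mul_mem_left I π ha)
    have hπP : π ∈ P := by rw [hPπ]; exact Ideal.subset_span rfl
    have hxJ : x ∈ J := by
      rw [memJ]
      have : π ∈ Submodule.colon (⊥ : Submodule A (A ⧸ I)) {Ideal.Quotient.mk I x} := hx ▸ hπP
      rw [Submodule.mem_colon_singleton, Submodule.mem_bot] at this
      have h2 : Ideal.Quotient.mk I (π * x) = 0 := by
        rw [map_mul]; exact this
      exact Ideal.Quotient.eq_zero_iff_mem.1 h2
    have hxI : x ∉ I := by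
      intro hxI
      have h0 : Ideal.Quotient.mk I x = 0 := Ideal.Quotient.eq_zero_iff_mem.2 hxI
      have h1 : (1 : A) ∈ Submodule.colon (⊥ : Submodule A (A ⧸ I)) {Ideal.Quotient.mk I x} := by
        rw [Submodule.mem_colon_singleton, h0, smul_zero]
        exact Submodule.zero_mem _
      rw [← hx] at h1
      exact hPp.ne_top ((Ideal.eq_top_iff_one P).2 h1)
    have hlt : I < J := lt_of_le_of_ne hIJ (fun heq => hxI (heq ▸ hxJ))
    -- associated primes of A/J
    have hassJ : ∀ Q ∈ associatedPrimes A (A ⧸ J), Q.height = 1 := by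
      intro Q hQ
      apply h Q
      have hle : J ≤ I.comap (LinearMap.lsmul A A π) := by
        intro a ha
        rw [Submodule.mem_comap]
        exact (memJ a).1 ha
      refine associatedPrimes.subset_of_injective
        (f := Submodule.mapQ J I (LinearMap.lsmul A A π) hle) ?_ hQ
      rw [← LinearMap.ker_eq_bot, LinearMap.ker_eq_bot']
      intro ab hab
      obtain ⟨a, rfl⟩ := Submodule.Quotient.mk_surjective J ab
      rw [Submodule.mapQ_apply, Submodule.Quotient.mk_eq_zero] at hab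
      rw [Submodule.Quotient.mk_eq_zero]
      exact (memJ a).2 hab
    obtain ⟨g', hg'0, hJg'⟩ := ih J hlt hassJ
    refine ⟨π * g', mul_ne_zero hπ0 hg'0, ?_⟩
    rw [← Ideal.span_singleton_mul_span_singleton, ← hJg']
    apply le_antisymm
    · intro a ha
      have haP : a ∈ Ideal.span {π} := hPπ ▸ hIP ha
      obtain ⟨a', rfl⟩ := Ideal.mem_span_singleton'.1 haP
      have hπa : π * a' ∈ I := by rwa [mul_comm] at ha
      have : π * a' ∈ Ideal.span {π} * J :=
        Ideal.mul_mem_mul (Ideal.subset_span rfl) ((memJ a').2 hπa)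
      rw [mul_comm π a'] at this
      exact this
    · rw [Ideal.span_singleton_mul_le_iff]
      intro a ha
      exact (memJ a).1 ha

variable {X : Scheme.{u}}

open Groth.Agent.Lib.helper7.DimSch Groth.Agent.Lib.helper26.StalkQuot

/-- the point of an affine chart corresponding to a prime of the local ring. -/
theorem exists_point_of_prime {V : X.Opens} (hV : IsAffineOpen V) (x : X) (hxV : x ∈ V)
    (p : Ideal (X.presheaf.stalk x)) (hp : p.IsPrime) :
    ∃ z : V, (z : X) ⤳ x ∧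
      (hV.primeIdealOf z).asIdeal = p.comap (X.presheaf.germ V x hxV).hom := by
  letI := X.presheaf.algebra_section_stalk (U := V) ⟨x, hxV⟩
  haveI := hV.isLocalization_stalk ⟨x, hxV⟩
  set P := (hV.primeIdealOf ⟨x, hxV⟩).asIdeal with hP
  set Q : Ideal Γ(X, V) := p.comap (algebraMap Γ(X, V) (X.presheaf.stalk x)) with hQ
  haveI : Q.IsPrime := Ideal.comap_isPrime _ _
  obtain ⟨z, hz⟩ := exists_primeIdealOf_eq hV ⟨Q, inferInstance⟩
  have hzQ : (hV.primeIdealOf z).asIdeal = Q := by rw [hz]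
  have hm : (maximalIdeal (X.presheaf.stalk x)).comap
      (algebraMap Γ(X, V) (X.presheaf.stalk x)) = P :=
    IsLocalization.AtPrime.comap_maximalIdeal (X.presheaf.stalk x) P
  have hQP : Q ≤ P := by
    rw [← hm]
    exact Ideal.comap_mono (IsLocalRing.le_maximalIdeal hp.ne_top)
  have hzx : (z : X) ⤳ x := by
    have := (primeIdealOf_le_iff hV z ⟨x, hxV⟩).mp (by
      show (hV.primeIdealOf z).asIdeal ≤ (hV.primeIdealOf ⟨x, hxV⟩).asIdeal
      rw [hzQ]; exact hQP)
    exact this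
  exact ⟨z, hzx, hzQ⟩

theorem ass_height_one [IsLocallyNoetherian X] (𝓘 : X.IdealSheafData)
    (h1 : ∀ z : ↥𝓘.subscheme, IsAssociatedPrime
      (IsLocalRing.maximalIdeal ↑(𝓘.subscheme.presheaf.stalk z))
      ↑(𝓘.subscheme.presheaf.stalk z) → ∀ z' : ↥𝓘.subscheme, z' ⤳ z → z' = z)
    (h2 : ∀ z : ↥𝓘.subscheme, (∀ z' : ↥𝓘.subscheme, z' ⤳ z → z' = z) →
      ringKrullDim (X.presheaf.stalk (𝓘.subschemeι z)) = 1)
    (x : X) (U : X.affineOpens) (hxU : x ∈ U.1)
    (P : Ideal (X.presheaf.stalk x))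
    (hP : P ∈ associatedPrimes (X.presheaf.stalk x)
      (X.presheaf.stalk x ⧸ (𝓘.ideal U).map (X.presheaf.germ U.1 x hxU).hom)) :
    P.height = 1 := by
  set I := (𝓘.ideal U).map (X.presheaf.germ U.1 x hxU).hom with hI
  obtain ⟨hPp, ab, hab⟩ := isAssociatedPrime_iff.1 hP
  obtain ⟨a, rfl⟩ := Ideal.Quotient.mk_surjective ab
  have memP : ∀ r : X.presheaf.stalk x, r ∈ P ↔ r * a ∈ I := by
    intro r
    rw [hab, Submodule.mem_colon_singleton, Submodule.mem_bot]
    have : r • (Ideal.Quotient.mk I a) = Ideal.Quotient.mk I (r * a) := rfl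
    rw [this, Ideal.Quotient.eq_zero_iff_mem]
  have hIP : I ≤ P := fun r hr => (memP r).2 (I.mul_mem_right a hr)
  obtain ⟨⟨x'v, hx'U⟩, hx'x, hPx'⟩ := exists_point_of_prime U.2 x hxU P hPp
  have hsupp : x'v ∈ 𝓘.support := by
    rw [Groth.Agent.Lib.helper26.Haupt.mem_support_iff_le 𝓘 U x'v hx'U, hPx']
    intro s hs
    exact hIP (Ideal.mem_map_of_mem _ hs)
  obtain ⟨z', hz'⟩ : ∃ z' : 𝓘.subscheme, 𝓘.subschemeι z' = x'v := by
    have : x'v ∈ Set.range 𝓘.subschemeι := by rw [𝓘.range_subschemeι]; exact hsupp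
    exact this
  subst hz'
  change (𝓘.subschemeι z') ⤳ x at hx'x
  -- notation
  have hP'le : (U.2.primeIdealOf ⟨𝓘.subschemeι z', hx'U⟩).asIdeal ≤ (U.2.primeIdealOf ⟨x, hxU⟩).asIdeal :=
    (primeIdealOf_le_iff U.2 ⟨𝓘.subschemeι z', hx'U⟩ ⟨x, hxU⟩).2 hx'x
  have key1 : ∀ w : Γ(X, U.1), X.presheaf.germ U.1 x hxU w * a ∈ I → w ∈ (U.2.primeIdealOf ⟨𝓘.subschemeι z', hx'U⟩).asIdeal := by
    intro w hw
    rw [hPx']
    exact (memP _).2 hw
  have key2 : ∀ w : Γ(X, U.1), w ∈ (U.2.primeIdealOf ⟨𝓘.subschemeι z', hx'U⟩).asIdeal → X.presheaf.germ U.1 x hxU w * a ∈ I := by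
    intro w hw
    rw [hPx'] at hw
    exact (memP _).1 hw
  have hρ : ∀ t : Γ(X, U.1), X.presheaf.stalkSpecializes hx'x (X.presheaf.germ U.1 x hxU t) =
      X.presheaf.germ U.1 (𝓘.subschemeι z') hx'U t := by
    intro t
    rw [← ConcreteCategory.comp_apply, TopCat.Presheaf.germ_stalkSpecializes]
  have hker := ker_stalkMap_subschemeι 𝓘 z' U hx'U
  have hIρ : ∀ r : X.presheaf.stalk x, r ∈ I →
      𝓘.subschemeι.stalkMap z' (X.presheaf.stalkSpecializes hx'x r) = 0 := by
    intro r hr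
    have h3 : X.presheaf.stalkSpecializes hx'x r ∈
        (𝓘.ideal U).map (X.presheaf.germ U.1 (𝓘.subschemeι z') hx'U).hom := by
      have h4 : (X.presheaf.stalkSpecializes hx'x).hom r ∈
          I.map (X.presheaf.stalkSpecializes hx'x).hom := Ideal.mem_map_of_mem _ hr
      rw [hI, Ideal.map_map] at h4
      have h5 : (X.presheaf.stalkSpecializes hx'x).hom.comp (X.presheaf.germ U.1 x hxU).hom =
          (X.presheaf.germ U.1 (𝓘.subschemeι z') hx'U).hom := by
        ext t
        exact hρ t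
      rw [h5] at h4
      exact h4
    rw [← hker] at h3
    exact h3
  letI := X.presheaf.algebra_section_stalk (U := U.1) ⟨x, hxU⟩
  haveI := U.2.isLocalization_stalk ⟨x, hxU⟩
  letI := X.presheaf.algebra_section_stalk (U := U.1) ⟨𝓘.subschemeι z', hx'U⟩
  haveI := U.2.isLocalization_stalk ⟨𝓘.subschemeι z', hx'U⟩
  set y := 𝓘.subschemeι.stalkMap z' (X.presheaf.stalkSpecializes hx'x a) with hy
  -- (ii) y ≠ 0
  have hy0 : y ≠ 0 := by
    intro h0
    have h3 : X.presheaf.stalkSpecializes hx'x a ∈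
        (𝓘.ideal U).map (X.presheaf.germ U.1 (𝓘.subschemeι z') hx'U).hom := by
      rw [← hker]; exact h0
    obtain ⟨⟨a₀, s₀⟩, ha₀⟩ := IsLocalization.surj
      (U.2.primeIdealOf ⟨x, hxU⟩).asIdeal.primeCompl a
    have ha₀' : a * X.presheaf.germ U.1 x hxU s₀.1 = X.presheaf.germ U.1 x hxU a₀ := ha₀
    have h6 : X.presheaf.germ U.1 (𝓘.subschemeι z') hx'U a₀ ∈
        (𝓘.ideal U).map (X.presheaf.germ U.1 (𝓘.subschemeι z') hx'U).hom := by
      rw [← hρ a₀, ← ha₀', map_mul]
      exact Ideal.mul_mem_right _ _ h3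
    obtain ⟨⟨i, t⟩, hit⟩ := (IsLocalization.mem_map_algebraMap_iff (U.2.primeIdealOf ⟨𝓘.subschemeι z', hx'U⟩).asIdeal.primeCompl
      (X.presheaf.stalk (𝓘.subschemeι z'))).1 h6
    have hit' : algebraMap Γ(X, U.1) (X.presheaf.stalk (𝓘.subschemeι z')) (a₀ * t.1) =
        algebraMap Γ(X, U.1) (X.presheaf.stalk (𝓘.subschemeι z')) i.1 := by
      rw [map_mul]; exact hit
    obtain ⟨t'', ht''⟩ := (IsLocalization.eq_iff_exists (U.2.primeIdealOf ⟨𝓘.subschemeι z', hx'U⟩).asIdeal.primeCompl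
      (X.presheaf.stalk (𝓘.subschemeι z'))).1 hit'
    have h7 : t''.1 * (a₀ * t.1) ∈ 𝓘.ideal U := by
      rw [ht'']
      exact Ideal.mul_mem_left _ _ i.2
    have h8 : X.presheaf.germ U.1 x hxU (t''.1 * t.1 * s₀.1) * a ∈ I := by
      have h9 : X.presheaf.germ U.1 x hxU (t''.1 * (a₀ * t.1)) ∈ I := Ideal.mem_map_of_mem _ h7
      have h10 : X.presheaf.germ U.1 x hxU (t''.1 * t.1 * s₀.1) * a =
          X.presheaf.germ U.1 x hxU (t''.1 * (a₀ * t.1)) := by
        simp only [map_mul, ← ha₀']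
        ring
      rw [h10]; exact h9
    have h11 : t''.1 * t.1 * s₀.1 ∈ (U.2.primeIdealOf ⟨𝓘.subschemeι z', hx'U⟩).asIdeal := key1 _ h8
    have hP'prime : (U.2.primeIdealOf ⟨𝓘.subschemeι z', hx'U⟩).asIdeal.IsPrime := (U.2.primeIdealOf ⟨𝓘.subschemeι z', hx'U⟩).2
    rcases hP'prime.mem_or_mem h11 with h12 | h12
    · rcases hP'prime.mem_or_mem h12 with h13 | h13
      · exact t''.2 h13
      · exact t.2 h13
    · exact s₀.2 (hP'le h12)
  -- (i) the maximal ideal kills y
  have hkill : ∀ r' ∈ maximalIdeal (𝓘.subscheme.presheaf.stalk z'), r' * y = 0 := by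
    intro r' hr'
    obtain ⟨r'', rfl⟩ := 𝓘.subschemeι.stalkMap_surjective z' r'
    have hr''m : ¬ IsUnit r'' := fun hu =>
      (IsLocalRing.mem_maximalIdeal _).1 hr' (hu.map (𝓘.subschemeι.stalkMap z').hom)
    obtain ⟨⟨r, s⟩, hrs⟩ := IsLocalization.surj (U.2.primeIdealOf ⟨𝓘.subschemeι z', hx'U⟩).asIdeal.primeCompl r''
    have hrs' : r'' * X.presheaf.germ U.1 (𝓘.subschemeι z') hx'U s.1 =
        X.presheaf.germ U.1 (𝓘.subschemeι z') hx'U r := hrs
    have hsu : IsUnit (X.presheaf.germ U.1 (𝓘.subschemeι z') hx'U s.1) :=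
      (isUnit_germ_iff U.2 _ hx'U s.1).2 s.2
    have hrP' : r ∈ (U.2.primeIdealOf ⟨𝓘.subschemeι z', hx'U⟩).asIdeal := by
      by_contra hrn
      have hru : IsUnit (X.presheaf.germ U.1 (𝓘.subschemeι z') hx'U r) :=
        (isUnit_germ_iff U.2 _ hx'U r).2 hrn
      rw [← hrs'] at hru
      exact hr''m (isUnit_of_mul_isUnit_left hru)
    have h3 : X.presheaf.germ U.1 x hxU r * a ∈ I := key2 _ hrP'
    have h4 := hIρ _ h3
    rw [map_mul, hρ r, map_mul] at h4
    have h5 : 𝓘.subschemeι.stalkMap z' r'' * y *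
        𝓘.subschemeι.stalkMap z' (X.presheaf.germ U.1 (𝓘.subschemeι z') hx'U s.1) = 0 := by
      rw [mul_right_comm, ← map_mul, hrs']
      exact h4
    exact (hsu.map (𝓘.subschemeι.stalkMap z').hom).mul_left_eq_zero.1 h5
  have hass : IsAssociatedPrime (maximalIdeal (𝓘.subscheme.presheaf.stalk z'))
      (𝓘.subscheme.presheaf.stalk z') := by
    refine ⟨inferInstance, y, ?_⟩
    have hann : Submodule.colon (⊥ : Submodule (𝓘.subscheme.presheaf.stalk z')
        (𝓘.subscheme.presheaf.stalk z')) {y} = maximalIdeal (𝓘.subscheme.presheaf.stalk z') := by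
      apply le_antisymm
      · intro r' hr'
        rw [Submodule.mem_colon_singleton, Submodule.mem_bot, smul_eq_mul] at hr'
        rw [IsLocalRing.mem_maximalIdeal]
        intro hu
        exact hy0 (hu.mul_right_eq_zero.1 hr')
      · intro r' hr'
        rw [Submodule.mem_colon_singleton, Submodule.mem_bot, smul_eq_mul]
        exact hkill r' hr'
    rw [hann]
    exact (Ideal.IsPrime.radical inferInstance).symm
  have hmax := h1 z' hass
  have hdim := h2 z' hmax
  have e1 : P.height = (P.comap (algebraMap Γ(X, U.1) (X.presheaf.stalk x))).height :=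
    (IsLocalization.height_under (U.2.primeIdealOf ⟨x, hxU⟩).asIdeal.primeCompl P).symm
  rw [e1]
  have e2 : P.comap (algebraMap Γ(X, U.1) (X.presheaf.stalk x)) = (U.2.primeIdealOf ⟨𝓘.subschemeι z', hx'U⟩).asIdeal := hPx'.symm
  rw [e2]
  have e3 := Groth.Agent.Lib.helper26.Haupt.stalk_dim_eq_height U.2 (𝓘.subschemeι z') hx'U
  rw [hdim] at e3
  exact_mod_cast e3.symm

theorem isEffCartier_of_ufd [IsLocallyNoetherian X] (𝓘 : X.IdealSheafData)
    (h1 : ∀ z : ↥𝓘.subscheme, IsAssociatedPrime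
      (IsLocalRing.maximalIdeal ↑(𝓘.subscheme.presheaf.stalk z))
      ↑(𝓘.subscheme.presheaf.stalk z) → ∀ z' : ↥𝓘.subscheme, z' ⤳ z → z' = z)
    (h2 : ∀ z : ↥𝓘.subscheme, (∀ z' : ↥𝓘.subscheme, z' ⤳ z → z' = z) →
      ringKrullDim (X.presheaf.stalk (𝓘.subschemeι z)) = 1)
    (h3 : ∀ x : ↥X, x ∈ 𝓘.support →
      IsDomain (X.presheaf.stalk x) ∧ UniqueFactorizationMonoid (X.presheaf.stalk x)) :
    BlowUp.IsEffCartierIdeal 𝓘 := by
  apply Groth.Agent.Lib.helper26.CartSpread.isEffCartier_of_stalk_ideal_principal_regular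
  intro x hx U hxU
  obtain ⟨hdom, hufd⟩ := h3 x hx
  obtain ⟨g, hg0, hg⟩ := principal_of_ass_height_one (X.presheaf.stalk x) _
    (fun P hP => ass_height_one 𝓘 h1 h2 x U hxU P hP)
  exact ⟨g, mem_nonZeroDivisors_of_ne_zero hg0, hg⟩

end Groth.Agent.Lib.helper26.UFDCart
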