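import Mathlib
import Groth.Prelude.Def_W4stkalgstUpp

open CategoryTheory CategoryTheory.Limits
universe v₃ u₃ v₂ u₂ v u

namespace Groth.Agent.Lib.helper26.Upp

open Stk Functor

variable {C : Type u} [Category.{v} C] {D : Type u₂} [Category.{v₂} D] (u : C ⥤ D)
  (𝒮 : BasedCategory.{v₃, u₃} C)

theorem sc_map {R S : C} (f : R ⟶ S) {a b : 𝒮.obj} (φ : a ⟶ b)
    [𝒮.p.IsStronglyCartesian f φ] : 𝒮.p.IsStronglyCartesian (𝒮.p.map φ) φ := by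
  subst_hom_lift 𝒮.p f φ
  infer_instance

instance : (Stk.uppR u 𝒮).IsMultiplicative where
  id_mem a := by
    refine ⟨?_, ?_⟩
    · show 𝒮.p.IsStronglyCartesian (𝒮.p.map (𝟙 a.x)) (𝟙 a.x)
      infer_instance
    · show IsIso (𝟙 a.V)
      infer_instance
  comp_mem f g hf hg := by
    refine ⟨?_, ?_⟩
    · show 𝒮.p.IsStronglyCartesian (𝒮.p.map (f.top ≫ g.top)) (f.top ≫ g.top)
      haveI := hf.1
      haveI := hg.1
      rw [Functor.map_comp]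
      infer_instance
    · show IsIso (f.bot ≫ g.bot)
      haveI := hf.2
      haveI := hg.2
      infer_instance

variable [𝒮.p.IsFibered]

theorem upp_ext
    (hC : ∀ (I : Type) [SmallCategory I] [FinCategory I], Nonempty I → HasLimitsOfShape I C)
    (hu : ∀ (I : Type) [SmallCategory I] [FinCategory I], Nonempty I → PreservesLimitsOfShape I u)
    {a b c : UppObj u 𝒮} (f₁ f₂ : a ⟶ b) (s : b ⟶ c) (hs : Stk.uppR u 𝒮 s)
    (h : f₁ ≫ s = f₂ ≫ s) :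
    ∃ (d : UppObj u 𝒮) (t : d ⟶ a) (_ : Stk.uppR u 𝒮 t), t ≫ f₁ = t ≫ f₂ := by
  haveI := hC WalkingParallelPair ⟨WalkingParallelPair.zero⟩
  haveI := hu WalkingParallelPair ⟨WalkingParallelPair.zero⟩
  haveI := hs.1
  haveI := hs.2
  have hbot : f₁.bot = f₂.bot := by
    have := congrArg UppObj.Hom.bot h
    exact (cancel_mono s.bot).mp this
  have htop : f₁.top ≫ s.top = f₂.top ≫ s.top := congrArg UppObj.Hom.top h
  let e := equalizer.ι (𝒮.p.map f₁.top) (𝒮.p.map f₂.top)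
  let dx := IsPreFibered.pullbackObj (p := 𝒮.p) (rfl : 𝒮.p.obj a.x = 𝒮.p.obj a.x) e
  let τ : dx ⟶ a.x := IsPreFibered.pullbackMap (p := 𝒮.p) rfl e
  haveI : 𝒮.p.IsStronglyCartesian e τ := inferInstance
  have hτ : 𝒮.p.map τ = eqToHom (IsHomLift.domain_eq 𝒮.p e τ) ≫ e := by
    rw [IsHomLift.fac' 𝒮.p e τ]; simp
  have heq : a.φ ≫ u.map (𝒮.p.map f₁.top) = a.φ ≫ u.map (𝒮.p.map f₂.top) := by
    rw [f₁.w, f₂.w, hbot]
  obtain ⟨ℓ, hℓ⟩ := Fork.IsLimit.lift'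
    (isLimitOfHasEqualizerOfPreservesLimit u (𝒮.p.map f₁.top) (𝒮.p.map f₂.top)) a.φ heq
  have hℓ' : ℓ ≫ u.map e = a.φ := hℓ
  let d : UppObj u 𝒮 := ⟨dx, a.V, ℓ ≫ u.map (eqToHom (IsHomLift.domain_eq 𝒮.p e τ).symm)⟩
  let t : d ⟶ a := ⟨τ, 𝟙 a.V, by
    show (ℓ ≫ u.map (eqToHom (IsHomLift.domain_eq 𝒮.p e τ).symm)) ≫ u.map (𝒮.p.map τ) = 𝟙 a.V ≫ a.φ
    rw [hτ, Category.assoc, ← u.map_comp, eqToHom_trans_assoc, eqToHom_refl, Category.id_comp,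
      hℓ', Category.id_comp]⟩
  refine ⟨d, t, ⟨sc_map 𝒮 e τ, (inferInstance : IsIso (𝟙 a.V))⟩, ?_⟩
  apply UppObj.hom_ext
  · show τ ≫ f₁.top = τ ≫ f₂.top
    have hmap : 𝒮.p.map (τ ≫ f₁.top) = 𝒮.p.map (τ ≫ f₂.top) := by
      rw [Functor.map_comp, Functor.map_comp, hτ, Category.assoc, Category.assoc,
        equalizer.condition]
    haveI : 𝒮.p.IsHomLift (𝒮.p.map (τ ≫ f₁.top)) (τ ≫ f₂.top) := by
      rw [hmap]; infer_instance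
    refine IsStronglyCartesian.ext 𝒮.p (𝒮.p.map s.top) s.top (𝒮.p.map (τ ≫ f₁.top)) ?_
    rw [Category.assoc, Category.assoc, htop]
  · show 𝟙 a.V ≫ f₁.bot = 𝟙 a.V ≫ f₂.bot
    rw [hbot]

theorem upp_rightFraction
    (hC : ∀ (I : Type) [SmallCategory I] [FinCategory I], Nonempty I → HasLimitsOfShape I C)
    (hu : ∀ (I : Type) [SmallCategory I] [FinCategory I], Nonempty I → PreservesLimitsOfShape I u)
    ⦃a b : UppObj u 𝒮⦄ (φ : (Stk.uppR u 𝒮).LeftFraction a b) :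
    ∃ ψ : (Stk.uppR u 𝒮).RightFraction a b, ψ.s ≫ φ.f = ψ.f ≫ φ.s := by
  obtain ⟨f, s, hs⟩ := φ
  rename_i c
  haveI := hC WalkingCospan ⟨WalkingCospan.one⟩
  haveI := hu WalkingCospan ⟨WalkingCospan.one⟩
  haveI := hs.1
  haveI := hs.2
  let pr₁ := pullback.fst (𝒮.p.map f.top) (𝒮.p.map s.top)
  let pr₂ := pullback.snd (𝒮.p.map f.top) (𝒮.p.map s.top)
  let dx := IsPreFibered.pullbackObj (p := 𝒮.p) (rfl : 𝒮.p.obj a.x = 𝒮.p.obj a.x) pr₁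
  let τ : dx ⟶ a.x := IsPreFibered.pullbackMap (p := 𝒮.p) rfl pr₁
  haveI : 𝒮.p.IsStronglyCartesian pr₁ τ := inferInstance
  have hdom := IsHomLift.domain_eq 𝒮.p pr₁ τ
  have hτ : 𝒮.p.map τ = eqToHom hdom ≫ pr₁ := by
    rw [IsHomLift.fac' 𝒮.p pr₁ τ]; simp
  let G : 𝒮.p.obj dx ⟶ 𝒮.p.obj b.x := eqToHom hdom ≫ pr₂
  have hf' : 𝒮.p.map (τ ≫ f.top) = G ≫ 𝒮.p.map s.top := by
    rw [Functor.map_comp, hτ, Category.assoc, Category.assoc, pullback.condition]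
  let γ : dx ⟶ b.x := IsStronglyCartesian.map 𝒮.p (𝒮.p.map s.top) s.top hf' (τ ≫ f.top)
  have hγ : γ ≫ s.top = τ ≫ f.top := IsStronglyCartesian.fac 𝒮.p (𝒮.p.map s.top) s.top hf' _
  have hγmap : 𝒮.p.map γ = G := by
    have := IsHomLift.fac' 𝒮.p G γ
    simpa using this
  -- the structure morphism
  have hcompat : a.φ ≫ u.map (𝒮.p.map f.top) =
      (f.bot ≫ inv s.bot ≫ b.φ) ≫ u.map (𝒮.p.map s.top) := by
    rw [f.w, Category.assoc, Category.assoc, s.w, IsIso.inv_hom_id_assoc]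
  obtain ⟨ℓ0, hℓ1, hℓ2⟩ := PullbackCone.IsLimit.lift'
    (isLimitOfHasPullbackOfPreservesLimit u (𝒮.p.map f.top) (𝒮.p.map s.top))
    a.φ (f.bot ≫ inv s.bot ≫ b.φ) hcompat
  obtain ⟨ℓ, hℓ1', hℓ2'⟩ : ∃ ℓ : a.V ⟶ u.obj (pullback (𝒮.p.map f.top) (𝒮.p.map s.top)),
      ℓ ≫ u.map pr₁ = a.φ ∧ ℓ ≫ u.map pr₂ = f.bot ≫ inv s.bot ≫ b.φ := ⟨ℓ0, hℓ1, hℓ2⟩
  let d : UppObj u 𝒮 := ⟨dx, a.V, ℓ ≫ u.map (eqToHom hdom.symm)⟩
  let t : d ⟶ a := ⟨τ, 𝟙 a.V, by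
    show (ℓ ≫ u.map (eqToHom hdom.symm)) ≫ u.map (𝒮.p.map τ) = 𝟙 a.V ≫ a.φ
    rw [hτ, Category.assoc, ← u.map_comp, eqToHom_trans_assoc, eqToHom_refl, Category.id_comp,
      hℓ1', Category.id_comp]⟩
  let g : d ⟶ b := ⟨γ, f.bot ≫ inv s.bot, by
    show (ℓ ≫ u.map (eqToHom hdom.symm)) ≫ u.map (𝒮.p.map γ) = (f.bot ≫ inv s.bot) ≫ b.φ
    rw [hγmap, Category.assoc, ← u.map_comp]
    show ℓ ≫ u.map (eqToHom hdom.symm ≫ eqToHom hdom ≫ pr₂) = _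
    rw [eqToHom_trans_assoc, eqToHom_refl, Category.id_comp, hℓ2', Category.assoc]⟩
  refine ⟨⟨t, ⟨sc_map 𝒮 pr₁ τ, (inferInstance : IsIso (𝟙 a.V))⟩, g⟩, ?_⟩
  apply UppObj.hom_ext
  · show τ ≫ f.top = γ ≫ s.top
    exact hγ.symm
  · show 𝟙 a.V ≫ f.bot = (f.bot ≫ inv s.bot) ≫ s.bot
    rw [Category.id_comp, Category.assoc, IsIso.inv_hom_id, Category.comp_id]

theorem main
    (hC : ∀ (I : Type) [SmallCategory I] [FinCategory I], Nonempty I → HasLimitsOfShape I C)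
    (hu : ∀ (I : Type) [SmallCategory I] [FinCategory I], Nonempty I → PreservesLimitsOfShape I u) :
    (Stk.uppR u 𝒮).HasRightCalculusOfFractions where
  exists_rightFraction := upp_rightFraction u 𝒮 hC hu
  ext := fun _ _ _ f₁ f₂ s hs h => upp_ext u 𝒮 hC hu f₁ f₂ s hs h

end Groth.Agent.Lib.helper26.Upp
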